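/-
Unitriangular subgroups of GL for a level function on the coordinates, and the triangular shape of the
root elements of the positive roots of the seven tabulated Chevalley data.
-/
import Cfsg.Prelude.Def_ChevStructure
import Cfsg.Prelude.Def_ChevB2
import Cfsg.Prelude.Def_ChevD4
import Cfsg.Prelude.Def_ChevG2
import Cfsg.Prelude.Def_ChevF4
import Cfsg.Prelude.Def_ChevE6
import Cfsg.Prelude.Def_ChevE7
import Cfsg.Prelude.Def_ChevE8

set_option autoImplicit false

namespace Cfsg.Agent.Chev

open Cfsg.Lie

section generic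

variable {ι : Type*} [Fintype ι] [DecidableEq ι] {F : Type*} [Field F] (w : ι → ℕ)

/-- The matrices raising the level `w` by at least `k`. -/
def Raises (k : ℕ) (A : Matrix ι ι F) : Prop := ∀ i j, w i < w j + k → A i j = 0

variable {w}

theorem raises_zero (k : ℕ) : Raises (F := F) w k (0 : Matrix ι ι F) := fun _ _ _ => rfl

theorem raises_one : Raises (F := F) w 0 (1 : Matrix ι ι F) := by
  intro i j h
  rw [Matrix.one_apply_ne]
  rintro rfl
  omega

theorem Raises.mono {k l : ℕ} {A : Matrix ι ι F} (h : Raises w k A) (hl : l ≤ k) : Raises w l A :=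
  fun i j hij => h i j (by omega)

theorem Raises.add {k : ℕ} {A B : Matrix ι ι F} (hA : Raises w k A) (hB : Raises w k B) :
    Raises w k (A + B) := fun i j h => by simp [hA i j h, hB i j h]

theorem Raises.neg {k : ℕ} {A : Matrix ι ι F} (hA : Raises w k A) : Raises w k (-A) :=
  fun i j h => by simp [hA i j h]

theorem Raises.sub {k : ℕ} {A B : Matrix ι ι F} (hA : Raises w k A) (hB : Raises w k B) :
    Raises w k (A - B) := fun i j h => by simp [hA i j h, hB i j h]

theorem Raises.mul {k l : ℕ} {A B : Matrix ι ι F} (hA : Raises w k A) (hB : Raises w l B) :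
    Raises w (k + l) (A * B) := by
  intro i j h
  rw [Matrix.mul_apply]
  refine Finset.sum_eq_zero fun m _ => ?_
  by_cases h1 : w i < w m + k
  · rw [hA i m h1, zero_mul]
  · rw [hB m j (by omega), mul_zero]

theorem Raises.pow {k : ℕ} {A : Matrix ι ι F} (hA : Raises w k A) (n : ℕ) :
    Raises w (n * k) (A ^ n) := by
  induction n with
  | zero => simpa using raises_one (F := F) (w := w)
  | succ n ih => rw [pow_succ, Nat.succ_mul]; exact ih.mul hA

theorem Raises.eq_zero {k : ℕ} {A : Matrix ι ι F} (hA : Raises w k A) (hk : ∀ i, w i < k) : A = 0 := by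
  ext i j
  exact hA i j (by have := hk i; omega)

variable (w)

/-- The level bound. -/
def levelTop : ℕ := Finset.univ.sup w + 1

theorem lt_levelTop (i : ι) : w i < levelTop w :=
  Nat.lt_succ_of_le (Finset.le_sup (Finset.mem_univ i))

variable {w}

theorem inv_raises_zero {g : GL ι F} (hg : Raises w 1 ((g : Matrix ι ι F) - 1)) :
    Raises w 0 ((g⁻¹ : GL ι F) : Matrix ι ι F) := by
  set x : Matrix ι ι F := 1 - (g : Matrix ι ι F) with hx
  have hx1 : Raises w 1 x := by rw [hx, ← neg_sub]; exact hg.neg
  have h0 : x ^ levelTop w = 0 := (hx1.pow _).eq_zero (fun i => by simpa using lt_levelTop w i)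
  have e := geom_sum_mul x (levelTop w)
  rw [h0, show x - 1 = -(g : Matrix ι ι F) by rw [hx]; abel, mul_neg, zero_sub, neg_inj] at e
  have : ((g⁻¹ : GL ι F) : Matrix ι ι F) = ∑ i ∈ Finset.range (levelTop w), x ^ i := by
    rw [Units.inv_eq_of_mul_eq_one_left e]
  rw [this]
  refine Finset.sum_induction _ (Raises w 0) (fun _ _ => Raises.add) (raises_zero 0) fun i _ => ?_
  exact (hx1.pow i).mono (Nat.zero_le _)

variable (F w)

/-- The subgroup of `GL` of the `g` with `g - 1` raising the level by at least `k + 1`. -/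
def unitri (k : ℕ) : Subgroup (GL ι F) where
  carrier := {g | Raises w (k + 1) ((g : Matrix ι ι F) - 1)}
  one_mem' := by simpa using raises_zero (k + 1)
  mul_mem' {a b} ha hb := by
    show Raises w (k + 1) (((a * b : GL ι F) : Matrix ι ι F) - 1)
    rw [Units.val_mul, show (a : Matrix ι ι F) * b - 1 =
      ((a : Matrix ι ι F) - 1) + ((b : Matrix ι ι F) - 1) + ((a : Matrix ι ι F) - 1) * ((b : Matrix ι ι F) - 1) by
      noncomm_ring]
    exact (ha.add hb).add ((ha.mul hb).mono (by omega))
  inv_mem' {a} ha := by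
    show Raises w (k + 1) (((a⁻¹ : GL ι F) : Matrix ι ι F) - 1)
    rw [show ((a⁻¹ : GL ι F) : Matrix ι ι F) - 1 = -(((a⁻¹ : GL ι F) : Matrix ι ι F) * ((a : Matrix ι ι F) - 1)) by
      rw [mul_sub, Units.inv_mul, mul_one, neg_sub]]
    have := (inv_raises_zero (ha.mono (by omega))).mul ha
    rw [Nat.zero_add] at this
    exact this.neg

variable {F w}

theorem mem_unitri {k : ℕ} {g : GL ι F} :
    g ∈ unitri F w k ↔ Raises w (k + 1) ((g : Matrix ι ι F) - 1) := Iff.rfl

theorem pow_sub_one_eq_zero {g : GL ι F} (hg : g ∈ unitri F w 0) {n : ℕ} (hn : ∀ i, w i < n) :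
    ((g : Matrix ι ι F) - 1) ^ n = 0 :=
  (Raises.pow (k := 1) hg n).eq_zero (fun i => by simpa using hn i)

theorem commutator_mem_unitri {k : ℕ} {a b : GL ι F} (ha : a ∈ unitri F w 0) (hb : b ∈ unitri F w k) :
    a * b * a⁻¹ * b⁻¹ ∈ unitri F w (k + 1) := by
  rw [mem_unitri] at *
  have e : (((a * b * a⁻¹ * b⁻¹ : GL ι F) : Matrix ι ι F) - 1) =
      (((a : Matrix ι ι F) - 1) * ((b : Matrix ι ι F) - 1) - ((b : Matrix ι ι F) - 1) * ((a : Matrix ι ι F) - 1)) *
        (((b * a)⁻¹ : GL ι F) : Matrix ι ι F) := by
    rw [show ((a : Matrix ι ι F) - 1) * ((b : Matrix ι ι F) - 1) - ((b : Matrix ι ι F) - 1) * ((a : Matrix ι ι F) - 1) =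
      ((a * b : GL ι F) : Matrix ι ι F) - ((b * a : GL ι F) : Matrix ι ι F) by
        rw [Units.val_mul, Units.val_mul]; noncomm_ring]
    rw [sub_mul, ← Units.val_mul, Units.mul_inv, mul_inv_rev, ← mul_assoc]
  rw [e]
  have hi : Raises w 0 (((b * a)⁻¹ : GL ι F) : Matrix ι ι F) :=
    inv_raises_zero ((unitri F w 0).mul_mem (hb.mono (by omega)) ha)
  have := (((ha.mul hb).mono (l := k + 1 + 1) (by omega)).sub
    ((hb.mul ha).mono (l := k + 1 + 1) (by omega))).mul hi
  simpa using this

theorem isNilpotent_unitri : Group.IsNilpotent (unitri F w 0) := by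
  have key : ∀ n, ∀ g : unitri F w 0, g ∈ (⊤ : Subgroup (unitri F w 0)).lowerCentralSeries n →
      (g : GL ι F) ∈ unitri F w n := by
    intro n
    induction n with
    | zero => intro g _; exact g.2
    | succ n ih =>
      intro g hg
      have hle : (⊤ : Subgroup (unitri F w 0)).lowerCentralSeries (n + 1) ≤
          (unitri F w (n + 1)).subgroupOf (unitri F w 0) := by
        show ⁅_, _⁆ ≤ _
        rw [Subgroup.commutator_le]
        intro a ha b _
        rw [Subgroup.mem_subgroupOf]
        have := commutator_mem_unitri b.2 (ih a ha)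
        have := (unitri F w (n + 1)).inv_mem this
        simpa [commutatorElement_def, mul_assoc] using this
      exact hle hg
  rw [Subgroup.nilpotent_iff_lowerCentralSeries]
  refine ⟨levelTop w, (Subgroup.eq_bot_iff_forall _).2 fun g hg => ?_⟩
  have h := (key _ g hg).eq_zero (fun i => Nat.lt_succ_of_lt (lt_levelTop w i))
  apply Subtype.ext
  apply Units.ext
  simpa using sub_eq_zero.1 h

end generic

section datum

variable (D : ChevalleyDatum)

/-- Level of a coordinate: negative roots, then the coroots, then positive roots. -/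
def rootLevel : D.Idx → ℕ
  | Sum.inl _ => D.nroots / 2
  | Sum.inr s => if s.val < D.nroots / 2 then s.val else s.val + 1

theorem rootLevel_lt (hrank : 1 ≤ D.rank) (i : D.Idx) : rootLevel D i < D.rank + D.nroots := by
  rcases i with i | s
  · simp only [rootLevel]; omega
  · simp only [rootLevel]; have := s.2; split <;> omega

/-- The finitely checkable property making the positive root elements triangular. -/
def TriChecked : Prop :=
  1 ≤ D.rank ∧ ∀ r < D.nroots, D.IsPosRoot r →
    D.nroots / 2 ≤ r ∧ D.negIdx.getD r 0 < D.nroots / 2 ∧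
      ∀ e ∈ (D.chain.getD r #[]).toList, ∀ q ∈ e.2.toList, e.1 < q.1

instance decidableTriChecked : Decidable (TriChecked D) := inferInstanceAs (Decidable (_ ∧ _))

variable {D} {F : Type*} [Field F]

theorem chainCoeff_eq_nil (h : TriChecked D) {r s u : ℕ} (hr : D.IsPosRoot r) (hsu : u ≤ s) :
    D.chainCoeff r s u = [] := by
  obtain ⟨-, -, hc⟩ := h.2 r hr.1 hr
  rw [ChevalleyDatum.chainCoeff, List.flatMap_eq_nil_iff]
  intro e he
  rw [List.map_eq_nil_iff, List.filter_eq_nil_iff]
  intro q hq
  obtain ⟨he1, he2⟩ := List.mem_filter.1 he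
  have := hc e he1 q.1 (by
    obtain ⟨q1, q2⟩ := q
    exact List.fst_mem_of_mem_zipIdx hq)
  simp only [decide_eq_true_eq] at he2 ⊢
  omega

theorem raises_xMat_sub_one (h : TriChecked D) {r : ℕ} (hr : D.IsPosRoot r) (t : F) :
    Raises (rootLevel D) 1 (D.xMat F ⟨r, hr.1⟩ t - 1) := by
  obtain ⟨h1, h2, -⟩ := h.2 r hr.1 hr
  have hlr : rootLevel D (Sum.inr ⟨r, hr.1⟩) = r + 1 := if_neg (show ¬ r < D.nroots / 2 by omega)
  have hlh : ∀ i, rootLevel D (Sum.inl i) = D.nroots / 2 := fun _ => rfl
  have hln : ∀ s : Fin D.nroots, s.val = D.negIdx.getD r 0 → rootLevel D (Sum.inr s) < D.nroots / 2 :=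
    fun s hs => by show (if _ then _ else _) < _; rw [if_pos (by omega)]; omega
  intro row col hlt
  rw [Matrix.sub_apply, sub_eq_zero]
  simp only [ChevalleyDatum.xMat, Matrix.of_apply]
  rcases col with i | s
  · rcases row with i' | u
    · simp only [Matrix.one_apply, Sum.inl.injEq]
    · rw [Matrix.one_apply_ne (by simp)]
      refine if_neg ?_
      rintro rfl
      rw [hlr, hlh] at hlt
      omega
  · simp only
    by_cases hsr : s = ⟨r, hr.1⟩
    · subst hsr
      rcases row with i' | u
      · simp [Matrix.one_apply]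
      · simp [Matrix.one_apply]
    rw [if_neg hsr]
    by_cases hsn : s.val = D.negIdx.getD r 0
    · rw [if_pos hsn]
      have hs := hln s hsn
      rcases row with i' | u
      · exfalso
        rw [hlh] at hlt
        omega
      · simp only [Matrix.one_apply, Sum.inr.injEq]
        by_cases hus : u = s
        · simp [hus]
        · rw [if_neg hus, if_neg hus]
          refine if_neg ?_
          rintro rfl
          rw [hlr] at hlt
          omega
    · rw [if_neg hsn]
      rcases row with i' | u
      · simp [Matrix.one_apply]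
      · simp only [Matrix.one_apply, Sum.inr.injEq]
        have hus : u.val ≤ s.val := by
          simp only [rootLevel] at hlt
          split_ifs at hlt <;> omega
        simp [chainCoeff_eq_nil h hr hus]

theorem posUnipotent_le_unitri (h : TriChecked D) : D.posUnipotent F ≤ unitri F (rootLevel D) 0 := by
  rw [ChevalleyDatum.posUnipotent, Subgroup.closure_le]
  rintro g ⟨r, t, hr, hg⟩
  rw [SetLike.mem_coe, mem_unitri, hg, ChevalleyDatum.x, dif_pos hr.1]
  exact raises_xMat_sub_one h hr t

theorem triChecked_chevG2 : TriChecked chevG2 := by decide +kernel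
theorem triChecked_chevB2 : TriChecked chevB2 := by decide +kernel
theorem triChecked_chevD4 : TriChecked chevD4 := by decide +kernel
theorem triChecked_chevF4 : TriChecked chevF4 := by decide +kernel
theorem triChecked_chevE6 : TriChecked chevE6 := by decide +kernel
theorem triChecked_chevE7 : TriChecked chevE7 := by decide +kernel
theorem triChecked_chevE8 : TriChecked chevE8 := by decide +kernel

theorem triChecked_of_mem
    (hD : D ∈ [chevG2, chevB2, chevD4, chevF4, chevE6, chevE7, chevE8]) : TriChecked D := by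
  simp only [List.mem_cons, List.not_mem_nil, or_false] at hD
  rcases hD with rfl | rfl | rfl | rfl | rfl | rfl | rfl
  exacts [triChecked_chevG2, triChecked_chevB2, triChecked_chevD4, triChecked_chevF4, triChecked_chevE6,
    triChecked_chevE7, triChecked_chevE8]

end datum

end Cfsg.Agent.Chev
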