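/-
Generated certificate tables: packed simple reflections on the roots and minimal coset representatives
for the seven Chevalley data (see Lib/RootBN/Table).
-/
import Cfsg.Agent.Lib.RootBN.Table

set_option autoImplicit false

namespace Cfsg.Agent.Chev.WeylTab

open Cfsg.Agent.RootBN

/-- Packed reflection tables of type G2. -/
def tabsG2 : List ℕ := [3411626608196089407097472256, 3108190913232640688152248321]

/-- Simple root indices of type G2. -/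
def simpsG2 : List ℕ := [7, 6]

/-- Level 1 of type G2. -/
def levelG21 : Level where
  reps := [[], [0]]
  edges := [[(1, [])], [(0, [])]]
  phi := 0

/-- Level 2 of type G2. -/
def levelG22 : Level where
  reps := [[], [1], [0, 1], [1, 0, 1], [0, 1, 0, 1], [1, 0, 1, 0, 1]]
  edges := [[(0, [0]), (1, [])], [(2, []), (0, [])], [(1, []), (3, [])], [(4, []), (2, [])], [(3, []), (5, [])], [(5, [0]), (4, [])]]
  phi := 144

/-- All levels of type G2. -/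
def levelsG2 : List Level := [levelG21, levelG22]

/-- Packed reflection tables of type B2. -/
def tabsB2 : List ℕ := [289921455100330243, 505817143170892288]

/-- Simple root indices of type B2. -/
def simpsB2 : List ℕ := [5, 4]

/-- Level 1 of type B2. -/
def levelB21 : Level where
  reps := [[], [0]]
  edges := [[(1, [])], [(0, [])]]
  phi := 0

/-- Level 2 of type B2. -/
def levelB22 : Level where
  reps := [[], [1], [0, 1], [1, 0, 1]]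
  edges := [[(0, [0]), (1, [])], [(2, []), (0, [])], [(1, []), (3, [])], [(3, [0]), (2, [])]]
  phi := 36

/-- All levels of type B2. -/
def levelsB2 : List Level := [levelB21, levelB22]

/-- Packed reflection tables of type D4. -/
def tabsD4 : List ℕ := [565592643864087472290204273757603651193062799363369534976, 541649279090809664310305499994679834166397163664360734721, 565881119482020990812274433957960368099339668429056770816, 565978018496368764364970633948976412520310965285293195776]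

/-- Simple root indices of type D4. -/
def simpsD4 : List ℕ := [18, 14, 13, 12]

/-- Level 1 of type D4. -/
def levelD41 : Level where
  reps := [[], [0]]
  edges := [[(1, [])], [(0, [])]]
  phi := 0

/-- Level 2 of type D4. -/
def levelD42 : Level where
  reps := [[], [1], [0, 1]]
  edges := [[(0, [0]), (1, [])], [(2, []), (0, [])], [(1, []), (2, [0])]]
  phi := 262176

/-- Level 3 of type D4. -/
def levelD43 : Level where
  reps := [[], [2], [1, 2], [0, 1, 2]]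
  edges := [[(0, [0]), (0, [1]), (1, [])], [(1, [0]), (2, []), (0, [])], [(3, []), (1, []), (2, [1])], [(2, []), (3, [0]), (3, [1])]]
  phi := 803376

/-- Level 4 of type D4. -/
def levelD44 : Level where
  reps := [[], [3], [1, 3], [0, 1, 3], [2, 1, 3], [2, 0, 1, 3], [1, 2, 0, 1, 3], [3, 1, 2, 0, 1, 3]]
  edges := [[(0, [0]), (0, [1]), (0, [2]), (1, [])], [(1, [0]), (2, []), (1, [2]), (0, [])], [(3, []), (1, []), (4, []), (2, [1])], [(2, []), (3, [0]), (5, []), (3, [1])], [(5, []), (4, [2]), (2, []), (4, [1])], [(4, []), (6, []), (3, []), (5, [1])], [(6, [2]), (5, []), (6, [0]), (7, [])], [(7, [2]), (7, [1]), (7, [0]), (6, [])]]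
  phi := 2975412

/-- All levels of type D4. -/
def levelsD4 : List Level := [levelD41, levelD42, levelD43, levelD44]

/-- Packed reflection tables of type F4. -/
def tabsF4 : List ℕ := [7261724565101152271001196648824430191705409898545041084742521782222439549395075633586971079114467536390968217567488, 7261719905179377314326951809577084366435515108925945206036271551105028264520922437528663364052125838431098365018368, 7261125723798567773061544950201179012210677350992756811983071709623601191490907863340615466535151168674041335710208, 7108411742389255762021063953019659246634323563397623500971045033854480450961950488139841120255260502304031118589953]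

/-- Simple root indices of type F4. -/
def simpsF4 : List ℕ := [33, 27, 25, 24]

/-- Level 1 of type F4. -/
def levelF41 : Level where
  reps := [[], [0]]
  edges := [[(1, [])], [(0, [])]]
  phi := 0

/-- Level 2 of type F4. -/
def levelF42 : Level where
  reps := [[], [1], [0, 1]]
  edges := [[(0, [0]), (1, [])], [(2, []), (0, [])], [(1, []), (2, [0])]]
  phi := 8589950976

/-- Level 3 of type F4. -/
def levelF43 : Level where
  reps := [[], [2], [1, 2], [0, 1, 2], [2, 1, 2], [2, 0, 1, 2], [1, 2, 0, 1, 2], [2, 1, 2, 0, 1, 2]]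
  edges := [[(0, [0]), (0, [1]), (1, [])], [(1, [0]), (2, []), (0, [])], [(3, []), (1, []), (4, [])], [(2, []), (3, [0]), (5, [])], [(5, []), (4, [1]), (2, [])], [(4, []), (6, []), (3, [])], [(6, [1]), (5, []), (7, [])], [(7, [1]), (7, [0]), (6, [])]]
  phi := 25905094656

/-- Level 4 of type F4. -/
def levelF44 : Level where
  reps := [[], [3], [2, 3], [1, 2, 3], [0, 1, 2, 3], [2, 1, 2, 3], [2, 0, 1, 2, 3], [3, 2, 1, 2, 3], [1, 2, 0, 1, 2, 3], [3, 2, 0, 1, 2, 3], [2, 1, 2, 0, 1, 2, 3], [3, 1, 2, 0, 1, 2, 3], [3, 2, 1, 2, 0, 1, 2, 3], [2, 3, 1, 2, 0, 1, 2, 3], [2, 3, 2, 1, 2, 0, 1, 2, 3], [1, 2, 3, 1, 2, 0, 1, 2, 3], [1, 2, 3, 2, 1, 2, 0, 1, 2, 3], [0, 1, 2, 3, 1, 2, 0, 1, 2, 3], [0, 1, 2, 3, 2, 1, 2, 0, 1, 2, 3], [2, 1, 2, 3, 2, 1, 2, 0, 1, 2, 3], [2, 0, 1, 2, 3, 2, 1, 2, 0, 1, 2, 3], [1, 2, 0, 1, 2, 3, 2, 1, 2, 0, 1, 2, 3], [2, 1, 2, 0, 1, 2, 3, 2, 1, 2, 0, 1, 2, 3],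 [3, 2, 1, 2, 0, 1, 2, 3, 2, 1, 2, 0, 1, 2, 3]]
  edges := [[(0, [0]), (0, [1]), (0, [2]), (1, [])], [(1, [0]), (1, [1]), (2, []), (0, [])], [(2, [0]), (3, []), (1, []), (2, [2])], [(4, []), (2, []), (5, []), (3, [2])], [(3, []), (4, [0]), (6, []), (4, [2])], [(6, []), (5, [1]), (3, []), (7, [])], [(5, []), (8, []), (4, []), (9, [])], [(9, []), (7, [1]), (7, [2]), (5, [])], [(8, [1]), (6, []), (10, []), (11, [])], [(7, []), (11, []), (9, [2]), (6, [])], [(10, [1]), (10, [0]), (8, []), (12, [])], [(11, [1]), (9, []), (13, []), (8, [])], [(12, [1]), (12, [0]), (14, []), (10, [])], [(13, [1]), (15, []), (11, []), (14, [])], [(14, [1]), (16, []), (12, []), (13, [])], [(17, []), (13, []), (15, [2]), (16, [])], [(18, []), (14, []), (19, []), (15, [])], [(15, []), (17, [1]), (17, [2]), (18, [])], [(16, []), (18, [1]), (20, []), (17, [])], [(20, []), (19, [0]), (16, []), (19,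 [2])], [(19, []), (21, []), (18, []), (20, [2])], [(21, [0]), (20, []), (22, []), (21, [2])], [(22, [0]), (22, [1]), (21, []), (23, [])], [(23, [0]), (23, [1]), (23, [2]), (22, [])]]
  phi := 2398107628608

/-- All levels of type F4. -/
def levelsF4 : List Level := [levelF41, levelF42, levelF43, levelF44]

/-- Packed reflection tables of type E6. -/
def tabsE6 : List ℕ := [68860739535078100914596739045472550060558126031925906698557184978812794185875324317535844633006154102049939227231216439978584304288106533539790046234022772551535750302269696, 67898379116758311409174261616388753868225998791303625563428882050626415270252589797741478371984307561973422256644613195820774439032392954730690482532434882508821640184463361, 68860695135535158216797058934368584078938789528211777354868258615236502524939434476014300653026239562496047166733737140692285179851664431971808751874688785261135318011412736,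 68856980314703697980439144254334973515401028023823060939175680109056393390696631820261994746199928716884708600540244424635743493790229057459399689936210111163618278074548736, 68860724850632303803458732998465812266828810094652722312245356555948991877575451183817923578624086719198522082862514929281160200302940551006277733868069131789022201037127936, 68860739477726650154684651250440147524905899556371060941805998667168077050675229181777609482453672249988869994526207384147299178654162362870440666247900439482662894518272256]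

/-- Simple root indices of type E6. -/
def simpsE6 : List ℕ := [56, 46, 42, 39, 37, 36]

/-- Level 1 of type E6. -/
def levelE61 : Level where
  reps := [[], [0]]
  edges := [[(1, [])], [(0, [])]]
  phi := 0

/-- Level 2 of type E6. -/
def levelE62 : Level where
  reps := [[], [1]]
  edges := [[(0, [0]), (1, [])], [(1, [0]), (0, [])]]
  phi := 72057594037960704

/-- Level 3 of type E6. -/
def levelE63 : Level where
  reps := [[], [2], [0, 2]]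
  edges := [[(0, [0]), (0, [1]), (1, [])], [(2, []), (1, [1]), (0, [])], [(1, []), (2, [1]), (2, [0])]]
  phi := 72127962815692800

/-- Level 4 of type E6. -/
def levelE64 : Level where
  reps := [[], [3], [1, 3], [2, 3], [2, 1, 3], [0, 2, 3], [0, 2, 1, 3], [3, 2, 1, 3], [3, 0, 2, 1, 3], [2, 3, 0, 2, 1, 3]]
  edges := [[(0, [0]), (0, [1]), (0, [2]), (1, [])], [(1, [0]), (2, []), (3, []), (0, [])], [(2, [0]), (1, []), (4, []), (2, [1])], [(5, []), (4, []), (1, []), (3, [2])], [(6, []), (3, []), (2, []), (7, [])], [(3, []), (6, []), (5, [0]), (5, [2])], [(4, []), (5, []), (6, [0]), (8, [])], [(8, []), (7, [2]), (7, [1]), (4, [])], [(7, []), (8, [2]), (9, []), (6, [])], [(9, [1]), (9, [2]), (8, []), (9, [0])]]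
  phi := 216247549474947072

/-- Level 5 of type E6. -/
def levelE65 : Level where
  reps := [[], [4], [3, 4], [1, 3, 4], [2, 3, 4], [2, 1, 3, 4], [0, 2, 3, 4], [0, 2, 1, 3, 4], [3, 2, 1, 3, 4], [3, 0, 2, 1, 3, 4], [4, 3, 2, 1, 3, 4], [2, 3, 0, 2, 1, 3, 4], [4, 3, 0, 2, 1, 3, 4], [4, 2, 3, 0, 2, 1, 3, 4], [3, 4, 2, 3, 0, 2, 1, 3, 4], [1, 3, 4, 2, 3, 0, 2, 1, 3, 4]]
  edges := [[(0, [0]), (0, [1]), (0, [2]), (0, [3]), (1, [])], [(1, [0]), (1, [1]), (1, [2]), (2, []), (0, [])], [(2, [0]), (3, []), (4, []), (1, []), (2, [3])], [(3, [0]), (2, []), (5, []), (3, [1]), (3, [3])], [(6, []), (5, []), (2, []), (4, [2]), (4, [3])], [(7, []), (4, []), (3, []), (8, []), (5, [3])], [(4, []), (7, []), (6, [0]), (6, [2]), (6, [3])], [(5, []), (6, []), (7, [0]), (9, []), (7, [3])], [(9, []), (8, [2]), (8, [1]), (5, []), (10, [])], [(8, []), (9, [2]), (11, []), (7, []), (12, [])], [(12,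 []), (10, [2]), (10, [1]), (10, [3]), (8, [])], [(11, [1]), (11, [2]), (9, []), (11, [0]), (13, [])], [(10, []), (12, [2]), (13, []), (12, [3]), (9, [])], [(13, [1]), (13, [2]), (12, []), (14, []), (11, [])], [(14, [1]), (15, []), (14, [3]), (13, []), (14, [0])], [(15, [1]), (14, []), (15, [3]), (15, [2]), (15, [0])]]
  phi := 2811596922666673152

/-- Level 6 of type E6. -/
def levelE66 : Level where
  reps := [[], [5], [4, 5], [3, 4, 5], [1, 3, 4, 5], [2, 3, 4, 5], [2, 1, 3, 4, 5], [0, 2, 3, 4, 5], [0, 2, 1, 3, 4, 5], [3, 2, 1, 3, 4, 5], [3, 0, 2, 1, 3, 4, 5], [4, 3, 2, 1, 3, 4, 5], [2, 3, 0, 2, 1, 3, 4, 5], [4, 3, 0, 2, 1, 3, 4, 5], [5, 4, 3, 2, 1, 3, 4, 5], [4, 2, 3, 0, 2, 1, 3, 4, 5], [5, 4, 3, 0, 2, 1, 3, 4, 5], [3, 4, 2, 3, 0, 2, 1, 3, 4, 5], [5, 4, 2, 3, 0, 2, 1, 3, 4, 5], [1, 3, 4, 2, 3, 0, 2, 1, 3, 4, 5], [5, 3, 4, 2, 3, 0, 2, 1, 3, 4, 5], [5, 1, 3, 4, 2, 3,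 0, 2, 1, 3, 4, 5], [4, 5, 3, 4, 2, 3, 0, 2, 1, 3, 4, 5], [4, 5, 1, 3, 4, 2, 3, 0, 2, 1, 3, 4, 5], [3, 4, 5, 1, 3, 4, 2, 3, 0, 2, 1, 3, 4, 5], [2, 3, 4, 5, 1, 3, 4, 2, 3, 0, 2, 1, 3, 4, 5], [0, 2, 3, 4, 5, 1, 3, 4, 2, 3, 0, 2, 1, 3, 4, 5]]
  edges := [[(0, [0]), (0, [1]), (0, [2]), (0, [3]), (0, [4]), (1, [])], [(1, [0]), (1, [1]), (1, [2]), (1, [3]), (2, []), (0, [])], [(2, [0]), (2, [1]), (2, [2]), (3, []), (1, []), (2, [4])], [(3, [0]), (4, []), (5, []), (2, []), (3, [3]), (3, [4])], [(4, [0]), (3, []), (6, []), (4, [1]), (4, [3]), (4, [4])], [(7, []), (6, []), (3, []), (5, [2]), (5, [3]), (5, [4])], [(8, []), (5, []), (4, []), (9, []), (6, [3]), (6, [4])], [(5, []), (8, []), (7, [0]), (7, [2]), (7, [3]), (7, [4])], [(6, []), (7, []), (8, [0]), (10, []), (8, [3]), (8, [4])], [(10, []), (9, [2]), (9, [1]), (6, []), (11, []), (9, [4])], [(9, []), (10, [2]), (12, []),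 (8, []), (13, []), (10, [4])], [(13, []), (11, [2]), (11, [1]), (11, [3]), (9, []), (14, [])], [(12, [1]), (12, [2]), (10, []), (12, [0]), (15, []), (12, [4])], [(11, []), (13, [2]), (15, []), (13, [3]), (10, []), (16, [])], [(16, []), (14, [2]), (14, [1]), (14, [3]), (14, [4]), (11, [])], [(15, [1]), (15, [2]), (13, []), (17, []), (12, []), (18, [])], [(14, []), (16, [2]), (18, []), (16, [3]), (16, [4]), (13, [])], [(17, [1]), (19, []), (17, [3]), (15, []), (17, [0]), (20, [])], [(18, [1]), (18, [2]), (16, []), (20, []), (18, [4]), (15, [])], [(19, [1]), (17, []), (19, [3]), (19, [2]), (19, [0]), (21, [])], [(20, [1]), (21, []), (20, [3]), (18, []), (22, []), (17, [])], [(21, [1]), (20, []), (21, [3]), (21, [2]), (23, []), (19, [])], [(22, [1]), (23, []), (22, [3]), (22, [4]), (20, []), (22, [0])], [(23, [1]), (22, []), (23, [3]), (24, []), (21, []), (23, [0])], [(24,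 [1]), (24, [4]), (25, []), (23, []), (24, [2]), (24, [0])], [(26, []), (25, [4]), (24, []), (25, [3]), (25, [2]), (25, [0])], [(25, []), (26, [4]), (26, [1]), (26, [3]), (26, [2]), (26, [0])]]
  phi := 174031999679436486288

/-- All levels of type E6. -/
def levelsE6 : List Level := [levelE61, levelE62, levelE63, levelE64, levelE65, levelE66]

/-- Packed reflection tables of type E7. -/
def tabsE7 : List ℕ := [1333922837158942011638783835004871262489243524474933806757983325204324354148955901128787715251435855896924984706939979518567157242719197682064722754383056752064764745714105188869695029532754693822593611899134007025978423511653352929402726346889239349767349520011297160997758072428838116713298751769411585, 1344596064861142540599490890337037530396506312014796134457654209860766914474355053533424106448304668641750238146235616625298608967855065371567541345205591130313893835021149335810105157533873267793712369235831381486269171621811991934200833355141336107082133768387345013012537819798176998924533019780972800,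 1344554375120106414798065960470017614978713755228414151433370668601621092779175356141058506517844188051958962228323355573505999256791464453714183605373019334854214694897010135565448054736646733569358624734534287147711832887250382219472046131816456686545071408428738776743299531196152165404305104465625600, 1344595904565267213246157475033494803249157207063324738659324389841659715695283955303815316936280329696179597506512307998177941509827115356010016869474657504041538202575428963476748087995021914745714269311908081227369626699231579603641239181490320192525717933280632587761748264543583905599801831599571200, 1344596066789662372468730772808347860477161005122219541718508235419833626106302450745862748198090247695116521795627890666608206327119702733434927280617614040672948193304917070539624301444895806139576218160085363566180297830617521222446695171034178763232251478019132116438882014609021606895640681331687680,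 1344596067423351416207557940869874944091727118574762836469837882638712679846178606418228818601986310217411887451905765776107214182568852020646749836716948362818007050784749838543502259798351210584973756022172436114146241694089563918431059909805690131092344135313086916729119604848859188691072391118455040, 1344596067425826764034662734529601288506926453046107113143229300984890479501381833876110010911357495579068344096520604677306938752775870105507180309928942299606468867262391627195069014991692130646454801374407591002787052249416073179196764677152311158875352053765052537485552134445183160720605330624610560]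

/-- Simple root indices of type E7. -/
def simpsE7 : List ℕ := [93, 78, 73, 69, 66, 64, 63]

/-- Level 1 of type E7. -/
def levelE71 : Level where
  reps := [[], [0]]
  edges := [[(1, [])], [(0, [])]]
  phi := 0

/-- Level 2 of type E7. -/
def levelE72 : Level where
  reps := [[], [1]]
  edges := [[(0, [0]), (1, [])], [(1, [0]), (0, [])]]
  phi := 9903520314283042203487961088

/-- Level 3 of type E7. -/
def levelE73 : Level where
  reps := [[], [2], [0, 2]]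
  edges := [[(0, [0]), (0, [1]), (1, [])], [(2, []), (1, [1]), (0, [])], [(1, []), (2, [1]), (2, [0])]]
  phi := 9903822545738086598269992960

/-- Level 4 of type E7. -/
def levelE74 : Level where
  reps := [[], [3], [1, 3], [2, 3], [2, 1, 3], [0, 2, 3], [0, 2, 1, 3], [3, 2, 1, 3], [3, 0, 2, 1, 3], [2, 3, 0, 2, 1, 3]]
  edges := [[(0, [0]), (0, [1]), (0, [2]), (1, [])], [(1, [0]), (2, []), (3, []), (0, [])], [(2, [0]), (1, []), (4, []), (2, [1])], [(5, []), (4, []), (1, []), (3, [2])], [(6, []), (3, []), (2, []), (7, [])], [(3, []), (6, []), (5, [0]), (5, [2])], [(4, []), (5, []), (6, [0]), (8, [])], [(8, []), (7, [2]), (7, [1]), (4, [])], [(7, []), (8, [2]), (9, []), (6, [])], [(9, [1]), (9, [2]), (8, []), (9, [0])]]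
  phi := 29710872619041640337721262080

/-- Level 5 of type E7. -/
def levelE75 : Level where
  reps := [[], [4], [3, 4], [1, 3, 4], [2, 3, 4], [2, 1, 3, 4], [0, 2, 3, 4], [0, 2, 1, 3, 4], [3, 2, 1, 3, 4], [3, 0, 2, 1, 3, 4], [4, 3, 2, 1, 3, 4], [2, 3, 0, 2, 1, 3, 4], [4, 3, 0, 2, 1, 3, 4], [4, 2, 3, 0, 2, 1, 3, 4], [3, 4, 2, 3, 0, 2, 1, 3, 4], [1, 3, 4, 2, 3, 0, 2, 1, 3, 4]]
  edges := [[(0, [0]), (0, [1]), (0, [2]), (0, [3]), (1, [])], [(1, [0]), (1, [1]), (1, [2]), (2, []), (0, [])], [(2, [0]), (3, []), (4, []), (1, []), (2, [3])], [(3, [0]), (2, []), (5, []), (3, [1]), (3, [3])], [(6, []), (5, []), (2, []), (4, [2]), (4, [3])], [(7, []), (4, []), (3, []), (8, []), (5, [3])], [(4, []), (7, []), (6, [0]), (6, [2]), (6, [3])], [(5, []), (6, []), (7, [0]), (9, []), (7, [3])], [(9, []), (8, [2]), (8, [1]), (5, []), (10, [])], [(8, []), (9, [2]), (11, []), (7, []), (12,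 [])], [(12, []), (10, [2]), (10, [1]), (10, [3]), (8, [])], [(11, [1]), (11, [2]), (9, []), (11, [0]), (13, [])], [(10, []), (12, [2]), (13, []), (12, [3]), (9, [])], [(13, [1]), (13, [2]), (12, []), (14, []), (11, [])], [(14, [1]), (15, []), (14, [3]), (13, []), (14, [0])], [(15, [1]), (14, []), (15, [3]), (15, [2]), (15, [0])]]
  phi := 703160549339591360229899501568

/-- Level 6 of type E7. -/
def levelE76 : Level where
  reps := [[], [5], [4, 5], [3, 4, 5], [1, 3, 4, 5], [2, 3, 4, 5], [2, 1, 3, 4, 5], [0, 2, 3, 4, 5], [0, 2, 1, 3, 4, 5], [3, 2, 1, 3, 4, 5], [3, 0, 2, 1, 3, 4, 5], [4, 3, 2, 1, 3, 4, 5], [2, 3, 0, 2, 1, 3, 4, 5], [4, 3, 0, 2, 1, 3, 4, 5], [5, 4, 3, 2, 1, 3, 4, 5], [4, 2, 3, 0, 2, 1, 3, 4, 5], [5, 4, 3, 0, 2, 1, 3, 4, 5], [3, 4, 2, 3, 0, 2, 1, 3, 4, 5], [5, 4, 2, 3, 0, 2, 1, 3, 4, 5], [1, 3, 4, 2, 3, 0, 2, 1, 3, 4, 5], [5, 3, 4, 2, 3, 0, 2, 1, 3, 4,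 5], [5, 1, 3, 4, 2, 3, 0, 2, 1, 3, 4, 5], [4, 5, 3, 4, 2, 3, 0, 2, 1, 3, 4, 5], [4, 5, 1, 3, 4, 2, 3, 0, 2, 1, 3, 4, 5], [3, 4, 5, 1, 3, 4, 2, 3, 0, 2, 1, 3, 4, 5], [2, 3, 4, 5, 1, 3, 4, 2, 3, 0, 2, 1, 3, 4, 5], [0, 2, 3, 4, 5, 1, 3, 4, 2, 3, 0, 2, 1, 3, 4, 5]]
  edges := [[(0, [0]), (0, [1]), (0, [2]), (0, [3]), (0, [4]), (1, [])], [(1, [0]), (1, [1]), (1, [2]), (1, [3]), (2, []), (0, [])], [(2, [0]), (2, [1]), (2, [2]), (3, []), (1, []), (2, [4])], [(3, [0]), (4, []), (5, []), (2, []), (3, [3]), (3, [4])], [(4, [0]), (3, []), (6, []), (4, [1]), (4, [3]), (4, [4])], [(7, []), (6, []), (3, []), (5, [2]), (5, [3]), (5, [4])], [(8, []), (5, []), (4, []), (9, []), (6, [3]), (6, [4])], [(5, []), (8, []), (7, [0]), (7, [2]), (7, [3]), (7, [4])], [(6, []), (7, []), (8, [0]), (10, []), (8, [3]), (8, [4])], [(10, []), (9, [2]), (9, [1]), (6, []), (11, []), (9, [4])], [(9, []),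 (10, [2]), (12, []), (8, []), (13, []), (10, [4])], [(13, []), (11, [2]), (11, [1]), (11, [3]), (9, []), (14, [])], [(12, [1]), (12, [2]), (10, []), (12, [0]), (15, []), (12, [4])], [(11, []), (13, [2]), (15, []), (13, [3]), (10, []), (16, [])], [(16, []), (14, [2]), (14, [1]), (14, [3]), (14, [4]), (11, [])], [(15, [1]), (15, [2]), (13, []), (17, []), (12, []), (18, [])], [(14, []), (16, [2]), (18, []), (16, [3]), (16, [4]), (13, [])], [(17, [1]), (19, []), (17, [3]), (15, []), (17, [0]), (20, [])], [(18, [1]), (18, [2]), (16, []), (20, []), (18, [4]), (15, [])], [(19, [1]), (17, []), (19, [3]), (19, [2]), (19, [0]), (21, [])], [(20, [1]), (21, []), (20, [3]), (18, []), (22, []), (17, [])], [(21, [1]), (20, []), (21, [3]), (21, [2]), (23, []), (19, [])], [(22, [1]), (23, []), (22, [3]), (22, [4]), (20, []), (22, [0])], [(23, [1]), (22, []), (23, [3]), (24, []), (21,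 []), (23, [0])], [(24, [1]), (24, [4]), (25, []), (23, []), (24, [2]), (24, [0])], [(26, []), (25, [4]), (24, []), (25, [3]), (25, [2]), (25, [0])], [(25, []), (26, [4]), (26, [1]), (26, [3]), (26, [2]), (26, [0])]]
  phi := 661228526764039142111913634234368

/-- Level 7 of type E7. -/
def levelE77 : Level where
  reps := [[], [6], [5, 6], [4, 5, 6], [3, 4, 5, 6], [1, 3, 4, 5, 6], [2, 3, 4, 5, 6], [2, 1, 3, 4, 5, 6], [0, 2, 3, 4, 5, 6], [0, 2, 1, 3, 4, 5, 6], [3, 2, 1, 3, 4, 5, 6], [3, 0, 2, 1, 3, 4, 5, 6], [4, 3, 2, 1, 3, 4, 5, 6], [2, 3, 0, 2, 1, 3, 4, 5, 6], [4, 3, 0, 2, 1, 3, 4, 5, 6], [5, 4, 3, 2, 1, 3, 4, 5, 6], [4, 2, 3, 0, 2, 1, 3, 4, 5, 6], [5, 4, 3, 0, 2, 1, 3, 4, 5, 6], [6, 5, 4, 3, 2, 1, 3, 4, 5, 6], [3, 4, 2, 3, 0, 2, 1, 3, 4, 5, 6], [5, 4, 2, 3, 0, 2, 1, 3, 4, 5, 6], [6, 5, 4, 3, 0, 2, 1, 3, 4, 5, 6], [1, 3, 4, 2, 3, 0, 2, 1, 3, 4, 5, 6], [5, 3, 4, 2, 3,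 0, 2, 1, 3, 4, 5, 6], [6, 5, 4, 2, 3, 0, 2, 1, 3, 4, 5, 6], [5, 1, 3, 4, 2, 3, 0, 2, 1, 3, 4, 5, 6], [4, 5, 3, 4, 2, 3, 0, 2, 1, 3, 4, 5, 6], [6, 5, 3, 4, 2, 3, 0, 2, 1, 3, 4, 5, 6], [4, 5, 1, 3, 4, 2, 3, 0, 2, 1, 3, 4, 5, 6], [6, 5, 1, 3, 4, 2, 3, 0, 2, 1, 3, 4, 5, 6], [6, 4, 5, 3, 4, 2, 3, 0, 2, 1, 3, 4, 5, 6], [3, 4, 5, 1, 3, 4, 2, 3, 0, 2, 1, 3, 4, 5, 6], [6, 4, 5, 1, 3, 4, 2, 3, 0, 2, 1, 3, 4, 5, 6], [5, 6, 4, 5, 3, 4, 2, 3, 0, 2, 1, 3, 4, 5, 6], [2, 3, 4, 5, 1, 3, 4, 2, 3, 0, 2, 1, 3, 4, 5, 6], [6, 3, 4, 5, 1, 3, 4, 2, 3, 0, 2, 1, 3, 4, 5, 6], [5, 6, 4, 5, 1, 3, 4, 2, 3, 0, 2, 1, 3, 4, 5, 6], [0, 2, 3, 4, 5, 1, 3, 4, 2, 3, 0, 2, 1, 3, 4, 5, 6], [6, 2, 3, 4, 5, 1, 3, 4, 2, 3, 0, 2, 1, 3, 4, 5, 6], [5, 6, 3, 4, 5, 1, 3, 4, 2, 3, 0, 2, 1, 3, 4, 5, 6], [6, 0, 2, 3, 4, 5, 1, 3, 4, 2, 3, 0, 2, 1, 3, 4, 5, 6], [5, 6, 2, 3, 4, 5, 1, 3, 4, 2, 3, 0, 2, 1, 3, 4, 5, 6], [4,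 5, 6, 3, 4, 5, 1, 3, 4, 2, 3, 0, 2, 1, 3, 4, 5, 6], [5, 6, 0, 2, 3, 4, 5, 1, 3, 4, 2, 3, 0, 2, 1, 3, 4, 5, 6], [4, 5, 6, 2, 3, 4, 5, 1, 3, 4, 2, 3, 0, 2, 1, 3, 4, 5, 6], [4, 5, 6, 0, 2, 3, 4, 5, 1, 3, 4, 2, 3, 0, 2, 1, 3, 4, 5, 6], [3, 4, 5, 6, 2, 3, 4, 5, 1, 3, 4, 2, 3, 0, 2, 1, 3, 4, 5, 6], [3, 4, 5, 6, 0, 2, 3, 4, 5, 1, 3, 4, 2, 3, 0, 2, 1, 3, 4, 5, 6], [1, 3, 4, 5, 6, 2, 3, 4, 5, 1, 3, 4, 2, 3, 0, 2, 1, 3, 4, 5, 6], [1, 3, 4, 5, 6, 0, 2, 3, 4, 5, 1, 3, 4, 2, 3, 0, 2, 1, 3, 4, 5, 6], [2, 3, 4, 5, 6, 0, 2, 3, 4, 5, 1, 3, 4, 2, 3, 0, 2, 1, 3, 4, 5, 6], [2, 1, 3, 4, 5, 6, 0, 2, 3, 4, 5, 1, 3, 4, 2, 3, 0, 2, 1, 3, 4, 5, 6], [3, 2, 1, 3, 4, 5, 6, 0, 2, 3, 4, 5, 1, 3, 4, 2, 3, 0, 2, 1, 3, 4, 5, 6], [4, 3, 2, 1, 3, 4, 5, 6, 0, 2, 3, 4, 5, 1, 3, 4, 2, 3, 0, 2, 1, 3, 4, 5, 6], [5, 4, 3, 2, 1, 3, 4, 5, 6, 0, 2, 3, 4, 5, 1, 3, 4, 2, 3, 0, 2, 1, 3, 4, 5, 6], [6, 5, 4, 3, 2, 1,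 3, 4, 5, 6, 0, 2, 3, 4, 5, 1, 3, 4, 2, 3, 0, 2, 1, 3, 4, 5, 6]]
  edges := [[(0, [0]), (0, [1]), (0, [2]), (0, [3]), (0, [4]), (0, [5]), (1, [])], [(1, [0]), (1, [1]), (1, [2]), (1, [3]), (1, [4]), (2, []), (0, [])], [(2, [0]), (2, [1]), (2, [2]), (2, [3]), (3, []), (1, []), (2, [5])], [(3, [0]), (3, [1]), (3, [2]), (4, []), (2, []), (3, [4]), (3, [5])], [(4, [0]), (5, []), (6, []), (3, []), (4, [3]), (4, [4]), (4, [5])], [(5, [0]), (4, []), (7, []), (5, [1]), (5, [3]), (5, [4]), (5, [5])], [(8, []), (7, []), (4, []), (6, [2]), (6, [3]), (6, [4]), (6, [5])], [(9, []), (6, []), (5, []), (10, []), (7, [3]), (7, [4]), (7, [5])], [(6, []), (9, []), (8, [0]), (8, [2]), (8, [3]), (8, [4]), (8, [5])], [(7, []), (8, []), (9, [0]), (11, []), (9, [3]), (9, [4]), (9, [5])], [(11, []), (10, [2]), (10, [1]), (7, []), (12, []), (10, [4]), (10, [5])], [(10, []), (11, [2]), (13, []),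 (9, []), (14, []), (11, [4]), (11, [5])], [(14, []), (12, [2]), (12, [1]), (12, [3]), (10, []), (15, []), (12, [5])], [(13, [1]), (13, [2]), (11, []), (13, [0]), (16, []), (13, [4]), (13, [5])], [(12, []), (14, [2]), (16, []), (14, [3]), (11, []), (17, []), (14, [5])], [(17, []), (15, [2]), (15, [1]), (15, [3]), (15, [4]), (12, []), (18, [])], [(16, [1]), (16, [2]), (14, []), (19, []), (13, []), (20, []), (16, [5])], [(15, []), (17, [2]), (20, []), (17, [3]), (17, [4]), (14, []), (21, [])], [(21, []), (18, [2]), (18, [1]), (18, [3]), (18, [4]), (18, [5]), (15, [])], [(19, [1]), (22, []), (19, [3]), (16, []), (19, [0]), (23, []), (19, [5])], [(20, [1]), (20, [2]), (17, []), (23, []), (20, [4]), (16, []), (24, [])], [(18, []), (21, [2]), (24, []), (21, [3]), (21, [4]), (21, [5]), (17, [])], [(22, [1]), (19, []), (22, [3]), (22, [2]), (22, [0]), (25, []), (22, [5])], [(23,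 [1]), (25, []), (23, [3]), (20, []), (26, []), (19, []), (27, [])], [(24, [1]), (24, [2]), (21, []), (27, []), (24, [4]), (24, [5]), (20, [])], [(25, [1]), (23, []), (25, [3]), (25, [2]), (28, []), (22, []), (29, [])], [(26, [1]), (28, []), (26, [3]), (26, [4]), (23, []), (26, [0]), (30, [])], [(27, [1]), (29, []), (27, [3]), (24, []), (30, []), (27, [5]), (23, [])], [(28, [1]), (26, []), (28, [3]), (31, []), (25, []), (28, [0]), (32, [])], [(29, [1]), (27, []), (29, [3]), (29, [2]), (32, []), (29, [5]), (25, [])], [(30, [1]), (32, []), (30, [3]), (30, [4]), (27, []), (33, []), (26, [])], [(31, [1]), (31, [4]), (34, []), (28, []), (31, [2]), (31, [0]), (35, [])], [(32, [1]), (30, []), (32, [3]), (35, []), (29, []), (36, []), (28, [])], [(33, [1]), (36, []), (33, [3]), (33, [4]), (33, [5]), (30, []), (33, [0])], [(37, []), (34, [4]), (31, []), (34, [3]), (34, [2]), (34,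 [0]), (38, [])], [(35, [1]), (35, [4]), (38, []), (32, []), (35, [2]), (39, []), (31, [])], [(36, [1]), (33, []), (36, [3]), (39, []), (36, [5]), (32, []), (36, [0])], [(34, []), (37, [4]), (37, [1]), (37, [3]), (37, [2]), (37, [0]), (40, [])], [(40, []), (38, [4]), (35, []), (38, [3]), (38, [2]), (41, []), (34, [])], [(39, [1]), (39, [4]), (41, []), (36, []), (42, []), (35, []), (39, [0])], [(38, []), (40, [4]), (40, [1]), (40, [3]), (40, [2]), (43, []), (37, [])], [(43, []), (41, [4]), (39, []), (41, [3]), (44, []), (38, []), (41, [0])], [(42, [1]), (42, [4]), (44, []), (42, [5]), (39, []), (42, [2]), (42, [0])], [(41, []), (43, [4]), (43, [1]), (43, [3]), (45, []), (40, []), (43, [0])], [(45, []), (44, [4]), (42, []), (46, []), (41, []), (44, [2]), (44, [0])], [(44, []), (45, [4]), (45, [1]), (47, []), (43, []), (45, [2]), (45, [0])], [(47, []), (48, []), (46, [5]),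 (44, []), (46, [3]), (46, [2]), (46, [0])], [(46, []), (49, []), (50, []), (45, []), (47, [3]), (47, [2]), (47, [0])], [(49, []), (46, []), (48, [5]), (48, [4]), (48, [3]), (48, [2]), (48, [0])], [(48, []), (47, []), (51, []), (49, [4]), (49, [3]), (49, [2]), (49, [0])], [(50, [5]), (51, []), (47, []), (50, [1]), (50, [3]), (50, [2]), (50, [0])], [(51, [5]), (50, []), (49, []), (52, []), (51, [3]), (51, [2]), (51, [0])], [(52, [5]), (52, [1]), (52, [4]), (51, []), (53, []), (52, [2]), (52, [0])], [(53, [5]), (53, [1]), (53, [4]), (53, [3]), (52, []), (54, []), (53, [0])], [(54, [5]), (54, [1]), (54, [4]), (54, [3]), (54, [2]), (53, []), (55, [])], [(55, [5]), (55, [1]), (55, [4]), (55, [3]), (55, [2]), (55, [0]), (54, [])]]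
  phi := 713408079754819489151476797278889024

/-- All levels of type E7. -/
def levelsE7 : List Level := [levelE71, levelE72, levelE73, levelE74, levelE75, levelE76, levelE77]

/-- Packed reflection tables of type E8. -/
def tabsE8 : List ℕ := [89010710832726070714151161094414522261048587326581510595392028524030207563957026801107561780730543875635899695872657540013727267355752929009945983259756149830046491061614462711827468647410691219483793969699872786852253216181086040217948769591709564461412580249235256415527480204464476331546285723345807496788342194623506928674460502856817942549765057009024427281542244180397900240359504473124310118170232911525014401390998667463253019886626284409262937152958555578213187162928665144744945462487135302530904835859273767658661597756841433802992835089440598390061610903988634517760, 89010710832725403821992757481139071596698173965191600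472753702822147364158672239454480583766054916428145578667561196346286240294973106193453481602022994238457747057000441148872921567985804927830925184562410761361820642221993159403124364699503886667373585590236200204532233412719031984404037316613648740789033672441744072877792284927471549198215319587161646246739142712406116015301396244861203768991281616970164435876457802828834673089209444828885868975419990867550410752616208765434029454275512555058899218984728513362813046938098819618253410658999715481853523381007317721022720, 89010710832725745165782235459872475154280622121245305451935284189796891986609553508120115617800247381425903506913793501621740144058856426409726296520870105944088071210077208036158123281336922507974837557012631125147342853176418750825867691433342788636856825459490268921107323757655376441022236038140059219790486132896388440655383746867478063393865412376222232171226315736044435218013124881770230153482484127468225324367815592321859374033917761553313348740424564716417650837788186550135374827969386553419933334973793356178552598849513931315254120302644802431154599699746591473920,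 89010710832640042910111002570656357653715391413141566596331023776964856083669365258548140478906507872628955595684419254834843229232697776527642939107948214787375489097164882990093468904723498389665687901900427190291264427804358237891932228052664145351264877813819956450891804972988388003365098856358027288215824823748769396133189946047224742087238448032137898031788973343765419247008549016964559503462021292736161599259527505720347129268890925678250880711178934622972084815217513580310228965341853079554683461698062554884656178636540855221896711318667953180723757473301824405760, 89010710810700264150582617630331042255881895932910918226714852776874391712560822123306201324846964430844654021744796813142187524010757855487702572916830330127298365693899458709456758086075824036756691770046586241064145029133056116495308293743993175776525086010282095515927038476928213975218102397351640852387061258815504561004829092548212349860608510285292324260881662547262759342960965261517043933646963449207241238405678966067672724730749373320049762418207315511506201541333274614526630211416916896943463791273270459031700074181856090797289197533059447945620264098913323188480,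 89010705194116901706207898042593272076635715598316080962368373660183275904963211241670112868150747514853452339348300442536856573504108070476071578517515459877170448087740084341605535907786739352171560154020690462814959752126950608726406504555309146021826472933762216957718802688115433395906838355161543700798538259399617365590114206434373053162203444095549298876781670225955956867766795389687715615088611026287293754751444324085777775017164061220134326830106176777561728721517073324255709968496742906099242262077598598897834567242933249561462858944112061751703801260570581336320, 89009267348776115946259729773659820922684365030336125747795389469672832738436486560006107076294386215399861108218061426761033223202858027703265974144867968881077088308644070388014335446175521462296218898606490586008687349314690079072884976809321978274044767002146488503282587066531463532201212884356974697146753815329103501718218155712615386612077501918825553327818300954160685785812314943431026242586854979814233718477042248871847137512423246283316098823861341191045350782894843980481615436882682789356038401372194376474142161795991775560137622389820726250948292215778419212800,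 88641178941534961399528574982133574396814677498906256381400989866246665564627449953229161844680194659074190077933092506923116215135179707304662642718937925229953648022107495859618087372822661764163967864959498616813225990959921021107342227069879379961702186122601970179144962718114610669862116384906490085474227268535270866071537994068712179526991254658483445889533178669162414355083484286780054293952034942920139124176531856893144339475625188267984313062904125435984721199090783521652049076887975122872968631645246134704052914889999252209582043955376412284065663104007717126145]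

/-- Simple root indices of type E8. -/
def simpsE8 : List ℕ := [162, 141, 135, 130, 126, 123, 121, 120]

/-- Level 1 of type E8. -/
def levelE81 : Level where
  reps := [[], [0]]
  edges := [[(1, [])], [(0, [])]]
  phi := 0

/-- Level 2 of type E8. -/
def levelE82 : Level where
  reps := [[], [1]]
  edges := [[(0, [0]), (1, [])], [(1, [0]), (0, [])]]
  phi := 5846006549323611672814739481980859530452377010176

/-- Level 3 of type E8. -/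
def levelE83 : Level where
  reps := [[], [2], [0, 2]]
  edges := [[(0, [0]), (0, [1]), (1, [])], [(2, []), (1, [1]), (0, [])], [(1, []), (2, [1]), (2, [0])]]
  phi := 5846009336916761489459544824002700961871741059072

/-- Level 4 of type E8. -/
def levelE84 : Level where
  reps := [[], [3], [1, 3], [2, 3], [2, 1, 3], [0, 2, 3], [0, 2, 1, 3], [3, 2, 1, 3], [3, 0, 2, 1, 3], [2, 3, 0, 2, 1, 3]]
  edges := [[(0, [0]), (0, [1]), (0, [2]), (1, [])], [(1, [0]), (2, []), (3, []), (0, [])], [(2, [0]), (1, []), (4, []), (2, [1])], [(5, []), (4, []), (1, []), (3, [2])], [(6, []), (3, []), (2, []), (7, [])], [(3, []), (6, []), (5, [0]), (5, [2])], [(4, []), (5, []), (6, [0]), (8, [])], [(8, []), (7, [2]), (7, [1]), (4, [])], [(7, []), (8, [2]), (9, []), (6, [])], [(9, [1]), (9, [2]), (8, []), (9, [0])]]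
  phi := 17538022479120127821251556488254449020247107174400

/-- Level 5 of type E8. -/
def levelE85 : Level where
  reps := [[], [4], [3, 4], [1, 3, 4], [2, 3, 4], [2, 1, 3, 4], [0, 2, 3, 4], [0, 2, 1, 3, 4], [3, 2, 1, 3, 4], [3, 0, 2, 1, 3, 4], [4, 3, 2, 1, 3, 4], [2, 3, 0, 2, 1, 3, 4], [4, 3, 0, 2, 1, 3, 4], [4, 2, 3, 0, 2, 1, 3, 4], [3, 4, 2, 3, 0, 2, 1, 3, 4], [1, 3, 4, 2, 3, 0, 2, 1, 3, 4]]
  edges := [[(0, [0]), (0, [1]), (0, [2]), (0, [3]), (1, [])], [(1, [0]), (1, [1]), (1, [2]), (2, []), (0, [])], [(2, [0]), (3, []), (4, []), (1, []), (2, [3])], [(3, [0]), (2, []), (5, []), (3, [1]), (3, [3])], [(6, []), (5, []), (2, []), (4, [2]), (4, [3])], [(7, []), (4, []), (3, []), (8, []), (5, [3])], [(4, []), (7, []), (6, [0]), (6, [2]), (6, [3])], [(5, []), (6, []), (7, [0]), (9, []), (7, [3])], [(9, []), (8, [2]), (8, [1]), (5, []), (10, [])], [(8, []), (9, [2]), (11,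 []), (7, []), (12, [])], [(12, []), (10, [2]), (10, [1]), (10, [3]), (8, [])], [(11, [1]), (11, [2]), (9, []), (11, [0]), (13, [])], [(10, []), (12, [2]), (13, []), (12, [3]), (9, [])], [(13, [1]), (13, [2]), (12, []), (14, []), (11, [])], [(14, [1]), (15, []), (14, [3]), (13, []), (14, [0])], [(15, [1]), (14, []), (15, [3]), (15, [2]), (15, [0])]]
  phi := 789211071059458172569223786575429513138068573388800

/-- Level 6 of type E8. -/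
def levelE86 : Level where
  reps := [[], [5], [4, 5], [3, 4, 5], [1, 3, 4, 5], [2, 3, 4, 5], [2, 1, 3, 4, 5], [0, 2, 3, 4, 5], [0, 2, 1, 3, 4, 5], [3, 2, 1, 3, 4, 5], [3, 0, 2, 1, 3, 4, 5], [4, 3, 2, 1, 3, 4, 5], [2, 3, 0, 2, 1, 3, 4, 5], [4, 3, 0, 2, 1, 3, 4, 5], [5, 4, 3, 2, 1, 3, 4, 5], [4, 2, 3, 0, 2, 1, 3, 4, 5], [5, 4, 3, 0, 2, 1, 3, 4, 5], [3, 4, 2, 3, 0, 2, 1, 3, 4, 5], [5, 4, 2, 3, 0, 2, 1, 3, 4, 5], [1, 3, 4, 2, 3, 0, 2, 1, 3, 4, 5], [5, 3, 4, 2, 3, 0, 2, 1, 3, 4, 5], [5, 1, 3, 4, 2, 3, 0, 2, 1, 3, 4, 5], [4, 5, 3, 4, 2, 3, 0, 2, 1, 3, 4, 5], [4, 5, 1, 3, 4, 2, 3, 0, 2, 1, 3, 4, 5], [3, 4, 5, 1, 3, 4, 2, 3, 0, 2, 1, 3, 4, 5], [2, 3, 4, 5, 1, 3, 4, 2, 3, 0, 2, 1, 3, 4, 5], [0, 2, 3, 4, 5, 1, 3, 4, 2, 3, 0, 2, 1, 3, 4, 5]]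
  edges := [[(0, [0]), (0, [1]), (0, [2]), (0, [3]), (0, [4]), (1, [])], [(1, [0]), (1, [1]), (1, [2]), (1, [3]), (2, []), (0, [])], [(2, [0]), (2, [1]), (2, [2]), (3, []), (1, []), (2, [4])], [(3, [0]), (4, []), (5, []), (2, []), (3, [3]), (3, [4])], [(4, [0]), (3, []), (6, []), (4, [1]), (4, [3]), (4, [4])], [(7, []), (6, []), (3, []), (5, [2]), (5, [3]), (5, [4])], [(8, []), (5, []), (4, []), (9, []), (6, [3]), (6, [4])], [(5, []), (8, []), (7, [0]), (7, [2]), (7, [3]), (7, [4])], [(6, []), (7, []), (8, [0]), (10, []), (8, [3]), (8, [4])], [(10, []), (9, [2]), (9, [1]), (6, []), (11, []), (9, [4])], [(9, []), (10, [2]), (12, []), (8, []), (13, []), (10, [4])], [(13, []), (11, [2]), (11, [1]), (11, [3]), (9, []), (14, [])], [(12, [1]), (12, [2]), (10, []), (12, [0]), (15, []), (12, [4])], [(11, []), (13, [2]), (15, []), (13, [3]), (10, []), (16, [])], [(16, []), (14,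 [2]), (14, [1]), (14, [3]), (14, [4]), (11, [])], [(15, [1]), (15, [2]), (13, []), (17, []), (12, []), (18, [])], [(14, []), (16, [2]), (18, []), (16, [3]), (16, [4]), (13, [])], [(17, [1]), (19, []), (17, [3]), (15, []), (17, [0]), (20, [])], [(18, [1]), (18, [2]), (16, []), (20, []), (18, [4]), (15, [])], [(19, [1]), (17, []), (19, [3]), (19, [2]), (19, [0]), (21, [])], [(20, [1]), (21, []), (20, [3]), (18, []), (22, []), (17, [])], [(21, [1]), (20, []), (21, [3]), (21, [2]), (23, []), (19, [])], [(22, [1]), (23, []), (22, [3]), (22, [4]), (20, []), (22, [0])], [(23, [1]), (22, []), (23, [3]), (24, []), (21, []), (23, [0])], [(24, [1]), (24, [4]), (25, []), (23, []), (24, [2]), (24, [0])], [(26, []), (25, [4]), (24, []), (25, [3]), (25, [2]), (25, [0])], [(25, []), (26, [4]), (26, [1]), (26, [3]), (26, [2]), (26, [0])]]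
  phi := 24546206459557462237311293610710128002550437969773199360

/-- Level 7 of type E8. -/
def levelE87 : Level where
  reps := [[], [6], [5, 6], [4, 5, 6], [3, 4, 5, 6], [1, 3, 4, 5, 6], [2, 3, 4, 5, 6], [2, 1, 3, 4, 5, 6], [0, 2, 3, 4, 5, 6], [0, 2, 1, 3, 4, 5, 6], [3, 2, 1, 3, 4, 5, 6], [3, 0, 2, 1, 3, 4, 5, 6], [4, 3, 2, 1, 3, 4, 5, 6], [2, 3, 0, 2, 1, 3, 4, 5, 6], [4, 3, 0, 2, 1, 3, 4, 5, 6], [5, 4, 3, 2, 1, 3, 4, 5, 6], [4, 2, 3, 0, 2, 1, 3, 4, 5, 6], [5, 4, 3, 0, 2, 1, 3, 4, 5, 6], [6, 5, 4, 3, 2, 1, 3, 4, 5, 6], [3, 4, 2, 3, 0, 2, 1, 3, 4, 5, 6], [5, 4, 2, 3, 0, 2, 1, 3, 4, 5, 6], [6, 5, 4, 3, 0, 2, 1, 3, 4, 5, 6], [1, 3, 4, 2, 3, 0, 2, 1, 3, 4, 5, 6], [5, 3, 4, 2, 3, 0, 2, 1, 3, 4, 5, 6], [6, 5, 4, 2, 3, 0, 2, 1, 3, 4, 5, 6], [5, 1, 3, 4, 2, 3, 0, 2, 1, 3, 4, 5, 6], [4, 5, 3, 4, 2, 3, 0, 2, 1, 3, 4, 5, 6], [6, 5, 3, 4, 2, 3, 0, 2, 1, 3, 4, 5, 6], [4, 5, 1,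 3, 4, 2, 3, 0, 2, 1, 3, 4, 5, 6], [6, 5, 1, 3, 4, 2, 3, 0, 2, 1, 3, 4, 5, 6], [6, 4, 5, 3, 4, 2, 3, 0, 2, 1, 3, 4, 5, 6], [3, 4, 5, 1, 3, 4, 2, 3, 0, 2, 1, 3, 4, 5, 6], [6, 4, 5, 1, 3, 4, 2, 3, 0, 2, 1, 3, 4, 5, 6], [5, 6, 4, 5, 3, 4, 2, 3, 0, 2, 1, 3, 4, 5, 6], [2, 3, 4, 5, 1, 3, 4, 2, 3, 0, 2, 1, 3, 4, 5, 6], [6, 3, 4, 5, 1, 3, 4, 2, 3, 0, 2, 1, 3, 4, 5, 6], [5, 6, 4, 5, 1, 3, 4, 2, 3, 0, 2, 1, 3, 4, 5, 6], [0, 2, 3, 4, 5, 1, 3, 4, 2, 3, 0, 2, 1, 3, 4, 5, 6], [6, 2, 3, 4, 5, 1, 3, 4, 2, 3, 0, 2, 1, 3, 4, 5, 6], [5, 6, 3, 4, 5, 1, 3, 4, 2, 3, 0, 2, 1, 3, 4, 5, 6], [6, 0, 2, 3, 4, 5, 1, 3, 4, 2, 3, 0, 2, 1, 3, 4, 5, 6], [5, 6, 2, 3, 4, 5, 1, 3, 4, 2, 3, 0, 2, 1, 3, 4, 5, 6], [4, 5, 6, 3, 4, 5, 1, 3, 4, 2, 3, 0, 2, 1, 3, 4, 5, 6], [5, 6, 0, 2, 3, 4, 5, 1, 3, 4, 2, 3, 0, 2, 1, 3, 4, 5, 6], [4, 5, 6, 2, 3, 4, 5, 1, 3, 4, 2, 3, 0, 2, 1, 3, 4, 5, 6], [4, 5, 6, 0, 2, 3, 4,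 5, 1, 3, 4, 2, 3, 0, 2, 1, 3, 4, 5, 6], [3, 4, 5, 6, 2, 3, 4, 5, 1, 3, 4, 2, 3, 0, 2, 1, 3, 4, 5, 6], [3, 4, 5, 6, 0, 2, 3, 4, 5, 1, 3, 4, 2, 3, 0, 2, 1, 3, 4, 5, 6], [1, 3, 4, 5, 6, 2, 3, 4, 5, 1, 3, 4, 2, 3, 0, 2, 1, 3, 4, 5, 6], [1, 3, 4, 5, 6, 0, 2, 3, 4, 5, 1, 3, 4, 2, 3, 0, 2, 1, 3, 4, 5, 6], [2, 3, 4, 5, 6, 0, 2, 3, 4, 5, 1, 3, 4, 2, 3, 0, 2, 1, 3, 4, 5, 6], [2, 1, 3, 4, 5, 6, 0, 2, 3, 4, 5, 1, 3, 4, 2, 3, 0, 2, 1, 3, 4, 5, 6], [3, 2, 1, 3, 4, 5, 6, 0, 2, 3, 4, 5, 1, 3, 4, 2, 3, 0, 2, 1, 3, 4, 5, 6], [4, 3, 2, 1, 3, 4, 5, 6, 0, 2, 3, 4, 5, 1, 3, 4, 2, 3, 0, 2, 1, 3, 4, 5, 6], [5, 4, 3, 2, 1, 3, 4, 5, 6, 0, 2, 3, 4, 5, 1, 3, 4, 2, 3, 0, 2, 1, 3, 4, 5, 6], [6, 5, 4, 3, 2, 1, 3, 4, 5, 6, 0, 2, 3, 4, 5, 1, 3, 4, 2, 3, 0, 2, 1, 3, 4, 5, 6]]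
  edges := [[(0, [0]), (0, [1]), (0, [2]), (0, [3]), (0, [4]), (0, [5]), (1, [])], [(1, [0]), (1, [1]), (1, [2]), (1, [3]), (1, [4]), (2, []), (0, [])], [(2, [0]), (2, [1]), (2, [2]), (2, [3]), (3, []), (1, []), (2, [5])], [(3, [0]), (3, [1]), (3, [2]), (4, []), (2, []), (3, [4]), (3, [5])], [(4, [0]), (5, []), (6, []), (3, []), (4, [3]), (4, [4]), (4, [5])], [(5, [0]), (4, []), (7, []), (5, [1]), (5, [3]), (5, [4]), (5, [5])], [(8, []), (7, []), (4, []), (6, [2]), (6, [3]), (6, [4]), (6, [5])], [(9, []), (6, []), (5, []), (10, []), (7, [3]), (7, [4]), (7, [5])], [(6, []), (9, []), (8, [0]), (8, [2]), (8, [3]), (8, [4]), (8, [5])], [(7, []), (8, []), (9, [0]), (11, []), (9, [3]), (9, [4]), (9, [5])], [(11, []), (10, [2]), (10, [1]), (7, []), (12, []), (10, [4]), (10, [5])], [(10, []), (11, [2]), (13, []), (9, []), (14, []), (11, [4]), (11, [5])], [(14, []), (12, [2]),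 (12, [1]), (12, [3]), (10, []), (15, []), (12, [5])], [(13, [1]), (13, [2]), (11, []), (13, [0]), (16, []), (13, [4]), (13, [5])], [(12, []), (14, [2]), (16, []), (14, [3]), (11, []), (17, []), (14, [5])], [(17, []), (15, [2]), (15, [1]), (15, [3]), (15, [4]), (12, []), (18, [])], [(16, [1]), (16, [2]), (14, []), (19, []), (13, []), (20, []), (16, [5])], [(15, []), (17, [2]), (20, []), (17, [3]), (17, [4]), (14, []), (21, [])], [(21, []), (18, [2]), (18, [1]), (18, [3]), (18, [4]), (18, [5]), (15, [])], [(19, [1]), (22, []), (19, [3]), (16, []), (19, [0]), (23, []), (19, [5])], [(20, [1]), (20, [2]), (17, []), (23, []), (20, [4]), (16, []), (24, [])], [(18, []), (21, [2]), (24, []), (21, [3]), (21, [4]), (21, [5]), (17, [])], [(22, [1]), (19, []), (22, [3]), (22, [2]), (22, [0]), (25, []), (22, [5])], [(23, [1]), (25, []), (23, [3]), (20, []), (26, []), (19, []), (27,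 [])], [(24, [1]), (24, [2]), (21, []), (27, []), (24, [4]), (24, [5]), (20, [])], [(25, [1]), (23, []), (25, [3]), (25, [2]), (28, []), (22, []), (29, [])], [(26, [1]), (28, []), (26, [3]), (26, [4]), (23, []), (26, [0]), (30, [])], [(27, [1]), (29, []), (27, [3]), (24, []), (30, []), (27, [5]), (23, [])], [(28, [1]), (26, []), (28, [3]), (31, []), (25, []), (28, [0]), (32, [])], [(29, [1]), (27, []), (29, [3]), (29, [2]), (32, []), (29, [5]), (25, [])], [(30, [1]), (32, []), (30, [3]), (30, [4]), (27, []), (33, []), (26, [])], [(31, [1]), (31, [4]), (34, []), (28, []), (31, [2]), (31, [0]), (35, [])], [(32, [1]), (30, []), (32, [3]), (35, []), (29, []), (36, []), (28, [])], [(33, [1]), (36, []), (33, [3]), (33, [4]), (33, [5]), (30, []), (33, [0])], [(37, []), (34, [4]), (31, []), (34, [3]), (34, [2]), (34, [0]), (38, [])], [(35, [1]), (35, [4]), (38, []), (32, []),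 (35, [2]), (39, []), (31, [])], [(36, [1]), (33, []), (36, [3]), (39, []), (36, [5]), (32, []), (36, [0])], [(34, []), (37, [4]), (37, [1]), (37, [3]), (37, [2]), (37, [0]), (40, [])], [(40, []), (38, [4]), (35, []), (38, [3]), (38, [2]), (41, []), (34, [])], [(39, [1]), (39, [4]), (41, []), (36, []), (42, []), (35, []), (39, [0])], [(38, []), (40, [4]), (40, [1]), (40, [3]), (40, [2]), (43, []), (37, [])], [(43, []), (41, [4]), (39, []), (41, [3]), (44, []), (38, []), (41, [0])], [(42, [1]), (42, [4]), (44, []), (42, [5]), (39, []), (42, [2]), (42, [0])], [(41, []), (43, [4]), (43, [1]), (43, [3]), (45, []), (40, []), (43, [0])], [(45, []), (44, [4]), (42, []), (46, []), (41, []), (44, [2]), (44, [0])], [(44, []), (45, [4]), (45, [1]), (47, []), (43, []), (45, [2]), (45, [0])], [(47, []), (48, []), (46, [5]), (44, []), (46, [3]), (46, [2]), (46, [0])], [(46, []), (49,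 []), (50, []), (45, []), (47, [3]), (47, [2]), (47, [0])], [(49, []), (46, []), (48, [5]), (48, [4]), (48, [3]), (48, [2]), (48, [0])], [(48, []), (47, []), (51, []), (49, [4]), (49, [3]), (49, [2]), (49, [0])], [(50, [5]), (51, []), (47, []), (50, [1]), (50, [3]), (50, [2]), (50, [0])], [(51, [5]), (50, []), (49, []), (52, []), (51, [3]), (51, [2]), (51, [0])], [(52, [5]), (52, [1]), (52, [4]), (51, []), (53, []), (52, [2]), (52, [0])], [(53, [5]), (53, [1]), (53, [4]), (53, [3]), (52, []), (54, []), (53, [0])], [(54, [5]), (54, [1]), (54, [4]), (54, [3]), (54, [2]), (53, []), (55, [])], [(55, [5]), (55, [1]), (55, [4]), (55, [3]), (55, [2]), (55, [0]), (54, [])]]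
  phi := 25736583454108785889866830432581230787938373161201194005168128

/-- Level 8 of type E8. -/
def levelE88 : Level where
  reps := [[], [7], [6, 7], [5, 6, 7], [4, 5, 6, 7], [3, 4, 5, 6, 7], [1, 3, 4, 5, 6, 7], [2, 3, 4, 5, 6, 7], [2, 1, 3, 4, 5, 6, 7], [0, 2, 3, 4, 5, 6, 7], [0, 2, 1, 3, 4, 5, 6, 7], [3, 2, 1, 3, 4, 5, 6, 7], [3, 0, 2, 1, 3, 4, 5, 6, 7], [4, 3, 2, 1, 3, 4, 5, 6, 7], [2, 3, 0, 2, 1, 3, 4, 5, 6, 7], [4, 3, 0, 2, 1, 3, 4, 5, 6, 7], [5, 4, 3, 2, 1, 3, 4, 5, 6, 7], [4, 2, 3, 0, 2, 1, 3, 4, 5, 6, 7], [5, 4, 3, 0, 2, 1, 3, 4, 5, 6, 7], [6, 5, 4, 3, 2, 1, 3, 4, 5, 6, 7], [3, 4, 2, 3, 0, 2, 1, 3, 4, 5, 6, 7], [5, 4, 2, 3, 0, 2, 1, 3, 4, 5, 6, 7], [6, 5, 4, 3, 0, 2, 1, 3, 4, 5, 6, 7], [7, 6, 5, 4, 3, 2, 1, 3, 4, 5, 6, 7], [1, 3, 4, 2, 3, 0, 2, 1, 3, 4, 5, 6, 7], [5, 3, 4, 2, 3, 0, 2, 1, 3, 4, 5, 6, 7], [6, 5, 4, 2, 3, 0, 2, 1, 3, 4, 5, 6, 7], [7, 6, 5, 4,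 3, 0, 2, 1, 3, 4, 5, 6, 7], [5, 1, 3, 4, 2, 3, 0, 2, 1, 3, 4, 5, 6, 7], [4, 5, 3, 4, 2, 3, 0, 2, 1, 3, 4, 5, 6, 7], [6, 5, 3, 4, 2, 3, 0, 2, 1, 3, 4, 5, 6, 7], [7, 6, 5, 4, 2, 3, 0, 2, 1, 3, 4, 5, 6, 7], [4, 5, 1, 3, 4, 2, 3, 0, 2, 1, 3, 4, 5, 6, 7], [6, 5, 1, 3, 4, 2, 3, 0, 2, 1, 3, 4, 5, 6, 7], [6, 4, 5, 3, 4, 2, 3, 0, 2, 1, 3, 4, 5, 6, 7], [7, 6, 5, 3, 4, 2, 3, 0, 2, 1, 3, 4, 5, 6, 7], [3, 4, 5, 1, 3, 4, 2, 3, 0, 2, 1, 3, 4, 5, 6, 7], [6, 4, 5, 1, 3, 4, 2, 3, 0, 2, 1, 3, 4, 5, 6, 7], [7, 6, 5, 1, 3, 4, 2, 3, 0, 2, 1, 3, 4, 5, 6, 7], [5, 6, 4, 5, 3, 4, 2, 3, 0, 2, 1, 3, 4, 5, 6, 7], [7, 6, 4, 5, 3, 4, 2, 3, 0, 2, 1, 3, 4, 5, 6, 7], [2, 3, 4, 5, 1, 3, 4, 2, 3, 0, 2, 1, 3, 4, 5, 6, 7], [6, 3, 4, 5, 1, 3, 4, 2, 3, 0, 2, 1, 3, 4, 5, 6, 7], [5, 6, 4, 5, 1, 3, 4, 2, 3, 0, 2, 1, 3, 4, 5, 6, 7], [7, 6, 4, 5, 1, 3, 4, 2, 3, 0, 2, 1, 3, 4, 5, 6, 7], [7, 5, 6, 4, 5, 3, 4, 2, 3,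 0, 2, 1, 3, 4, 5, 6, 7], [0, 2, 3, 4, 5, 1, 3, 4, 2, 3, 0, 2, 1, 3, 4, 5, 6, 7], [6, 2, 3, 4, 5, 1, 3, 4, 2, 3, 0, 2, 1, 3, 4, 5, 6, 7], [5, 6, 3, 4, 5, 1, 3, 4, 2, 3, 0, 2, 1, 3, 4, 5, 6, 7], [7, 6, 3, 4, 5, 1, 3, 4, 2, 3, 0, 2, 1, 3, 4, 5, 6, 7], [7, 5, 6, 4, 5, 1, 3, 4, 2, 3, 0, 2, 1, 3, 4, 5, 6, 7], [6, 7, 5, 6, 4, 5, 3, 4, 2, 3, 0, 2, 1, 3, 4, 5, 6, 7], [6, 0, 2, 3, 4, 5, 1, 3, 4, 2, 3, 0, 2, 1, 3, 4, 5, 6, 7], [5, 6, 2, 3, 4, 5, 1, 3, 4, 2, 3, 0, 2, 1, 3, 4, 5, 6, 7], [7, 6, 2, 3, 4, 5, 1, 3, 4, 2, 3, 0, 2, 1, 3, 4, 5, 6, 7], [4, 5, 6, 3, 4, 5, 1, 3, 4, 2, 3, 0, 2, 1, 3, 4, 5, 6, 7], [7, 5, 6, 3, 4, 5, 1, 3, 4, 2, 3, 0, 2, 1, 3, 4, 5, 6, 7], [6, 7, 5, 6, 4, 5, 1, 3, 4, 2, 3, 0, 2, 1, 3, 4, 5, 6, 7], [5, 6, 0, 2, 3, 4, 5, 1, 3, 4, 2, 3, 0, 2, 1, 3, 4, 5, 6, 7], [7, 6, 0, 2, 3, 4, 5, 1, 3, 4, 2, 3, 0, 2, 1, 3, 4, 5, 6, 7], [4, 5, 6, 2, 3, 4, 5, 1, 3, 4, 2, 3, 0, 2,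 1, 3, 4, 5, 6, 7], [7, 5, 6, 2, 3, 4, 5, 1, 3, 4, 2, 3, 0, 2, 1, 3, 4, 5, 6, 7], [7, 4, 5, 6, 3, 4, 5, 1, 3, 4, 2, 3, 0, 2, 1, 3, 4, 5, 6, 7], [6, 7, 5, 6, 3, 4, 5, 1, 3, 4, 2, 3, 0, 2, 1, 3, 4, 5, 6, 7], [4, 5, 6, 0, 2, 3, 4, 5, 1, 3, 4, 2, 3, 0, 2, 1, 3, 4, 5, 6, 7], [7, 5, 6, 0, 2, 3, 4, 5, 1, 3, 4, 2, 3, 0, 2, 1, 3, 4, 5, 6, 7], [3, 4, 5, 6, 2, 3, 4, 5, 1, 3, 4, 2, 3, 0, 2, 1, 3, 4, 5, 6, 7], [7, 4, 5, 6, 2, 3, 4, 5, 1, 3, 4, 2, 3, 0, 2, 1, 3, 4, 5, 6, 7], [6, 7, 5, 6, 2, 3, 4, 5, 1, 3, 4, 2, 3, 0, 2, 1, 3, 4, 5, 6, 7], [6, 7, 4, 5, 6, 3, 4, 5, 1, 3, 4, 2, 3, 0, 2, 1, 3, 4, 5, 6, 7], [3, 4, 5, 6, 0, 2, 3, 4, 5, 1, 3, 4, 2, 3, 0, 2, 1, 3, 4, 5, 6, 7], [7, 4, 5, 6, 0, 2, 3, 4, 5, 1, 3, 4, 2, 3, 0, 2, 1, 3, 4, 5, 6, 7], [6, 7, 5, 6, 0, 2, 3, 4, 5, 1, 3, 4, 2, 3, 0, 2, 1, 3, 4, 5, 6, 7], [1, 3, 4, 5, 6, 2, 3, 4, 5, 1, 3, 4, 2, 3, 0, 2, 1, 3, 4, 5, 6, 7], [7, 3, 4, 5,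 6, 2, 3, 4, 5, 1, 3, 4, 2, 3, 0, 2, 1, 3, 4, 5, 6, 7], [6, 7, 4, 5, 6, 2, 3, 4, 5, 1, 3, 4, 2, 3, 0, 2, 1, 3, 4, 5, 6, 7], [5, 6, 7, 4, 5, 6, 3, 4, 5, 1, 3, 4, 2, 3, 0, 2, 1, 3, 4, 5, 6, 7], [1, 3, 4, 5, 6, 0, 2, 3, 4, 5, 1, 3, 4, 2, 3, 0, 2, 1, 3, 4, 5, 6, 7], [2, 3, 4, 5, 6, 0, 2, 3, 4, 5, 1, 3, 4, 2, 3, 0, 2, 1, 3, 4, 5, 6, 7], [7, 3, 4, 5, 6, 0, 2, 3, 4, 5, 1, 3, 4, 2, 3, 0, 2, 1, 3, 4, 5, 6, 7], [6, 7, 4, 5, 6, 0, 2, 3, 4, 5, 1, 3, 4, 2, 3, 0, 2, 1, 3, 4, 5, 6, 7], [7, 1, 3, 4, 5, 6, 2, 3, 4, 5, 1, 3, 4, 2, 3, 0, 2, 1, 3, 4, 5, 6, 7], [6, 7, 3, 4, 5, 6, 2, 3, 4, 5, 1, 3, 4, 2, 3, 0, 2, 1, 3, 4, 5, 6, 7], [5, 6, 7, 4, 5, 6, 2, 3, 4, 5, 1, 3, 4, 2, 3, 0, 2, 1, 3, 4, 5, 6, 7], [2, 1, 3, 4, 5, 6, 0, 2, 3, 4, 5, 1, 3, 4, 2, 3, 0, 2, 1, 3, 4, 5, 6, 7], [7, 1, 3, 4, 5, 6, 0, 2, 3, 4, 5, 1, 3, 4, 2, 3, 0, 2, 1, 3, 4, 5, 6, 7], [7, 2, 3, 4, 5, 6, 0, 2, 3, 4, 5, 1, 3, 4, 2,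 3, 0, 2, 1, 3, 4, 5, 6, 7], [6, 7, 3, 4, 5, 6, 0, 2, 3, 4, 5, 1, 3, 4, 2, 3, 0, 2, 1, 3, 4, 5, 6, 7], [5, 6, 7, 4, 5, 6, 0, 2, 3, 4, 5, 1, 3, 4, 2, 3, 0, 2, 1, 3, 4, 5, 6, 7], [6, 7, 1, 3, 4, 5, 6, 2, 3, 4, 5, 1, 3, 4, 2, 3, 0, 2, 1, 3, 4, 5, 6, 7], [5, 6, 7, 3, 4, 5, 6, 2, 3, 4, 5, 1, 3, 4, 2, 3, 0, 2, 1, 3, 4, 5, 6, 7], [3, 2, 1, 3, 4, 5, 6, 0, 2, 3, 4, 5, 1, 3, 4, 2, 3, 0, 2, 1, 3, 4, 5, 6, 7], [7, 2, 1, 3, 4, 5, 6, 0, 2, 3, 4, 5, 1, 3, 4, 2, 3, 0, 2, 1, 3, 4, 5, 6, 7], [6, 7, 1, 3, 4, 5, 6, 0, 2, 3, 4, 5, 1, 3, 4, 2, 3, 0, 2, 1, 3, 4, 5, 6, 7], [6, 7, 2, 3, 4, 5, 6, 0, 2, 3, 4, 5, 1, 3, 4, 2, 3, 0, 2, 1, 3, 4, 5, 6, 7], [5, 6, 7, 3, 4, 5, 6, 0, 2, 3, 4, 5, 1, 3, 4, 2, 3, 0, 2, 1, 3, 4, 5, 6, 7], [5, 6, 7, 1, 3, 4, 5, 6, 2, 3, 4, 5, 1, 3, 4, 2, 3, 0, 2, 1, 3, 4, 5, 6, 7], [4, 5, 6, 7, 3, 4, 5, 6, 2, 3, 4, 5, 1, 3, 4, 2, 3, 0, 2, 1, 3, 4, 5, 6, 7], [4, 3, 2, 1, 3, 4,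 5, 6, 0, 2, 3, 4, 5, 1, 3, 4, 2, 3, 0, 2, 1, 3, 4, 5, 6, 7], [7, 3, 2, 1, 3, 4, 5, 6, 0, 2, 3, 4, 5, 1, 3, 4, 2, 3, 0, 2, 1, 3, 4, 5, 6, 7], [6, 7, 2, 1, 3, 4, 5, 6, 0, 2, 3, 4, 5, 1, 3, 4, 2, 3, 0, 2, 1, 3, 4, 5, 6, 7], [5, 6, 7, 1, 3, 4, 5, 6, 0, 2, 3, 4, 5, 1, 3, 4, 2, 3, 0, 2, 1, 3, 4, 5, 6, 7], [5, 6, 7, 2, 3, 4, 5, 6, 0, 2, 3, 4, 5, 1, 3, 4, 2, 3, 0, 2, 1, 3, 4, 5, 6, 7], [4, 5, 6, 7, 3, 4, 5, 6, 0, 2, 3, 4, 5, 1, 3, 4, 2, 3, 0, 2, 1, 3, 4, 5, 6, 7], [4, 5, 6, 7, 1, 3, 4, 5, 6, 2, 3, 4, 5, 1, 3, 4, 2, 3, 0, 2, 1, 3, 4, 5, 6, 7], [5, 4, 3, 2, 1, 3, 4, 5, 6, 0, 2, 3, 4, 5, 1, 3, 4, 2, 3, 0, 2, 1, 3, 4, 5, 6, 7], [7, 4, 3, 2, 1, 3, 4, 5, 6, 0, 2, 3, 4, 5, 1, 3, 4, 2, 3, 0, 2, 1, 3, 4, 5, 6, 7], [6, 7, 3, 2, 1, 3, 4, 5, 6, 0, 2, 3, 4, 5, 1, 3, 4, 2, 3, 0, 2, 1, 3, 4, 5, 6, 7], [5, 6, 7, 2, 1, 3, 4, 5, 6, 0, 2, 3, 4, 5, 1, 3, 4, 2, 3, 0, 2, 1, 3, 4, 5, 6, 7], [4, 5,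 6, 7, 1, 3, 4, 5, 6, 0, 2, 3, 4, 5, 1, 3, 4, 2, 3, 0, 2, 1, 3, 4, 5, 6, 7], [4, 5, 6, 7, 2, 3, 4, 5, 6, 0, 2, 3, 4, 5, 1, 3, 4, 2, 3, 0, 2, 1, 3, 4, 5, 6, 7], [3, 4, 5, 6, 7, 1, 3, 4, 5, 6, 2, 3, 4, 5, 1, 3, 4, 2, 3, 0, 2, 1, 3, 4, 5, 6, 7], [6, 5, 4, 3, 2, 1, 3, 4, 5, 6, 0, 2, 3, 4, 5, 1, 3, 4, 2, 3, 0, 2, 1, 3, 4, 5, 6, 7], [7, 5, 4, 3, 2, 1, 3, 4, 5, 6, 0, 2, 3, 4, 5, 1, 3, 4, 2, 3, 0, 2, 1, 3, 4, 5, 6, 7], [6, 7, 4, 3, 2, 1, 3, 4, 5, 6, 0, 2, 3, 4, 5, 1, 3, 4, 2, 3, 0, 2, 1, 3, 4, 5, 6, 7], [5, 6, 7, 3, 2, 1, 3, 4, 5, 6, 0, 2, 3, 4, 5, 1, 3, 4, 2, 3, 0, 2, 1, 3, 4, 5, 6, 7], [4, 5, 6, 7, 2, 1, 3, 4, 5, 6, 0, 2, 3, 4, 5, 1, 3, 4, 2, 3, 0, 2, 1, 3, 4, 5, 6, 7], [3, 4, 5, 6, 7, 1, 3, 4, 5, 6, 0, 2, 3, 4, 5, 1, 3, 4, 2, 3, 0, 2, 1, 3, 4, 5, 6, 7], [3, 4, 5, 6, 7, 2, 3, 4, 5, 6, 0, 2, 3, 4, 5, 1, 3, 4, 2, 3, 0, 2, 1, 3, 4, 5, 6, 7], [2, 3, 4, 5, 6, 7, 1, 3, 4, 5, 6, 2,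 3, 4, 5, 1, 3, 4, 2, 3, 0, 2, 1, 3, 4, 5, 6, 7], [7, 6, 5, 4, 3, 2, 1, 3, 4, 5, 6, 0, 2, 3, 4, 5, 1, 3, 4, 2, 3, 0, 2, 1, 3, 4, 5, 6, 7], [6, 7, 5, 4, 3, 2, 1, 3, 4, 5, 6, 0, 2, 3, 4, 5, 1, 3, 4, 2, 3, 0, 2, 1, 3, 4, 5, 6, 7], [5, 6, 7, 4, 3, 2, 1, 3, 4, 5, 6, 0, 2, 3, 4, 5, 1, 3, 4, 2, 3, 0, 2, 1, 3, 4, 5, 6, 7], [4, 5, 6, 7, 3, 2, 1, 3, 4, 5, 6, 0, 2, 3, 4, 5, 1, 3, 4, 2, 3, 0, 2, 1, 3, 4, 5, 6, 7], [3, 4, 5, 6, 7, 2, 1, 3, 4, 5, 6, 0, 2, 3, 4, 5, 1, 3, 4, 2, 3, 0, 2, 1, 3, 4, 5, 6, 7], [2, 3, 4, 5, 6, 7, 1, 3, 4, 5, 6, 0, 2, 3, 4, 5, 1, 3, 4, 2, 3, 0, 2, 1, 3, 4, 5, 6, 7], [1, 3, 4, 5, 6, 7, 2, 3, 4, 5, 6, 0, 2, 3, 4, 5, 1, 3, 4, 2, 3, 0, 2, 1, 3, 4, 5, 6, 7], [0, 2, 3, 4, 5, 6, 7, 1, 3, 4, 5, 6, 2, 3, 4, 5, 1, 3, 4, 2, 3, 0, 2, 1, 3, 4, 5, 6, 7], [6, 7, 6, 5, 4, 3, 2, 1, 3, 4, 5, 6, 0, 2, 3, 4, 5, 1, 3, 4, 2, 3, 0, 2, 1, 3, 4, 5, 6, 7], [5, 6, 7, 5, 4, 3, 2, 1, 3,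 4, 5, 6, 0, 2, 3, 4, 5, 1, 3, 4, 2, 3, 0, 2, 1, 3, 4, 5, 6, 7], [4, 5, 6, 7, 4, 3, 2, 1, 3, 4, 5, 6, 0, 2, 3, 4, 5, 1, 3, 4, 2, 3, 0, 2, 1, 3, 4, 5, 6, 7], [3, 4, 5, 6, 7, 3, 2, 1, 3, 4, 5, 6, 0, 2, 3, 4, 5, 1, 3, 4, 2, 3, 0, 2, 1, 3, 4, 5, 6, 7], [1, 3, 4, 5, 6, 7, 2, 1, 3, 4, 5, 6, 0, 2, 3, 4, 5, 1, 3, 4, 2, 3, 0, 2, 1, 3, 4, 5, 6, 7], [2, 3, 4, 5, 6, 7, 2, 1, 3, 4, 5, 6, 0, 2, 3, 4, 5, 1, 3, 4, 2, 3, 0, 2, 1, 3, 4, 5, 6, 7], [0, 2, 3, 4, 5, 6, 7, 1, 3, 4, 5, 6, 0, 2, 3, 4, 5, 1, 3, 4, 2, 3, 0, 2, 1, 3, 4, 5, 6, 7], [5, 6, 7, 6, 5, 4, 3, 2, 1, 3, 4, 5, 6, 0, 2, 3, 4, 5, 1, 3, 4, 2, 3, 0, 2, 1, 3, 4, 5, 6, 7], [4, 5, 6, 7, 5, 4, 3, 2, 1, 3, 4, 5, 6, 0, 2, 3, 4, 5, 1, 3, 4, 2, 3, 0, 2, 1, 3, 4, 5, 6, 7], [3, 4, 5, 6, 7, 4, 3, 2, 1, 3, 4, 5, 6, 0, 2, 3, 4, 5, 1, 3, 4, 2, 3, 0, 2, 1, 3, 4, 5, 6, 7], [1, 3, 4, 5, 6, 7, 3, 2, 1, 3, 4, 5, 6, 0, 2, 3, 4, 5, 1, 3, 4, 2, 3, 0,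 2, 1, 3, 4, 5, 6, 7], [2, 3, 4, 5, 6, 7, 3, 2, 1, 3, 4, 5, 6, 0, 2, 3, 4, 5, 1, 3, 4, 2, 3, 0, 2, 1, 3, 4, 5, 6, 7], [2, 1, 3, 4, 5, 6, 7, 2, 1, 3, 4, 5, 6, 0, 2, 3, 4, 5, 1, 3, 4, 2, 3, 0, 2, 1, 3, 4, 5, 6, 7], [0, 2, 3, 4, 5, 6, 7, 2, 1, 3, 4, 5, 6, 0, 2, 3, 4, 5, 1, 3, 4, 2, 3, 0, 2, 1, 3, 4, 5, 6, 7], [4, 5, 6, 7, 6, 5, 4, 3, 2, 1, 3, 4, 5, 6, 0, 2, 3, 4, 5, 1, 3, 4, 2, 3, 0, 2, 1, 3, 4, 5, 6, 7], [3, 4, 5, 6, 7, 5, 4, 3, 2, 1, 3, 4, 5, 6, 0, 2, 3, 4, 5, 1, 3, 4, 2, 3, 0, 2, 1, 3, 4, 5, 6, 7], [1, 3, 4, 5, 6, 7, 4, 3, 2, 1, 3, 4, 5, 6, 0, 2, 3, 4, 5, 1, 3, 4, 2, 3, 0, 2, 1, 3, 4, 5, 6, 7], [2, 3, 4, 5, 6, 7, 4, 3, 2, 1, 3, 4, 5, 6, 0, 2, 3, 4, 5, 1, 3, 4, 2, 3, 0, 2, 1, 3, 4, 5, 6, 7], [2, 1, 3, 4, 5, 6, 7, 3, 2, 1, 3, 4, 5, 6, 0, 2, 3, 4, 5, 1, 3, 4, 2, 3, 0, 2, 1, 3, 4, 5, 6, 7], [0, 2, 3, 4, 5, 6, 7, 3, 2, 1, 3, 4, 5, 6, 0, 2, 3, 4, 5, 1, 3, 4, 2, 3, 0, 2, 1, 3,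 4, 5, 6, 7], [0, 2, 1, 3, 4, 5, 6, 7, 2, 1, 3, 4, 5, 6, 0, 2, 3, 4, 5, 1, 3, 4, 2, 3, 0, 2, 1, 3, 4, 5, 6, 7], [3, 4, 5, 6, 7, 6, 5, 4, 3, 2, 1, 3, 4, 5, 6, 0, 2, 3, 4, 5, 1, 3, 4, 2, 3, 0, 2, 1, 3, 4, 5, 6, 7], [1, 3, 4, 5, 6, 7, 5, 4, 3, 2, 1, 3, 4, 5, 6, 0, 2, 3, 4, 5, 1, 3, 4, 2, 3, 0, 2, 1, 3, 4, 5, 6, 7], [2, 3, 4, 5, 6, 7, 5, 4, 3, 2, 1, 3, 4, 5, 6, 0, 2, 3, 4, 5, 1, 3, 4, 2, 3, 0, 2, 1, 3, 4, 5, 6, 7], [2, 1, 3, 4, 5, 6, 7, 4, 3, 2, 1, 3, 4, 5, 6, 0, 2, 3, 4, 5, 1, 3, 4, 2, 3, 0, 2, 1, 3, 4, 5, 6, 7], [0, 2, 3, 4, 5, 6, 7, 4, 3, 2, 1, 3, 4, 5, 6, 0, 2, 3, 4, 5, 1, 3, 4, 2, 3, 0, 2, 1, 3, 4, 5, 6, 7], [0, 2, 1, 3, 4, 5, 6, 7, 3, 2, 1, 3, 4, 5, 6, 0, 2, 3, 4, 5, 1, 3, 4, 2, 3, 0, 2, 1, 3, 4, 5, 6, 7], [3, 2, 1, 3, 4, 5, 6, 7, 3, 2, 1, 3, 4, 5, 6, 0, 2, 3, 4, 5, 1, 3, 4, 2, 3, 0, 2, 1, 3, 4, 5, 6, 7], [1, 3, 4, 5, 6, 7, 6, 5, 4, 3, 2, 1, 3, 4, 5, 6, 0, 2, 3, 4, 5,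 1, 3, 4, 2, 3, 0, 2, 1, 3, 4, 5, 6, 7], [2, 3, 4, 5, 6, 7, 6, 5, 4, 3, 2, 1, 3, 4, 5, 6, 0, 2, 3, 4, 5, 1, 3, 4, 2, 3, 0, 2, 1, 3, 4, 5, 6, 7], [2, 1, 3, 4, 5, 6, 7, 5, 4, 3, 2, 1, 3, 4, 5, 6, 0, 2, 3, 4, 5, 1, 3, 4, 2, 3, 0, 2, 1, 3, 4, 5, 6, 7], [0, 2, 3, 4, 5, 6, 7, 5, 4, 3, 2, 1, 3, 4, 5, 6, 0, 2, 3, 4, 5, 1, 3, 4, 2, 3, 0, 2, 1, 3, 4, 5, 6, 7], [0, 2, 1, 3, 4, 5, 6, 7, 4, 3, 2, 1, 3, 4, 5, 6, 0, 2, 3, 4, 5, 1, 3, 4, 2, 3, 0, 2, 1, 3, 4, 5, 6, 7], [3, 2, 1, 3, 4, 5, 6, 7, 4, 3, 2, 1, 3, 4, 5, 6, 0, 2, 3, 4, 5, 1, 3, 4, 2, 3, 0, 2, 1, 3, 4, 5, 6, 7], [3, 0, 2, 1, 3, 4, 5, 6, 7, 3, 2, 1, 3, 4, 5, 6, 0, 2, 3, 4, 5, 1, 3, 4, 2, 3, 0, 2, 1, 3, 4, 5, 6, 7], [2, 1, 3, 4, 5, 6, 7, 6, 5, 4, 3, 2, 1, 3, 4, 5, 6, 0, 2, 3, 4, 5, 1, 3, 4, 2, 3, 0, 2, 1, 3, 4, 5, 6, 7], [0, 2, 3, 4, 5, 6, 7, 6, 5, 4, 3, 2, 1, 3, 4, 5, 6, 0, 2, 3, 4, 5, 1, 3, 4, 2, 3, 0, 2, 1, 3, 4, 5, 6, 7], [0,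 2, 1, 3, 4, 5, 6, 7, 5, 4, 3, 2, 1, 3, 4, 5, 6, 0, 2, 3, 4, 5, 1, 3, 4, 2, 3, 0, 2, 1, 3, 4, 5, 6, 7], [3, 2, 1, 3, 4, 5, 6, 7, 5, 4, 3, 2, 1, 3, 4, 5, 6, 0, 2, 3, 4, 5, 1, 3, 4, 2, 3, 0, 2, 1, 3, 4, 5, 6, 7], [3, 0, 2, 1, 3, 4, 5, 6, 7, 4, 3, 2, 1, 3, 4, 5, 6, 0, 2, 3, 4, 5, 1, 3, 4, 2, 3, 0, 2, 1, 3, 4, 5, 6, 7], [4, 3, 2, 1, 3, 4, 5, 6, 7, 4, 3, 2, 1, 3, 4, 5, 6, 0, 2, 3, 4, 5, 1, 3, 4, 2, 3, 0, 2, 1, 3, 4, 5, 6, 7], [2, 3, 0, 2, 1, 3, 4, 5, 6, 7, 3, 2, 1, 3, 4, 5, 6, 0, 2, 3, 4, 5, 1, 3, 4, 2, 3, 0, 2, 1, 3, 4, 5, 6, 7], [0, 2, 1, 3, 4, 5, 6, 7, 6, 5, 4, 3, 2, 1, 3, 4, 5, 6, 0, 2, 3, 4, 5, 1, 3, 4, 2, 3, 0, 2, 1, 3, 4, 5, 6, 7], [3, 2, 1, 3, 4, 5, 6, 7, 6, 5, 4, 3, 2, 1, 3, 4, 5, 6, 0, 2, 3, 4, 5, 1, 3, 4, 2, 3, 0, 2, 1, 3, 4, 5, 6, 7], [3, 0, 2, 1, 3, 4, 5, 6, 7, 5, 4, 3, 2, 1, 3, 4, 5, 6, 0, 2, 3, 4, 5, 1, 3, 4, 2, 3, 0, 2, 1, 3, 4, 5, 6, 7], [4, 3, 2, 1, 3, 4,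 5, 6, 7, 5, 4, 3, 2, 1, 3, 4, 5, 6, 0, 2, 3, 4, 5, 1, 3, 4, 2, 3, 0, 2, 1, 3, 4, 5, 6, 7], [2, 3, 0, 2, 1, 3, 4, 5, 6, 7, 4, 3, 2, 1, 3, 4, 5, 6, 0, 2, 3, 4, 5, 1, 3, 4, 2, 3, 0, 2, 1, 3, 4, 5, 6, 7], [4, 3, 0, 2, 1, 3, 4, 5, 6, 7, 4, 3, 2, 1, 3, 4, 5, 6, 0, 2, 3, 4, 5, 1, 3, 4, 2, 3, 0, 2, 1, 3, 4, 5, 6, 7], [3, 0, 2, 1, 3, 4, 5, 6, 7, 6, 5, 4, 3, 2, 1, 3, 4, 5, 6, 0, 2, 3, 4, 5, 1, 3, 4, 2, 3, 0, 2, 1, 3, 4, 5, 6, 7], [4, 3, 2, 1, 3, 4, 5, 6, 7, 6, 5, 4, 3, 2, 1, 3, 4, 5, 6, 0, 2, 3, 4, 5, 1, 3, 4, 2, 3, 0, 2, 1, 3, 4, 5, 6, 7], [2, 3, 0, 2, 1, 3, 4, 5, 6, 7, 5, 4, 3, 2, 1, 3, 4, 5, 6, 0, 2, 3, 4, 5, 1, 3, 4, 2, 3, 0, 2, 1, 3, 4, 5, 6, 7], [4, 3, 0, 2, 1, 3, 4, 5, 6, 7, 5, 4, 3, 2, 1, 3, 4, 5, 6, 0, 2, 3, 4, 5, 1, 3, 4, 2, 3, 0, 2, 1, 3, 4, 5, 6, 7], [5, 4, 3, 2, 1, 3, 4, 5, 6, 7, 5, 4, 3, 2, 1, 3, 4, 5, 6, 0, 2, 3, 4, 5, 1, 3, 4, 2, 3, 0, 2, 1, 3, 4, 5, 6, 7], [4,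 2, 3, 0, 2, 1, 3, 4, 5, 6, 7, 4, 3, 2, 1, 3, 4, 5, 6, 0, 2, 3, 4, 5, 1, 3, 4, 2, 3, 0, 2, 1, 3, 4, 5, 6, 7], [2, 3, 0, 2, 1, 3, 4, 5, 6, 7, 6, 5, 4, 3, 2, 1, 3, 4, 5, 6, 0, 2, 3, 4, 5, 1, 3, 4, 2, 3, 0, 2, 1, 3, 4, 5, 6, 7], [4, 3, 0, 2, 1, 3, 4, 5, 6, 7, 6, 5, 4, 3, 2, 1, 3, 4, 5, 6, 0, 2, 3, 4, 5, 1, 3, 4, 2, 3, 0, 2, 1, 3, 4, 5, 6, 7], [5, 4, 3, 2, 1, 3, 4, 5, 6, 7, 6, 5, 4, 3, 2, 1, 3, 4, 5, 6, 0, 2, 3, 4, 5, 1, 3, 4, 2, 3, 0, 2, 1, 3, 4, 5, 6, 7], [4, 2, 3, 0, 2, 1, 3, 4, 5, 6, 7, 5, 4, 3, 2, 1, 3, 4, 5, 6, 0, 2, 3, 4, 5, 1, 3, 4, 2, 3, 0, 2, 1, 3, 4, 5, 6, 7], [5, 4, 3, 0, 2, 1, 3, 4, 5, 6, 7, 5, 4, 3, 2, 1, 3, 4, 5, 6, 0, 2, 3, 4, 5, 1, 3, 4, 2, 3, 0, 2, 1, 3, 4, 5, 6, 7], [3, 4, 2, 3, 0, 2, 1, 3, 4, 5, 6, 7, 4, 3, 2, 1, 3, 4, 5, 6, 0, 2, 3, 4, 5, 1, 3, 4, 2, 3, 0, 2, 1, 3, 4, 5, 6, 7], [4, 2, 3, 0, 2, 1, 3, 4, 5, 6, 7, 6, 5, 4, 3, 2, 1, 3, 4, 5, 6, 0, 2, 3, 4,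 5, 1, 3, 4, 2, 3, 0, 2, 1, 3, 4, 5, 6, 7], [5, 4, 3, 0, 2, 1, 3, 4, 5, 6, 7, 6, 5, 4, 3, 2, 1, 3, 4, 5, 6, 0, 2, 3, 4, 5, 1, 3, 4, 2, 3, 0, 2, 1, 3, 4, 5, 6, 7], [6, 5, 4, 3, 2, 1, 3, 4, 5, 6, 7, 6, 5, 4, 3, 2, 1, 3, 4, 5, 6, 0, 2, 3, 4, 5, 1, 3, 4, 2, 3, 0, 2, 1, 3, 4, 5, 6, 7], [3, 4, 2, 3, 0, 2, 1, 3, 4, 5, 6, 7, 5, 4, 3, 2, 1, 3, 4, 5, 6, 0, 2, 3, 4, 5, 1, 3, 4, 2, 3, 0, 2, 1, 3, 4, 5, 6, 7], [5, 4, 2, 3, 0, 2, 1, 3, 4, 5, 6, 7, 5, 4, 3, 2, 1, 3, 4, 5, 6, 0, 2, 3, 4, 5, 1, 3, 4, 2, 3, 0, 2, 1, 3, 4, 5, 6, 7], [1, 3, 4, 2, 3, 0, 2, 1, 3, 4, 5, 6, 7, 4, 3, 2, 1, 3, 4, 5, 6, 0, 2, 3, 4, 5, 1, 3, 4, 2, 3, 0, 2, 1, 3, 4, 5, 6, 7], [3, 4, 2, 3, 0, 2, 1, 3, 4, 5, 6, 7, 6, 5, 4, 3, 2, 1, 3, 4, 5, 6, 0, 2, 3, 4, 5, 1, 3, 4, 2, 3, 0, 2, 1, 3, 4, 5, 6, 7], [5, 4, 2, 3, 0, 2, 1, 3, 4, 5, 6, 7, 6, 5, 4, 3, 2, 1, 3, 4, 5, 6, 0, 2, 3, 4, 5, 1, 3, 4, 2, 3, 0, 2, 1, 3, 4, 5, 6, 7],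 [6, 5, 4, 3, 0, 2, 1, 3, 4, 5, 6, 7, 6, 5, 4, 3, 2, 1, 3, 4, 5, 6, 0, 2, 3, 4, 5, 1, 3, 4, 2, 3, 0, 2, 1, 3, 4, 5, 6, 7], [1, 3, 4, 2, 3, 0, 2, 1, 3, 4, 5, 6, 7, 5, 4, 3, 2, 1, 3, 4, 5, 6, 0, 2, 3, 4, 5, 1, 3, 4, 2, 3, 0, 2, 1, 3, 4, 5, 6, 7], [5, 3, 4, 2, 3, 0, 2, 1, 3, 4, 5, 6, 7, 5, 4, 3, 2, 1, 3, 4, 5, 6, 0, 2, 3, 4, 5, 1, 3, 4, 2, 3, 0, 2, 1, 3, 4, 5, 6, 7], [1, 3, 4, 2, 3, 0, 2, 1, 3, 4, 5, 6, 7, 6, 5, 4, 3, 2, 1, 3, 4, 5, 6, 0, 2, 3, 4, 5, 1, 3, 4, 2, 3, 0, 2, 1, 3, 4, 5, 6, 7], [5, 3, 4, 2, 3, 0, 2, 1, 3, 4, 5, 6, 7, 6, 5, 4, 3, 2, 1, 3, 4, 5, 6, 0, 2, 3, 4, 5, 1, 3, 4, 2, 3, 0, 2, 1, 3, 4, 5, 6, 7], [6, 5, 4, 2, 3, 0, 2, 1, 3, 4, 5, 6, 7, 6, 5, 4, 3, 2, 1, 3, 4, 5, 6, 0, 2, 3, 4, 5, 1, 3, 4, 2, 3, 0, 2, 1, 3, 4, 5, 6, 7], [5, 1, 3, 4, 2, 3, 0, 2, 1, 3, 4, 5, 6, 7, 5, 4, 3, 2, 1, 3, 4, 5, 6, 0, 2, 3, 4, 5, 1, 3, 4, 2, 3, 0, 2, 1, 3, 4, 5, 6, 7], [4, 5, 3, 4, 2,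 3, 0, 2, 1, 3, 4, 5, 6, 7, 5, 4, 3, 2, 1, 3, 4, 5, 6, 0, 2, 3, 4, 5, 1, 3, 4, 2, 3, 0, 2, 1, 3, 4, 5, 6, 7], [5, 1, 3, 4, 2, 3, 0, 2, 1, 3, 4, 5, 6, 7, 6, 5, 4, 3, 2, 1, 3, 4, 5, 6, 0, 2, 3, 4, 5, 1, 3, 4, 2, 3, 0, 2, 1, 3, 4, 5, 6, 7], [4, 5, 3, 4, 2, 3, 0, 2, 1, 3, 4, 5, 6, 7, 6, 5, 4, 3, 2, 1, 3, 4, 5, 6, 0, 2, 3, 4, 5, 1, 3, 4, 2, 3, 0, 2, 1, 3, 4, 5, 6, 7], [6, 5, 3, 4, 2, 3, 0, 2, 1, 3, 4, 5, 6, 7, 6, 5, 4, 3, 2, 1, 3, 4, 5, 6, 0, 2, 3, 4, 5, 1, 3, 4, 2, 3, 0, 2, 1, 3, 4, 5, 6, 7], [4, 5, 1, 3, 4, 2, 3, 0, 2, 1, 3, 4, 5, 6, 7, 5, 4, 3, 2, 1, 3, 4, 5, 6, 0, 2, 3, 4, 5, 1, 3, 4, 2, 3, 0, 2, 1, 3, 4, 5, 6, 7], [4, 5, 1, 3, 4, 2, 3, 0, 2, 1, 3, 4, 5, 6, 7, 6, 5, 4, 3, 2, 1, 3, 4, 5, 6, 0, 2, 3, 4, 5, 1, 3, 4, 2, 3, 0, 2, 1, 3, 4, 5, 6, 7], [6, 5, 1, 3, 4, 2, 3, 0, 2, 1, 3, 4, 5, 6, 7, 6, 5, 4, 3, 2, 1, 3, 4, 5, 6, 0, 2, 3, 4, 5, 1, 3, 4, 2, 3, 0, 2, 1, 3, 4, 5, 6, 7],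 [6, 4, 5, 3, 4, 2, 3, 0, 2, 1, 3, 4, 5, 6, 7, 6, 5, 4, 3, 2, 1, 3, 4, 5, 6, 0, 2, 3, 4, 5, 1, 3, 4, 2, 3, 0, 2, 1, 3, 4, 5, 6, 7], [3, 4, 5, 1, 3, 4, 2, 3, 0, 2, 1, 3, 4, 5, 6, 7, 5, 4, 3, 2, 1, 3, 4, 5, 6, 0, 2, 3, 4, 5, 1, 3, 4, 2, 3, 0, 2, 1, 3, 4, 5, 6, 7], [3, 4, 5, 1, 3, 4, 2, 3, 0, 2, 1, 3, 4, 5, 6, 7, 6, 5, 4, 3, 2, 1, 3, 4, 5, 6, 0, 2, 3, 4, 5, 1, 3, 4, 2, 3, 0, 2, 1, 3, 4, 5, 6, 7], [6, 4, 5, 1, 3, 4, 2, 3, 0, 2, 1, 3, 4, 5, 6, 7, 6, 5, 4, 3, 2, 1, 3, 4, 5, 6, 0, 2, 3, 4, 5, 1, 3, 4, 2, 3, 0, 2, 1, 3, 4, 5, 6, 7], [5, 6, 4, 5, 3, 4, 2, 3, 0, 2, 1, 3, 4, 5, 6, 7, 6, 5, 4, 3, 2, 1, 3, 4, 5, 6, 0, 2, 3, 4, 5, 1, 3, 4, 2, 3, 0, 2, 1, 3, 4, 5, 6, 7], [2, 3, 4, 5, 1, 3, 4, 2, 3, 0, 2, 1, 3, 4, 5, 6, 7, 5, 4, 3, 2, 1, 3, 4, 5, 6, 0, 2, 3, 4, 5, 1, 3, 4, 2, 3, 0, 2, 1, 3, 4, 5, 6, 7], [2, 3, 4, 5, 1, 3, 4, 2, 3, 0, 2, 1, 3, 4, 5, 6, 7, 6, 5, 4, 3, 2, 1, 3, 4, 5, 6,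 0, 2, 3, 4, 5, 1, 3, 4, 2, 3, 0, 2, 1, 3, 4, 5, 6, 7], [6, 3, 4, 5, 1, 3, 4, 2, 3, 0, 2, 1, 3, 4, 5, 6, 7, 6, 5, 4, 3, 2, 1, 3, 4, 5, 6, 0, 2, 3, 4, 5, 1, 3, 4, 2, 3, 0, 2, 1, 3, 4, 5, 6, 7], [5, 6, 4, 5, 1, 3, 4, 2, 3, 0, 2, 1, 3, 4, 5, 6, 7, 6, 5, 4, 3, 2, 1, 3, 4, 5, 6, 0, 2, 3, 4, 5, 1, 3, 4, 2, 3, 0, 2, 1, 3, 4, 5, 6, 7], [0, 2, 3, 4, 5, 1, 3, 4, 2, 3, 0, 2, 1, 3, 4, 5, 6, 7, 5, 4, 3, 2, 1, 3, 4, 5, 6, 0, 2, 3, 4, 5, 1, 3, 4, 2, 3, 0, 2, 1, 3, 4, 5, 6, 7], [0, 2, 3, 4, 5, 1, 3, 4, 2, 3, 0, 2, 1, 3, 4, 5, 6, 7, 6, 5, 4, 3, 2, 1, 3, 4, 5, 6, 0, 2, 3, 4, 5, 1, 3, 4, 2, 3, 0, 2, 1, 3, 4, 5, 6, 7], [6, 2, 3, 4, 5, 1, 3, 4, 2, 3, 0, 2, 1, 3, 4, 5, 6, 7, 6, 5, 4, 3, 2, 1, 3, 4, 5, 6, 0, 2, 3, 4, 5, 1, 3, 4, 2, 3, 0, 2, 1, 3, 4, 5, 6, 7], [5, 6, 3, 4, 5, 1, 3, 4, 2, 3, 0, 2, 1, 3, 4, 5, 6, 7, 6, 5, 4, 3, 2, 1, 3, 4, 5, 6, 0, 2, 3, 4, 5, 1, 3, 4, 2, 3, 0, 2, 1, 3, 4, 5, 6,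 7], [6, 0, 2, 3, 4, 5, 1, 3, 4, 2, 3, 0, 2, 1, 3, 4, 5, 6, 7, 6, 5, 4, 3, 2, 1, 3, 4, 5, 6, 0, 2, 3, 4, 5, 1, 3, 4, 2, 3, 0, 2, 1, 3, 4, 5, 6, 7], [5, 6, 2, 3, 4, 5, 1, 3, 4, 2, 3, 0, 2, 1, 3, 4, 5, 6, 7, 6, 5, 4, 3, 2, 1, 3, 4, 5, 6, 0, 2, 3, 4, 5, 1, 3, 4, 2, 3, 0, 2, 1, 3, 4, 5, 6, 7], [4, 5, 6, 3, 4, 5, 1, 3, 4, 2, 3, 0, 2, 1, 3, 4, 5, 6, 7, 6, 5, 4, 3, 2, 1, 3, 4, 5, 6, 0, 2, 3, 4, 5, 1, 3, 4, 2, 3, 0, 2, 1, 3, 4, 5, 6, 7], [5, 6, 0, 2, 3, 4, 5, 1, 3, 4, 2, 3, 0, 2, 1, 3, 4, 5, 6, 7, 6, 5, 4, 3, 2, 1, 3, 4, 5, 6, 0, 2, 3, 4, 5, 1, 3, 4, 2, 3, 0, 2, 1, 3, 4, 5, 6, 7], [4, 5, 6, 2, 3, 4, 5, 1, 3, 4, 2, 3, 0, 2, 1, 3, 4, 5, 6, 7, 6, 5, 4, 3, 2, 1, 3, 4, 5, 6, 0, 2, 3, 4, 5, 1, 3, 4, 2, 3, 0, 2, 1, 3, 4, 5, 6, 7], [4, 5, 6, 0, 2, 3, 4, 5, 1, 3, 4, 2, 3, 0, 2, 1, 3, 4, 5, 6, 7, 6, 5, 4, 3, 2, 1, 3, 4, 5, 6, 0, 2, 3, 4, 5, 1, 3, 4, 2, 3, 0, 2, 1, 3, 4, 5, 6, 7], [3, 4,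 5, 6, 2, 3, 4, 5, 1, 3, 4, 2, 3, 0, 2, 1, 3, 4, 5, 6, 7, 6, 5, 4, 3, 2, 1, 3, 4, 5, 6, 0, 2, 3, 4, 5, 1, 3, 4, 2, 3, 0, 2, 1, 3, 4, 5, 6, 7], [3, 4, 5, 6, 0, 2, 3, 4, 5, 1, 3, 4, 2, 3, 0, 2, 1, 3, 4, 5, 6, 7, 6, 5, 4, 3, 2, 1, 3, 4, 5, 6, 0, 2, 3, 4, 5, 1, 3, 4, 2, 3, 0, 2, 1, 3, 4, 5, 6, 7], [1, 3, 4, 5, 6, 2, 3, 4, 5, 1, 3, 4, 2, 3, 0, 2, 1, 3, 4, 5, 6, 7, 6, 5, 4, 3, 2, 1, 3, 4, 5, 6, 0, 2, 3, 4, 5, 1, 3, 4, 2, 3, 0, 2, 1, 3, 4, 5, 6, 7], [1, 3, 4, 5, 6, 0, 2, 3, 4, 5, 1, 3, 4, 2, 3, 0, 2, 1, 3, 4, 5, 6, 7, 6, 5, 4, 3, 2, 1, 3, 4, 5, 6, 0, 2, 3, 4, 5, 1, 3, 4, 2, 3, 0, 2, 1, 3, 4, 5, 6, 7], [2, 3, 4, 5, 6, 0, 2, 3, 4, 5, 1, 3, 4, 2, 3, 0, 2, 1, 3, 4, 5, 6, 7, 6, 5, 4, 3, 2, 1, 3, 4, 5, 6, 0, 2, 3, 4, 5, 1, 3, 4, 2, 3, 0, 2, 1, 3, 4, 5, 6, 7], [2, 1, 3, 4, 5, 6, 0, 2, 3, 4, 5, 1, 3, 4, 2, 3, 0, 2, 1, 3, 4, 5, 6, 7, 6, 5, 4, 3, 2, 1, 3, 4, 5, 6, 0, 2, 3, 4, 5, 1, 3,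 4, 2, 3, 0, 2, 1, 3, 4, 5, 6, 7], [3, 2, 1, 3, 4, 5, 6, 0, 2, 3, 4, 5, 1, 3, 4, 2, 3, 0, 2, 1, 3, 4, 5, 6, 7, 6, 5, 4, 3, 2, 1, 3, 4, 5, 6, 0, 2, 3, 4, 5, 1, 3, 4, 2, 3, 0, 2, 1, 3, 4, 5, 6, 7], [4, 3, 2, 1, 3, 4, 5, 6, 0, 2, 3, 4, 5, 1, 3, 4, 2, 3, 0, 2, 1, 3, 4, 5, 6, 7, 6, 5, 4, 3, 2, 1, 3, 4, 5, 6, 0, 2, 3, 4, 5, 1, 3, 4, 2, 3, 0, 2, 1, 3, 4, 5, 6, 7], [5, 4, 3, 2, 1, 3, 4, 5, 6, 0, 2, 3, 4, 5, 1, 3, 4, 2, 3, 0, 2, 1, 3, 4, 5, 6, 7, 6, 5, 4, 3, 2, 1, 3, 4, 5, 6, 0, 2, 3, 4, 5, 1, 3, 4, 2, 3, 0, 2, 1, 3, 4, 5, 6, 7], [6, 5, 4, 3, 2, 1, 3, 4, 5, 6, 0, 2, 3, 4, 5, 1, 3, 4, 2, 3, 0, 2, 1, 3, 4, 5, 6, 7, 6, 5, 4, 3, 2, 1, 3, 4, 5, 6, 0, 2, 3, 4, 5, 1, 3, 4, 2, 3, 0, 2, 1, 3, 4, 5, 6, 7], [7, 6, 5, 4, 3, 2, 1, 3, 4, 5, 6, 0, 2, 3, 4, 5, 1, 3, 4, 2, 3, 0, 2, 1, 3, 4, 5, 6, 7, 6, 5, 4, 3, 2, 1, 3, 4, 5, 6, 0, 2, 3, 4, 5, 1, 3, 4, 2, 3, 0, 2, 1, 3, 4, 5, 6, 7]]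
  edges := [[(0, [0]), (0, [1]), (0, [2]), (0, [3]), (0, [4]), (0, [5]), (0, [6]), (1, [])], [(1, [0]), (1, [1]), (1, [2]), (1, [3]), (1, [4]), (1, [5]), (2, []), (0, [])], [(2, [0]), (2, [1]), (2, [2]), (2, [3]), (2, [4]), (3, []), (1, []), (2, [6])], [(3, [0]), (3, [1]), (3, [2]), (3, [3]), (4, []), (2, []), (3, [5]), (3, [6])], [(4, [0]), (4, [1]), (4, [2]), (5, []), (3, []), (4, [4]), (4, [5]), (4, [6])], [(5, [0]), (6, []), (7, []), (4, []), (5, [3]), (5, [4]), (5, [5]), (5, [6])], [(6, [0]), (5, []), (8, []), (6, [1]), (6, [3]), (6, [4]), (6, [5]), (6, [6])], [(9, []), (8, []), (5, []), (7, [2]), (7, [3]), (7, [4]), (7, [5]), (7, [6])], [(10, []), (7, []), (6, []), (11, []), (8, [3]), (8, [4]), (8, [5]), (8, [6])], [(7, []), (10, []), (9, [0]), (9, [2]), (9, [3]), (9, [4]), (9, [5]), (9, [6])], [(8, []), (9, []), (10, [0]), (12, []), (10, [3]), (10, [4]), (10, [5]),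 (10, [6])], [(12, []), (11, [2]), (11, [1]), (8, []), (13, []), (11, [4]), (11, [5]), (11, [6])], [(11, []), (12, [2]), (14, []), (10, []), (15, []), (12, [4]), (12, [5]), (12, [6])], [(15, []), (13, [2]), (13, [1]), (13, [3]), (11, []), (16, []), (13, [5]), (13, [6])], [(14, [1]), (14, [2]), (12, []), (14, [0]), (17, []), (14, [4]), (14, [5]), (14, [6])], [(13, []), (15, [2]), (17, []), (15, [3]), (12, []), (18, []), (15, [5]), (15, [6])], [(18, []), (16, [2]), (16, [1]), (16, [3]), (16, [4]), (13, []), (19, []), (16, [6])], [(17, [1]), (17, [2]), (15, []), (20, []), (14, []), (21, []), (17, [5]), (17, [6])], [(16, []), (18, [2]), (21, []), (18, [3]), (18, [4]), (15, []), (22, []), (18, [6])], [(22, []), (19, [2]), (19, [1]), (19, [3]), (19, [4]), (19, [5]), (16, []), (23, [])], [(20, [1]), (24, []), (20, [3]), (17, []), (20, [0]), (25, []), (20, [5]), (20, [6])], [(21,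 [1]), (21, [2]), (18, []), (25, []), (21, [4]), (17, []), (26, []), (21, [6])], [(19, []), (22, [2]), (26, []), (22, [3]), (22, [4]), (22, [5]), (18, []), (27, [])], [(27, []), (23, [2]), (23, [1]), (23, [3]), (23, [4]), (23, [5]), (23, [6]), (19, [])], [(24, [1]), (20, []), (24, [3]), (24, [2]), (24, [0]), (28, []), (24, [5]), (24, [6])], [(25, [1]), (28, []), (25, [3]), (21, []), (29, []), (20, []), (30, []), (25, [6])], [(26, [1]), (26, [2]), (22, []), (30, []), (26, [4]), (26, [5]), (21, []), (31, [])], [(23, []), (27, [2]), (31, []), (27, [3]), (27, [4]), (27, [5]), (27, [6]), (22, [])], [(28, [1]), (25, []), (28, [3]), (28, [2]), (32, []), (24, []), (33, []), (28, [6])], [(29, [1]), (32, []), (29, [3]), (29, [4]), (25, []), (29, [0]), (34, []), (29, [6])], [(30, [1]), (33, []), (30, [3]), (26, []), (34, []), (30, [5]), (25, []), (35, [])], [(31, [1]), (31, [2]),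 (27, []), (35, []), (31, [4]), (31, [5]), (31, [6]), (26, [])], [(32, [1]), (29, []), (32, [3]), (36, []), (28, []), (32, [0]), (37, []), (32, [6])], [(33, [1]), (30, []), (33, [3]), (33, [2]), (37, []), (33, [5]), (28, []), (38, [])], [(34, [1]), (37, []), (34, [3]), (34, [4]), (30, []), (39, []), (29, []), (40, [])], [(35, [1]), (38, []), (35, [3]), (31, []), (40, []), (35, [5]), (35, [6]), (30, [])], [(36, [1]), (36, [4]), (41, []), (32, []), (36, [2]), (36, [0]), (42, []), (36, [6])], [(37, [1]), (34, []), (37, [3]), (42, []), (33, []), (43, []), (32, []), (44, [])], [(38, [1]), (35, []), (38, [3]), (38, [2]), (44, []), (38, [5]), (38, [6]), (33, [])], [(39, [1]), (43, []), (39, [3]), (39, [4]), (39, [5]), (34, []), (39, [0]), (45, [])], [(40, [1]), (44, []), (40, [3]), (40, [4]), (35, []), (45, []), (40, [6]), (34, [])], [(46, []), (41, [4]), (36, []), (41, [3]),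 (41, [2]), (41, [0]), (47, []), (41, [6])], [(42, [1]), (42, [4]), (47, []), (37, []), (42, [2]), (48, []), (36, []), (49, [])], [(43, [1]), (39, []), (43, [3]), (48, []), (43, [5]), (37, []), (43, [0]), (50, [])], [(44, [1]), (40, []), (44, [3]), (49, []), (38, []), (50, []), (44, [6]), (37, [])], [(45, [1]), (50, []), (45, [3]), (45, [4]), (45, [5]), (40, []), (51, []), (39, [])], [(41, []), (46, [4]), (46, [1]), (46, [3]), (46, [2]), (46, [0]), (52, []), (46, [6])], [(52, []), (47, [4]), (42, []), (47, [3]), (47, [2]), (53, []), (41, []), (54, [])], [(48, [1]), (48, [4]), (53, []), (43, []), (55, []), (42, []), (48, [0]), (56, [])], [(49, [1]), (49, [4]), (54, []), (44, []), (49, [2]), (56, []), (49, [6]), (42, [])], [(50, [1]), (45, []), (50, [3]), (56, []), (50, [5]), (44, []), (57, []), (43, [])], [(51, [1]), (57, []), (51, [3]), (51, [4]), (51, [5]), (51, [6]),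 (45, []), (51, [0])], [(47, []), (52, [4]), (52, [1]), (52, [3]), (52, [2]), (58, []), (46, []), (59, [])], [(58, []), (53, [4]), (48, []), (53, [3]), (60, []), (47, []), (53, [0]), (61, [])], [(59, []), (54, [4]), (49, []), (54, [3]), (54, [2]), (61, []), (54, [6]), (47, [])], [(55, [1]), (55, [4]), (60, []), (55, [5]), (48, []), (55, [2]), (55, [0]), (62, [])], [(56, [1]), (56, [4]), (61, []), (50, []), (62, []), (49, []), (63, []), (48, [])], [(57, [1]), (51, []), (57, [3]), (63, []), (57, [5]), (57, [6]), (50, []), (57, [0])], [(53, []), (58, [4]), (58, [1]), (58, [3]), (64, []), (52, []), (58, [0]), (65, [])], [(54, []), (59, [4]), (59, [1]), (59, [3]), (59, [2]), (65, []), (59, [6]), (52, [])], [(64, []), (60, [4]), (55, []), (66, []), (53, []), (60, [2]), (60, [0]), (67, [])], [(65, []), (61, [4]), (56, []), (61, [3]), (67, []), (54, []), (68, []), (53, [])], [(62,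 [1]), (62, [4]), (67, []), (62, [5]), (56, []), (62, [2]), (69, []), (55, [])], [(63, [1]), (63, [4]), (68, []), (57, []), (69, []), (63, [6]), (56, []), (63, [0])], [(60, []), (64, [4]), (64, [1]), (70, []), (58, []), (64, [2]), (64, [0]), (71, [])], [(61, []), (65, [4]), (65, [1]), (65, [3]), (71, []), (59, []), (72, []), (58, [])], [(70, []), (73, []), (66, [5]), (60, []), (66, [3]), (66, [2]), (66, [0]), (74, [])], [(71, []), (67, [4]), (62, []), (74, []), (61, []), (67, [2]), (75, []), (60, [])], [(72, []), (68, [4]), (63, []), (68, [3]), (75, []), (68, [6]), (61, []), (68, [0])], [(69, [1]), (69, [4]), (75, []), (69, [5]), (63, []), (76, []), (62, []), (69, [0])], [(66, []), (77, []), (78, []), (64, []), (70, [3]), (70, [2]), (70, [0]), (79, [])], [(67, []), (71, [4]), (71, [1]), (79, []), (65, []), (71, [2]), (80, []), (64, [])], [(68, []), (72, [4]), (72, [1]),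 (72, [3]), (80, []), (72, [6]), (65, []), (72, [0])], [(77, []), (66, []), (73, [5]), (73, [4]), (73, [3]), (73, [2]), (73, [0]), (81, [])], [(79, []), (81, []), (74, [5]), (67, []), (74, [3]), (74, [2]), (82, []), (66, [])], [(80, []), (75, [4]), (69, []), (82, []), (68, []), (83, []), (67, []), (75, [0])], [(76, [1]), (76, [4]), (83, []), (76, [5]), (76, [6]), (69, []), (76, [2]), (76, [0])], [(73, []), (70, []), (84, []), (77, [4]), (77, [3]), (77, [2]), (77, [0]), (85, [])], [(78, [5]), (84, []), (70, []), (78, [1]), (78, [3]), (78, [2]), (78, [0]), (86, [])], [(74, []), (85, []), (86, []), (71, []), (79, [3]), (79, [2]), (87, []), (70, [])], [(75, []), (80, [4]), (80, [1]), (87, []), (72, []), (88, []), (71, []), (80, [0])], [(85, []), (74, []), (81, [5]), (81, [4]), (81, [3]), (81, [2]), (89, []), (73, [])], [(87, []), (89, []), (82, [5]), (75, []), (82, [3]), (90,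 []), (74, []), (82, [0])], [(88, []), (83, [4]), (76, []), (90, []), (83, [6]), (75, []), (83, [2]), (83, [0])], [(84, [5]), (78, []), (77, []), (91, []), (84, [3]), (84, [2]), (84, [0]), (92, [])], [(81, []), (79, []), (92, []), (85, [4]), (85, [3]), (85, [2]), (93, []), (77, [])], [(86, [5]), (92, []), (79, []), (86, [1]), (86, [3]), (86, [2]), (94, []), (78, [])], [(82, []), (93, []), (94, []), (80, []), (87, [3]), (95, []), (79, []), (87, [0])], [(83, []), (88, [4]), (88, [1]), (95, []), (88, [6]), (80, []), (88, [2]), (88, [0])], [(93, []), (82, []), (89, [5]), (89, [4]), (89, [3]), (96, []), (81, []), (89, [0])], [(95, []), (96, []), (90, [5]), (83, []), (97, []), (82, []), (90, [2]), (90, [0])], [(91, [5]), (91, [1]), (91, [4]), (84, []), (98, []), (91, [2]), (91, [0]), (99, [])], [(92, [5]), (86, []), (85, []), (99, []), (92, [3]), (92, [2]), (100, []), (84, [])],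 [(89, []), (87, []), (100, []), (93, [4]), (93, [3]), (101, []), (85, []), (93, [0])], [(94, [5]), (100, []), (87, []), (94, [1]), (94, [3]), (102, []), (86, []), (94, [0])], [(90, []), (101, []), (102, []), (88, []), (103, []), (87, []), (95, [2]), (95, [0])], [(101, []), (90, []), (96, [5]), (96, [4]), (104, []), (89, []), (96, [2]), (96, [0])], [(103, []), (104, []), (97, [5]), (97, [6]), (90, []), (97, [3]), (97, [2]), (97, [0])], [(98, [5]), (98, [1]), (98, [4]), (98, [3]), (91, []), (105, []), (98, [0]), (106, [])], [(99, [5]), (99, [1]), (99, [4]), (92, []), (106, []), (99, [2]), (107, []), (91, [])], [(100, [5]), (94, []), (93, []), (107, []), (100, [3]), (108, []), (92, []), (100, [0])], [(96, []), (95, []), (108, []), (101, [4]), (109, []), (93, []), (101, [2]), (101, [0])], [(102, [5]), (108, []), (95, []), (102, [1]), (110, []), (94, []), (102, [2]), (102,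 [0])], [(97, []), (109, []), (110, []), (103, [6]), (95, []), (103, [3]), (103, [2]), (103, [0])], [(109, []), (97, []), (104, [5]), (111, []), (96, []), (104, [3]), (104, [2]), (104, [0])], [(105, [5]), (105, [1]), (105, [4]), (105, [3]), (105, [2]), (98, []), (112, []), (113, [])], [(106, [5]), (106, [1]), (106, [4]), (106, [3]), (99, []), (113, []), (114, []), (98, [])], [(107, [5]), (107, [1]), (107, [4]), (100, []), (114, []), (115, []), (99, []), (107, [0])], [(108, [5]), (102, []), (101, []), (115, []), (116, []), (100, []), (108, [2]), (108, [0])], [(104, []), (103, []), (116, []), (117, []), (101, []), (109, [3]), (109, [2]), (109, [0])], [(110, [5]), (116, []), (103, []), (118, []), (102, []), (110, [3]), (110, [2]), (110, [0])], [(117, []), (111, [6]), (119, []), (104, []), (111, [4]), (111, [3]), (111, [2]), (111, [0])], [(112, [5]), (112, [1]), (112, [4]),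 (112, [3]), (112, [2]), (112, [0]), (105, []), (120, [])], [(113, [5]), (113, [1]), (113, [4]), (113, [3]), (113, [2]), (106, []), (121, []), (105, [])], [(114, [5]), (114, [1]), (114, [4]), (114, [3]), (107, []), (122, []), (106, []), (114, [0])], [(115, [5]), (115, [1]), (115, [4]), (108, []), (123, []), (107, []), (115, [2]), (115, [0])], [(116, [5]), (110, []), (109, []), (124, []), (108, []), (116, [3]), (116, [2]), (116, [0])], [(111, []), (117, [6]), (125, []), (109, []), (117, [4]), (117, [3]), (117, [2]), (117, [0])], [(118, [5]), (126, []), (118, [6]), (110, []), (118, [1]), (118, [3]), (118, [2]), (118, [0])], [(127, []), (119, [6]), (111, []), (119, [5]), (119, [4]), (119, [3]), (119, [2]), (119, [0])], [(120, [5]), (120, [1]), (120, [4]), (120, [3]), (120, [2]), (120, [0]), (128, []), (112, [])], [(121, [5]), (121, [1]), (121, [4]), (121, [3]), (121, [2]),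 (129, []), (113, []), (128, [])], [(122, [5]), (122, [1]), (122, [4]), (122, [3]), (130, []), (114, []), (129, []), (122, [0])], [(123, [5]), (123, [1]), (123, [4]), (131, []), (115, []), (130, []), (123, [2]), (123, [0])], [(124, [5]), (132, []), (133, []), (116, []), (131, []), (124, [3]), (124, [2]), (124, [0])], [(134, []), (125, [6]), (117, []), (133, []), (125, [4]), (125, [3]), (125, [2]), (125, [0])], [(126, [5]), (118, []), (126, [6]), (132, []), (126, [1]), (126, [3]), (126, [2]), (126, [0])], [(119, []), (127, [6]), (134, []), (127, [5]), (127, [4]), (127, [3]), (127, [2]), (127, [0])], [(128, [5]), (128, [1]), (128, [4]), (128, [3]), (128, [2]), (135, []), (120, []), (121, [])], [(129, [5]), (129, [1]), (129, [4]), (129, [3]), (136, []), (121, []), (122, []), (135, [])], [(130, [5]), (130, [1]), (130, [4]), (137, []), (122, []), (123, []), (136, []), (130,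 [0])], [(131, [5]), (138, []), (139, []), (123, []), (124, []), (137, []), (131, [2]), (131, [0])], [(132, [5]), (124, []), (140, []), (126, []), (138, []), (132, [3]), (132, [2]), (132, [0])], [(141, []), (140, []), (124, []), (125, []), (139, []), (133, [3]), (133, [2]), (133, [0])], [(125, []), (134, [6]), (127, []), (141, []), (134, [4]), (134, [3]), (134, [2]), (134, [0])], [(135, [5]), (135, [1]), (135, [4]), (135, [3]), (142, []), (128, []), (135, [0]), (129, [])], [(136, [5]), (136, [1]), (136, [4]), (143, []), (129, []), (136, [2]), (130, []), (142, [])], [(137, [5]), (144, []), (145, []), (130, []), (137, [3]), (131, []), (143, []), (137, [0])], [(138, [5]), (131, []), (146, []), (138, [1]), (132, []), (144, []), (138, [2]), (138, [0])], [(147, []), (146, []), (131, []), (139, [4]), (133, []), (145, []), (139, [2]), (139, [0])], [(148, []), (133, []), (132,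 []), (140, [6]), (146, []), (140, [3]), (140, [2]), (140, [0])], [(133, []), (148, []), (141, [5]), (134, []), (147, []), (141, [3]), (141, [2]), (141, [0])], [(142, [5]), (142, [1]), (142, [4]), (149, []), (135, []), (142, [2]), (142, [0]), (136, [])], [(143, [5]), (150, []), (151, []), (136, []), (143, [3]), (143, [2]), (137, []), (149, [])], [(144, [5]), (137, []), (152, []), (144, [1]), (144, [3]), (138, []), (150, []), (144, [0])], [(153, []), (152, []), (137, []), (145, [4]), (145, [3]), (139, []), (151, []), (145, [0])], [(154, []), (139, []), (138, []), (155, []), (140, []), (152, []), (146, [2]), (146, [0])], [(139, []), (154, []), (147, [5]), (147, [4]), (141, []), (153, []), (147, [2]), (147, [0])], [(140, []), (141, []), (148, [5]), (148, [6]), (154, []), (148, [3]), (148, [2]), (148, [0])], [(149, [5]), (156, []), (157, []), (142, []), (149, [3]), (149, [2]),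 (149, [0]), (143, [])], [(150, [5]), (143, []), (158, []), (150, [1]), (150, [3]), (150, [2]), (144, []), (156, [])], [(159, []), (158, []), (143, []), (151, [4]), (151, [3]), (151, [2]), (145, []), (157, [])], [(160, []), (145, []), (144, []), (161, []), (152, [3]), (146, []), (158, []), (152, [0])], [(145, []), (160, []), (153, [5]), (153, [4]), (153, [3]), (147, []), (159, []), (153, [0])], [(146, []), (147, []), (154, [5]), (162, []), (148, []), (160, []), (154, [2]), (154, [0])], [(162, []), (155, [4]), (155, [1]), (146, []), (155, [6]), (161, []), (155, [2]), (155, [0])], [(156, [5]), (149, []), (163, []), (156, [1]), (156, [3]), (156, [2]), (156, [0]), (150, [])], [(164, []), (163, []), (149, []), (157, [4]), (157, [3]), (157, [2]), (157, [0]), (151, [])], [(165, []), (151, []), (150, []), (166, []), (158, [3]), (158, [2]), (152, []), (163, [])], [(151, []), (165,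 []), (159, [5]), (159, [4]), (159, [3]), (159, [2]), (153, []), (164, [])], [(152, []), (153, []), (160, [5]), (167, []), (160, [3]), (154, []), (165, []), (160, [0])], [(167, []), (161, [4]), (161, [1]), (152, []), (168, []), (155, []), (166, []), (161, [0])], [(155, []), (162, [4]), (169, []), (154, []), (162, [6]), (167, []), (162, [2]), (162, [0])], [(170, []), (157, []), (156, []), (171, []), (163, [3]), (163, [2]), (163, [0]), (158, [])], [(157, []), (170, []), (164, [5]), (164, [4]), (164, [3]), (164, [2]), (164, [0]), (159, [])], [(158, []), (159, []), (165, [5]), (172, []), (165, [3]), (165, [2]), (160, []), (170, [])], [(172, []), (166, [4]), (166, [1]), (158, []), (173, []), (166, [2]), (161, []), (171, [])], [(161, []), (167, [4]), (174, []), (160, []), (175, []), (162, []), (172, []), (167, [0])], [(175, []), (168, [4]), (168, [1]), (168, [3]), (161, []),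 (168, [6]), (173, []), (168, [0])], [(169, [1]), (169, [4]), (162, []), (169, [5]), (169, [6]), (174, []), (169, [2]), (169, [0])], [(163, []), (164, []), (170, [5]), (176, []), (170, [3]), (170, [2]), (170, [0]), (165, [])], [(176, []), (171, [4]), (171, [1]), (163, []), (177, []), (171, [2]), (171, [0]), (166, [])], [(166, []), (172, [4]), (178, []), (165, []), (179, []), (172, [2]), (167, []), (176, [])], [(179, []), (173, [4]), (173, [1]), (173, [3]), (166, []), (180, []), (168, []), (177, [])], [(174, [1]), (174, [4]), (167, []), (174, [5]), (181, []), (169, []), (178, []), (174, [0])], [(168, []), (175, [4]), (181, []), (175, [3]), (167, []), (175, [6]), (179, []), (175, [0])], [(171, []), (176, [4]), (182, []), (170, []), (183, []), (176, [2]), (176, [0]), (172, [])], [(183, []), (177, [4]), (177, [1]), (177, [3]), (171, []), (184, []), (177, [0]), (173, [])],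 [(178, [1]), (178, [4]), (172, []), (178, [5]), (185, []), (178, [2]), (174, []), (182, [])], [(173, []), (179, [4]), (185, []), (179, [3]), (172, []), (186, []), (175, []), (183, [])], [(186, []), (180, [4]), (180, [1]), (180, [3]), (180, [2]), (173, []), (180, [6]), (184, [])], [(181, [1]), (181, [4]), (175, []), (187, []), (174, []), (181, [6]), (185, []), (181, [0])], [(182, [1]), (182, [4]), (176, []), (182, [5]), (188, []), (182, [2]), (182, [0]), (178, [])], [(177, []), (183, [4]), (188, []), (183, [3]), (176, []), (189, []), (183, [0]), (179, [])], [(189, []), (184, [4]), (184, [1]), (184, [3]), (184, [2]), (177, []), (190, []), (180, [])], [(185, [1]), (185, [4]), (179, []), (191, []), (178, []), (192, []), (181, []), (188, [])], [(180, []), (186, [4]), (192, []), (186, [3]), (186, [2]), (179, []), (186, [6]), (189, [])], [(187, [1]), (193, []), (187, [3]), (181,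 []), (187, [5]), (187, [6]), (191, []), (187, [0])], [(188, [1]), (188, [4]), (183, []), (194, []), (182, []), (195, []), (188, [0]), (185, [])], [(184, []), (189, [4]), (195, []), (189, [3]), (189, [2]), (183, []), (196, []), (186, [])], [(196, []), (190, [4]), (190, [1]), (190, [3]), (190, [2]), (190, [0]), (184, []), (190, [6])], [(191, [1]), (197, []), (191, [3]), (185, []), (191, [5]), (198, []), (187, []), (194, [])], [(192, [1]), (192, [4]), (186, []), (198, []), (192, [2]), (185, []), (192, [6]), (195, [])], [(193, [1]), (187, []), (193, [3]), (193, [4]), (193, [5]), (193, [6]), (197, []), (193, [0])], [(194, [1]), (199, []), (194, [3]), (188, []), (194, [5]), (200, []), (194, [0]), (191, [])], [(195, [1]), (195, [4]), (189, []), (200, []), (195, [2]), (188, []), (201, []), (192, [])], [(190, []), (196, [4]), (201, []), (196, [3]), (196, [2]), (196, [0]), (189,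 []), (196, [6])], [(197, [1]), (191, []), (197, [3]), (197, [4]), (197, [5]), (202, []), (193, []), (199, [])], [(198, [1]), (202, []), (198, [3]), (192, []), (203, []), (191, []), (198, [6]), (200, [])], [(199, [1]), (194, []), (199, [3]), (199, [4]), (199, [5]), (204, []), (199, [0]), (197, [])], [(200, [1]), (204, []), (200, [3]), (195, []), (205, []), (194, []), (206, []), (198, [])], [(201, [1]), (201, [4]), (196, []), (206, []), (201, [2]), (201, [0]), (195, []), (201, [6])], [(202, [1]), (198, []), (202, [3]), (202, [4]), (207, []), (197, []), (202, [6]), (204, [])], [(203, [1]), (207, []), (203, [3]), (203, [2]), (198, []), (203, [5]), (203, [6]), (205, [])], [(204, [1]), (200, []), (204, [3]), (204, [4]), (208, []), (199, []), (209, []), (202, [])], [(205, [1]), (208, []), (205, [3]), (205, [2]), (200, []), (205, [5]), (210, []), (203, [])], [(206, [1]), (209,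 []), (206, [3]), (201, []), (210, []), (206, [0]), (200, []), (206, [6])], [(207, [1]), (203, []), (207, [3]), (211, []), (202, []), (207, [5]), (207, [6]), (208, [])], [(208, [1]), (205, []), (208, [3]), (212, []), (204, []), (208, [5]), (213, []), (207, [])], [(209, [1]), (206, []), (209, [3]), (209, [4]), (213, []), (209, [0]), (204, []), (209, [6])], [(210, [1]), (213, []), (210, [3]), (210, [2]), (206, []), (214, []), (205, []), (210, [6])], [(211, [1]), (211, [2]), (215, []), (207, []), (211, [4]), (211, [5]), (211, [6]), (212, [])], [(212, [1]), (212, [2]), (216, []), (208, []), (212, [4]), (212, [5]), (217, []), (211, [])], [(213, [1]), (210, []), (213, [3]), (217, []), (209, []), (218, []), (208, []), (213, [6])], [(214, [1]), (218, []), (214, [3]), (214, [2]), (214, [0]), (210, []), (214, [5]), (214, [6])], [(219, []), (215, [2]), (211, []), (215, [3]), (215,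 [4]), (215, [5]), (215, [6]), (216, [])], [(220, []), (216, [2]), (212, []), (216, [3]), (216, [4]), (216, [5]), (221, []), (215, [])], [(217, [1]), (217, [2]), (221, []), (213, []), (217, [4]), (222, []), (212, []), (217, [6])], [(218, [1]), (214, []), (218, [3]), (222, []), (218, [0]), (213, []), (218, [5]), (218, [6])], [(215, []), (219, [2]), (219, [1]), (219, [3]), (219, [4]), (219, [5]), (219, [6]), (220, [])], [(216, []), (220, [2]), (220, [1]), (220, [3]), (220, [4]), (220, [5]), (223, []), (219, [])], [(223, []), (221, [2]), (217, []), (221, [3]), (221, [4]), (224, []), (216, []), (221, [6])], [(222, [1]), (222, [2]), (224, []), (218, []), (225, []), (217, []), (222, [5]), (222, [6])], [(221, []), (223, [2]), (223, [1]), (223, [3]), (223, [4]), (226, []), (220, []), (223, [6])], [(226, []), (224, [2]), (222, []), (224, [3]), (227, []), (221, []), (224, [5]),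 (224, [6])], [(225, [1]), (225, [2]), (227, []), (225, [0]), (222, []), (225, [4]), (225, [5]), (225, [6])], [(224, []), (226, [2]), (226, [1]), (226, [3]), (228, []), (223, []), (226, [5]), (226, [6])], [(228, []), (227, [2]), (225, []), (229, []), (224, []), (227, [4]), (227, [5]), (227, [6])], [(227, []), (228, [2]), (228, [1]), (230, []), (226, []), (228, [4]), (228, [5]), (228, [6])], [(230, []), (231, []), (229, [0]), (227, []), (229, [3]), (229, [4]), (229, [5]), (229, [6])], [(229, []), (232, []), (233, []), (228, []), (230, [3]), (230, [4]), (230, [5]), (230, [6])], [(232, []), (229, []), (231, [0]), (231, [2]), (231, [3]), (231, [4]), (231, [5]), (231, [6])], [(231, []), (230, []), (234, []), (232, [2]), (232, [3]), (232, [4]), (232, [5]), (232, [6])], [(233, [0]), (234, []), (230, []), (233, [1]), (233, [3]), (233, [4]), (233, [5]), (233, [6])], [(234, [0]),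 (233, []), (232, []), (235, []), (234, [3]), (234, [4]), (234, [5]), (234, [6])], [(235, [0]), (235, [1]), (235, [2]), (234, []), (236, []), (235, [4]), (235, [5]), (235, [6])], [(236, [0]), (236, [1]), (236, [2]), (236, [3]), (235, []), (237, []), (236, [5]), (236, [6])], [(237, [0]), (237, [1]), (237, [2]), (237, [3]), (237, [4]), (236, []), (238, []), (237, [6])], [(238, [0]), (238, [1]), (238, [2]), (238, [3]), (238, [4]), (238, [5]), (237, []), (239, [])], [(239, [0]), (239, [1]), (239, [2]), (239, [3]), (239, [4]), (239, [5]), (239, [6]), (238, [])]]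
  phi := 108710543288143327890031746055826130797703764420891720848316308660224

/-- All levels of type E8. -/
def levelsE8 : List Level := [levelE81, levelE82, levelE83, levelE84, levelE85, levelE86, levelE87, levelE88]

end Cfsg.Agent.Chev.WeylTab
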