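/-
The finitely checkable facts about the tabulated data used for the (B,N)-pair.
-/
import Cfsg.Agent.Lib.Chev.Triangular
import Cfsg.Agent.Lib.Chev.WeylTab

set_option autoImplicit false

namespace Cfsg.Agent.Chev.BNSetup

open Cfsg.Lie

/-- A prime dividing all coroot coefficients of `r` does not exist: their gcd is one. -/
def corootGcd (D : ChevalleyDatum) (r : ℕ) : ℕ :=
  (D.coroot.getD r #[]).toList.foldr (fun c g => Nat.gcd c.natAbs g) 0

/-- Facts about a single root. -/
def RootFact (D : ChevalleyDatum) (r : ℕ) : Prop :=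
  D.neg r = D.nroots - 1 - r ∧ (D.IsPosRoot r ↔ D.nroots / 2 ≤ r) ∧
    (D.IsNegRoot r ↔ r < D.nroots / 2) ∧ corootGcd D r = 1 ∧ (D.coroot.getD r #[]).size = D.rank

instance decidableRootFact (D : ChevalleyDatum) (r : ℕ) : Decidable (RootFact D r) :=
  inferInstanceAs (Decidable (_ ∧ _))

/-- Facts about a simple root and a root. -/
def ReflFact (D : ChevalleyDatum) (tabs : List ℕ) (i r : ℕ) : Prop :=
  D.reflectRoot i r = Cfsg.Agent.RootBN.look (tabs.getD i 0) r ∧
    (D.nroots / 2 ≤ r → r ≠ D.simple i → D.nroots / 2 ≤ D.reflectRoot i r)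

instance decidableReflFact (D : ChevalleyDatum) (tabs : List ℕ) (i r : ℕ) : Decidable (ReflFact D tabs i r) :=
  inferInstanceAs (Decidable (_ ∧ _))

/-- Facts about a simple root. -/
def SimpFact (D : ChevalleyDatum) (tabs simps : List ℕ) (i : ℕ) : Prop :=
  D.simple i = simps.getD i 0 ∧ D.nroots / 2 ≤ D.simple i ∧
    (∀ j < D.rank, D.simple i = D.simple j → i = j) ∧
    (∀ r < D.nroots, ReflFact D tabs i r) ∧
    D.reflectRoot i (D.simple i) = D.neg (D.simple i)

instance decidableSimpFact (D : ChevalleyDatum) (tabs simps : List ℕ) (i : ℕ) :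
    Decidable (SimpFact D tabs simps i) :=
  inferInstanceAs (Decidable (_ ∧ _))

/-- The chains of positive roots increase. -/
def ChainFact (D : ChevalleyDatum) : Prop :=
  ∀ r < D.nroots, D.nroots / 2 ≤ r → ∀ e ∈ (D.chain.getD r #[]).toList,
    D.nroots / 2 ≤ e.1 → ∀ q ∈ e.2.toList, r < q.1

instance decidableChainFact (D : ChevalleyDatum) : Decidable (ChainFact D) :=
  inferInstanceAs (Decidable (∀ _, _ → _))

/-- The facts. -/
def Facts (D : ChevalleyDatum) (tabs simps : List ℕ) : Prop :=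
  D.nroots % 2 = 0 ∧ TriChecked D ∧ (∀ r < D.nroots, RootFact D r) ∧ simps.length = D.rank ∧
    (∀ i < D.rank, SimpFact D tabs simps i) ∧ ChainFact D

instance decidableFacts (D : ChevalleyDatum) (tabs simps : List ℕ) : Decidable (Facts D tabs simps) :=
  inferInstanceAs (Decidable (_ ∧ _))

theorem facts_chevG2 : Facts chevG2 WeylTab.tabsG2 WeylTab.simpsG2 := by decide +kernel
theorem facts_chevB2 : Facts chevB2 WeylTab.tabsB2 WeylTab.simpsB2 := by decide +kernel
theorem facts_chevD4 : Facts chevD4 WeylTab.tabsD4 WeylTab.simpsD4 := by decide +kernel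
theorem facts_chevF4 : Facts chevF4 WeylTab.tabsF4 WeylTab.simpsF4 := by decide +kernel
theorem facts_chevE6 : Facts chevE6 WeylTab.tabsE6 WeylTab.simpsE6 := by decide +kernel
theorem rootFacts_chevE7 : ∀ r < chevE7.nroots, RootFact chevE7 r := by decide +kernel
theorem chainFact_chevE7 : ChainFact chevE7 := by decide +kernel
theorem simpFact_chevE7_0 : SimpFact chevE7 WeylTab.tabsE7 WeylTab.simpsE7 0 := by decide +kernel
theorem simpFact_chevE7_1 : SimpFact chevE7 WeylTab.tabsE7 WeylTab.simpsE7 1 := by decide +kernel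
theorem simpFact_chevE7_2 : SimpFact chevE7 WeylTab.tabsE7 WeylTab.simpsE7 2 := by decide +kernel
theorem simpFact_chevE7_3 : SimpFact chevE7 WeylTab.tabsE7 WeylTab.simpsE7 3 := by decide +kernel
theorem simpFact_chevE7_4 : SimpFact chevE7 WeylTab.tabsE7 WeylTab.simpsE7 4 := by decide +kernel
theorem simpFact_chevE7_5 : SimpFact chevE7 WeylTab.tabsE7 WeylTab.simpsE7 5 := by decide +kernel
theorem simpFact_chevE7_6 : SimpFact chevE7 WeylTab.tabsE7 WeylTab.simpsE7 6 := by decide +kernel
theorem facts_chevE7 : Facts chevE7 WeylTab.tabsE7 WeylTab.simpsE7 :=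
  ⟨by decide, triChecked_chevE7, rootFacts_chevE7, by decide, fun i hi => by
    change i < 7 at hi
    interval_cases i
    exacts [simpFact_chevE7_0, simpFact_chevE7_1, simpFact_chevE7_2, simpFact_chevE7_3, simpFact_chevE7_4, simpFact_chevE7_5, simpFact_chevE7_6], chainFact_chevE7⟩

theorem rootFacts_chevE8 : ∀ r < chevE8.nroots, RootFact chevE8 r := by decide +kernel
theorem chainFact_chevE8 : ChainFact chevE8 := by decide +kernel
theorem simpFact_chevE8_0 : SimpFact chevE8 WeylTab.tabsE8 WeylTab.simpsE8 0 := by decide +kernel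
theorem simpFact_chevE8_1 : SimpFact chevE8 WeylTab.tabsE8 WeylTab.simpsE8 1 := by decide +kernel
theorem simpFact_chevE8_2 : SimpFact chevE8 WeylTab.tabsE8 WeylTab.simpsE8 2 := by decide +kernel
theorem simpFact_chevE8_3 : SimpFact chevE8 WeylTab.tabsE8 WeylTab.simpsE8 3 := by decide +kernel
theorem simpFact_chevE8_4 : SimpFact chevE8 WeylTab.tabsE8 WeylTab.simpsE8 4 := by decide +kernel
theorem simpFact_chevE8_5 : SimpFact chevE8 WeylTab.tabsE8 WeylTab.simpsE8 5 := by decide +kernel
theorem simpFact_chevE8_6 : SimpFact chevE8 WeylTab.tabsE8 WeylTab.simpsE8 6 := by decide +kernel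
theorem simpFact_chevE8_7 : SimpFact chevE8 WeylTab.tabsE8 WeylTab.simpsE8 7 := by decide +kernel
theorem facts_chevE8 : Facts chevE8 WeylTab.tabsE8 WeylTab.simpsE8 :=
  ⟨by decide, triChecked_chevE8, rootFacts_chevE8, by decide, fun i hi => by
    change i < 8 at hi
    interval_cases i
    exacts [simpFact_chevE8_0, simpFact_chevE8_1, simpFact_chevE8_2, simpFact_chevE8_3, simpFact_chevE8_4, simpFact_chevE8_5, simpFact_chevE8_6, simpFact_chevE8_7], chainFact_chevE8⟩

theorem exists_facts {D : ChevalleyDatum}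
    (hD : D ∈ [chevG2, chevB2, chevD4, chevF4, chevE6, chevE7, chevE8]) :
    ∃ tabs simps, Facts D tabs simps := by
  simp only [List.mem_cons, List.not_mem_nil, or_false] at hD
  rcases hD with rfl | rfl | rfl | rfl | rfl | rfl | rfl
  exacts [⟨_, _, facts_chevG2⟩, ⟨_, _, facts_chevB2⟩, ⟨_, _, facts_chevD4⟩, ⟨_, _, facts_chevF4⟩,
    ⟨_, _, facts_chevE6⟩, ⟨_, _, facts_chevE7⟩, ⟨_, _, facts_chevE8⟩]

end Cfsg.Agent.Chev.BNSetup
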