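/-
Lookup tables and Boolean loops cheap for the kernel (recursors and packed natural numbers), used to
certify the tables of Def_Chevalley data.
-/
import Mathlib

set_option autoImplicit false

namespace Cfsg.Agent.Chev

/-- A non-empty table indexed by `0 ..< size`; a node stores the size of its left part. -/
inductive Tab (α : Type) where
  | leaf (a : α)
  | node (k : ℕ) (l r : Tab α)

namespace Tab
variable {α : Type}

/-- Lookup (by the recursor, which the kernel evaluates fast). -/
noncomputable def get (t : Tab α) : ℕ → α :=
  Tab.rec (motive := fun _ => ℕ → α) (fun a _ => a)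
    (fun k _ _ gl gr i => cond (Nat.blt i k) (gl i) (gr (i - k))) t

end Tab

/-- `p` holds below `n`. -/
noncomputable def allLt (n : ℕ) (p : ℕ → Bool) : Bool := Nat.rec true (fun k ih => cond (p k) ih false) n

theorem allLt_succ (n : ℕ) (p : ℕ → Bool) : allLt (n + 1) p = (p n && allLt n p) := by
  show cond (p n) (allLt n p) false = _
  cases p n <;> rfl

theorem allLt_iff {n : ℕ} {p : ℕ → Bool} : allLt n p = true ↔ ∀ i < n, p i = true := by
  induction n with
  | zero => simp [allLt]
  | succ n ih =>
    simp only [allLt_succ, Bool.and_eq_true, ih]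
    constructor
    · rintro ⟨h, h'⟩ i hi
      rcases Nat.lt_succ_iff_lt_or_eq.1 hi with hi | rfl
      · exact h' i hi
      · exact h
    · exact fun h => ⟨h n (by omega), fun i hi => h i (by omega)⟩

/-- `p` holds on the list. -/
noncomputable def allL {α : Type} (p : α → Bool) (l : List α) : Bool :=
  List.rec true (fun a _ ih => cond (p a) ih false) l

theorem allL_iff {α : Type} {p : α → Bool} {l : List α} : allL p l = true ↔ ∀ a ∈ l, p a = true := by
  induction l with
  | nil => simp [allL]
  | cons a l ih =>
    have : allL p (a :: l) = (p a && allL p l) := by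
      show cond (p a) (allL p l) false = _
      cases p a <;> rfl
    simp [this, ih]

/-- Equality of lists along a test of equality. -/
noncomputable def beqL {α : Type} (f : α → α → Bool) (l : List α) : List α → Bool :=
  List.rec (motive := fun _ => List α → Bool) (fun m => m.isEmpty)
    (fun x _ ih m => match m with
      | [] => false
      | y :: m' => cond (f x y) (ih m') false) l

theorem eq_of_beqL {α : Type} {f : α → α → Bool} (hf : ∀ x y, f x y = true → x = y) :
    ∀ {l m : List α}, beqL f l m = true → l = m := by
  intro l
  induction l with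
  | nil => intro m h; cases m with
    | nil => rfl
    | cons _ _ => simp [beqL] at h
  | cons x l ih => intro m h; cases m with
    | nil => simp [beqL] at h
    | cons y m =>
      have h' : cond (f x y) (beqL f l m) false = true := h
      cases hxy : f x y with
      | false => simp [hxy] at h'
      | true => simp [hxy] at h'; rw [hf x y hxy, ih h']

/-- Equality of integers, fast for the kernel. -/
def intBeq : ℤ → ℤ → Bool
  | .ofNat a, .ofNat b => Nat.beq a b
  | .negSucc a, .negSucc b => Nat.beq a b
  | _, _ => false

theorem intBeq_iff {a b : ℤ} : intBeq a b = true ↔ a = b := by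
  cases a <;> cases b <;> simp [intBeq]

/-- The `i`-th byte of a packed table. -/
def byteAt (x i : ℕ) : ℕ := (Nat.shiftRight x (8 * i)) % 256

/-- The `i`-th bit of a packed table. -/
def bitAt (x i : ℕ) : ℕ := (Nat.shiftRight x i) % 2

theorem bitAt_eq_one_iff {x i : ℕ} : Nat.beq (bitAt x i) 1 = true ↔ x.testBit i = true := by
  rw [Nat.beq_eq, bitAt, Nat.testBit]
  change (x >>> i) % 2 = 1 ↔ (1 &&& x >>> i != 0) = true
  rw [Nat.one_and_eq_mod_two]
  constructor <;> intro h <;> simp at * <;> omega

theorem shiftRight_mod_eq_zero {y a b d : ℕ} (h : y % 2 ^ d = 0) (hab : a + b ≤ d) :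
    (y >>> a) % 2 ^ b = 0 := by
  apply Nat.eq_of_testBit_eq
  intro i
  rw [Nat.testBit_mod_two_pow, Nat.testBit_shiftRight, Nat.zero_testBit]
  by_cases hi : i < b
  · have := congrArg (fun z => z.testBit (a + i)) h
    simpa [Nat.testBit_mod_two_pow, hi, (show a + i < d by omega)] using this
  · simp [hi]

end Cfsg.Agent.Chev
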