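/-
Certificates for the tables of a Chevalley datum: packed copies of the tables, the action of the fundamental
reflections with the signs of the n_p, spanning trees of the reflection orbits, and the Boolean checks on them.
`Good D` says that some certificate passes the checks.
The packing keeps the kernel fast: bytes for roots and for small integers (plus 8), bits for signs, and in a row
of the chain table a slot of 36 bits per root holding up to three fields (root + 1) * 8 + (coefficient + 4).
-/
import Cfsg.Prelude.Def_ChevStructure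
import Cfsg.Agent.Lib.Chev.Tab

set_option autoImplicit false

namespace Cfsg.Agent.Chev

open Cfsg.Lie

/-- A list of (root, coefficient): an entry of the chain table. -/
abbrev Terms := List (ℕ × ℤ)

/-- An orbit representative for the roots, with the orbits of its stabiliser: start roots and a tree. -/
structure Rep where
  root : ℕ
  bases : List ℕ
  tree : List (ℕ × ℕ)

/-- The certificate, with packed tables. A tree is a list of steps (node i, parent s), each reaching w_i(s). -/
structure Cert where
  rank : ℕ
  nroots : ℕ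
  simpleP : ℕ
  negP : ℕ
  corootP : ℕ
  cartanP : ℕ
  reflP : ℕ
  etaP : ℕ
  chainT : Tab (ℕ × List ℕ)
  stree : List (ℕ × ℕ)
  reps : List Rep
  rtree : List (ℕ × ℕ)

/-- One field of a packed chain entry. -/
def decOne (y : ℕ) : ℕ × ℤ := (y / 8 - 1, Int.subNatNat (y % 8) 4)

/-- The `k`-th field of a packed chain entry. -/
def fieldAt (x k : ℕ) : ℕ := Nat.shiftRight x (11 * k) % 2048

/-- A packed chain entry (at most three fields). -/
def decTerms (x : ℕ) : Terms :=
  cond (Nat.beq (fieldAt x 0) 0) [] (decOne (fieldAt x 0) ::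
    cond (Nat.beq (fieldAt x 1) 0) [] (decOne (fieldAt x 1) ::
      cond (Nat.beq (fieldAt x 2) 0) [] [decOne (fieldAt x 2)]))

/-- Equality of pairs (root, coefficient). -/
def termBeq (a b : ℕ × ℤ) : Bool := Nat.beq a.1 b.1 && intBeq a.2 b.2

/-- Equality of rows of the chain table. -/
noncomputable def rowBeq (a b : ℕ × Terms) : Bool := Nat.beq a.1 b.1 && beqL termBeq a.2 b.2

namespace Cert

variable (c : Cert)

/-- index of the fundamental root -/
def p (i : ℕ) : ℕ := byteAt c.simpleP i
/-- index of the negative -/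
def ng (r : ℕ) : ℕ := byteAt c.negP r
/-- Cartan integer -/
def A (i s : ℕ) : ℤ := Int.subNatNat (byteAt c.cartanP (i * c.nroots + s)) 8
/-- coefficient of the coroot -/
def crt (r j : ℕ) : ℤ := cond (Nat.blt j c.rank) (Int.subNatNat (byteAt c.corootP (r * c.rank + j)) 8) 0
/-- reflected root -/
def w (i s : ℕ) : ℕ := byteAt c.reflP (i * c.nroots + s)
/-- the sign of n_p on e_s -/
def η (i s : ℕ) : ℤ := cond (Nat.beq (bitAt c.etaP (i * c.nroots + s)) 0) 1 (-1)
/-- packed chain entry -/
noncomputable def slot (r s : ℕ) : ℕ := Nat.shiftRight (c.chainT.get r).1 (36 * s) % 68719476736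
/-- chain entry -/
noncomputable def ent (r s : ℕ) : Terms := decTerms (c.slot r s)
/-- the keys of a row of the chain table -/
noncomputable def keys (r : ℕ) : List ℕ := (c.chainT.get r).2
/-- the row of the chain table -/
noncomputable def row (r : ℕ) : List (ℕ × Terms) := (c.keys r).map fun s => (s, c.ent r s)

/-- chainRoot read off the fast table -/
noncomputable def cRoot (r s i : ℕ) : Option ℕ := ((c.ent r s)[i - 1]?).map Prod.fst
/-- chainM read off the fast table -/
noncomputable def cM (r s i : ℕ) : ℤ := (((c.ent r s)[i - 1]?).map Prod.snd).getD 0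

/-- commTerms read off the fast table -/
noncomputable def comm (r s : ℕ) : List (ℕ × ℤ × ℕ × ℕ) :=
  let rs := c.cRoot r s 1
  let cands : List (Option ℕ × ℤ × ℕ × ℕ) :=
    [ (c.cRoot r s 1, c.cM r s 1, 1, 1),
      (c.cRoot r s 2, c.cM r s 2, 2, 1),
      (c.cRoot s r 2, c.cM s r 2, 1, 2),
      (c.cRoot r s 3, c.cM r s 3, 3, 1),
      (c.cRoot s r 3, - c.cM s r 3, 1, 3),
      ((c.cRoot r s 3).bind fun k => c.cRoot k s 1, (rs.map fun k => c.cM k r 2 / 3).getD 0, 3, 2),
      ((c.cRoot s r 3).bind fun k => c.cRoot k r 1, (rs.map fun k => -2 * c.cM k s 2 / 3).getD 0, 2, 3) ]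
  cands.filterMap fun x => x.1.map fun k => (k, x.2)

/-- 2(r, s)/(r, r) -/
noncomputable def pair (r s : ℕ) : ℤ := ((List.range c.rank).map fun j => c.crt r j * c.A j s).sum

/-- The image of a chain entry under a monomial map. -/
def mapTerms (i : ℕ) (es er : ℤ) : ℤ → Terms → Terms
  | _, [] => []
  | acc, (u, M) :: l => (c.w i u, M * c.η i u * es * (acc * er)) :: mapTerms i es er (acc * er) l

/-- One field under a monomial map; `b` is the parity of the signs other than the root's own. -/
def mapField (i b y : ℕ) : ℕ :=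
  (c.w i (y / 8 - 1) + 1) * 8 +
    cond (Nat.beq ((bitAt c.etaP (i * c.nroots + (y / 8 - 1)) + b) % 2) 0) (y % 8) (8 - y % 8)

/-- A packed chain entry under a monomial map. -/
def mapSlot (i bs br x : ℕ) : ℕ :=
  cond (Nat.beq (fieldAt x 0) 0) 0 (c.mapField i (bs + br) (fieldAt x 0) +
    cond (Nat.beq (fieldAt x 1) 0) 0 (2048 * (c.mapField i (bs + 2 * br) (fieldAt x 1) +
      cond (Nat.beq (fieldAt x 2) 0) 0 (2048 * c.mapField i (bs + 3 * br) (fieldAt x 2)))))

/-- The image of the terms of a commutator formula under a monomial map. -/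
def mapComm (i r s : ℕ) (l : List (ℕ × ℤ × ℕ × ℕ)) : List (ℕ × ℤ × ℕ × ℕ) :=
  l.map fun x => (c.w i x.1, x.2.1 * c.η i x.1 * c.η i r ^ x.2.2.1 * c.η i s ^ x.2.2.2, x.2.2.1, x.2.2.2)

/-- Outside its keys a row is empty: the bits between consecutive keys, and after the last, vanish. -/
noncomputable def gapsOK (l : List ℕ) (n : ℕ) : ℕ → ℕ → Bool :=
  List.rec (motive := fun _ => ℕ → ℕ → Bool) (fun pos y => Nat.ble pos n && Nat.beq y 0)
    (fun k _ ih pos y => cond (Nat.ble pos k)
      (cond (Nat.beq (y % 2 ^ (36 * (k - pos))) 0) (ih (k + 1) (Nat.shiftRight y (36 * (k + 1 - pos)))) false)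
      false) l

/-- The fast tables are the tables of the datum. -/
noncomputable def chkTie (D : ChevalleyDatum) : Bool :=
  c.rank == D.rank && c.nroots == D.nroots && Nat.blt c.nroots 255 &&
  (List.range c.rank).map c.p == D.simpleIdx.toList &&
  beqL Nat.beq ((List.range c.nroots).map c.ng) D.negIdx.toList &&
  beqL (beqL intBeq) ((List.range c.nroots).map fun r => (List.range c.rank).map (c.crt r))
    (D.coroot.toList.map Array.toList) &&
  beqL (beqL intBeq) ((List.range c.rank).map fun i => (List.range c.nroots).map (c.A i))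
    (D.cartanSR.toList.map Array.toList) &&
  beqL (beqL rowBeq) ((List.range c.nroots).map c.row)
    (D.chain.toList.map fun a => a.toList.map fun e => (e.1, e.2.toList)) &&
  allLt c.nroots (fun r => gapsOK (c.keys r) c.nroots 0 (c.chainT.get r).1)

/-- A field is absent or holds a root and a coefficient of absolute value at most 3. -/
def fieldOK (n y : ℕ) : Bool :=
  Nat.beq y 0 || (Nat.ble 8 y && Nat.blt (y / 8 - 1) n && Nat.ble 1 (y % 8))

/-- Ranges, negatives, fundamental roots. -/
noncomputable def chkBase : Bool :=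
  allLt c.nroots (fun r =>
    Nat.blt (c.ng r) c.nroots && Nat.beq (c.ng (c.ng r)) r && !(Nat.beq (c.ng r) r) &&
    allLt c.rank (fun j => intBeq (c.A j (c.ng r)) (- c.A j r) && intBeq (c.crt (c.ng r) j) (- c.crt r j)) &&
    Nat.beq (c.slot r r) 0 && Nat.beq (c.slot r (c.ng r)) 0 &&
    allL (fun s => !(Nat.beq (fieldAt (c.slot r s) 0) 0) && fieldOK c.nroots (fieldAt (c.slot r s) 0) &&
      fieldOK c.nroots (fieldAt (c.slot r s) 1) && fieldOK c.nroots (fieldAt (c.slot r s) 2)) (c.keys r)) &&
  allLt c.rank (fun i => Nat.blt (c.p i) c.nroots && intBeq (c.A i (c.p i)) 2 &&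
    allLt c.rank (fun j => intBeq (c.crt (c.p i) j) (if j = i then 1 else 0)))

/-- The successive roots of a chain are sums. -/
noncomputable def succOK (r : ℕ) : ℕ → Terms → Bool
  | _, [] => true
  | prev, (u, _) :: l => (c.cRoot r prev 1 == some u) && succOK r u l

/-- The Cartan integers are additive along a chain. -/
noncomputable def weightOK (r s : ℕ) : ℕ → Terms → Bool
  | _, [] => true
  | k, (u, _) :: l => allLt c.rank (fun j => c.A j u == c.A j s + (k + 1 : ℕ) * c.A j r) && weightOK r s (k + 1) l

/-- The chains are compatible with addition of roots, at the representatives. -/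
noncomputable def chkWeight : Bool :=
  c.reps.all fun ρ => ρ.bases.all fun s =>
    c.succOK ρ.root s (c.ent ρ.root s) && c.weightOK ρ.root s 0 (c.ent ρ.root s)

/-- reflectRoot read off the fast tables -/
noncomputable def reflC (i s : ℕ) : ℕ :=
  if s = c.p i then c.ng (c.p i)
  else if s = c.ng (c.p i) then c.p i
  else if 0 < c.A i s then (c.cRoot (c.ng (c.p i)) s (c.A i s).toNat).getD s
  else if c.A i s < 0 then (c.cRoot (c.p i) s (-c.A i s).toNat).getD s
  else s

/-- The tables of the reflection in the node i and of its signs. -/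
noncomputable def chkRefl (i : ℕ) : Bool :=
  allLt c.nroots (fun s =>
    Nat.beq (c.reflC i s) (c.w i s) && Nat.blt (c.w i s) c.nroots && Nat.beq (c.w i (c.w i s)) s &&
    Nat.beq (c.w i (c.ng s)) (c.ng (c.w i s)) && intBeq (c.η i (c.ng s)) (c.η i s) &&
    intBeq (c.η i s * c.η i (c.w i s)) (if (c.A i s).natAbs % 2 = 0 then 1 else -1) &&
    allLt c.rank (fun j => intBeq (c.A j (c.w i s)) (c.A j s - c.A i s * c.A j (c.p i)) &&
      intBeq (c.crt (c.w i s) j) (c.crt s j - (if j = i then c.pair s (c.p i) else 0)))) &&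
  intBeq (c.η i (c.p i)) (-1)

/-- n_p maps the chains to chains. -/
noncomputable def chkChain (i : ℕ) : Bool :=
  allLt c.nroots (fun r => allL (fun s =>
    Nat.beq (c.slot (c.w i r) (c.w i s))
      (c.mapSlot i (bitAt c.etaP (i * c.nroots + s)) (bitAt c.etaP (i * c.nroots + r)) (c.slot r s))) (c.keys r))

/-- No chain has length 3. -/
noncomputable def chkShort : Bool :=
  allLt c.nroots (fun r => allL (fun s => Nat.beq (fieldAt (c.slot r s) 2) 0) (c.keys r))

/-- n_p maps the commutator terms to commutator terms, for the chains of length 3. -/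
noncomputable def chkLong (i : ℕ) : Bool :=
  allLt c.nroots (fun r => allL (fun s =>
    Nat.beq (fieldAt (c.slot r s) 2) 0 ||
      (c.comm (c.w i r) (c.w i s) == c.mapComm i r s (c.comm r s) &&
       c.comm (c.w i s) (c.w i r) == c.mapComm i s r (c.comm s r))) (c.keys r))

/-- The steps of a tree use allowed nodes and parents that are already reached (a set is a bit mask). -/
noncomputable def reach (ok : ℕ → Bool) : ℕ → List (ℕ × ℕ) → Option ℕ
  | known, [] => some known
  | known, (i, s) :: l =>
    cond (ok i && Nat.beq (bitAt known s) 1) (reach ok (Nat.lor known (2 ^ c.w i s)) l) none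

/-- The set of the roots in a list, as a bit mask. -/
def maskOf : List ℕ → ℕ
  | [] => 0
  | a :: l => Nat.lor (maskOf l) (2 ^ a)

/-- A tree from `start` covers all roots. -/
noncomputable def covers (ok : ℕ → Bool) (start : List ℕ) (tree : List (ℕ × ℕ)) : Bool :=
  match c.reach ok (maskOf start) tree with
  | none => false
  | some known => allLt c.nroots (fun r => Nat.beq (bitAt known r) 1)

/-- The three trees. -/
noncomputable def chkTrees : Bool :=
  c.covers (fun i => Nat.blt i c.rank) ((List.range c.rank).map c.p) c.stree &&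
  c.covers (fun i => Nat.blt i c.rank) (c.reps.map Rep.root) c.rtree &&
  c.reps.all (fun ρ => Nat.blt ρ.root c.nroots && ρ.bases.all (fun s => Nat.blt s c.nroots) &&
    c.covers (fun i => Nat.blt i c.rank && c.w i ρ.root == ρ.root) ρ.bases ρ.tree)

end Cert

/-- A monomial t^a u^b v^d. -/
abbrev Mon := ℕ × ℕ × ℕ
/-- A polynomial as a list of terms. -/
abbrev Pol := List (ℤ × Mon)
/-- A vector with polynomial coefficients: (coordinate, monomial, coefficient). Coordinates: first the coroots. -/
abbrev Vect := List (ℕ × Mon × ℤ)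

/-- product of monomials, `inv`: v is the inverse of t -/
def monMul (inv : Bool) (m m' : Mon) : Mon :=
  cond inv ((m.1 + m'.1) - (m.2.2 + m'.2.2), m.2.1 + m'.2.1, (m.2.2 + m'.2.2) - (m.1 + m'.1))
    (m.1 + m'.1, m.2.1 + m'.2.1, m.2.2 + m'.2.2)

/-- product of polynomials -/
def polMul (inv : Bool) (p q : Pol) : Pol := p.flatMap fun x => q.map fun y => (x.1 * y.1, monMul inv x.2 y.2)

/-- power of a polynomial -/
def polPow (inv : Bool) (p : Pol) : ℕ → Pol
  | 0 => [(1, (0, 0, 0))]
  | k + 1 => polMul inv p (polPow inv p k)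

/-- equality of monomials -/
def monBeq (m m' : Mon) : Bool := Nat.beq m.1 m'.1 && (Nat.beq m.2.1 m'.2.1 && Nat.beq m.2.2 m'.2.2)

/-- add a term to a vector -/
def vInsert (x : ℕ × Mon × ℤ) : Vect → Vect
  | [] => cond (intBeq x.2.2 0) [] [x]
  | y :: l =>
    cond (Nat.beq x.1 y.1 && monBeq x.2.1 y.2.1)
      (cond (intBeq (x.2.2 + y.2.2) 0) l ((y.1, y.2.1, x.2.2 + y.2.2) :: l))
      (y :: vInsert x l)

/-- collect the terms of a vector -/
def vNorm : Vect → Vect
  | [] => []
  | x :: l => vInsert x (vNorm l)

/-- equality of vectors -/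
def vEq (V W : Vect) : Bool := (vNorm (V ++ W.map fun x => (x.1, x.2.1, - x.2.2))).isEmpty

namespace Cert

variable (c : Cert)

/-- The column of x_r at a coordinate: (coordinate, power of the parameter, coefficient). -/
noncomputable def col (r idx : ℕ) : List (ℕ × ℕ × ℤ) :=
  if idx < c.rank then [(idx, 0, 1), (c.rank + r, 1, - c.A idx r)]
  else if idx < c.rank + c.nroots then
    if idx - c.rank = r then [(idx, 0, 1)]
    else if idx - c.rank = c.ng r then
      (idx, 0, 1) :: ((List.range c.rank).map fun j => (j, 1, c.crt r j)) ++ [(c.rank + r, 2, -1)]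
    else (idx, 0, 1) :: (c.ent r (idx - c.rank)).zipIdx.map fun q => (c.rank + q.1.1, q.2 + 1, q.1.2)
  else []

/-- x_r(p) applied to a vector. -/
noncomputable def applyX (inv : Bool) (r : ℕ) (p : Pol) (V : Vect) : Vect :=
  vNorm (V.flatMap fun x => (c.col r x.1).flatMap fun y =>
    (polPow inv p y.2.1).map fun z => (y.1, monMul inv x.2.1 z.2, x.2.2 * y.2.2 * z.1))

/-- A word applied to a coordinate vector. -/
noncomputable def evalWord (inv : Bool) (wd : List (ℕ × Pol)) (idx : ℕ) : Vect :=
  wd.foldr (fun l V => c.applyX inv l.1 l.2 V) [(idx, (0, 0, 0), 1)]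

/-- Two words give the same matrix. -/
noncomputable def wordEq (inv : Bool) (w₁ w₂ : List (ℕ × Pol)) : Bool :=
  allLt (c.rank + c.nroots) (fun idx => vEq (c.evalWord inv w₁ idx) (c.evalWord inv w₂ idx))

/-- The expected column of n_p(t). -/
noncomputable def nCol (i idx : ℕ) : Vect :=
  if idx < c.rank then [(idx, (0, 0, 0), 1), (i, (0, 0, 0), - c.A idx (c.p i))]
  else [(c.rank + c.w i (idx - c.rank),
    (((- c.A i (idx - c.rank)).toNat, 0, (c.A i (idx - c.rank)).toNat) : Mon), c.η i (idx - c.rank))]

/-- n_p(t) is monomial as predicted. -/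
noncomputable def chkN (i : ℕ) : Bool :=
  allLt (c.rank + c.nroots) (fun idx =>
    vEq (c.evalWord true [(c.p i, [(1, (1, 0, 0))]), (c.ng (c.p i), [(-1, (0, 0, 1))]), (c.p i, [(1, (1, 0, 0))])] idx)
      (c.nCol i idx))

/-- x_p is additive. -/
noncomputable def chkAdd (i : ℕ) : Bool :=
  c.wordEq false [(c.p i, [(1, (1, 0, 0))]), (c.p i, [(1, (0, 1, 0))])] [(c.p i, [(1, (1, 0, 0)), (1, (0, 1, 0))])]

/-- The commutator formula for the pair (r, s). -/
noncomputable def commPair (r s : ℕ) : Bool :=
  c.wordEq false [(s, [(1, (0, 1, 0))]), (r, [(1, (1, 0, 0))])]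
    ((r, [(1, (1, 0, 0))]) :: (s, [(1, (0, 1, 0))]) ::
      (c.comm r s).map fun x => (x.1, [(x.2.1 * (-1) ^ x.2.2.1, ((x.2.2.1, x.2.2.2, 0) : Mon))]))

/-- The commutator formula at the representatives. -/
noncomputable def chkComm : Bool :=
  c.reps.all fun ρ => ρ.bases.all fun s => s == ρ.root || s == c.ng ρ.root || c.commPair ρ.root s

end Cert

/-- The certificate passes all checks. -/
structure Valid (D : ChevalleyDatum) (c : Cert) : Prop where
  tie : c.chkTie D = true
  base : c.chkBase = true
  weight : c.chkWeight = true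
  refl : ∀ i < c.rank, c.chkRefl i = true
  chain : ∀ i < c.rank, c.chkChain i = true
  long : c.chkShort = true ∨ ∀ i < c.rank, c.chkLong i = true
  trees : c.chkTrees = true
  nMon : ∀ i < c.rank, c.chkN i = true
  add : ∀ i < c.rank, c.chkAdd i = true
  comm : c.chkComm = true

/-- The tables of `D` are certified: they give a Chevalley basis with the relations of the Steinberg presentation. -/
def Good (D : ChevalleyDatum) : Prop := ∃ c : Cert, Valid D c

end Cfsg.Agent.Chev
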