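/-
Consequences of a valid certificate for the tables of the datum themselves.
-/
import Cfsg.Prelude.Def_ChevAutomorphisms
import Cfsg.Agent.Lib.Chev.Cert

set_option autoImplicit false

namespace Cfsg.Agent.Chev

open Cfsg.Lie

theorem array_getD_toList {α : Type} (a : Array α) (i : ℕ) (d : α) : a.getD i d = a.toList.getD i d := by
  simp [Array.getD_eq_getD_getElem?, List.getD_eq_getElem?_getD]

theorem getD_map_toList {α β : Type} (L : List α) (f : α → β) {i : ℕ} (d : α) (d' : β) (hi : i < L.length) :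
    (L.map f).getD i d' = f (L.getD i d) := by
  simp [List.getD_eq_getElem?_getD, List.getElem?_map, List.getElem?_eq_getElem hi]

theorem getD_map_range {α : Type} (f : ℕ → α) {n i : ℕ} (hi : i < n) (d : α) :
    ((List.range n).map f).getD i d = f i := by
  simp [List.getD_eq_getElem?_getD, List.getElem?_map, hi]

theorem termBeq_eq {a b : ℕ × ℤ} (h : termBeq a b = true) : a = b := by
  simp only [termBeq, Bool.and_eq_true, Nat.beq_eq, intBeq_iff] at h
  exact Prod.ext h.1 h.2

theorem rowBeq_eq {a b : ℕ × Terms} (h : rowBeq a b = true) : a = b := by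
  simp only [rowBeq, Bool.and_eq_true, Nat.beq_eq] at h
  exact Prod.ext h.1 (eq_of_beqL (fun _ _ => termBeq_eq) h.2)

theorem gapsOK_sound (y₀ : ℕ) (n : ℕ) : ∀ (l : List ℕ) (pos : ℕ),
    Cert.gapsOK l n pos (Nat.shiftRight y₀ (36 * pos)) = true →
      l.Pairwise (· < ·) ∧ (∀ k ∈ l, pos ≤ k ∧ k < n) ∧ pos ≤ n ∧
        ∀ s, pos ≤ s → s ∉ l → Nat.shiftRight y₀ (36 * s) % 68719476736 = 0 := by
  intro l
  induction l with
  | nil =>
    intro pos h
    have h' : (Nat.ble pos n && Nat.beq (Nat.shiftRight y₀ (36 * pos)) 0) = true := h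
    simp only [Bool.and_eq_true, Nat.ble_eq, Nat.beq_eq, Nat.shiftRight_eq] at h'
    refine ⟨List.Pairwise.nil, by simp, h'.1, fun s hs _ => ?_⟩
    have e : y₀ >>> (36 * s) = (y₀ >>> (36 * pos)) >>> (36 * (s - pos)) := by
      rw [← Nat.shiftRight_add]; congr 1; omega
    simp only [Nat.shiftRight_eq]
    rw [e, h'.2, Nat.zero_shiftRight, Nat.zero_mod]
  | cons k l ih =>
    intro pos h
    have h' : cond (Nat.ble pos k)
      (cond (Nat.beq (Nat.shiftRight y₀ (36 * pos) % 2 ^ (36 * (k - pos))) 0)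
        (Cert.gapsOK l n (k + 1) (Nat.shiftRight (Nat.shiftRight y₀ (36 * pos)) (36 * (k + 1 - pos)))) false)
      false = true := h
    simp only [Bool.cond_false_right, Bool.and_eq_true, Nat.ble_eq, Nat.beq_eq] at h'
    obtain ⟨hpk, hz, hrest⟩ := h'
    simp only [Nat.shiftRight_eq] at hz hrest ih
    rw [← Nat.shiftRight_add, show 36 * pos + 36 * (k + 1 - pos) = 36 * (k + 1) by omega] at hrest
    obtain ⟨h1, h2, h3, h4⟩ := ih (k + 1) hrest
    refine ⟨List.pairwise_cons.2 ⟨fun a ha => (h2 a ha).1, h1⟩, ?_, by omega, fun s hs hsl => ?_⟩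
    · intro a ha
      rcases List.mem_cons.1 ha with rfl | ha
      · exact ⟨hpk, by omega⟩
      · exact ⟨by have := (h2 a ha).1; omega, (h2 a ha).2⟩
    simp only [List.mem_cons, not_or] at hsl
    rcases Nat.lt_or_ge s k with hsk | hsk
    · simp only [Nat.shiftRight_eq]
      rw [show 36 * s = 36 * pos + 36 * (s - pos) by omega, Nat.shiftRight_add,
        show (68719476736 : ℕ) = 2 ^ 36 by norm_num]
      exact shiftRight_mod_eq_zero hz (by omega)
    · exact h4 s (by omega) hsl.2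

namespace Valid

variable {D : ChevalleyDatum} {c : Cert} (hV : Valid D c)
include hV

theorem tie' : c.rank = D.rank ∧ c.nroots = D.nroots ∧ c.nroots < 255 ∧
    (List.range c.rank).map c.p = D.simpleIdx.toList ∧
    (List.range c.nroots).map c.ng = D.negIdx.toList ∧
    ((List.range c.nroots).map fun r => (List.range c.rank).map (c.crt r)) = D.coroot.toList.map Array.toList ∧
    ((List.range c.rank).map fun i => (List.range c.nroots).map (c.A i)) = D.cartanSR.toList.map Array.toList ∧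
    (List.range c.nroots).map c.row = D.chain.toList.map (fun a => a.toList.map fun e => (e.1, e.2.toList)) ∧
    ∀ r < c.nroots, (c.keys r).Pairwise (· < ·) ∧ (∀ k ∈ c.keys r, k < c.nroots) ∧
      ∀ s, s ∉ c.keys r → c.slot r s = 0 := by
  have h := hV.tie
  simp only [Cert.chkTie, Bool.and_eq_true, beq_iff_eq, allLt_iff, Nat.blt_eq] at h
  obtain ⟨⟨⟨⟨⟨⟨⟨⟨h1, h2⟩, h3⟩, h4⟩, h5⟩, h6⟩, h7⟩, h8⟩, h9⟩ := h
  refine ⟨h1, h2, h3, h4, eq_of_beqL (fun _ _ h => by simpa using h) h5,
    eq_of_beqL (fun _ _ h => eq_of_beqL (fun _ _ h => intBeq_iff.1 h) h) h6,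
    eq_of_beqL (fun _ _ h => eq_of_beqL (fun _ _ h => intBeq_iff.1 h) h) h7,
    eq_of_beqL (fun _ _ h => eq_of_beqL (fun _ _ => rowBeq_eq) h) h8, fun r hr => ?_⟩
  have hg : Cert.gapsOK (c.keys r) c.nroots 0 (Nat.shiftRight (c.chainT.get r).1 (36 * 0)) = true := by
    simpa using h9 r hr
  obtain ⟨a, b, -, d⟩ := gapsOK_sound _ _ _ _ hg
  exact ⟨a, fun k hk => (b k hk).2, fun s hs => d s (Nat.zero_le s) hs⟩

theorem rank_eq : c.rank = D.rank := hV.tie'.1
theorem nroots_eq : c.nroots = D.nroots := hV.tie'.2.1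
theorem nroots_lt : D.nroots < 255 := hV.nroots_eq ▸ hV.tie'.2.2.1

theorem p_eq {i : ℕ} (hi : i < D.rank) : D.simple i = c.p i := by
  have h := hV.tie'.2.2.2.1
  rw [ChevalleyDatum.simple, array_getD_toList, ← h, getD_map_range]
  rw [hV.rank_eq]; exact hi

theorem ng_eq {r : ℕ} (hr : r < D.nroots) : D.neg r = c.ng r := by
  have h := hV.tie'.2.2.2.2.1
  rw [ChevalleyDatum.neg, array_getD_toList, ← h, getD_map_range]
  rw [hV.nroots_eq]; exact hr

theorem crt_eq {r : ℕ} (hr : r < D.nroots) (j : ℕ) : (D.coroot.getD r #[]).getD j 0 = c.crt r j := by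
  have h := hV.tie'.2.2.2.2.2.1
  have hr' : r < D.coroot.toList.length := by
    have := congrArg List.length h; simp only [List.length_map, List.length_range] at this
    rw [← this, hV.nroots_eq]; exact hr
  rw [array_getD_toList, array_getD_toList, ← getD_map_toList _ Array.toList #[] [] hr', ← h,
    getD_map_range _ (hV.nroots_eq ▸ hr)]
  by_cases hj : j < c.rank
  · rw [getD_map_range _ hj]
  · rw [List.getD_eq_default _ _ (by simpa using hj)]
    have hb : Nat.blt j c.rank = false := by rw [← Bool.not_eq_true, Nat.blt_eq]; exact hj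
    rw [Cert.crt, hb, cond_false]

theorem A_eq {i s : ℕ} (hi : i < D.rank) (hs : s < D.nroots) : D.cartan i s = c.A i s := by
  have h := hV.tie'.2.2.2.2.2.2.1
  have hi' : i < D.cartanSR.toList.length := by
    have := congrArg List.length h; simp only [List.length_map, List.length_range] at this
    rw [← this, hV.rank_eq]; exact hi
  rw [ChevalleyDatum.cartan, array_getD_toList, array_getD_toList,
    ← getD_map_toList _ Array.toList #[] [] hi', ← h, getD_map_range _ (hV.rank_eq ▸ hi),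
    getD_map_range _ (hV.nroots_eq ▸ hs)]

theorem chain_row {r : ℕ} (hr : r < D.nroots) :
    (D.chain.getD r #[]).toList.map (fun e => (e.1, e.2.toList)) = c.row r := by
  have h := hV.tie'.2.2.2.2.2.2.2.1
  have hr' : r < D.chain.toList.length := by
    have := congrArg List.length h; simp only [List.length_map, List.length_range] at this
    rw [← this, hV.nroots_eq]; exact hr
  rw [array_getD_toList,
    ← getD_map_toList _ (fun a : Array (ℕ × Array (ℕ × ℤ)) => a.toList.map fun e => (e.1, e.2.toList)) #[] [] hr',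
    ← h, getD_map_range _ (hV.nroots_eq ▸ hr)]

theorem keys_spec {r : ℕ} (hr : r < D.nroots) :
    (c.keys r).Nodup ∧ (∀ k ∈ c.keys r, k < D.nroots) ∧ ∀ s, s ∉ c.keys r → c.ent r s = [] := by
  obtain ⟨h1, h2, h3⟩ := hV.tie'.2.2.2.2.2.2.2.2 r (hV.nroots_eq ▸ hr)
  refine ⟨h1.imp (fun h => Nat.ne_of_lt h), fun k hk => hV.nroots_eq ▸ h2 k hk, fun s hs => ?_⟩
  rw [Cert.ent, h3 s hs]
  rfl

theorem ent_eq {r : ℕ} (hr : r < D.nroots) (s : ℕ) : D.chainEntry r s = c.ent r s := by
  have he := hV.chain_row hr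
  obtain ⟨hnd, -, hz⟩ := hV.keys_spec hr
  have e : ((c.row r).find? (fun e => decide (e.1 = s))).map Prod.snd = if s ∈ c.keys r then some (c.ent r s) else none := by
    rw [Cert.row, List.find?_map]
    by_cases hs : s ∈ c.keys r
    · rw [if_pos hs]
      cases h : (c.keys r).find? ((fun e => decide (e.1 = s)) ∘ fun s => (s, c.ent r s)) with
      | none =>
        have := List.find?_eq_none.1 h s hs
        simp at this
      | some k =>
        have := List.find?_some h
        simp only [Function.comp_apply, decide_eq_true_eq] at this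
        subst this; simp
    · rw [if_neg hs, List.find?_eq_none.2 fun k hk => by simp; rintro rfl; exact hs hk]
      rfl
  rw [← he, List.find?_map] at e
  rw [ChevalleyDatum.chainEntry]
  cases h : (D.chain.getD r #[]).toList.find? (fun e => decide (e.1 = s)) with
  | none =>
    simp only [Function.comp_def, h, Option.map_none] at e
    split at e
    · simp at e
    · next hs => exact (hz s hs).symm
  | some x =>
    simp only [Function.comp_def, h, Option.map_some] at e
    split at e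
    · exact Option.some.inj e
    · simp at e

theorem cRoot_eq {r : ℕ} (hr : r < D.nroots) (s i : ℕ) : D.chainRoot r s i = c.cRoot r s i := by
  rw [ChevalleyDatum.chainRoot, hV.ent_eq hr, Cert.cRoot]

theorem cM_eq {r : ℕ} (hr : r < D.nroots) (s i : ℕ) : D.chainM r s i = c.cM r s i := by
  rw [ChevalleyDatum.chainM, hV.ent_eq hr, Cert.cM]

theorem base' :
    (∀ r < D.nroots, c.ng r < D.nroots ∧ c.ng (c.ng r) = r ∧ c.ng r ≠ r ∧
      (∀ j < D.rank, c.A j (c.ng r) = - c.A j r ∧ c.crt (c.ng r) j = - c.crt r j) ∧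
      c.slot r r = 0 ∧ c.slot r (c.ng r) = 0 ∧
      ∀ s ∈ c.keys r, fieldAt (c.slot r s) 0 ≠ 0 ∧ ∀ k < 3, fieldAt (c.slot r s) k = 0 ∨
        (8 ≤ fieldAt (c.slot r s) k ∧ fieldAt (c.slot r s) k / 8 - 1 < D.nroots ∧
          1 ≤ fieldAt (c.slot r s) k % 8)) ∧
    ∀ i < D.rank, c.p i < D.nroots ∧ c.A i (c.p i) = 2 ∧
      ∀ j < D.rank, c.crt (c.p i) j = if j = i then 1 else 0 := by
  have h := hV.base
  simp only [Cert.chkBase, Bool.and_eq_true, allLt_iff, allL_iff, Nat.blt_eq, Nat.beq_eq, intBeq_iff,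
    Bool.not_eq_true', hV.nroots_eq, hV.rank_eq] at h
  refine ⟨fun r hr => ?_, fun i hi => ?_⟩
  · obtain ⟨⟨⟨⟨⟨⟨h1, h2⟩, h3⟩, h4⟩, h5⟩, h6⟩, h7⟩ := h.1 r hr
    refine ⟨h1, h2, fun e => by simp [e] at h3, h4, h5, h6, fun s hs => ?_⟩
    obtain ⟨⟨⟨a0, a1⟩, a2⟩, a3⟩ := h7 s hs
    refine ⟨fun e => by simp [e] at a0, fun k hk => ?_⟩
    simp only [Cert.fieldOK, Bool.or_eq_true, Bool.and_eq_true, Nat.beq_eq, Nat.ble_eq, Nat.blt_eq, and_assoc] at a1 a2 a3
    interval_cases k
    · exact a1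
    · exact a2
    · exact a3
  · obtain ⟨⟨h1, h2⟩, h3⟩ := h.2 i hi
    exact ⟨h1, h2, h3⟩

theorem mem_row_iff {r : ℕ} (hr : r < D.nroots) {s : ℕ} {l : Terms} :
    (s, l) ∈ c.row r ↔ l ≠ [] ∧ c.ent r s = l := by
  obtain ⟨-, -, hz⟩ := hV.keys_spec hr
  simp only [Cert.row, List.mem_map, Prod.mk.injEq]
  constructor
  · rintro ⟨k, hk, rfl, rfl⟩
    have h0 := ((hV.base'.1 r hr).2.2.2.2.2.2 k hk).1
    refine ⟨?_, rfl⟩
    have hb : Nat.beq (fieldAt (c.slot r k) 0) 0 = false := by rw [← Bool.not_eq_true, Nat.beq_eq]; exact h0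
    rw [Cert.ent, decTerms, hb, cond_false]
    exact List.cons_ne_nil _ _
  · rintro ⟨hl, he⟩
    refine ⟨s, ?_, rfl, he⟩
    by_contra hs
    exact hl (he ▸ hz s hs)

theorem comm_eq {r s : ℕ} (hr : r < D.nroots) (hs : s < D.nroots) : D.commTerms r s = c.comm r s := by
  have hlt : ∀ {a b i k : ℕ}, a < D.nroots → c.cRoot a b i = some k → k < D.nroots := by
    intro a b i k ha h
    simp only [Cert.cRoot, Option.map_eq_some_iff] at h
    obtain ⟨q, hq, rfl⟩ := h
    have hm := List.mem_of_getElem? hq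
    obtain ⟨-, -, hz⟩ := hV.keys_spec ha
    have hb : b ∈ c.keys a := by
      by_contra hb; simp [hz b hb] at hm
    have hf := ((hV.base'.1 a ha).2.2.2.2.2.2 b hb).2
    have ok : ∀ k, (fieldAt (c.slot a b) k = 0 ∨ (8 ≤ fieldAt (c.slot a b) k ∧
        fieldAt (c.slot a b) k / 8 - 1 < D.nroots ∧ 1 ≤ fieldAt (c.slot a b) k % 8)) →
        (decOne (fieldAt (c.slot a b) k)).1 < D.nroots := by
      intro k h
      show fieldAt (c.slot a b) k / 8 - 1 < D.nroots
      rcases h with h | h
      · rw [h]; show 0 < D.nroots; omega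
      · exact h.2.1
    simp only [Cert.ent, decTerms] at hm
    cases h0 : Nat.beq (fieldAt (c.slot a b) 0) 0 <;> simp only [h0, cond_true, cond_false, List.not_mem_nil,
      List.mem_cons] at hm
    rcases hm with rfl | hm
    · exact ok 0 (hf 0 (by omega))
    cases h1 : Nat.beq (fieldAt (c.slot a b) 1) 0 <;> simp only [h1, cond_true, cond_false, List.not_mem_nil,
      List.mem_cons] at hm
    rcases hm with rfl | hm
    · exact ok 1 (hf 1 (by omega))
    cases h2 : Nat.beq (fieldAt (c.slot a b) 2) 0 <;> simp only [h2, cond_true, cond_false, List.not_mem_nil,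
      List.mem_cons, or_false] at hm
    subst hm
    exact ok 2 (hf 2 (by omega))
  simp only [ChevalleyDatum.commTerms, Cert.comm, hV.cRoot_eq hr, hV.cRoot_eq hs, hV.cM_eq hr, hV.cM_eq hs]
  have e1 : (c.cRoot r s 3).bind (fun k => D.chainRoot k s 1) = (c.cRoot r s 3).bind fun k => c.cRoot k s 1 :=
    Option.bind_congr fun k hk => hV.cRoot_eq (hlt hr hk) _ _
  have e2 : (c.cRoot s r 3).bind (fun k => D.chainRoot k r 1) = (c.cRoot s r 3).bind fun k => c.cRoot k r 1 :=
    Option.bind_congr fun k hk => hV.cRoot_eq (hlt hs hk) _ _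
  have e3 : ∀ f g : ℕ → ℤ, (∀ k < D.nroots, f k = g k) → (c.cRoot r s 1).map f = (c.cRoot r s 1).map g :=
    fun f g h => Option.map_congr fun k hk => h k (hlt hr hk)
  rw [e1, e2, e3 (fun k => D.chainM k r 2 / 3) (fun k => c.cM k r 2 / 3) fun k hk => by simp [hV.cM_eq hk],
    e3 (fun k => -2 * D.chainM k s 2 / 3) (fun k => -2 * c.cM k s 2 / 3) fun k hk => by simp [hV.cM_eq hk]]

theorem pair_eq {r s : ℕ} (hr : r < D.nroots) (hs : s < D.nroots) : D.pairing r s = c.pair r s := by
  rw [ChevalleyDatum.pairing, Cert.pair, ← hV.rank_eq]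
  congr 1
  refine List.map_congr_left fun j hj => ?_
  rw [List.mem_range, hV.rank_eq] at hj
  rw [hV.crt_eq hr, hV.A_eq hj hs]

end Valid

end Cfsg.Agent.Chev
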