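/-
The action of the root elements x_r(t) on the coordinate basis, in terms of a certificate.
-/
import Cfsg.Agent.Lib.Chev.Tables

set_option autoImplicit false

namespace Cfsg.Agent.Chev

open Cfsg.Lie Matrix

/-- The position of a coordinate: the coroots first. -/
def idxNat {D : ChevalleyDatum} : D.Idx → ℕ
  | Sum.inl i => i.val
  | Sum.inr s => D.rank + s.val

theorem idxNat_inl {D : ChevalleyDatum} (i : Fin D.rank) : idxNat (Sum.inl i : D.Idx) = i.val := by cases i; rfl

theorem idxNat_inr {D : ChevalleyDatum} (s : Fin D.nroots) : idxNat (Sum.inr s : D.Idx) = D.rank + s.val := by cases s; rfl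

theorem idxNat_lt {D : ChevalleyDatum} (k : D.Idx) : idxNat k < D.rank + D.nroots := by
  rcases k with i | s
  · have := i.2; simp only [idxNat]; omega
  · have := s.2; simp only [idxNat]; omega

theorem idxNat_injective {D : ChevalleyDatum} : Function.Injective (idxNat (D := D)) := by
  rintro (i | s) (j | u) h <;> simp only [idxNat] at h
  · exact congrArg _ (Fin.ext h)
  · have := i.2; omega
  · have := j.2; omega
  · exact congrArg _ (Fin.ext (by omega))

section bvec

variable (D : ChevalleyDatum) (F : Type*) [Field F]

/-- The basis vector at a position (0 out of range). -/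
def bvec (idx : ℕ) : D.Idx → F := fun k => if idxNat k = idx then 1 else 0

variable {D F}

theorem bvec_idxNat (k : D.Idx) : bvec D F (idxNat k) = Pi.single k 1 := by
  funext j
  simp [bvec, Pi.single_apply, idxNat_injective.eq_iff]

theorem bvec_of_le {idx : ℕ} (h : D.rank + D.nroots ≤ idx) : bvec D F idx = 0 := by
  funext j
  have := idxNat_lt j
  simp only [bvec, Pi.zero_apply, ite_eq_right_iff, one_ne_zero, imp_false]
  omega

theorem exists_idxNat {idx : ℕ} (h : idx < D.rank + D.nroots) : ∃ k : D.Idx, idxNat k = idx := by
  by_cases h1 : idx < D.rank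
  · exact ⟨Sum.inl ⟨idx, h1⟩, rfl⟩
  · exact ⟨Sum.inr ⟨idx - D.rank, by omega⟩, by simp only [idxNat]; omega⟩

/-- Two matrices agree when they agree on the basis vectors. -/
theorem ext_bvec {A B : Matrix D.Idx D.Idx F}
    (h : ∀ idx < D.rank + D.nroots, A *ᵥ bvec D F idx = B *ᵥ bvec D F idx) : A = B := by
  ext i j
  have := congrFun (h _ (idxNat_lt j)) i
  simpa [bvec_idxNat, Matrix.mulVec_single] using this

theorem list_sum_map_apply {α ι : Type*} (L : List α) (f : α → ι → F) (k : ι) :
    (L.map f).sum k = (L.map fun a => f a k).sum := by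
  induction L with
  | nil => simp
  | cons a L ih => simp [ih]

theorem sum_filter_map {α : Type*} (L : List α) (p : α → Bool) (f : α → F) :
    ((L.filter p).map f).sum = (L.map fun a => if p a then f a else 0).sum := by
  induction L with
  | nil => simp
  | cons a L ih =>
    by_cases h : p a = true
    · simp [h, ih]
    · simp [h, ih]

theorem mulVec_list_sum {ι α : Type*} [Fintype ι] (M : Matrix ι ι F) (L : List α) (f : α → ι → F) :
    M *ᵥ (L.map f).sum = (L.map fun a => M *ᵥ f a).sum := by
  induction L with
  | nil => simp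
  | cons a L ih => simp [Matrix.mulVec_add, ih]

end bvec

/-- The image of a column description under the parameter `t`. -/
def colSem (D : ChevalleyDatum) {F : Type*} [Field F] (t : F) (L : List (ℕ × ℕ × ℤ)) : D.Idx → F :=
  (L.map fun y => ((y.2.2 : F) * t ^ y.2.1) • bvec D F y.1).sum

theorem mem_of_zipIdx {α : Type*} {L : List α} {q : α × ℕ} (h : q ∈ L.zipIdx) : q.1 ∈ L := by
  obtain ⟨a, b⟩ := q
  exact List.fst_mem_of_mem_zipIdx h

theorem filter_eq_of_nodup {α : Type*} (L : List (ℕ × α)) (hL : (L.map Prod.fst).Nodup) (s : ℕ) :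
    L.filter (fun e => decide (e.1 = s)) = (L.find? (fun e => decide (e.1 = s))).toList := by
  induction L with
  | nil => simp
  | cons a L ih =>
    simp only [List.map_cons, List.nodup_cons] at hL
    by_cases h : a.1 = s
    · subst h
      have : L.filter (fun e => decide (e.1 = a.1)) = [] := by
        rw [List.filter_eq_nil_iff]
        intro e he
        simp only [decide_eq_true_eq]
        intro h'
        exact hL.1 (List.mem_map.2 ⟨e, he, h'⟩)
      simp [this]
    · simp [h, ih hL.2]

namespace Valid

variable {D : ChevalleyDatum} {c : Cert} (hV : Valid D c)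
include hV

theorem ent_self {r : ℕ} (hr : r < D.nroots) : c.ent r r = [] := by
  rw [Cert.ent, (hV.base'.1 r hr).2.2.2.2.1]; rfl

theorem ent_ng {r : ℕ} (hr : r < D.nroots) : c.ent r (c.ng r) = [] := by
  rw [Cert.ent, (hV.base'.1 r hr).2.2.2.2.2.1]; rfl

theorem ent_lt {r s : ℕ} (hr : r < D.nroots) {q : ℕ × ℤ} (h : q ∈ c.ent r s) : q.1 < D.nroots := by
  obtain ⟨-, -, hz⟩ := hV.keys_spec hr
  have hb : s ∈ c.keys r := by
    by_contra hb; simp [hz s hb] at h
  have hf := ((hV.base'.1 r hr).2.2.2.2.2.2 s hb).2
  have ok : ∀ k, k < 3 → (decOne (fieldAt (c.slot r s) k)).1 < D.nroots := by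
    intro k hk
    show fieldAt (c.slot r s) k / 8 - 1 < D.nroots
    rcases hf k hk with h | h
    · rw [h]; show 0 < D.nroots; omega
    · exact h.2.1
  simp only [Cert.ent, decTerms] at h
  cases h0 : Nat.beq (fieldAt (c.slot r s) 0) 0 <;> simp only [h0, cond_true, cond_false, List.not_mem_nil,
    List.mem_cons] at h
  rcases h with rfl | h
  · exact ok 0 (by omega)
  cases h1 : Nat.beq (fieldAt (c.slot r s) 1) 0 <;> simp only [h1, cond_true, cond_false, List.not_mem_nil,
    List.mem_cons] at h
  rcases h with rfl | h
  · exact ok 1 (by omega)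
  cases h2 : Nat.beq (fieldAt (c.slot r s) 2) 0 <;> simp only [h2, cond_true, cond_false, List.not_mem_nil,
    List.mem_cons, or_false] at h
  subst h
  exact ok 2 (by omega)

omit hV in
theorem ent_length (r s : ℕ) : (c.ent r s).length ≤ 3 := by
  rw [Cert.ent, decTerms]
  cases Nat.beq (fieldAt (c.slot r s) 0) 0 <;> cases Nat.beq (fieldAt (c.slot r s) 1) 0 <;>
    cases Nat.beq (fieldAt (c.slot r s) 2) 0 <;> simp

theorem chainCoeff_eq {r : ℕ} (hr : r < D.nroots) (s u : ℕ) :
    D.chainCoeff r s u =
      ((c.ent r s).zipIdx.filter fun q => decide (q.1.1 = u)).map fun q => (q.2 + 1, q.1.2) := by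
  have he := hV.chain_row hr
  have hnd : ((D.chain.getD r #[]).toList.map Prod.fst).Nodup := by
    have := congrArg (List.map Prod.fst) he
    simp only [Cert.row, List.map_map, Function.comp_def, List.map_id'] at this
    rw [this]
    exact (hV.keys_spec hr).1
  rw [← hV.ent_eq hr, ChevalleyDatum.chainCoeff, ChevalleyDatum.chainEntry, filter_eq_of_nodup _ hnd]
  cases (D.chain.getD r #[]).toList.find? (fun e => decide (e.1 = s)) <;> simp

/-- The columns of x_r(t). -/
theorem mulVec_bvec {F : Type*} [Field F] {r : ℕ} (hr : r < D.nroots) (t : F) (idx : ℕ) :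
    D.x F r t *ᵥ bvec D F idx = colSem D t (c.col r idx) := by
  by_cases hidx : idx < D.rank + D.nroots
  swap
  · have : c.col r idx = [] := by
      simp only [Cert.col, hV.rank_eq, hV.nroots_eq]
      rw [if_neg (by omega), if_neg (by omega)]
    simp [bvec_of_le (Nat.le_of_not_lt hidx), this, colSem]
  obtain ⟨col, rfl⟩ := exists_idxNat hidx
  have hne := (hV.base'.1 r hr).2.2.1
  rw [bvec_idxNat, Matrix.mulVec_single, ChevalleyDatum.x, dif_pos hr]
  funext row
  simp only [MulOpposite.op_one, one_smul, Matrix.col_apply, ChevalleyDatum.xMat, Matrix.of_apply]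
  rcases col with i | s
  · have hcol : c.col r i.val = [(i.val, 0, 1), (D.rank + r, 1, - c.A i.val r)] := by
      simp [Cert.col, hV.rank_eq]
    rw [idxNat_inl, hcol]
    have hA := hV.A_eq i.2 hr
    rw [ChevalleyDatum.cartan] at hA
    rw [colSem, list_sum_map_apply]
    simp only [List.map_cons, List.map_nil, List.sum_cons, List.sum_nil, Pi.smul_apply,
      smul_eq_mul, bvec, hA]
    rcases row with i' | u
    · simp [idxNat_inl, Fin.ext_iff, (show i'.val ≠ D.rank + r by have := i'.2; omega)]
    · simp [idxNat_inr, Fin.ext_iff, (show D.rank + u.val ≠ i.val by have := i.2; omega)]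
  · have h2 : D.rank + s.val < D.rank + D.nroots := by have := s.2; omega
    have hng : D.negIdx.getD r 0 = c.ng r := hV.ng_eq hr
    rw [idxNat_inr]
    by_cases hsr : s.val = r
    · have hcol : c.col r (D.rank + s.val) = [(D.rank + s.val, 0, 1)] := by
        simp [Cert.col, hV.rank_eq, hV.nroots_eq, hsr, hr]
      rw [hcol]
      rw [colSem, list_sum_map_apply]
      simp only [List.map_cons, List.map_nil, List.sum_cons, List.sum_nil, Pi.smul_apply,
        smul_eq_mul, bvec, if_pos (Fin.ext hsr : s = ⟨r, hr⟩)]
      rcases row with i' | u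
      · simp [idxNat_inl, (show i'.val ≠ D.rank + s.val by have := i'.2; omega)]
      · simp [idxNat_inr, Fin.ext_iff, hsr]
    · simp only [if_neg (fun h => hsr (Fin.ext_iff.1 h) : ¬ s = ⟨r, hr⟩), hng]
      by_cases hsn : s.val = c.ng r
      · have hcol : c.col r (D.rank + s.val) = (D.rank + s.val, 0, 1) ::
            ((List.range D.rank).map fun j => (j, 1, c.crt r j)) ++ [(D.rank + r, 2, -1)] := by
          simp only [Cert.col, hV.rank_eq, hV.nroots_eq, Nat.add_sub_cancel_left]
          rw [if_neg (by omega), if_pos h2, if_neg hsr, if_pos hsn]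
        rw [hcol]
        rw [colSem, list_sum_map_apply]
        simp only [hV.crt_eq hr, List.map_cons, List.map_append, List.map_map, List.sum_cons,
          List.sum_append, List.map_nil, List.sum_nil, Pi.smul_apply, smul_eq_mul, bvec, if_pos hsn,
          Function.comp_def]
        rcases row with i' | u
        · have : ((List.range D.rank).map fun j => (c.crt r j : F) * t ^ 1 * if i'.val = j then 1 else 0).sum
              = (c.crt r i'.val : F) * t := by
            rw [← List.sum_toFinset _ List.nodup_range, List.toFinset_range]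
            simp [i'.2]
          simp [idxNat_inl, hV.crt_eq hr, (show i'.val ≠ D.rank + s.val by have := i'.2; omega),
            (show i'.val ≠ D.rank + r by have := i'.2; omega)] at this ⊢
          exact ((congrArg List.sum (List.map_congr_left fun j _ => by simp)).trans this).symm
        · have : ∀ j, j < D.rank → D.rank + u.val ≠ j := fun j hj => by omega
          rw [List.sum_eq_zero (l := List.map _ (List.range D.rank)) fun z hz => by
            obtain ⟨j, hj, rfl⟩ := List.mem_map.1 hz
            simp [idxNat_inr, this j (List.mem_range.1 hj)]]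
          by_cases hus : u.val = s.val
          · simp [idxNat_inr, Fin.ext_iff, hus, hsr]
          · simp [idxNat_inr, Fin.ext_iff, hus]
      · have hcol : c.col r (D.rank + s.val) = (D.rank + s.val, 0, 1) ::
            (c.ent r s.val).zipIdx.map fun q => (D.rank + q.1.1, q.2 + 1, q.1.2) := by
          simp only [Cert.col, hV.rank_eq, hV.nroots_eq, Nat.add_sub_cancel_left]
          rw [if_neg (by omega), if_pos h2, if_neg hsr, if_neg hsn]
        rw [hcol]
        rw [colSem, list_sum_map_apply]
        simp only [hV.crt_eq hr, List.map_cons, List.map_map, List.sum_cons, Pi.smul_apply,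
          smul_eq_mul, bvec, if_neg hsn, Function.comp_def]
        rcases row with i' | u
        · rw [List.sum_eq_zero fun z hz => by
            obtain ⟨q, hq, rfl⟩ := List.mem_map.1 hz
            simp [idxNat_inl, (show i'.val ≠ D.rank + q.1.1 by have := i'.2; omega)]]
          simp [idxNat_inl, (show i'.val ≠ D.rank + s.val by have := i'.2; omega)]
        · dsimp only
          rw [hV.chainCoeff_eq hr, List.map_map, sum_filter_map]
          congr 1
          · simp [idxNat_inr, Fin.ext_iff]
          · congr 1
            refine List.map_congr_left fun q _ => ?_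
            by_cases h : q.1.1 = u.val
            · simp [idxNat_inr, h]
            · simp [idxNat_inr, h, Ne.symm h]

end Valid

end Cfsg.Agent.Chev
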