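/-
Soundness of the symbolic evaluation of words in root elements.
-/
import Cfsg.Agent.Lib.Chev.Basic

set_option autoImplicit false

namespace Cfsg.Agent.Chev

open Cfsg.Lie Matrix

variable {F : Type*} [Field F]

/-- The value of a monomial. -/
def monVal (t u v : F) (m : Mon) : F := t ^ m.1 * u ^ m.2.1 * v ^ m.2.2

/-- The value of a polynomial. -/
def polVal (t u v : F) (p : Pol) : F := (p.map fun x => (x.1 : F) * monVal t u v x.2).sum

/-- The value of a vector. -/
def vecVal (D : ChevalleyDatum) (t u v : F) (V : Vect) : D.Idx → F :=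
  (V.map fun x => ((x.2.2 : F) * monVal t u v x.2.1) • bvec D F x.1).sum

variable {t u v : F} {inv : Bool}

theorem monVal_monMul (hinv : inv = true → t * v = 1) (m m' : Mon) :
    monVal t u v (monMul inv m m') = monVal t u v m * monVal t u v m' := by
  cases inv with
  | false => simp only [monMul, cond_false, monVal, pow_add]; ring
  | true =>
    simp only [monMul, cond_true, monVal]
    generalize hM : min (m.1 + m'.1) (m.2.2 + m'.2.2) = M
    have h1 : (t * v) ^ M = 1 := by rw [hinv rfl, one_pow]
    have e1 : t ^ m.1 * t ^ m'.1 = t ^ ((m.1 + m'.1) - (m.2.2 + m'.2.2)) * t ^ M := by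
      rw [← pow_add, ← pow_add]; congr 1; omega
    have e2 : v ^ m.2.2 * v ^ m'.2.2 = v ^ ((m.2.2 + m'.2.2) - (m.1 + m'.1)) * v ^ M := by
      rw [← pow_add, ← pow_add]; congr 1; omega
    generalize (m.1 + m'.1) - (m.2.2 + m'.2.2) = a at e1 ⊢
    generalize (m.2.2 + m'.2.2) - (m.1 + m'.1) = b at e2 ⊢
    rw [pow_add]
    calc t ^ a * (u ^ m.2.1 * u ^ m'.2.1) * v ^ b
        = t ^ a * (u ^ m.2.1 * u ^ m'.2.1) * v ^ b * (t * v) ^ M := by rw [h1, mul_one]
      _ = (t ^ a * t ^ M) * (u ^ m.2.1 * u ^ m'.2.1) * (v ^ b * v ^ M) := by rw [mul_pow]; ring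
      _ = _ := by rw [← e1, ← e2]; ring

theorem list_sum_smul {α ι : Type*} (x : F) (L : List α) (f : α → ι → F) :
    x • (L.map f).sum = (L.map fun a => x • f a).sum := by
  induction L with
  | nil => simp
  | cons a L ih => simp [smul_add, ih]

theorem list_sum_map_smul {α ι : Type*} (L : List α) (f : α → F) (w : ι → F) :
    ((L.map f).sum) • w = (L.map fun a => f a • w).sum := by
  induction L with
  | nil => simp
  | cons a L ih => simp [add_smul, ih]

theorem sum_map_flatMap {α β M : Type*} [AddCommMonoid M] (L : List α) (g : α → List β) (f : β → M) :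
    ((L.flatMap g).map f).sum = (L.map fun a => ((g a).map f).sum).sum := by
  induction L with
  | nil => simp
  | cons a L ih => simp [ih]

theorem polVal_polMul (hinv : inv = true → t * v = 1) (p q : Pol) :
    polVal t u v (polMul inv p q) = polVal t u v p * polVal t u v q := by
  simp only [polVal, polMul, sum_map_flatMap, List.map_map]
  rw [← List.sum_map_mul_right]
  congr 1
  refine List.map_congr_left fun x _ => ?_
  rw [← List.sum_map_mul_left]
  congr 1
  refine List.map_congr_left fun y _ => ?_
  simp [monVal_monMul hinv]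
  ring

theorem polVal_polPow (hinv : inv = true → t * v = 1) (p : Pol) (k : ℕ) :
    polVal t u v (polPow inv p k) = polVal t u v p ^ k := by
  induction k with
  | zero => simp [polPow, polVal, monVal]
  | succ k ih => rw [polPow, polVal_polMul hinv, ih, pow_succ']

theorem vecVal_vInsert (D : ChevalleyDatum) (x : ℕ × Mon × ℤ) (V : Vect) :
    vecVal D t u v (vInsert x V) = ((x.2.2 : F) * monVal t u v x.2.1) • bvec D F x.1 + vecVal D t u v V := by
  induction V with
  | nil =>
    simp only [vInsert]
    cases h : intBeq x.2.2 0 with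
    | false => simp [vecVal]
    | true => rw [intBeq_iff] at h; simp [vecVal, h]
  | cons y l ih =>
    simp only [vecVal, List.map_cons, List.sum_cons] at ih ⊢
    simp only [vInsert]
    cases h : Nat.beq x.1 y.1 && monBeq x.2.1 y.2.1 with
    | true =>
      simp only [Bool.and_eq_true, Nat.beq_eq, monBeq] at h
      have h1 : x.1 = y.1 := h.1
      have h2 : x.2.1 = y.2.1 := Prod.ext h.2.1 (Prod.ext h.2.2.1 h.2.2.2)
      simp only [cond_true]
      cases h0 : intBeq (x.2.2 + y.2.2) 0 with
      | true =>
        rw [intBeq_iff] at h0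
        rw [cond_true, h1, h2, ← add_assoc, ← add_smul, ← add_mul, ← Int.cast_add, h0]
        simp
      | false =>
        simp only [cond_false, List.map_cons, List.sum_cons]
        rw [h1, h2, Int.cast_add, add_mul, add_smul, add_assoc]
    | false =>
      simp only [cond_false, List.map_cons, List.sum_cons]
      rw [ih]; abel

theorem vecVal_vNorm (D : ChevalleyDatum) (V : Vect) : vecVal D t u v (vNorm V) = vecVal D t u v V := by
  induction V with
  | nil => rfl
  | cons x l ih => rw [vNorm, vecVal_vInsert, ih]; simp [vecVal]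

theorem vecVal_eq_of_vEq (D : ChevalleyDatum) {V W : Vect} (h : vEq V W = true) :
    vecVal D t u v V = vecVal D t u v W := by
  rw [vEq, List.isEmpty_iff] at h
  have h0 := vecVal_vNorm D (t := t) (u := u) (v := v) (V ++ W.map fun x => (x.1, x.2.1, - x.2.2))
  rw [h] at h0
  have hneg : ∀ W : Vect, vecVal D t u v (W.map fun x => (x.1, x.2.1, - x.2.2)) = - vecVal D t u v W := by
    intro W
    induction W with
    | nil => simp [vecVal]
    | cons x l ih => simp only [vecVal, List.map_cons, List.sum_cons, List.map_map] at ih ⊢; rw [ih]; simp; abel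
  rw [← sub_eq_zero, sub_eq_add_neg, ← hneg]
  simpa [vecVal] using h0.symm

/-- The matrix of a word with polynomial parameters. -/
def polWordMat (D : ChevalleyDatum) (t u v : F) (wd : List (ℕ × Pol)) : Matrix D.Idx D.Idx F :=
  (wd.map fun l => D.x F l.1 (polVal t u v l.2)).prod

namespace Valid

variable {D : ChevalleyDatum} {c : Cert} (hV : Valid D c)
include hV

theorem mulVec_vecVal (hinv : inv = true → t * v = 1) {r : ℕ} (hr : r < D.nroots) (p : Pol) (V : Vect) :
    D.x F r (polVal t u v p) *ᵥ vecVal D t u v V = vecVal D t u v (c.applyX inv r p V) := by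
  rw [Cert.applyX, vecVal_vNorm, vecVal, vecVal, mulVec_list_sum, sum_map_flatMap]
  congr 1
  refine List.map_congr_left fun x _ => ?_
  rw [Matrix.mulVec_smul, hV.mulVec_bvec hr, colSem, list_sum_smul, sum_map_flatMap]
  congr 1
  refine List.map_congr_left fun y _ => ?_
  rw [List.map_map, smul_smul, ← polVal_polPow hinv, polVal, ← List.sum_map_mul_left, ← List.sum_map_mul_left,
    list_sum_map_smul]
  congr 1
  refine List.map_congr_left fun z _ => ?_
  simp only [Function.comp_apply, monVal_monMul hinv, Int.cast_mul]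
  congr 1
  ring

theorem evalWord_sound (hinv : inv = true → t * v = 1) (wd : List (ℕ × Pol)) (hwd : ∀ l ∈ wd, l.1 < D.nroots)
    (idx : ℕ) : polWordMat D t u v wd *ᵥ bvec D F idx = vecVal D t u v (c.evalWord inv wd idx) := by
  induction wd with
  | nil => simp [polWordMat, Cert.evalWord, vecVal, monVal]
  | cons l wd ih =>
    have h1 : polWordMat D t u v (l :: wd) = D.x F l.1 (polVal t u v l.2) * polWordMat D t u v wd := by
      simp [polWordMat]
    rw [h1, ← Matrix.mulVec_mulVec, ih fun x hx => hwd x (List.mem_cons_of_mem _ hx),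
      hV.mulVec_vecVal hinv (hwd l List.mem_cons_self)]
    rfl

theorem wordEq_sound (hinv : inv = true → t * v = 1) {w₁ w₂ : List (ℕ × Pol)} (h1 : ∀ l ∈ w₁, l.1 < D.nroots)
    (h2 : ∀ l ∈ w₂, l.1 < D.nroots) (h : c.wordEq inv w₁ w₂ = true) :
    polWordMat D t u v w₁ = polWordMat D t u v w₂ := by
  rw [Cert.wordEq, allLt_iff] at h
  refine ext_bvec fun idx hidx => ?_
  rw [hV.evalWord_sound hinv _ h1, hV.evalWord_sound hinv _ h2]
  exact vecVal_eq_of_vEq D (h idx (by rwa [hV.rank_eq, hV.nroots_eq]))

end Valid

end Cfsg.Agent.Chev
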