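/-
The elements n_p(t) of the fundamental roots as monomial matrices, their action on root elements, and
diagonal matrices attached to characters, from a certificate.
-/
import Cfsg.Agent.Lib.Chev.Word

set_option autoImplicit false

namespace Cfsg.Agent.Chev

open Cfsg.Lie Matrix

variable {F : Type*} [Field F]

theorem list_range_sum {M : Type*} [AddCommMonoid M] (n : ℕ) (f : ℕ → M) :
    ((List.range n).map f).sum = ∑ j ∈ Finset.range n, f j := by
  induction n with
  | zero => simp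
  | succ n ih => simp [List.range_succ, Finset.sum_range_succ, ih]

/-- The diagonal matrix with 1 on the coroots and `χ s` on e_s. -/
def hdiag (D : ChevalleyDatum) (χ : ℕ → F) : Matrix D.Idx D.Idx F :=
  Matrix.diagonal (Sum.elim (fun _ => (1 : F)) (fun s => χ s.val))

theorem hdiag_mulVec_inl (D : ChevalleyDatum) (χ : ℕ → F) {j : ℕ} (hj : j < D.rank) :
    hdiag D χ *ᵥ bvec D F j = bvec D F j := by
  obtain ⟨k, rfl⟩ : ∃ k : Fin D.rank, k.val = j := ⟨⟨j, hj⟩, rfl⟩
  rw [← idxNat_inl, bvec_idxNat, hdiag]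
  funext row
  simp only [Matrix.mulVec_single, MulOpposite.op_one, one_smul, Matrix.col_apply, Matrix.diagonal_apply,
    Pi.single_apply]
  by_cases h : row = Sum.inl k
  · subst h; simp
  · simp [h]

theorem hdiag_mulVec_inr (D : ChevalleyDatum) (χ : ℕ → F) {s : ℕ} (hs : s < D.nroots) :
    hdiag D χ *ᵥ bvec D F (D.rank + s) = χ s • bvec D F (D.rank + s) := by
  obtain ⟨k, rfl⟩ : ∃ k : Fin D.nroots, k.val = s := ⟨⟨s, hs⟩, rfl⟩
  rw [← idxNat_inr, bvec_idxNat, hdiag]
  funext row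
  simp only [Matrix.mulVec_single, MulOpposite.op_one, one_smul, Matrix.col_apply, Matrix.diagonal_apply,
    Pi.smul_apply, Pi.single_apply]
  by_cases h : row = Sum.inr k
  · subst h; simp
  · simp [h]

theorem hdiag_mul (D : ChevalleyDatum) (χ ψ : ℕ → F) : hdiag D χ * hdiag D ψ = hdiag D (fun s => χ s * ψ s) := by
  rw [hdiag, hdiag, hdiag, Matrix.diagonal_mul_diagonal]
  congr 1
  funext k; rcases k with j | s <;> simp

theorem hdiag_one (D : ChevalleyDatum) : hdiag D (fun _ => (1 : F)) = 1 := by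
  rw [hdiag, show (Sum.elim (fun _ => (1 : F)) (fun _ => (1 : F)) : D.Idx → F) = fun _ => 1 by
    funext k; rcases k with j | s <;> rfl, Matrix.diagonal_one]

theorem hdiag_congr (D : ChevalleyDatum) {χ ψ : ℕ → F} (h : ∀ s < D.nroots, χ s = ψ s) : hdiag D χ = hdiag D ψ := by
  unfold hdiag
  congr 1
  funext k; rcases k with j | s
  · rfl
  · exact h _ s.2

namespace Valid

variable {D : ChevalleyDatum} {c : Cert} (hV : Valid D c)
include hV

theorem refl' {i : ℕ} (hi : i < D.rank) {s : ℕ} (hs : s < D.nroots) :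
    c.reflC i s = c.w i s ∧ c.w i s < D.nroots ∧ c.w i (c.w i s) = s ∧ c.w i (c.ng s) = c.ng (c.w i s) ∧
      (c.η i s = 1 ∨ c.η i s = -1) ∧ c.η i (c.ng s) = c.η i s ∧
      c.η i s * c.η i (c.w i s) = (if (c.A i s).natAbs % 2 = 0 then 1 else -1) ∧
      (∀ j < D.rank, c.A j (c.w i s) = c.A j s - c.A i s * c.A j (c.p i) ∧
        c.crt (c.w i s) j = c.crt s j - (if j = i then c.pair s (c.p i) else 0)) ∧ c.η i (c.p i) = -1 := by
  have h := hV.refl i (hV.rank_eq ▸ hi)
  simp only [Cert.chkRefl, Bool.and_eq_true, allLt_iff, Nat.beq_eq, intBeq_iff, Nat.blt_eq, hV.nroots_eq,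
    hV.rank_eq] at h
  obtain ⟨h, hp⟩ := h
  obtain ⟨⟨⟨⟨⟨⟨h1, h2⟩, h3⟩, h4⟩, h6⟩, h7⟩, h8⟩ := h s hs
  refine ⟨h1, h2, h3, h4, ?_, h6, h7, h8, hp⟩
  rw [Cert.η]
  cases Nat.beq (bitAt c.etaP (i * c.nroots + s)) 0 <;> simp

theorem w_lt {i s : ℕ} (hi : i < D.rank) (hs : s < D.nroots) : c.w i s < D.nroots := (hV.refl' hi hs).2.1
theorem w_w {i s : ℕ} (hi : i < D.rank) (hs : s < D.nroots) : c.w i (c.w i s) = s := (hV.refl' hi hs).2.2.1
theorem w_ng {i s : ℕ} (hi : i < D.rank) (hs : s < D.nroots) : c.w i (c.ng s) = c.ng (c.w i s) :=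
  (hV.refl' hi hs).2.2.2.1
theorem eta_ng {i s : ℕ} (hi : i < D.rank) (hs : s < D.nroots) : c.η i (c.ng s) = c.η i s :=
  (hV.refl' hi hs).2.2.2.2.2.1
theorem eta_eq {i s : ℕ} (hi : i < D.rank) (hs : s < D.nroots) : c.η i s = 1 ∨ c.η i s = -1 :=
  (hV.refl' hi hs).2.2.2.2.1
theorem ng_lt {s : ℕ} (hs : s < D.nroots) : c.ng s < D.nroots := (hV.base'.1 s hs).1
theorem ng_ng {s : ℕ} (hs : s < D.nroots) : c.ng (c.ng s) = s := (hV.base'.1 s hs).2.1
theorem ng_ne {s : ℕ} (hs : s < D.nroots) : c.ng s ≠ s := (hV.base'.1 s hs).2.2.1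
theorem p_lt {i : ℕ} (hi : i < D.rank) : c.p i < D.nroots := (hV.base'.2 i hi).1
theorem A_p {i : ℕ} (hi : i < D.rank) : c.A i (c.p i) = 2 := (hV.base'.2 i hi).2.1

theorem eta_sq {i s : ℕ} (hi : i < D.rank) (hs : s < D.nroots) : c.η i s * c.η i s = 1 := by
  rcases hV.eta_eq hi hs with h | h <;> rw [h] <;> rfl

theorem eta_cast_sq {i s : ℕ} (hi : i < D.rank) (hs : s < D.nroots) : ((c.η i s : ℤ) : F) * (c.η i s : F) = 1 := by
  rw [← Int.cast_mul, hV.eta_sq hi hs, Int.cast_one]

theorem eta_cast_ne {i s : ℕ} (hi : i < D.rank) (hs : s < D.nroots) : ((c.η i s : ℤ) : F) ≠ 0 :=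
  left_ne_zero_of_mul (by rw [hV.eta_cast_sq hi hs]; exact one_ne_zero)

theorem eta_cast_eta_w {i s : ℕ} (hi : i < D.rank) (hs : s < D.nroots) :
    ((c.η i s : ℤ) : F) * (c.η i (c.w i s) : F) = (-1) ^ (c.A i s) := by
  rw [← Int.cast_mul, (hV.refl' hi hs).2.2.2.2.2.2.1]
  rcases Int.even_or_odd (c.A i s) with h | h
  · rw [if_pos (Nat.even_iff.1 (Int.natAbs_even.2 h)), Int.cast_one, h.neg_one_zpow]
  · rw [if_neg (fun hc => (Int.not_even_iff_odd.2 h) (Int.natAbs_even.1 (Nat.even_iff.2 hc))), Int.cast_neg, Int.cast_one,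
      h.neg_one_zpow]

theorem A_w_self {i s : ℕ} (hi : i < D.rank) (hs : s < D.nroots) : c.A i (c.w i s) = - c.A i s := by
  rw [((hV.refl' hi hs).2.2.2.2.2.2.2.1 i hi).1, hV.A_p hi]; ring

theorem w_eq_reflectRoot {i s : ℕ} (hi : i < D.rank) (hs : s < D.nroots) : D.reflectRoot i s = c.w i s := by
  rw [← (hV.refl' hi hs).1]
  simp only [ChevalleyDatum.reflectRoot, Cert.reflC, hV.p_eq hi, hV.A_eq hi hs, hV.ng_eq (hV.p_lt hi),
    hV.cRoot_eq (hV.p_lt hi), hV.cRoot_eq (hV.ng_lt (hV.p_lt hi))]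

omit hV in
theorem fieldAt_add (m R : ℕ) (hm : m < 2048) :
    fieldAt (m + 2048 * R) 0 = m ∧ ∀ k, fieldAt (m + 2048 * R) (k + 1) = fieldAt R k := by
  refine ⟨?_, fun k => ?_⟩
  · simp only [fieldAt, Nat.shiftRight_eq, Nat.mul_zero, Nat.shiftRight_zero]
    omega
  · simp only [fieldAt, Nat.shiftRight_eq]
    rw [show 11 * (k + 1) = 11 + 11 * k by ring, Nat.shiftRight_add]
    congr 2
    rw [Nat.shiftRight_eq_div_pow]
    omega

omit hV in
theorem fieldAt_zero (k : ℕ) : fieldAt 0 k = 0 := by simp [fieldAt, Nat.shiftRight_eq]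

/-- A field under a monomial map. -/
theorem mapField_spec {i : ℕ} (hi : i < D.rank) {y : ℕ} (hy : y < 2048)
    (hy' : 8 ≤ y ∧ y / 8 - 1 < D.nroots ∧ 1 ≤ y % 8) (b : ℕ) (e : ℤ) (he : e = if b % 2 = 0 then 1 else -1) :
    c.mapField i b y < 2048 ∧ c.mapField i b y ≠ 0 ∧
      decOne (c.mapField i b y) = (c.w i (decOne y).1, (decOne y).2 * c.η i (decOne y).1 * e) := by
  have hw := (hV.refl' hi hy'.2.1).2.1
  have hn := hV.nroots_lt
  simp only [Cert.mapField, Cert.η, decOne, Int.subNatNat_eq_coe]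
  have hb : bitAt c.etaP (i * c.nroots + (y / 8 - 1)) < 2 := Nat.mod_lt _ (by norm_num)
  generalize bitAt c.etaP (i * c.nroots + (y / 8 - 1)) = bu at hb ⊢
  generalize c.w i (y / 8 - 1) = W at hw ⊢
  subst he
  cases h0 : Nat.beq ((bu + b) % 2) 0 <;> cases h1 : Nat.beq bu 0 <;>
    (first | rw [Nat.beq_eq] at h0 | rw [← Bool.not_eq_true, Nat.beq_eq] at h0) <;>
    (first | rw [Nat.beq_eq] at h1 | rw [← Bool.not_eq_true, Nat.beq_eq] at h1) <;>
    simp only [cond_true, cond_false] <;>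
    refine ⟨by omega, by omega, Prod.ext ?_ ?_⟩ <;> dsimp only <;> (try omega) <;>
    split <;> omega

theorem ent_w {i : ℕ} (hi : i < D.rank) {r s : ℕ} (hr : r < D.nroots) (hs : s < D.nroots) :
    c.ent (c.w i r) (c.w i s) = c.mapTerms i (c.η i s) (c.η i r) 1 (c.ent r s) := by
  have h := hV.chain i (hV.rank_eq ▸ hi)
  simp only [Cert.chkChain, allLt_iff, allL_iff, Nat.beq_eq] at h
  have key : ∀ {r s : ℕ}, r < D.nroots → s ∈ c.keys r →
      c.ent (c.w i r) (c.w i s) = c.mapTerms i (c.η i s) (c.η i r) 1 (c.ent r s) := by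
    intro r s hr hs
    have hk := h r (hV.nroots_eq.symm ▸ hr) s hs
    obtain ⟨h0, hf⟩ := (hV.base'.1 r hr).2.2.2.2.2.2 s hs
    simp only [Cert.ent]
    rw [hk]
    generalize c.slot r s = x at h0 hf ⊢
    have hlt : ∀ k, fieldAt x k < 2048 := fun k => Nat.mod_lt _ (by norm_num)
    have hes : c.η i s = if bitAt c.etaP (i * c.nroots + s) % 2 = 0 then 1 else -1 := by
      rw [Cert.η]
      cases hb : Nat.beq (bitAt c.etaP (i * c.nroots + s)) 0
      · rw [← Bool.not_eq_true, Nat.beq_eq] at hb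
        have : bitAt c.etaP (i * c.nroots + s) < 2 := Nat.mod_lt _ (by norm_num)
        rw [if_neg (by omega)]; rfl
      · rw [Nat.beq_eq] at hb; rw [hb]; rfl
    have her : c.η i r = if bitAt c.etaP (i * c.nroots + r) % 2 = 0 then 1 else -1 := by
      rw [Cert.η]
      cases hb : Nat.beq (bitAt c.etaP (i * c.nroots + r)) 0
      · rw [← Bool.not_eq_true, Nat.beq_eq] at hb
        have : bitAt c.etaP (i * c.nroots + r) < 2 := Nat.mod_lt _ (by norm_num)
        rw [if_neg (by omega)]; rfl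
      · rw [Nat.beq_eq] at hb; rw [hb]; rfl
    generalize c.η i s = es at hes ⊢
    generalize c.η i r = er at her ⊢
    generalize bitAt c.etaP (i * c.nroots + s) = bs at hes ⊢
    generalize bitAt c.etaP (i * c.nroots + r) = br at her ⊢
    have hpar : ∀ a b : ℕ, (if (a + b) % 2 = 0 then (1 : ℤ) else -1) =
        (if a % 2 = 0 then 1 else -1) * (if b % 2 = 0 then 1 else -1) := by
      intro a b
      rcases Nat.mod_two_eq_zero_or_one a with ha | ha <;> rcases Nat.mod_two_eq_zero_or_one b with hb | hb <;>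
        simp [ha, hb, Nat.add_mod]
    have m1 := hV.mapField_spec hi (hlt 0) ((hf 0 (by omega)).resolve_left h0) (bs + br) (es * (1 * er))
      (by rw [hpar, hes, her, one_mul])
    simp only [Cert.mapSlot, decTerms]
    have b0 : Nat.beq (fieldAt x 0) 0 = false := by rw [← Bool.not_eq_true, Nat.beq_eq]; exact h0
    simp only [b0, cond_false]
    obtain ⟨p0, p0', p0''⟩ := m1
    by_cases h1 : fieldAt x 1 = 0
    · have b1 : Nat.beq (fieldAt x 1) 0 = true := by rw [Nat.beq_eq]; exact h1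
      have e := fieldAt_add (c.mapField i (bs + br) (fieldAt x 0)) 0 p0
      simp only [Nat.mul_zero, Nat.add_zero] at e
      have b0' : Nat.beq (c.mapField i (bs + br) (fieldAt x 0)) 0 = false := by
        rw [← Bool.not_eq_true, Nat.beq_eq]; exact p0'
      simp only [b1, cond_true, Nat.add_zero, e.1, e.2 0, fieldAt_zero, b0', cond_false, Cert.mapTerms,
        Nat.beq_eq, p0'', mul_assoc]
      rfl
    have b1 : Nat.beq (fieldAt x 1) 0 = false := by rw [← Bool.not_eq_true, Nat.beq_eq]; exact h1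
    obtain ⟨p1, p1', p1''⟩ := hV.mapField_spec hi (hlt 1) ((hf 1 (by omega)).resolve_left h1) (bs + 2 * br)
      (es * (1 * er * er)) (by rw [two_mul, hpar, hpar, hes, her, one_mul])
    simp only [b1, cond_false]
    have e := fun R => fieldAt_add (c.mapField i (bs + br) (fieldAt x 0)) R p0
    have b0' : Nat.beq (c.mapField i (bs + br) (fieldAt x 0)) 0 = false := by
      rw [← Bool.not_eq_true, Nat.beq_eq]; exact p0'
    have b1' : Nat.beq (c.mapField i (bs + 2 * br) (fieldAt x 1)) 0 = false := by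
      rw [← Bool.not_eq_true, Nat.beq_eq]; exact p1'
    by_cases h2 : fieldAt x 2 = 0
    · have b2 : Nat.beq (fieldAt x 2) 0 = true := by rw [Nat.beq_eq]; exact h2
      have e' := fieldAt_add (c.mapField i (bs + 2 * br) (fieldAt x 1)) 0 p1
      simp only [Nat.mul_zero, Nat.add_zero] at e'
      simp only [b2, cond_true, Nat.add_zero, (e _).1, (e _).2 0, (e _).2 1, e'.1, e'.2 0, fieldAt_zero, b0', b1',
        cond_false, Cert.mapTerms, p0'', p1'', mul_assoc]
      rfl
    have b2 : Nat.beq (fieldAt x 2) 0 = false := by rw [← Bool.not_eq_true, Nat.beq_eq]; exact h2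
    obtain ⟨p2, p2', p2''⟩ := hV.mapField_spec hi (hlt 2) ((hf 2 (by omega)).resolve_left h2) (bs + 3 * br)
      (es * (1 * er * er * er)) (by rw [show 3 * br = br + br + br by ring, hpar, hpar, hpar, hes, her, one_mul])
    have b2' : Nat.beq (c.mapField i (bs + 3 * br) (fieldAt x 2)) 0 = false := by
      rw [← Bool.not_eq_true, Nat.beq_eq]; exact p2'
    have e' := fun R => fieldAt_add (c.mapField i (bs + 2 * br) (fieldAt x 1)) R p1
    have e'' := fieldAt_add (c.mapField i (bs + 3 * br) (fieldAt x 2)) 0 p2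
    simp only [Nat.mul_zero, Nat.add_zero] at e''
    simp only [b2, cond_false, (e _).1, (e _).2 0, (e _).2 1, (e' _).1, (e' _).2 0, e''.1, b0', b1', b2',
      Cert.mapTerms, p0'', p1'', p2'', mul_assoc]
  obtain ⟨-, hkl, hz⟩ := hV.keys_spec hr
  by_cases hsk : s ∈ c.keys r
  · exact key hr hsk
  · rw [hz s hsk, Cert.mapTerms]
    by_contra hne
    have hwr := hV.w_lt hi hr
    have hws : c.w i s ∈ c.keys (c.w i r) := by
      by_contra hc; exact hne ((hV.keys_spec hwr).2.2 _ hc)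
    have h' := key hwr hws
    rw [hV.w_w hi hr, hV.w_w hi hs, hz s hsk] at h'
    cases hl : c.ent (c.w i r) (c.w i s) with
    | nil => exact hne hl
    | cons a l => rw [hl] at h'; simp [Cert.mapTerms] at h'

theorem reach_sound {ok : ℕ → Bool} {P : ℕ → Prop}
    (step : ∀ i, ok i = true → ∀ s, P s → P (c.w i s)) :
    ∀ (l : List (ℕ × ℕ)) (known final : ℕ), c.reach ok known l = some final →
      (∀ s, known.testBit s = true → P s) → ∀ s, final.testBit s = true → P s := by
  intro l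
  induction l with
  | nil => intro known final h hk; simp only [Cert.reach, Option.some.injEq] at h; subst h; exact hk
  | cons x l ih =>
    intro known final h hk
    obtain ⟨i, s⟩ := x
    rw [Cert.reach] at h
    cases hb : ok i && Nat.beq (bitAt known s) 1 with
    | false => rw [hb, cond_false] at h; exact absurd h (by simp)
    | true =>
      rw [hb, cond_true] at h
      rw [Bool.and_eq_true, bitAt_eq_one_iff] at hb
      refine ih _ _ h fun u hu => ?_
      change (known ||| 2 ^ c.w i s).testBit u = true at hu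
      rw [Nat.testBit_or, Bool.or_eq_true] at hu
      rcases hu with hu | hu
      · exact hk u hu
      · rw [Nat.testBit_two_pow, decide_eq_true_eq] at hu
        exact hu ▸ step i hb.1 s (hk s hb.2)

omit hV in
theorem testBit_maskOf {l : List ℕ} {s : ℕ} (h : (Cert.maskOf l).testBit s = true) : s ∈ l := by
  induction l with
  | nil => simp [Cert.maskOf] at h
  | cons a l ih =>
    change (Cert.maskOf l ||| 2 ^ a).testBit s = true at h
    rw [Nat.testBit_or, Bool.or_eq_true] at h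
    rcases h with h | h
    · exact List.mem_cons_of_mem _ (ih h)
    · rw [Nat.testBit_two_pow, decide_eq_true_eq] at h
      exact h ▸ List.mem_cons_self

theorem covers_sound {ok : ℕ → Bool} {start : List ℕ} {tree : List (ℕ × ℕ)}
    (h : c.covers ok start tree = true) {P : ℕ → Prop} (base : ∀ s ∈ start, P s)
    (step : ∀ i, ok i = true → ∀ s, P s → P (c.w i s)) {r : ℕ} (hr : r < D.nroots) : P r := by
  rw [Cert.covers] at h
  split at h
  · simp at h
  · next known hk =>
    simp only [allLt_iff, bitAt_eq_one_iff, hV.nroots_eq] at h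
    exact hV.reach_sound step tree _ known hk (fun s hs => base s (testBit_maskOf hs)) r (h r hr)

theorem trees' : c.covers (fun i => Nat.blt i c.rank) ((List.range c.rank).map c.p) c.stree = true ∧
    c.covers (fun i => Nat.blt i c.rank) (c.reps.map Rep.root) c.rtree = true ∧
    ∀ ρ ∈ c.reps, ρ.root < D.nroots ∧ (∀ s ∈ ρ.bases, s < D.nroots) ∧
      c.covers (fun i => Nat.blt i c.rank && c.w i ρ.root == ρ.root) ρ.bases ρ.tree = true := by
  have h := hV.trees
  simp only [Cert.chkTrees, Bool.and_eq_true, List.all_eq_true, Nat.blt_eq, hV.nroots_eq] at h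
  exact ⟨h.1.1, h.1.2, fun ρ hρ => ⟨(h.2 ρ hρ).1.1, (h.2 ρ hρ).1.2, (h.2 ρ hρ).2⟩⟩

/-- Every root is reached from a fundamental root by fundamental reflections. -/
theorem root_induction {P : ℕ → Prop} (base : ∀ i < D.rank, P (c.p i))
    (step : ∀ i < D.rank, ∀ s < D.nroots, P s → P (c.w i s)) {r : ℕ} (hr : r < D.nroots) : P r := by
  refine (hV.covers_sound (P := fun s => s < D.nroots ∧ P s) hV.trees'.1 ?_ ?_ hr).2
  · intro s hs
    obtain ⟨i, hi, rfl⟩ := List.mem_map.1 hs
    rw [List.mem_range, hV.rank_eq] at hi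
    exact ⟨hV.p_lt hi, base i hi⟩
  · intro i hi s hs
    rw [Nat.blt_eq, hV.rank_eq] at hi
    exact ⟨hV.w_lt hi hs.1, step i hi s hs.1 hs.2⟩

/-- A property of pairs of roots invariant under the fundamental reflections follows from the base pairs. -/
theorem pair_induction {P : ℕ → ℕ → Prop} (base : ∀ ρ ∈ c.reps, ∀ s ∈ ρ.bases, P ρ.root s)
    (step : ∀ i < D.rank, ∀ r < D.nroots, ∀ s < D.nroots, P r s → P (c.w i r) (c.w i s))
    {r s : ℕ} (hr : r < D.nroots) (hs : s < D.nroots) : P r s := by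
  suffices h : r < D.nroots ∧ ∀ s < D.nroots, P r s from h.2 s hs
  refine hV.covers_sound (P := fun r => r < D.nroots ∧ ∀ s < D.nroots, P r s) hV.trees'.2.1 ?_ ?_ hr
  · intro r0 hr0
    obtain ⟨ρ, hρ, rfl⟩ := List.mem_map.1 hr0
    obtain ⟨h1, h2, h3⟩ := hV.trees'.2.2 ρ hρ
    refine ⟨h1, fun s hs => (hV.covers_sound (P := fun s => s < D.nroots ∧ P ρ.root s) h3 ?_ ?_ hs).2⟩
    · exact fun s hs => ⟨h2 s hs, base ρ hρ s hs⟩
    · intro i hi s hs
      rw [Bool.and_eq_true, Nat.blt_eq, hV.rank_eq, beq_iff_eq] at hi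
      refine ⟨hV.w_lt hi.1 hs.1, ?_⟩
      have := step i hi.1 ρ.root h1 s hs.1 hs.2
      rwa [hi.2] at this
  · intro i hi r1 h1
    rw [Nat.blt_eq, hV.rank_eq] at hi
    refine ⟨hV.w_lt hi h1.1, fun s hs => ?_⟩
    have := step i hi r1 h1.1 (c.w i s) (hV.w_lt hi hs) (h1.2 _ (hV.w_lt hi hs))
    rwa [hV.w_w hi hs] at this

theorem chain_transfer {i : ℕ} (hi : i < D.rank) {r s : ℕ} (hr : r < D.nroots) (hs : s < D.nroots) (es er : ℤ) :
    ∀ (l : Terms) (k prev : ℕ) (acc : ℤ), prev < D.nroots → (∀ q ∈ l, q.1 < D.nroots) →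
      c.succOK r prev l = true → c.weightOK r s k l = true →
      c.succOK (c.w i r) (c.w i prev) (c.mapTerms i es er acc l) = true ∧
        c.weightOK (c.w i r) (c.w i s) k (c.mapTerms i es er acc l) = true := by
  intro l
  induction l with
  | nil => intros; exact ⟨rfl, rfl⟩
  | cons x l ih =>
    intro k prev acc hprev hl h1 h2
    obtain ⟨u, M⟩ := x
    have hu : u < D.nroots := hl (u, M) List.mem_cons_self
    simp only [Cert.succOK, Cert.weightOK, Cert.mapTerms, Bool.and_eq_true, beq_iff_eq, allLt_iff, hV.rank_eq]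
      at h1 h2 ⊢
    obtain ⟨i1, i2⟩ := ih (k + 1) u (acc * er) hu (fun q hq => hl q (List.mem_cons_of_mem _ hq)) h1.2 h2.2
    refine ⟨⟨?_, i1⟩, fun j hj => ?_, i2⟩
    · have h3 := h1.1
      rw [Cert.cRoot] at h3 ⊢
      rw [hV.ent_w hi hr hprev]
      cases hl' : c.ent r prev with
      | nil => simp [hl'] at h3
      | cons a l' =>
        simp only [hl', Nat.sub_self, List.getElem?_cons_zero, Option.map_some, Option.some.injEq] at h3
        simp [Cert.mapTerms, h3]
    · rw [((hV.refl' hi hu).2.2.2.2.2.2.2.1 j hj).1, ((hV.refl' hi hs).2.2.2.2.2.2.2.1 j hj).1,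
        ((hV.refl' hi hr).2.2.2.2.2.2.2.1 j hj).1, h2.1 j hj, h2.1 i hi]
      ring

/-- Along every chain the roots are successive sums and the Cartan integers are additive. -/
theorem chain_ok {r s : ℕ} (hr : r < D.nroots) (hs : s < D.nroots) :
    c.succOK r s (c.ent r s) = true ∧ c.weightOK r s 0 (c.ent r s) = true := by
  refine hV.pair_induction (P := fun r s => c.succOK r s (c.ent r s) = true ∧ c.weightOK r s 0 (c.ent r s) = true)
    ?_ ?_ hr hs
  · intro ρ hρ s hs
    have h := hV.weight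
    simp only [Cert.chkWeight, List.all_eq_true, Bool.and_eq_true] at h
    exact h ρ hρ s hs
  · intro i hi r hr s hs h
    rw [hV.ent_w hi hr hs]
    exact hV.chain_transfer hi hr hs _ _ _ 0 s 1 hs (fun q hq => hV.ent_lt hr hq) h.1 h.2

theorem colSem_inl (t : F) {j : ℕ} (hj : j < D.rank) (r : ℕ) :
    colSem D t (c.col r j) = bvec D F j - ((c.A j r : F) * t) • bvec D F (D.rank + r) := by
  rw [Cert.col, if_pos (hV.rank_eq.symm ▸ hj), colSem, hV.rank_eq]
  simp [sub_eq_add_neg, neg_smul]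

theorem colSem_self (t : F) {r : ℕ} (hr : r < D.nroots) :
    colSem D t (c.col r (D.rank + r)) = bvec D F (D.rank + r) := by
  simp [Cert.col, colSem, hV.rank_eq, hV.nroots_eq, hr]

theorem colSem_ng (t : F) {r : ℕ} (hr : r < D.nroots) :
    colSem D t (c.col r (D.rank + c.ng r)) = bvec D F (D.rank + c.ng r)
      + t • ∑ j ∈ Finset.range D.rank, (c.crt r j : F) • bvec D F j - t ^ 2 • bvec D F (D.rank + r) := by
  have h1 := hV.ng_lt hr
  simp only [Cert.col, hV.rank_eq, hV.nroots_eq, Nat.add_sub_cancel_left, if_neg (hV.ng_ne hr)]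
  rw [if_neg (by omega), if_pos (by omega), if_pos trivial, colSem]
  simp only [List.cons_append, List.map_cons, List.map_append, List.map_map, List.sum_cons, List.sum_append,
    List.map_nil, List.sum_nil, Function.comp_def, list_range_sum, Finset.smul_sum, smul_smul]
  simp only [pow_one, pow_zero, Int.cast_one, one_mul, one_smul, Int.cast_neg, neg_smul, neg_mul, add_zero,
    mul_comm t]
  abel

theorem colSem_other (t : F) {r s : ℕ} (hr : r < D.nroots) (hs : s < D.nroots) (h1 : s ≠ r) (h2 : s ≠ c.ng r) :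
    colSem D t (c.col r (D.rank + s)) = bvec D F (D.rank + s) +
      ((c.ent r s).zipIdx.map fun q => ((q.1.2 : F) * t ^ (q.2 + 1)) • bvec D F (D.rank + q.1.1)).sum := by
  simp only [Cert.col, hV.rank_eq, hV.nroots_eq, Nat.add_sub_cancel_left, if_neg h1, if_neg h2]
  rw [if_neg (by omega), if_pos (by omega), colSem]
  simp [Function.comp_def]

theorem x_zero {r : ℕ} (hr : r < D.nroots) : D.x F r 0 = 1 := by
  refine ext_bvec fun idx hidx => ?_
  rw [hV.mulVec_bvec hr, Matrix.one_mulVec]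
  by_cases hj : idx < D.rank
  · simp [hV.colSem_inl (0 : F) hj]
  obtain ⟨s, rfl⟩ : ∃ s, D.rank + s = idx := ⟨idx - D.rank, by omega⟩
  have hs : s < D.nroots := by omega
  by_cases h1 : s = r
  · subst h1; rw [hV.colSem_self (0 : F) hr]
  by_cases h2 : s = c.ng r
  · subst h2; simp [hV.colSem_ng (0 : F) hr]
  rw [hV.colSem_other (0 : F) hr hs h1 h2, List.sum_eq_zero fun z hz => by
    obtain ⟨q, -, rfl⟩ := List.mem_map.1 hz
    simp, add_zero]

/-- n_p(t) for a fundamental root p as a product of root elements. -/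
theorem nMat_eq {i : ℕ} (hi : i < D.rank) (t : F) :
    D.nMat F (D.simple i) t = D.x F (c.p i) t * D.x F (c.ng (c.p i)) (-t⁻¹) * D.x F (c.p i) t := by
  simp [ChevalleyDatum.nMat, ChevalleyDatum.nWord, ChevalleyDatum.wordMat, hV.p_eq hi, hV.ng_eq (hV.p_lt hi),
    mul_assoc]

theorem nMat_col {i : ℕ} (hi : i < D.rank) {t : F} (ht : t ≠ 0) {idx : ℕ} (hidx : idx < D.rank + D.nroots) :
    D.nMat F (D.simple i) t *ᵥ bvec D F idx = vecVal D t 0 t⁻¹ (c.nCol i idx) := by
  have h := hV.nMon i (hV.rank_eq ▸ hi)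
  rw [Cert.chkN, allLt_iff] at h
  have hinv : true = true → t * t⁻¹ = (1 : F) := fun _ => mul_inv_cancel₀ ht
  have hl : ∀ l ∈ [(c.p i, ([(1, (1, 0, 0))] : Pol)), (c.ng (c.p i), [(-1, (0, 0, 1))]), (c.p i, [(1, (1, 0, 0))])],
      l.1 < D.nroots := by
    simp [hV.p_lt hi, hV.ng_lt (hV.p_lt hi)]
  rw [← vecVal_eq_of_vEq D (h idx (by rwa [hV.rank_eq, hV.nroots_eq])), ← hV.evalWord_sound hinv _ hl]
  congr 1
  simp [hV.nMat_eq hi, polWordMat, polVal, monVal, mul_assoc]

theorem nMat_inl {i : ℕ} (hi : i < D.rank) {t : F} (ht : t ≠ 0) {j : ℕ} (hj : j < D.rank) :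
    D.nMat F (D.simple i) t *ᵥ bvec D F j = bvec D F j - (c.A j (c.p i) : F) • bvec D F i := by
  rw [hV.nMat_col hi ht (by omega), Cert.nCol, if_pos (hV.rank_eq.symm ▸ hj)]
  simp [vecVal, monVal, sub_eq_add_neg, neg_smul]

theorem nMat_inr {i : ℕ} (hi : i < D.rank) {t : F} (ht : t ≠ 0) {s : ℕ} (hs : s < D.nroots) :
    D.nMat F (D.simple i) t *ᵥ bvec D F (D.rank + s) =
      ((c.η i s : F) * t ^ (- c.A i s)) • bvec D F (D.rank + c.w i s) := by
  rw [hV.nMat_col hi ht (by omega)]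
  simp only [Cert.nCol, hV.rank_eq, Nat.add_sub_cancel_left, if_neg (by omega : ¬ D.rank + s < D.rank), vecVal,
    monVal, List.map_cons, List.map_nil, List.sum_cons, List.sum_nil, add_zero, pow_zero, mul_one]
  congr 2
  rcases Int.eq_nat_or_neg (c.A i s) with ⟨n, h | h⟩ <;> simp [h]

theorem nMat_one_inr {i : ℕ} (hi : i < D.rank) {s : ℕ} (hs : s < D.nroots) :
    D.nMat F (D.simple i) 1 *ᵥ bvec D F (D.rank + s) = (c.η i s : F) • bvec D F (D.rank + c.w i s) := by
  simp [hV.nMat_inr hi one_ne_zero hs]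

theorem nMat_mul_nMat {i : ℕ} (hi : i < D.rank) {a b : F} (ha : a ≠ 0) (hb : b ≠ 0) :
    D.nMat F (D.simple i) a * D.nMat F (D.simple i) b = hdiag D (fun s => (-(a / b)) ^ c.A i s) := by
  refine ext_bvec fun idx hidx => ?_
  rw [← Matrix.mulVec_mulVec]
  by_cases hj : idx < D.rank
  · rw [hV.nMat_inl hi hb hj, Matrix.mulVec_sub, Matrix.mulVec_smul, hV.nMat_inl hi ha hj, hV.nMat_inl hi ha hi,
      hdiag_mulVec_inl D _ hj, hV.A_p hi]
    module
  obtain ⟨s, rfl⟩ : ∃ s, D.rank + s = idx := ⟨idx - D.rank, by omega⟩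
  have hs : s < D.nroots := by omega
  rw [hV.nMat_inr hi hb hs, Matrix.mulVec_smul, hV.nMat_inr hi ha (hV.w_lt hi hs), hV.w_w hi hs,
    hdiag_mulVec_inr D _ hs, smul_smul, hV.A_w_self hi hs]
  congr 1
  rw [neg_neg, show ((c.η i s : ℤ) : F) * b ^ (-c.A i s) * ((c.η i (c.w i s) : F) * a ^ c.A i s)
    = ((c.η i s : F) * (c.η i (c.w i s) : F)) * (b ^ (-c.A i s) * a ^ c.A i s) by ring,
    hV.eta_cast_eta_w hi hs, _root_.zpow_neg, ← neg_one_mul (a / b), mul_zpow, div_zpow]
  ring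

theorem chain_sum_conj {i : ℕ} (hi : i < D.rank) (es er : ℤ) (hes : es * es = 1) (her : er * er = 1) (t : F) :
    ∀ (l : Terms) (k : ℕ) (acc : ℤ), acc = er ^ k → (∀ q ∈ l, q.1 < D.nroots) →
      D.nMat F (D.simple i) 1 *ᵥ
          ((l.zipIdx k).map fun q => ((q.1.2 : F) * t ^ (q.2 + 1)) • bvec D F (D.rank + q.1.1)).sum =
        (es : F) • (((c.mapTerms i es er acc l).zipIdx k).map
          fun q => ((q.1.2 : F) * ((er : F) * t) ^ (q.2 + 1)) • bvec D F (D.rank + q.1.1)).sum := by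
  intro l
  induction l with
  | nil => intros; simp [Cert.mapTerms]
  | cons x l ih =>
    intro k acc hacc hl
    obtain ⟨u, M⟩ := x
    simp only [Cert.mapTerms, List.zipIdx_cons, List.map_cons, List.sum_cons, Matrix.mulVec_add, Matrix.mulVec_smul,
      smul_add]
    rw [ih (k + 1) (acc * er) (by rw [hacc, pow_succ]) (fun q hq => hl q (List.mem_cons_of_mem _ hq)),
      hV.nMat_one_inr hi (hl (u, M) List.mem_cons_self), smul_smul, smul_smul]
    congr 2
    have h1 : (es : F) * (es : F) = 1 := by rw [← Int.cast_mul, hes, Int.cast_one]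
    have h2 : (er : F) * (er : F) = 1 := by rw [← Int.cast_mul, her, Int.cast_one]
    have h3 : (er : F) ^ (k + 1) * (er : F) ^ (k + 1) = 1 := by rw [← mul_pow, h2, one_pow]
    simp only [hacc, Int.cast_mul, Int.cast_pow, mul_pow]
    calc (M : F) * t ^ (k + 1) * (c.η i u : F)
        = (M : F) * t ^ (k + 1) * (c.η i u : F) * (((es : F) * es) * ((er : F) ^ (k + 1) * (er : F) ^ (k + 1))) := by
          rw [h1, h3, mul_one, mul_one]
      _ = _ := by rw [pow_succ (er : F) k]; ring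

/-- n_p x_s(t) = x_{w_p(s)}(±t) n_p for a fundamental root p. -/
theorem nMat_mul_x {i : ℕ} (hi : i < D.rank) {s : ℕ} (hs : s < D.nroots) (t : F) :
    D.nMat F (D.simple i) 1 * D.x F s t = D.x F (c.w i s) ((c.η i s : F) * t) * D.nMat F (D.simple i) 1 := by
  have hws := hV.w_lt hi hs
  have he := hV.eta_cast_sq (F := F) hi hs
  refine ext_bvec fun idx hidx => ?_
  rw [← Matrix.mulVec_mulVec, ← Matrix.mulVec_mulVec, hV.mulVec_bvec hs]
  by_cases hj : idx < D.rank
  · rw [hV.colSem_inl t hj, Matrix.mulVec_sub, Matrix.mulVec_smul, hV.nMat_inl hi one_ne_zero hj,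
      hV.nMat_one_inr hi hs, Matrix.mulVec_sub, Matrix.mulVec_smul, hV.mulVec_bvec hws, hV.mulVec_bvec hws,
      hV.colSem_inl _ hj, hV.colSem_inl _ hi, ((hV.refl' hi hs).2.2.2.2.2.2.2.1 idx hj).1, hV.A_w_self hi hs]
    push_cast
    module
  obtain ⟨u, rfl⟩ : ∃ u, D.rank + u = idx := ⟨idx - D.rank, by omega⟩
  have hu : u < D.nroots := by omega
  rw [hV.nMat_one_inr hi hu, Matrix.mulVec_smul, hV.mulVec_bvec hws]
  by_cases h1 : u = s
  · subst h1
    rw [hV.colSem_self _ hs, hV.colSem_self _ hws, hV.nMat_one_inr hi hs]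
  by_cases h2 : u = c.ng s
  · subst h2
    rw [hV.w_ng hi hs, hV.eta_ng hi hs, hV.colSem_ng _ hs, hV.colSem_ng _ hws]
    simp only [Matrix.mulVec_sub, Matrix.mulVec_add, Matrix.mulVec_smul, mulVec_sum, hV.nMat_one_inr hi hu,
      hV.nMat_one_inr hi hs, hV.w_ng hi hs, hV.eta_ng hi hs]
    have e1 : ∑ j ∈ Finset.range D.rank, (c.crt s j : F) • (D.nMat F (D.simple i) 1 *ᵥ bvec D F j) =
        ∑ j ∈ Finset.range D.rank, (c.crt (c.w i s) j : F) • bvec D F j := by
      have e2 : ∀ j ∈ Finset.range D.rank, (c.crt (c.w i s) j : F) • bvec D F j =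
          (c.crt s j : F) • bvec D F j - (if j = i then (c.pair s (c.p i) : F) else 0) • bvec D F i := by
        intro j hj
        rw [((hV.refl' hi hs).2.2.2.2.2.2.2.1 j (Finset.mem_range.1 hj)).2]
        by_cases hji : j = i
        · subst hji; simp [sub_smul]
        · simp [hji]
      rw [Finset.sum_congr rfl e2, Finset.sum_congr rfl fun j hj => by
        rw [hV.nMat_inl hi one_ne_zero (Finset.mem_range.1 hj), smul_sub, smul_smul]]
      rw [Finset.sum_sub_distrib, Finset.sum_sub_distrib, ← Finset.sum_smul, ← Finset.sum_smul,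
        Finset.sum_ite_eq' (Finset.range D.rank) i, if_pos (Finset.mem_range.2 hi)]
      congr 2
      simp [Cert.pair, hV.rank_eq, list_range_sum]
    rw [e1, smul_sub, smul_add, smul_smul, smul_smul, smul_smul]
    rw [← mul_assoc ((c.η i s : F)) (c.η i s : F) t, he, one_mul,
      show (c.η i s : F) * ((c.η i s : F) * t) ^ 2 = t ^ 2 * (c.η i s : F) by
        rw [mul_pow, sq (c.η i s : F), he]; ring]
  have h1' : c.w i u ≠ c.w i s := fun h => h1 (by rw [← hV.w_w hi hu, h, hV.w_w hi hs])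
  have h2' : c.w i u ≠ c.ng (c.w i s) := fun h => h2 (by
    rw [← hV.w_w hi hu, h, hV.w_ng hi hws, hV.w_w hi hs])
  rw [hV.colSem_other _ hs hu h1 h2, hV.colSem_other _ hws (hV.w_lt hi hu) h1' h2', Matrix.mulVec_add,
    hV.nMat_one_inr hi hu, smul_add, hV.ent_w hi hs hu]
  congr 1
  exact hV.chain_sum_conj hi _ _ (hV.eta_sq hi hu) (hV.eta_sq hi hs) t _ 0 1 (pow_zero _).symm
    fun q hq => hV.ent_lt hs hq

theorem succOK_getElem {r : ℕ} : ∀ (l : Terms) (prev : ℕ), c.succOK r prev l = true →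
    ∀ (k : ℕ) (q : ℕ × ℤ), l[k]? = some q →
      c.cRoot r (if k = 0 then prev else (l.getD (k - 1) (0, 0)).1) 1 = some q.1 := by
  intro l
  induction l with
  | nil => simp
  | cons x l ih =>
    intro prev h k q hk
    simp only [Cert.succOK, Bool.and_eq_true, beq_iff_eq] at h
    cases k with
    | zero => simp only [List.getElem?_cons_zero, Option.some.injEq] at hk; subst hk; simpa using h.1
    | succ k =>
      simp only [List.getElem?_cons_succ] at hk
      have := ih x.1 h.2 k q hk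
      cases k <;> simpa using this

theorem weightOK_getElem {r s : ℕ} : ∀ (l : Terms) (k₀ : ℕ), c.weightOK r s k₀ l = true →
    ∀ (k : ℕ) (q : ℕ × ℤ), l[k]? = some q → ∀ j < D.rank, c.A j q.1 = c.A j s + (k₀ + k + 1 : ℕ) * c.A j r := by
  intro l
  induction l with
  | nil => simp
  | cons x l ih =>
    intro k₀ h k q hk j hj
    simp only [Cert.weightOK, Bool.and_eq_true, allLt_iff, beq_iff_eq, hV.rank_eq] at h
    cases k with
    | zero => simp only [List.getElem?_cons_zero, Option.some.injEq] at hk; subst hk; simpa using h.1 j hj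
    | succ k =>
      simp only [List.getElem?_cons_succ] at hk
      rw [ih (k₀ + 1) h.2 k q hk j hj, show k₀ + 1 + k + 1 = k₀ + (k + 1) + 1 by omega]

theorem A_chain {r s : ℕ} (hr : r < D.nroots) {k : ℕ} {q : ℕ × ℤ} (h : (c.ent r s)[k]? = some q) {j : ℕ}
    (hj : j < D.rank) : c.A j q.1 = c.A j s + (k + 1 : ℕ) * c.A j r := by
  obtain ⟨-, hkl, hz⟩ := hV.keys_spec hr
  have hs : s < D.nroots := by
    refine hkl s ?_
    by_contra hc; simp [hz s hc] at h
  have := hV.weightOK_getElem _ 0 (hV.chain_ok hr hs).2 k q h j hj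
  simpa using this

/-- A function on the roots is multiplicative for the root r: on its negative and along its chains. -/
def ChiAt (_hV : Valid D c) (χ : ℕ → F) (r : ℕ) : Prop :=
  χ (c.ng r) * χ r = 1 ∧ ∀ s < D.nroots, ∀ k q, (c.ent r s)[k]? = some q → χ q.1 = χ s * χ r ^ (k + 1)

/-- Conjugation of a root element by a diagonal matrix. -/
theorem hdiag_mul_x {χ : ℕ → F} {r : ℕ} (hr : r < D.nroots) (hχ : hV.ChiAt χ r) (t : F) :
    hdiag D χ * D.x F r t = D.x F r (χ r * t) * hdiag D χ := by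
  refine ext_bvec fun idx hidx => ?_
  rw [← Matrix.mulVec_mulVec, ← Matrix.mulVec_mulVec, hV.mulVec_bvec hr]
  by_cases hj : idx < D.rank
  · rw [hdiag_mulVec_inl D χ hj, hV.mulVec_bvec hr, hV.colSem_inl _ hj, hV.colSem_inl _ hj, Matrix.mulVec_sub,
      Matrix.mulVec_smul, hdiag_mulVec_inl D χ hj, hdiag_mulVec_inr D χ hr, smul_smul]
    congr 2
    ring
  obtain ⟨u, rfl⟩ : ∃ u, D.rank + u = idx := ⟨idx - D.rank, by omega⟩
  have hu : u < D.nroots := by omega
  rw [hdiag_mulVec_inr D χ hu, Matrix.mulVec_smul, hV.mulVec_bvec hr]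
  by_cases h1 : u = r
  · subst h1
    rw [hV.colSem_self _ hr, hV.colSem_self _ hr, hdiag_mulVec_inr D χ hr]
  by_cases h2 : u = c.ng r
  · subst h2
    simp only [hV.colSem_ng _ hr, Matrix.mulVec_sub, Matrix.mulVec_add, Matrix.mulVec_smul, mulVec_sum,
      hdiag_mulVec_inr D χ hr, hdiag_mulVec_inr D χ hu, smul_sub, smul_add, smul_smul]
    rw [Finset.sum_congr rfl fun j hj => by rw [hdiag_mulVec_inl D χ (Finset.mem_range.1 hj)]]
    rw [← mul_assoc, hχ.1, one_mul, show χ (c.ng r) * (χ r * t) ^ 2 = t ^ 2 * χ r by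
      rw [mul_pow, sq (χ r), ← mul_assoc, ← mul_assoc, hχ.1]; ring]
  rw [hV.colSem_other _ hr hu h1 h2, hV.colSem_other _ hr hu h1 h2, Matrix.mulVec_add, hdiag_mulVec_inr D χ hu,
    smul_add, mulVec_list_sum, list_sum_smul]
  congr 2
  refine List.map_congr_left fun q hq => ?_
  obtain ⟨hq1, hq2⟩ := List.mem_zipIdx_iff_getElem?.1 hq, trivial
  rw [Matrix.mulVec_smul, hdiag_mulVec_inr D χ (hV.ent_lt hr (mem_of_zipIdx hq)), smul_smul, smul_smul,
    hχ.2 u hu q.2 q.1 hq1]
  congr 1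
  ring

theorem chiAt_zpow {i : ℕ} (hi : i < D.rank) {x : F} (hx : x ≠ 0) {r : ℕ} (hr : r < D.nroots) :
    hV.ChiAt (fun s => x ^ c.A i s) r := by
  refine ⟨?_, fun s _ k q hq => ?_⟩ <;> dsimp only
  · rw [((hV.base'.1 r hr).2.2.2.1 i hi).1, _root_.zpow_neg, inv_mul_cancel₀ (zpow_ne_zero _ hx)]
  · rw [hV.A_chain hr hq hi, zpow_add₀ hx, ← zpow_natCast (x ^ c.A i r), ← _root_.zpow_mul, mul_comm (c.A i r)]

theorem hMat_eq {i : ℕ} (hi : i < D.rank) {t : F} (ht : t ≠ 0) :
    D.hMat F (D.simple i) t = hdiag D (fun s => t ^ c.A i s) := by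
  have : D.hMat F (D.simple i) t = D.nMat F (D.simple i) t * D.nMat F (D.simple i) (-1) := by
    simp [ChevalleyDatum.hMat, ChevalleyDatum.hWord, ChevalleyDatum.nMat, ChevalleyDatum.wordMat]
  rw [this, hV.nMat_mul_nMat hi ht (neg_ne_zero.2 one_ne_zero)]
  refine hdiag_congr D fun s _ => ?_
  simp [div_neg]

end Valid

end Cfsg.Agent.Chev
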