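/-
The relations between the root elements of a certified datum: additivity, the commutator formula,
n_r(a) n_r(b) and h_r(t) for every root, and induction over the roots by fundamental reflections.
The statements are in the vocabulary of the datum; `hG : Good D` is obtained from `good_of_mem` (Lib/Chev/Seven).
-/
import Cfsg.Agent.Lib.Chev.Monomial

set_option autoImplicit false

namespace Cfsg.Agent.Chev

open Cfsg.Lie Matrix

variable {F : Type*} [Field F] {D : ChevalleyDatum}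

namespace Valid

variable {c : Cert} (hV : Valid D c)
include hV

theorem comm_lt {r s : ℕ} (hr : r < D.nroots) (hs : s < D.nroots) {x : ℕ × ℤ × ℕ × ℕ}
    (hx : x ∈ c.comm r s) : x.1 < D.nroots := by
  have hlt : ∀ {a b i k : ℕ}, a < D.nroots → c.cRoot a b i = some k → k < D.nroots := by
    intro a b i k ha h
    simp only [Cert.cRoot, Option.map_eq_some_iff] at h
    obtain ⟨q, hq, rfl⟩ := h
    exact hV.ent_lt ha (List.mem_of_getElem? hq)
  simp only [Cert.comm, List.mem_filterMap, List.mem_cons, List.not_mem_nil, or_false, Option.map_eq_some_iff] at hx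
  obtain ⟨y, hy, k, hk, rfl⟩ := hx
  dsimp only
  rcases hy with rfl | rfl | rfl | rfl | rfl | rfl | rfl <;> dsimp only at hk
  · exact hlt hr hk
  · exact hlt hr hk
  · exact hlt hs hk
  · exact hlt hr hk
  · exact hlt hs hk
  · obtain ⟨m, hm, hk⟩ := Option.bind_eq_some_iff.1 hk; exact hlt (hlt hr hm) hk
  · obtain ⟨m, hm, hk⟩ := Option.bind_eq_some_iff.1 hk; exact hlt (hlt hs hm) hk

theorem comm_w {i : ℕ} (hi : i < D.rank) {r s : ℕ} (hr : r < D.nroots) (hs : s < D.nroots) :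
    c.comm (c.w i r) (c.w i s) = c.mapComm i r s (c.comm r s) := by
  have key : ∀ {r s : ℕ}, r < D.nroots → 3 ≤ (c.ent r s).length →
      c.comm (c.w i r) (c.w i s) = c.mapComm i r s (c.comm r s) ∧
        c.comm (c.w i s) (c.w i r) = c.mapComm i s r (c.comm s r) := by
    intro r s hr h3
    obtain ⟨-, -, hz⟩ := hV.keys_spec hr
    have hsk : s ∈ c.keys r := by
      by_contra hc; simp [hz s hc] at h3
    have hf : Nat.beq (fieldAt (c.slot r s) 2) 0 = false := by
      rw [Cert.ent, decTerms] at h3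
      revert h3
      cases Nat.beq (fieldAt (c.slot r s) 0) 0 <;> cases Nat.beq (fieldAt (c.slot r s) 1) 0 <;>
        cases Nat.beq (fieldAt (c.slot r s) 2) 0 <;> simp
    rcases hV.long with h | h
    · simp only [Cert.chkShort, allLt_iff, allL_iff] at h
      rw [h r (hV.nroots_eq.symm ▸ hr) s hsk] at hf; simp at hf
    · have h' := h i (hV.rank_eq.symm ▸ hi)
      simp only [Cert.chkLong, allLt_iff, allL_iff, Bool.or_eq_true, Bool.and_eq_true, beq_iff_eq] at h'
      rcases h' r (hV.nroots_eq.symm ▸ hr) s hsk with h' | h'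
      · rw [h'] at hf; simp at hf
      · exact h'
  by_cases h1 : 3 ≤ (c.ent r s).length
  · exact (key hr h1).1
  by_cases h2 : 3 ≤ (c.ent s r).length
  · exact (key hs h2).2
  have e1 : c.cRoot r s 3 = none := by simp [Cert.cRoot, List.getElem?_eq_none (by omega : (c.ent r s).length ≤ 2)]
  have e2 : c.cRoot s r 3 = none := by simp [Cert.cRoot, List.getElem?_eq_none (by omega : (c.ent s r).length ≤ 2)]
  have e3 := hV.ent_w hi hr hs
  have e4 := hV.ent_w hi hs hr
  have e1' : c.cRoot (c.w i r) (c.w i s) 3 = none := by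
    rw [Cert.cRoot, e3]
    rcases hl : c.ent r s with _ | ⟨a, _ | ⟨b, _ | ⟨d, l⟩⟩⟩ <;> simp [Cert.mapTerms, hl] at h1 ⊢
  have e2' : c.cRoot (c.w i s) (c.w i r) 3 = none := by
    rw [Cert.cRoot, e4]
    rcases hl : c.ent s r with _ | ⟨a, _ | ⟨b, _ | ⟨d, l⟩⟩⟩ <;> simp [Cert.mapTerms, hl] at h2 ⊢
  rcases hl1 : c.ent r s with _ | ⟨a, _ | ⟨b, _ | ⟨d, l⟩⟩⟩ <;>
    rcases hl2 : c.ent s r with _ | ⟨a', _ | ⟨b', _ | ⟨d', l'⟩⟩⟩ <;>
    simp [-mul_eq_mul_left_iff, -mul_eq_mul_right_iff, Cert.comm, Cert.mapComm, e1, e2, e1', e2', Cert.cRoot, Cert.cM, e3, e4, hl1, hl2, Cert.mapTerms] at h1 h2 ⊢ <;>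
    and_intros <;> ring

theorem nMat_one_mul_neg {i : ℕ} (hi : i < D.rank) :
    D.nMat F (D.simple i) 1 * D.nMat F (D.simple i) (-1) = 1 := by
  rw [hV.nMat_mul_nMat hi one_ne_zero (neg_ne_zero.2 one_ne_zero), ← hdiag_one D]
  exact hdiag_congr D fun s _ => by simp

theorem nMat_neg_mul_one {i : ℕ} (hi : i < D.rank) :
    D.nMat F (D.simple i) (-1) * D.nMat F (D.simple i) 1 = 1 :=
  mul_eq_one_comm.1 (hV.nMat_one_mul_neg hi)

/-- Two matrices with the same conjugates under n_p are equal. -/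
theorem cancel_nMat {i : ℕ} (hi : i < D.rank) {A B : Matrix D.Idx D.Idx F}
    (h : A * D.nMat F (D.simple i) 1 = B * D.nMat F (D.simple i) 1) : A = B := by
  have := congrArg (· * D.nMat F (D.simple i) (-1)) h
  simpa [mul_assoc, hV.nMat_one_mul_neg hi] using this

theorem nMat_mul_wordMat {i : ℕ} (hi : i < D.rank) (wd : List (ℕ × F)) (hwd : ∀ l ∈ wd, l.1 < D.nroots) :
    D.nMat F (D.simple i) 1 * D.wordMat F wd =
      D.wordMat F (wd.map fun l => (c.w i l.1, (c.η i l.1 : F) * l.2)) * D.nMat F (D.simple i) 1 := by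
  induction wd with
  | nil => simp [ChevalleyDatum.wordMat]
  | cons l wd ih =>
    have hcons : ∀ (x : ℕ × F) (m : List (ℕ × F)), D.wordMat F (x :: m) = D.x F x.1 x.2 * D.wordMat F m := by
      simp [ChevalleyDatum.wordMat]
    rw [hcons, List.map_cons, hcons, ← mul_assoc, hV.nMat_mul_x hi (hwd l List.mem_cons_self),
      mul_assoc, ih fun x hx => hwd x (List.mem_cons_of_mem _ hx), mul_assoc]

theorem x_add {r : ℕ} (hr : r < D.nroots) (t u : F) : D.x F r t * D.x F r u = D.x F r (t + u) := by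
  revert t u
  refine hV.root_induction (P := fun r => ∀ t u : F, D.x F r t * D.x F r u = D.x F r (t + u)) ?_ ?_ hr
  · intro i hi t u
    have h := hV.wordEq_sound (t := t) (u := u) (v := (0 : F)) (inv := false) (by simp)
      (fun l hl => by simp at hl; rcases hl with rfl | rfl <;> exact hV.p_lt hi)
      (fun l hl => by simp at hl; subst hl; exact hV.p_lt hi) (hV.add i (hV.rank_eq ▸ hi))
    simpa [polWordMat, polVal, monVal] using h
  · intro i hi s hs ih t u
    refine hV.cancel_nMat hi ?_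
    have e : ∀ x : F, D.x F (c.w i s) x * D.nMat F (D.simple i) 1 =
        D.nMat F (D.simple i) 1 * D.x F s ((c.η i s : F) * x) := fun x => by
      rw [hV.nMat_mul_x hi hs, ← mul_assoc, hV.eta_cast_sq hi hs, one_mul]
    rw [mul_assoc, e, ← mul_assoc, e, e, mul_assoc, ih, mul_add]

theorem commTerms_eq {r s : ℕ} (hr : r < D.nroots) (hs : s < D.nroots) : D.commTerms r s = c.comm r s :=
  hV.comm_eq hr hs

/-- Chevalley's commutator formula. -/
theorem comm_formula {r s : ℕ} (hr : r < D.nroots) (hs : s < D.nroots) (h1 : s ≠ r) (h2 : s ≠ c.ng r) (t u : F) :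
    D.x F s u * D.x F r t = D.x F r t * D.x F s u * D.wordMat F (D.commWord F r s t u) := by
  revert h1 h2 t u
  refine hV.pair_induction (P := fun r s => s ≠ r → s ≠ c.ng r → ∀ t u : F,
    D.x F s u * D.x F r t = D.x F r t * D.x F s u * D.wordMat F (D.commWord F r s t u)) ?_ ?_ hr hs
  · intro ρ hρ s hs h1 h2 t u
    obtain ⟨hr', hb, -⟩ := hV.trees'.2.2 ρ hρ
    have hs' := hb s hs
    have h := hV.comm
    simp only [Cert.chkComm, List.all_eq_true, Bool.or_eq_true, beq_iff_eq] at h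
    have hc : c.commPair ρ.root s = true := by rcases h ρ hρ s hs with (h | h) | h <;> [exact absurd h h1; exact absurd h h2; exact h]
    have h := hV.wordEq_sound (t := t) (u := u) (v := (0 : F)) (inv := false) (by simp)
      (fun l hl => by simp at hl; rcases hl with rfl | rfl <;> assumption)
      (fun l hl => by
        simp only [List.mem_cons, List.mem_map] at hl
        rcases hl with rfl | rfl | ⟨x, hx, rfl⟩
        · exact hr'
        · exact hs'
        · exact hV.comm_lt hr' hs' hx) hc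
    simp only [polWordMat, List.map_cons, List.map_nil, List.map_map, List.prod_cons, List.prod_nil, mul_one] at h
    simp only [ChevalleyDatum.wordMat, ChevalleyDatum.commWord, hV.comm_eq hr' hs', List.map_map]
    have e1 : polVal t u (0 : F) [(1, (0, 1, 0))] = u := by simp [polVal, monVal]
    have e2 : polVal t u (0 : F) [(1, (1, 0, 0))] = t := by simp [polVal, monVal]
    rw [e1, e2] at h
    rw [h, mul_assoc]
    congr 2
    congr 1
    refine List.map_congr_left fun x _ => ?_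
    simp only [Function.comp_apply, polVal, monVal, List.map_cons, List.map_nil, List.sum_cons, List.sum_nil,
      add_zero, pow_zero, mul_one, Int.cast_mul, Int.cast_pow, Int.cast_neg, Int.cast_one]
    congr 1
    rw [neg_pow t]
    ring
  · intro i hi r hr s hs ih h1 h2 T U
    have h1' : s ≠ r := fun h => h1 (by rw [h])
    have h2' : s ≠ c.ng r := fun h => h2 (by rw [h, hV.w_ng hi hr])
    refine hV.cancel_nMat hi ?_
    have e : ∀ {k : ℕ} (_ : k < D.nroots) (x : F), D.x F (c.w i k) x * D.nMat F (D.simple i) 1 =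
        D.nMat F (D.simple i) 1 * D.x F k ((c.η i k : F) * x) := fun {k} hk x => by
      rw [hV.nMat_mul_x hi hk, ← mul_assoc, hV.eta_cast_sq hi hk, one_mul]
    rw [mul_assoc, e hr, ← mul_assoc, e hs, mul_assoc, ih h1' h2']
    have hw : ∀ l ∈ D.commWord F r s ((c.η i r : F) * T) ((c.η i s : F) * U), l.1 < D.nroots := by
      intro l hl
      simp only [ChevalleyDatum.commWord, hV.comm_eq hr hs, List.mem_map] at hl
      obtain ⟨x, hx, rfl⟩ := hl
      exact hV.comm_lt hr hs hx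
    rw [← mul_assoc, ← mul_assoc, ← e hr, mul_assoc (D.x F (c.w i r) T), ← e hs, mul_assoc,
      mul_assoc (D.x F (c.w i s) U), hV.nMat_mul_wordMat hi _ hw, ← mul_assoc, ← mul_assoc]
    congr 2
    simp only [ChevalleyDatum.commWord, hV.comm_eq hr hs, hV.comm_eq (hV.w_lt hi hr) (hV.w_lt hi hs),
      hV.comm_w hi hr hs, Cert.mapComm, List.map_map]
    congr 1
    refine List.map_congr_left fun x _ => ?_
    simp only [Function.comp_apply, Prod.mk.injEq, true_and, Int.cast_mul, Int.cast_pow, ← mul_neg, mul_pow]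
    ring

theorem pair_w {i : ℕ} (hi : i < D.rank) {r s : ℕ} (hr : r < D.nroots) (hs : s < D.nroots) :
    c.pair (c.w i r) (c.w i s) = c.pair r s := by
  simp only [Cert.pair, hV.rank_eq, list_range_sum]
  have h : ∀ j ∈ Finset.range D.rank, c.crt (c.w i r) j * c.A j (c.w i s) =
      c.crt r j * c.A j s - c.A i s * (c.crt r j * c.A j (c.p i))
        + (if j = i then c.pair r (c.p i) * c.A i s else 0) := by
    intro j hj
    rw [Finset.mem_range] at hj
    rw [((hV.refl' hi hr).2.2.2.2.2.2.2.1 j hj).2, ((hV.refl' hi hs).2.2.2.2.2.2.2.1 j hj).1]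
    by_cases hji : j = i
    · subst hji; rw [if_pos rfl, if_pos rfl, hV.A_p hj]; ring
    · rw [if_neg hji, if_neg hji]; ring
  rw [Finset.sum_congr rfl h, Finset.sum_add_distrib, Finset.sum_sub_distrib, ← Finset.mul_sum,
    Finset.sum_ite_eq' (Finset.range D.rank) i, if_pos (Finset.mem_range.2 hi), Cert.pair, hV.rank_eq, list_range_sum]
  ring

theorem nMat_conj_nMat {i : ℕ} (hi : i < D.rank) {r : ℕ} (hr : r < D.nroots) (a : F) :
    D.nMat F (D.simple i) 1 * D.nMat F r a = D.nMat F (c.w i r) ((c.η i r : F) * a) * D.nMat F (D.simple i) 1 := by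
  have h : D.nMat F r a = D.wordMat F (D.nWord r a) := rfl
  rw [h, hV.nMat_mul_wordMat hi _ (by
    simp [ChevalleyDatum.nWord, hV.ng_eq hr, hr, hV.ng_lt hr])]
  congr 1
  simp only [ChevalleyDatum.nMat, ChevalleyDatum.nWord, hV.ng_eq hr, hV.ng_eq (hV.w_lt hi hr), List.map_cons,
    List.map_nil, hV.w_ng hi hr, hV.eta_ng hi hr]
  rw [mul_neg, mul_inv, show ((c.η i r : ℤ) : F)⁻¹ = (c.η i r : F) from inv_eq_of_mul_eq_one_right (hV.eta_cast_sq hi hr)]

theorem nMat_mul_hdiag {i : ℕ} (hi : i < D.rank) (χ : ℕ → F) :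
    D.nMat F (D.simple i) 1 * hdiag D χ = hdiag D (fun s => χ (c.w i s)) * D.nMat F (D.simple i) 1 := by
  refine ext_bvec fun idx hidx => ?_
  rw [← Matrix.mulVec_mulVec, ← Matrix.mulVec_mulVec]
  by_cases hj : idx < D.rank
  · rw [hdiag_mulVec_inl D χ hj, hV.nMat_inl hi one_ne_zero hj, Matrix.mulVec_sub, Matrix.mulVec_smul,
      hdiag_mulVec_inl D _ hj, hdiag_mulVec_inl D _ hi]
  obtain ⟨u, rfl⟩ : ∃ u, D.rank + u = idx := ⟨idx - D.rank, by omega⟩
  have hu : u < D.nroots := by omega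
  rw [hdiag_mulVec_inr D χ hu, Matrix.mulVec_smul, hV.nMat_one_inr hi hu, Matrix.mulVec_smul,
    hdiag_mulVec_inr D _ (hV.w_lt hi hu), hV.w_w hi hu, smul_comm]

theorem nMat_mul_nMat_root {r : ℕ} (hr : r < D.nroots) : ∀ {a b : F}, a ≠ 0 → b ≠ 0 →
    D.nMat F r a * D.nMat F r b = hdiag D (fun s => (-(a / b)) ^ c.pair r s) := by
  refine hV.root_induction (P := fun r => ∀ {a b : F}, a ≠ 0 → b ≠ 0 →
    D.nMat F r a * D.nMat F r b = hdiag D (fun s => (-(a / b)) ^ c.pair r s)) ?_ ?_ hr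
  · intro i hi a b ha hb
    rw [← hV.p_eq hi, hV.nMat_mul_nMat hi ha hb]
    refine hdiag_congr D fun s hs => ?_
    rw [hV.p_eq hi, Cert.pair, hV.rank_eq, list_range_sum, Finset.sum_eq_single i]
    · rw [(hV.base'.2 i hi).2.2 i hi, if_pos rfl, one_mul]
    · intro j hj hne
      rw [(hV.base'.2 i hi).2.2 j (Finset.mem_range.1 hj), if_neg hne, zero_mul]
    · simp [hi]
  · intro i hi r hr ih a b ha hb
    refine hV.cancel_nMat hi ?_
    have he := hV.eta_cast_ne (F := F) hi hr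
    have e : ∀ x : F, D.nMat F (c.w i r) x * D.nMat F (D.simple i) 1 =
        D.nMat F (D.simple i) 1 * D.nMat F r ((c.η i r : F) * x) := fun x => by
      rw [hV.nMat_conj_nMat hi hr, ← mul_assoc, hV.eta_cast_sq hi hr, one_mul]
    rw [mul_assoc, e, ← mul_assoc, e, mul_assoc, ih (mul_ne_zero he ha) (mul_ne_zero he hb), hV.nMat_mul_hdiag hi]
    congr 1
    refine hdiag_congr D fun s hs => ?_
    rw [mul_div_mul_left _ _ he, ← hV.pair_w hi hr (hV.w_lt hi hs), hV.w_w hi hs]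

end Valid

/-! ### The relations stated for `Good D` -/

namespace Good

variable (hG : Good D)
include hG

theorem neg_lt {r : ℕ} (hr : r < D.nroots) : D.neg r < D.nroots := by
  obtain ⟨c, hV⟩ := hG; rw [hV.ng_eq hr]; exact hV.ng_lt hr

theorem neg_neg {r : ℕ} (hr : r < D.nroots) : D.neg (D.neg r) = r := by
  obtain ⟨c, hV⟩ := hG; rw [hV.ng_eq hr, hV.ng_eq (hV.ng_lt hr), hV.ng_ng hr]

theorem neg_ne {r : ℕ} (hr : r < D.nroots) : D.neg r ≠ r := by
  obtain ⟨c, hV⟩ := hG; rw [hV.ng_eq hr]; exact hV.ng_ne hr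

theorem simple_lt {i : ℕ} (hi : i < D.rank) : D.simple i < D.nroots := by
  obtain ⟨c, hV⟩ := hG; rw [hV.p_eq hi]; exact hV.p_lt hi

theorem cartan_simple {i : ℕ} (hi : i < D.rank) : D.cartan i (D.simple i) = 2 := by
  obtain ⟨c, hV⟩ := hG; rw [hV.A_eq hi (by rw [hV.p_eq hi]; exact hV.p_lt hi), hV.p_eq hi, hV.A_p hi]

theorem reflectRoot_lt {i s : ℕ} (hi : i < D.rank) (hs : s < D.nroots) : D.reflectRoot i s < D.nroots := by
  obtain ⟨c, hV⟩ := hG; rw [hV.w_eq_reflectRoot hi hs]; exact hV.w_lt hi hs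

theorem reflectRoot_reflectRoot {i s : ℕ} (hi : i < D.rank) (hs : s < D.nroots) :
    D.reflectRoot i (D.reflectRoot i s) = s := by
  obtain ⟨c, hV⟩ := hG
  rw [hV.w_eq_reflectRoot hi hs, hV.w_eq_reflectRoot hi (hV.w_lt hi hs), hV.w_w hi hs]

theorem reflectRoot_neg {i s : ℕ} (hi : i < D.rank) (hs : s < D.nroots) :
    D.reflectRoot i (D.neg s) = D.neg (D.reflectRoot i s) := by
  obtain ⟨c, hV⟩ := hG
  rw [hV.w_eq_reflectRoot hi hs, hV.ng_eq hs, hV.ng_eq (hV.w_lt hi hs), hV.w_eq_reflectRoot hi (hV.ng_lt hs),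
    hV.w_ng hi hs]

theorem cartan_reflectRoot {i j s : ℕ} (hi : i < D.rank) (hj : j < D.rank) (hs : s < D.nroots) :
    D.cartan j (D.reflectRoot i s) = D.cartan j s - D.cartan i s * D.cartan j (D.simple i) := by
  obtain ⟨c, hV⟩ := hG
  rw [hV.w_eq_reflectRoot hi hs, hV.A_eq hj (hV.w_lt hi hs), hV.A_eq hj hs, hV.A_eq hi hs,
    hV.p_eq hi, hV.A_eq hj (hV.p_lt hi), ((hV.refl' hi hs).2.2.2.2.2.2.2.1 j hj).1]

/-- Every root is the image of a fundamental root under fundamental reflections. -/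
theorem root_induction {P : ℕ → Prop} (base : ∀ i < D.rank, P (D.simple i))
    (step : ∀ i < D.rank, ∀ s < D.nroots, P s → P (D.reflectRoot i s)) {r : ℕ} (hr : r < D.nroots) : P r := by
  obtain ⟨c, hV⟩ := hG
  refine hV.root_induction (fun i hi => hV.p_eq hi ▸ base i hi) (fun i hi s hs h => ?_) hr
  exact hV.w_eq_reflectRoot hi hs ▸ step i hi s hs h

theorem x_add {r : ℕ} (hr : r < D.nroots) (t u : F) : D.x F r t * D.x F r u = D.x F r (t + u) := by
  obtain ⟨c, hV⟩ := hG; exact hV.x_add hr t u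

theorem x_zero {r : ℕ} (hr : r < D.nroots) : D.x F r 0 = 1 := by
  obtain ⟨c, hV⟩ := hG; exact hV.x_zero hr

/-- Chevalley's commutator formula. -/
theorem comm_formula {r s : ℕ} (hr : r < D.nroots) (hs : s < D.nroots) (h1 : s ≠ r) (h2 : s ≠ D.neg r) (t u : F) :
    D.x F s u * D.x F r t = D.x F r t * D.x F s u * D.wordMat F (D.commWord F r s t u) := by
  obtain ⟨c, hV⟩ := hG
  exact hV.comm_formula hr hs h1 (by rwa [hV.ng_eq hr] at h2) t u

theorem commTerms_lt {r s : ℕ} (hr : r < D.nroots) (hs : s < D.nroots) {x : ℕ × ℤ × ℕ × ℕ}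
    (hx : x ∈ D.commTerms r s) : x.1 < D.nroots := by
  obtain ⟨c, hV⟩ := hG; rw [hV.comm_eq hr hs] at hx; exact hV.comm_lt hr hs hx

/-- n_p is monomial: its signs and its action on the root elements. -/
theorem exists_sign {i : ℕ} (hi : i < D.rank) :
    ∃ η : ℕ → ℤ, (∀ s < D.nroots, η s = 1 ∨ η s = -1) ∧ η (D.simple i) = -1 ∧ η (D.neg (D.simple i)) = -1 ∧
      (∀ s < D.nroots, η s * η (D.reflectRoot i s) = (-1) ^ (D.cartan i s).natAbs ∧ η s * η (D.neg s) = 1) ∧
      (∀ j < D.rank, D.nMat F (D.simple i) 1 *ᵥ bvec D F j =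
        bvec D F j - (D.cartan j (D.simple i) : F) • bvec D F i) ∧
      (∀ s < D.nroots, D.nMat F (D.simple i) 1 *ᵥ bvec D F (D.rank + s) =
        (η s : F) • bvec D F (D.rank + D.reflectRoot i s)) ∧
      ∀ s < D.nroots, ∀ t : F, D.nMat F (D.simple i) 1 * D.x F s t =
        D.x F (D.reflectRoot i s) ((η s : F) * t) * D.nMat F (D.simple i) 1 := by
  obtain ⟨c, hV⟩ := hG
  have hp := hV.p_lt hi
  refine ⟨c.η i, fun s hs => hV.eta_eq hi hs, ?_, ?_, fun s hs => ⟨?_, ?_⟩, fun j hj => ?_,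
    fun s hs => ?_, fun s hs t => ?_⟩
  · rw [hV.p_eq hi]; exact (hV.refl' hi hp).2.2.2.2.2.2.2.2
  · rw [hV.p_eq hi, hV.ng_eq hp, hV.eta_ng hi hp]; exact (hV.refl' hi hp).2.2.2.2.2.2.2.2
  · rw [hV.w_eq_reflectRoot hi hs, hV.A_eq hi hs, (hV.refl' hi hs).2.2.2.2.2.2.1]
    rcases Nat.even_or_odd (c.A i s).natAbs with h | h
    · rw [if_pos (Nat.even_iff.1 h), h.neg_one_pow]
    · rw [if_neg (by rw [Nat.odd_iff.1 h]; omega), h.neg_one_pow]
  · rw [hV.ng_eq hs, hV.eta_ng hi hs, hV.eta_sq hi hs]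
  · rw [hV.nMat_inl hi one_ne_zero hj, hV.p_eq hi, hV.A_eq hj hp]
  · rw [hV.nMat_one_inr hi hs, hV.w_eq_reflectRoot hi hs]
  · rw [hV.nMat_mul_x hi hs, hV.w_eq_reflectRoot hi hs]

theorem nMat_mul_nMat {r : ℕ} (hr : r < D.nroots) {a b : F} (ha : a ≠ 0) (hb : b ≠ 0) :
    D.nMat F r a * D.nMat F r b = hdiag D (fun s => (-(a / b)) ^ D.pairing r s) := by
  obtain ⟨c, hV⟩ := hG
  rw [hV.nMat_mul_nMat_root hr ha hb]
  exact hdiag_congr D fun s hs => by rw [hV.pair_eq hr hs]

/-- h_r(t) is diagonal, for every root r. -/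
theorem hMat_eq {r : ℕ} (hr : r < D.nroots) {t : F} (ht : t ≠ 0) :
    D.hMat F r t = hdiag D (fun s => t ^ D.pairing r s) := by
  have : D.hMat F r t = D.nMat F r t * D.nMat F r (-1) := by
    simp [ChevalleyDatum.hMat, ChevalleyDatum.hWord, ChevalleyDatum.nMat, ChevalleyDatum.wordMat]
  rw [this, hG.nMat_mul_nMat hr ht (neg_ne_zero.2 one_ne_zero)]
  exact hdiag_congr D fun s _ => by simp [div_neg]

theorem pairing_simple {i : ℕ} (hi : i < D.rank) {s : ℕ} (hs : s < D.nroots) :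
    D.pairing (D.simple i) s = D.cartan i s := by
  obtain ⟨c, hV⟩ := hG
  rw [hV.pair_eq (by rw [hV.p_eq hi]; exact hV.p_lt hi) hs, hV.p_eq hi, hV.A_eq hi hs, Cert.pair, hV.rank_eq,
    list_range_sum, Finset.sum_eq_single i]
  · rw [(hV.base'.2 i hi).2.2 i hi, if_pos rfl, one_mul]
  · intro j hj hne
    rw [(hV.base'.2 i hi).2.2 j (Finset.mem_range.1 hj), if_neg hne, zero_mul]
  · simp [hi]

theorem hMat_simple_eq {i : ℕ} (hi : i < D.rank) {t : F} (ht : t ≠ 0) :
    D.hMat F (D.simple i) t = hdiag D (fun s => t ^ D.cartan i s) := by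
  rw [hG.hMat_eq (hG.simple_lt hi) ht]
  exact hdiag_congr D fun s hs => by rw [hG.pairing_simple hi hs]

/-- The Cartan integers are additive along the chains. -/
theorem cartan_chain {r s : ℕ} (hr : r < D.nroots) {k : ℕ} {q : ℕ × ℤ} (h : (D.chainEntry r s)[k]? = some q)
    {j : ℕ} (hj : j < D.rank) (hs : s < D.nroots) :
    D.cartan j q.1 = D.cartan j s + (k + 1 : ℕ) * D.cartan j r := by
  obtain ⟨c, hV⟩ := hG
  rw [hV.ent_eq hr] at h
  rw [hV.A_eq hj (hV.ent_lt hr (List.mem_of_getElem? h)), hV.A_eq hj hs, hV.A_eq hj hr, hV.A_chain hr h hj]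

/-- h_p(c) x_s(t) = x_s(c^{A_{p,s}} t) h_p(c). -/
theorem hMat_mul_x {i : ℕ} (hi : i < D.rank) {s : ℕ} (hs : s < D.nroots) {a : F} (ha : a ≠ 0) (t : F) :
    D.hMat F (D.simple i) a * D.x F s t = D.x F s (a ^ D.cartan i s * t) * D.hMat F (D.simple i) a := by
  obtain ⟨c, hV⟩ := hG
  rw [hV.hMat_eq hi ha, hV.A_eq hi hs]
  exact hV.hdiag_mul_x hs (hV.chiAt_zpow hi ha hs) t

end Good

end Cfsg.Agent.Chev
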