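/-
The root-subgroup setup (Lib/RootBN) of a Chevalley group: axioms, the subgroups of Def_ChevStructure,
and the normal form of U.
-/
import Cfsg.Agent.Lib.Chev.Relations
import Cfsg.Agent.Lib.Chev.BNFacts
import Cfsg.Agent.Lib.RootBN.ToBNPair

set_option autoImplicit false

namespace Cfsg.Agent.Chev.BNSetup

open Cfsg.Lie
open scoped Matrix

variable {F : Type*} [Field F] {D : ChevalleyDatum}

section elements

variable (hG : Good D)
include hG

theorem x_mul_inv {r : ℕ} (t : F) : D.x F r t * D.x F r (-t) = 1 := by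
  by_cases hr : r < D.nroots
  · rw [hG.x_add hr, add_neg_cancel, hG.x_zero hr]
  · simp [ChevalleyDatum.x, dif_neg hr]

/-- The root element in `GL`. -/
def xe (r : ℕ) (t : F) : GL D.Idx F :=
  ⟨D.x F r t, D.x F r (-t), x_mul_inv hG t, by simpa using x_mul_inv hG (r := r) (-t)⟩

theorem coe_xe (r : ℕ) (t : F) : ((xe hG r t : GL D.Idx F) : Matrix D.Idx D.Idx F) = D.x F r t := rfl

theorem eq_xe {g : GL D.Idx F} {r : ℕ} {t : F} (h : (g : Matrix D.Idx D.Idx F) = D.x F r t) :
    g = xe hG r t := Units.ext h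

theorem xe_add {r : ℕ} (hr : r < D.nroots) (t u : F) : xe hG r t * xe hG r u = xe hG r (t + u) :=
  Units.ext (by simp [coe_xe, hG.x_add hr])

theorem xe_zero {r : ℕ} (hr : r < D.nroots) : xe hG r (0 : F) = 1 :=
  Units.ext (by simp [coe_xe, hG.x_zero hr])

theorem xe_inv {r : ℕ} (hr : r < D.nroots) (t : F) : (xe hG r t)⁻¹ = xe hG r (-t) :=
  inv_eq_of_mul_eq_one_right (by rw [xe_add hG hr, add_neg_cancel, xe_zero hG hr])

/-- `n_r(t)` in `GL`. -/
def ne' (r : ℕ) (t : F) : GL D.Idx F := xe hG r t * xe hG (D.neg r) (-t⁻¹) * xe hG r t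

/-- `h_r(t)` in `GL`. -/
def he (r : ℕ) (t : F) : GL D.Idx F := ne' hG r t * ne' hG r (-1)

theorem coe_ne' (r : ℕ) (t : F) : ((ne' hG r t : GL D.Idx F) : Matrix D.Idx D.Idx F) = D.nMat F r t := by
  simp [ne', ChevalleyDatum.nMat, ChevalleyDatum.nWord, ChevalleyDatum.wordMat, coe_xe, mul_assoc]

theorem coe_he (r : ℕ) (t : F) : ((he hG r t : GL D.Idx F) : Matrix D.Idx D.Idx F) = D.hMat F r t := by
  rw [he, Units.val_mul, coe_ne', coe_ne']
  simp [ChevalleyDatum.nMat, ChevalleyDatum.hMat, ChevalleyDatum.hWord, ChevalleyDatum.wordMat, mul_assoc]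

theorem ne'_neg {r : ℕ} (hr : r < D.nroots) (t : F) : ne' hG r (-t) = (ne' hG r t)⁻¹ := by
  symm
  rw [ne', ne', mul_inv_rev, mul_inv_rev, xe_inv hG hr, xe_inv hG (hG.neg_lt hr)]
  simp [inv_neg, mul_assoc]

theorem ne'_eq_he_mul {r : ℕ} (hr : r < D.nroots) (t : F) : ne' hG r t = he hG r t * ne' hG r 1 := by
  rw [he, ne'_neg hG hr 1, inv_mul_cancel_right]

theorem mem_rootSubgroup {r : ℕ} (hr : r < D.nroots) {g : GL D.Idx F} :
    g ∈ D.rootSubgroup F r ↔ ∃ t, g = xe hG r t := by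
  constructor
  · intro hg
    induction hg using Subgroup.closure_induction with
    | mem x hx => obtain ⟨t, ht⟩ := hx; exact ⟨t, eq_xe hG ht⟩
    | one => exact ⟨0, (xe_zero hG hr).symm⟩
    | mul x y _ _ ihx ihy =>
      obtain ⟨t, rfl⟩ := ihx
      obtain ⟨u, rfl⟩ := ihy
      exact ⟨t + u, xe_add hG hr t u⟩
    | inv x _ ih =>
      obtain ⟨t, rfl⟩ := ih
      exact ⟨-t, xe_inv hG hr t⟩
  · rintro ⟨t, rfl⟩
    exact Subgroup.subset_closure ⟨t, rfl⟩

theorem xe_mem_group {r : ℕ} (hr : r < D.nroots) (t : F) : xe hG r t ∈ D.group F :=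
  Subgroup.subset_closure ⟨⟨r, hr⟩, t, by rw [coe_xe, ChevalleyDatum.x, dif_pos hr]⟩

theorem he_mem_H {r : ℕ} (hr : r < D.nroots) {t : F} (ht : t ≠ 0) : he hG r t ∈ D.diagonalSubgroup F :=
  Subgroup.subset_closure ⟨r, t, hr, ht, coe_he hG r t⟩

theorem ne'_mul_ne'_mem {r : ℕ} (hr : r < D.nroots) {a b : F} (ha : a ≠ 0) (hb : b ≠ 0) :
    ne' hG r a * ne' hG r b ∈ D.diagonalSubgroup F := by
  have e : ne' hG r a * ne' hG r b = he hG r a * (he hG r (-b))⁻¹ := by
    rw [he, he, mul_inv_rev, ← ne'_neg hG hr (-1 : F), neg_neg, ← ne'_neg hG hr (-b), neg_neg, mul_assoc,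
      ← mul_assoc (ne' hG r (-1)), ne'_neg hG hr (1 : F), inv_mul_cancel, one_mul]
  rw [e]
  exact Subgroup.mul_mem _ (he_mem_H hG hr ha) (Subgroup.inv_mem _ (he_mem_H hG hr (neg_ne_zero.2 hb)))

theorem exists_conj {i : ℕ} (hi : i < D.rank) {s : ℕ} (hs : s < D.nroots) :
    ∃ e : F, e * e = 1 ∧ (∀ t : F, ne' hG (D.simple i) 1 * xe hG s t * (ne' hG (D.simple i) 1)⁻¹ =
        xe hG (D.reflectRoot i s) (e * t)) ∧
      ∀ t : F, ne' hG (D.simple i) 1 * ne' hG s t * (ne' hG (D.simple i) 1)⁻¹ =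
        ne' hG (D.reflectRoot i s) (e * t) := by
  obtain ⟨η, h1, -, -, h2, -, -, h3⟩ := hG.exists_sign (F := F) hi
  have hsq : ((η s : ℤ) : F) * (η s : F) = 1 := by rcases h1 s hs with h | h <;> simp [h]
  have hneg : η (D.neg s) = η s := by
    have := (h2 s hs).2
    rcases h1 s hs with h | h <;> rw [h] at this ⊢ <;> omega
  have key : ∀ u, u < D.nroots → ∀ t : F,
      ne' hG (D.simple i) 1 * xe hG u t * (ne' hG (D.simple i) 1)⁻¹ =
        xe hG (D.reflectRoot i u) ((η u : F) * t) := by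
    intro u hu t
    rw [mul_inv_eq_iff_eq_mul]
    exact Units.ext (by simp [coe_ne', coe_xe, h3 u hu t])
  refine ⟨η s, hsq, key s hs, fun t => ?_⟩
  simp only [ne', ← hG.reflectRoot_neg hi hs]
  rw [← conj_mul, ← conj_mul, ← ne', key s hs, key _ (hG.neg_lt hs), hneg, mul_neg, mul_inv,
    inv_eq_of_mul_eq_one_right hsq]

theorem exists_hdiag {r : ℕ} (hr : r < D.nroots) {t : F} (ht : t ≠ 0) :
    ∃ χ : ℕ → F, ((he hG r t : GL D.Idx F) : Matrix D.Idx D.Idx F) = hdiag D χ :=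
  ⟨_, (coe_he hG r t).trans (hG.hMat_eq hr ht)⟩

/-- `g` normalises every root subgroup. -/
def NormalisesAll (F : Type*) [Field F] (D : ChevalleyDatum) (g : GL D.Idx F) : Prop :=
  ∀ s < D.nroots, ∀ y ∈ D.rootSubgroup F s, g * y * g⁻¹ ∈ D.rootSubgroup F s

theorem normalisesAll_he {r : ℕ} (hr : r < D.nroots) {t : F} (ht : t ≠ 0) :
    NormalisesAll F D (he hG r t) := by
  suffices key : ∀ a b : F, a ≠ 0 → b ≠ 0 → NormalisesAll F D (ne' hG r a * ne' hG r b) from
    key t (-1) ht (neg_ne_zero.2 one_ne_zero)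
  refine hG.root_induction (P := fun r => ∀ a b : F, a ≠ 0 → b ≠ 0 →
    NormalisesAll F D (ne' hG r a * ne' hG r b)) ?_ ?_ hr
  · intro i hi a b ha hb s hs y hy
    have hp := hG.simple_lt hi
    have hc : (-(a / b) : F) ≠ 0 := neg_ne_zero.2 (div_ne_zero ha hb)
    have e : ne' hG (D.simple i) a * ne' hG (D.simple i) b = he hG (D.simple i) (-(a / b)) := by
      apply Units.ext
      rw [Units.val_mul, coe_ne', coe_ne', coe_he, hG.nMat_mul_nMat hp ha hb, hG.hMat_eq hp hc]
    obtain ⟨u, rfl⟩ := (mem_rootSubgroup hG hs).1 hy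
    refine (mem_rootSubgroup hG hs).2 ⟨(-(a / b)) ^ D.cartan i s * u, ?_⟩
    rw [e, mul_inv_eq_iff_eq_mul]
    exact Units.ext (by simp [coe_he, coe_xe, hG.hMat_mul_x hi hs hc])
  · intro i hi r hr ih a b ha hb s hs y hy
    obtain ⟨e, he2, -, hn⟩ := exists_conj hG (F := F) hi hr
    have he0 : e ≠ 0 := fun h => by simp [h] at he2
    have hs' := hG.reflectRoot_lt hi hs
    obtain ⟨u, rfl⟩ := (mem_rootSubgroup hG hs).1 hy
    obtain ⟨d, hd, hdx, -⟩ := exists_conj hG (F := F) hi hs'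
    rw [hG.reflectRoot_reflectRoot hi hs] at hdx
    have hu : (ne' hG (D.simple i) (1 : F))⁻¹ * xe hG s u * ne' hG (D.simple i) 1 = xe hG (D.reflectRoot i s) (d * u) := by
      have := hdx (d * u)
      rw [← mul_assoc, hd, one_mul] at this
      rw [← this]; group
    obtain ⟨v, hv⟩ := (mem_rootSubgroup hG hs').1 (ih (e * a) (e * b) (mul_ne_zero he0 ha)
      (mul_ne_zero he0 hb) _ hs' _ ((mem_rootSubgroup hG hs').2 ⟨d * u, rfl⟩))
    refine (mem_rootSubgroup hG hs).2 ⟨d * v, ?_⟩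
    have ha' := hn (e * a)
    have hb' := hn (e * b)
    rw [← mul_assoc, he2, one_mul] at ha' hb'
    rw [← ha', ← hb', ← hdx v, ← hv, ← hu]
    group

theorem he_inv {r : ℕ} (hr : r < D.nroots) {t : F} (ht : t ≠ 0) : (he hG r t)⁻¹ = he hG r t⁻¹ := by
  apply inv_eq_of_mul_eq_one_left
  apply Units.ext
  rw [Units.val_mul, coe_he, coe_he, hG.hMat_eq hr (inv_ne_zero ht), hG.hMat_eq hr ht, hdiag_mul,
    Units.val_one, ← hdiag_one D]
  exact hdiag_congr D fun s _ => by rw [← mul_zpow, inv_mul_cancel₀ ht, one_zpow]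

theorem normalisesAll_H {h : GL D.Idx F} (hh : h ∈ D.diagonalSubgroup F) : NormalisesAll F D h := by
  induction hh using Subgroup.closure_induction_left with
  | one => intro s _ y hy; simpa using hy
  | mul_left x hx z _ ih =>
    obtain ⟨r, t, hr, ht, hx⟩ := hx
    obtain rfl : x = he hG r t := Units.ext (hx.trans (coe_he hG r t).symm)
    intro s hs y hy
    have := normalisesAll_he hG hr ht s hs _ (ih s hs y hy)
    simpa [mul_assoc] using this
  | inv_mul_cancel x hx z _ ih =>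
    obtain ⟨r, t, hr, ht, hx⟩ := hx
    obtain rfl : x = he hG r t := Units.ext (hx.trans (coe_he hG r t).symm)
    intro s hs y hy
    rw [he_inv hG hr ht]
    have := normalisesAll_he hG hr (inv_ne_zero ht) s hs _ (ih s hs y hy)
    simpa [mul_assoc] using this

theorem nn_conj_H {i : ℕ} (hi : i < D.rank) {h : GL D.Idx F} (hh : h ∈ D.diagonalSubgroup F) :
    ne' hG (D.simple i) 1 * h * (ne' hG (D.simple i) 1)⁻¹ ∈ D.diagonalSubgroup F := by
  refine (show D.diagonalSubgroup F ≤ (D.diagonalSubgroup F).comap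
    (MulAut.conj (ne' hG (D.simple i) 1)).toMonoidHom from ?_) hh
  conv_lhs => rw [ChevalleyDatum.diagonalSubgroup]
  rw [Subgroup.closure_le]
  rintro g ⟨r, t, hr, ht, hg⟩
  obtain rfl : g = he hG r t := Units.ext (hg.trans (coe_he hG r t).symm)
  obtain ⟨e, he2, -, hn⟩ := exists_conj hG (F := F) hi hr
  have he0 : e ≠ 0 := fun h => by simp [h] at he2
  simp only [SetLike.mem_coe, Subgroup.mem_comap, MulEquiv.coe_toMonoidHom, MulAut.conj_apply]
  rw [he, ← conj_mul, hn, hn]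
  exact ne'_mul_ne'_mem hG (hG.reflectRoot_lt hi hr) (mul_ne_zero he0 ht)
    (mul_ne_zero he0 (neg_ne_zero.2 one_ne_zero))

end elements

/-! ### Matrix shapes -/

section shapes

variable {tabs simps : List ℕ} (hf : Facts D tabs simps)
include hf

theorem pos_iff {r : ℕ} (hr : r < D.nroots) : D.IsPosRoot r ↔ D.nroots / 2 ≤ r := (hf.2.2.1 r hr).2.1

theorem neg_eq {r : ℕ} (hr : r < D.nroots) : D.neg r = D.nroots - 1 - r := (hf.2.2.1 r hr).1

theorem exists_coroot_ne_zero {r : ℕ} (hr : r < D.nroots) :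
    ∃ i : Fin D.rank, (((D.coroot.getD r #[]).getD i.val 0 : ℤ) : F) ≠ 0 := by
  obtain ⟨-, -, -, hg, hsz⟩ := hf.2.2.1 r hr
  by_contra hall
  push Not at hall
  obtain ⟨p, _⟩ := CharP.exists F
  have key : ∀ L : List ℤ, (∀ c ∈ L, (c : F) = 0) → p ∣ L.foldr (fun c g => Nat.gcd c.natAbs g) 0 := by
    intro L
    induction L with
    | nil => intro _; exact dvd_zero p
    | cons a L ih =>
      intro h
      exact Nat.dvd_gcd (Int.natCast_dvd.1 ((CharP.intCast_eq_zero_iff F p a).1 (h a List.mem_cons_self)))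
        (ih fun c hc => h c (List.mem_cons_of_mem _ hc))
  have h1 := key (D.coroot.getD r #[]).toList (fun c hc => by
    obtain ⟨j, hj, e⟩ := List.getElem_of_mem hc
    rw [Array.length_toList] at hj
    have := hall ⟨j, hsz ▸ hj⟩
    rw [Array.getD_eq_getD_getElem?, Array.getElem?_eq_getElem hj] at this
    rw [← e, Array.getElem_toList]
    exact this)
  rw [corootGcd] at hg
  rw [hg, Nat.dvd_one] at h1
  exact CharP.char_ne_one F p h1

omit hf in
theorem x_entry_inl {r s : ℕ} (hr : r < D.nroots) (hs : s < D.nroots) (t : F) (i : Fin D.rank) :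
    D.x F r t (Sum.inl i) (Sum.inr ⟨s, hs⟩) =
      if s = r then 0 else if s = D.neg r then (((D.coroot.getD r #[]).getD i.val 0 : ℤ) : F) * t else 0 := by
  simp only [ChevalleyDatum.x, dif_pos hr, ChevalleyDatum.xMat, Matrix.of_apply, Fin.ext_iff]
  by_cases h1 : s = r
  · rw [if_pos h1, if_pos h1]
  · by_cases h2 : s = D.negIdx.getD r 0
    · rw [if_neg h1, if_pos h2, if_neg h1, if_pos (show s = D.neg r from h2)]
    · rw [if_neg h1, if_neg h2, if_neg h1, if_neg (show ¬ s = D.neg r from h2)]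

/-- Lower triangular for the level function. -/
def Tri (F : Type*) [Field F] (D : ChevalleyDatum) (g : Matrix D.Idx D.Idx F) : Prop :=
  Raises (rootLevel D) 0 g

theorem tri_hdiag (χ : ℕ → F) : Tri F D (hdiag D χ) := by
  intro a b hab
  rw [hdiag, Matrix.diagonal_apply_ne]
  rintro rfl
  omega

theorem raises_unitri {g : GL D.Idx F} (hg : g ∈ D.posUnipotent F) :
    Raises (rootLevel D) 1 ((g : Matrix D.Idx D.Idx F) - 1) :=
  posUnipotent_le_unitri hf.2.1 hg

theorem tri_U {g : GL D.Idx F} (hg : g ∈ D.posUnipotent F) : Tri F D (g : Matrix D.Idx D.Idx F) := by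
  have := ((raises_unitri hf hg).mono (Nat.zero_le 1)).add (raises_one (F := F))
  simpa [Tri] using this

theorem tri_H (hG : Good D) {g : GL D.Idx F} (hg : g ∈ D.diagonalSubgroup F) :
    ∃ χ : ℕ → F, (g : Matrix D.Idx D.Idx F) = hdiag D χ := by
  induction hg using Subgroup.closure_induction_left with
  | one => exact ⟨fun _ => 1, by rw [hdiag_one]; rfl⟩
  | mul_left x hx z _ ih =>
    obtain ⟨r, t, hr, ht, hx⟩ := hx
    obtain ⟨χ, hχ⟩ := ih
    exact ⟨_, by rw [Units.val_mul, hx, hG.hMat_eq hr ht, hχ, hdiag_mul]⟩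
  | inv_mul_cancel x hx z _ ih =>
    obtain ⟨r, t, hr, ht, hx⟩ := hx
    obtain ⟨χ, hχ⟩ := ih
    obtain rfl : x = he hG r t := Units.ext (hx.trans (coe_he hG r t).symm)
    exact ⟨_, by rw [Units.val_mul, he_inv hG hr ht, coe_he, hG.hMat_eq hr (inv_ne_zero ht), hχ, hdiag_mul]⟩

theorem U_inf_H (hG : Good D) : D.posUnipotent F ⊓ D.diagonalSubgroup F = ⊥ := by
  rw [Subgroup.eq_bot_iff_forall]
  rintro g ⟨hu, hh⟩
  obtain ⟨χ, hχ⟩ := tri_H hf hG hh
  apply Units.ext
  rw [Units.val_one]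
  ext a b
  by_cases hab : a = b
  · subst hab
    have := raises_unitri hf hu a a (by omega)
    rwa [Matrix.sub_apply, sub_eq_zero] at this
  · rw [hχ, hdiag, Matrix.diagonal_apply_ne _ hab, Matrix.one_apply_ne hab]

end shapes

/-! ### The setup -/

section setup

variable (hG : Good D)

/-- The data. -/
def data (F : Type*) [Field F] : RootBN.Data (GL D.Idx F) (Fin D.nroots) (Fin D.rank) where
  X r := D.rootSubgroup F r.val
  H := D.diagonalSubgroup F
  nn i := ne' hG (D.simple i.val) 1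
  nroot r := ne' hG r.val 1
  refl i := Function.Involutive.toPerm
    (fun r => ⟨D.reflectRoot i.val r.val, hG.reflectRoot_lt i.2 r.2⟩)
    (fun r => Fin.ext (hG.reflectRoot_reflectRoot i.2 r.2))
  opp r := ⟨D.neg r.val, hG.neg_lt r.2⟩
  simp i := ⟨D.simple i.val, hG.simple_lt i.2⟩
  Pos r := D.nroots / 2 ≤ r.val

theorem data_refl (i : Fin D.rank) (r : Fin D.nroots) :
    ((data hG F).refl i r).val = D.reflectRoot i.val r.val := rfl

theorem data_grp : (data hG F).grp = D.group F := by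
  refine le_antisymm (iSup_le fun r => ?_) ?_
  · show D.rootSubgroup F r.val ≤ _
    intro g hg
    obtain ⟨t, rfl⟩ := (mem_rootSubgroup hG r.2).1 hg
    exact xe_mem_group hG r.2 t
  · rw [ChevalleyDatum.group, Subgroup.closure_le]
    rintro g ⟨r, t, hg⟩
    refine RootBN.Data.X_le_grp (D := data hG F) r ?_
    show g ∈ D.rootSubgroup F r.val
    exact Subgroup.subset_closure ⟨t, by rw [hg, ChevalleyDatum.x, dif_pos r.2]⟩

variable {tabs simps : List ℕ} (hf : Facts D tabs simps)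
include hf

theorem data_U : (data hG F).U = D.posUnipotent F := by
  refine le_antisymm (iSup₂_le fun r hr => ?_) ?_
  · show D.rootSubgroup F r.val ≤ _
    intro g hg
    obtain ⟨t, rfl⟩ := (mem_rootSubgroup hG r.2).1 hg
    exact Subgroup.subset_closure ⟨r, t, (pos_iff hf r.2).2 hr, rfl⟩
  · rw [ChevalleyDatum.posUnipotent, Subgroup.closure_le]
    rintro g ⟨r, t, hr, hg⟩
    exact RootBN.Data.X_le_U (D := data hG F) (r := ⟨r, hr.1⟩) ((pos_iff hf hr.1).1 hr)
      (Subgroup.subset_closure ⟨t, hg⟩)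

theorem data_B : (data hG F).B = D.borelSubgroup F := by
  show (data hG F).U ⊔ _ = _
  rw [data_U hG hf]
  rfl

include hG

theorem borel_decomp {g : GL D.Idx F} (hg : g ∈ D.borelSubgroup F) :
    ∃ u ∈ D.posUnipotent F, ∃ h ∈ D.diagonalSubgroup F, g = u * h := by
  have hn : D.diagonalSubgroup F ≤ Subgroup.normalizer (D.posUnipotent F : Set (GL D.Idx F)) := by
    have key : ∀ h ∈ D.diagonalSubgroup F, ∀ u ∈ D.posUnipotent F, h * u * h⁻¹ ∈ D.posUnipotent F := by
      intro h hh u hu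
      refine (show D.posUnipotent F ≤ (D.posUnipotent F).comap (MulAut.conj h).toMonoidHom from ?_) hu
      conv_lhs => rw [ChevalleyDatum.posUnipotent]
      rw [Subgroup.closure_le]
      rintro y ⟨r, t, hr, hy⟩
      obtain ⟨t', ht'⟩ := (mem_rootSubgroup hG hr.1).1
        (normalisesAll_H hG hh r hr.1 y (Subgroup.subset_closure ⟨t, hy⟩))
      exact Subgroup.subset_closure ⟨r, t', hr, (congrArg Units.val ht').trans (coe_xe hG r t')⟩
    intro h hh
    refine Subgroup.mem_normalizer_iff.2 fun u => ⟨key h hh u, fun hu => ?_⟩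
    have := key h⁻¹ (Subgroup.inv_mem _ hh) _ hu
    simpa [mul_assoc] using this
  rw [ChevalleyDatum.borelSubgroup, ← SetLike.mem_coe,
    Subgroup.coe_mul_of_right_le_normalizer_left _ _ hn, Set.mem_mul] at hg
  obtain ⟨u, hu, h, hh, e⟩ := hg
  exact ⟨u, hu, h, hh, e.symm⟩

theorem neg_inf_borel {r : ℕ} (hr : r < D.nroots) (hneg : r < D.nroots / 2) {t : F}
    (h : xe hG r t ∈ D.borelSubgroup F) : t = 0 := by
  obtain ⟨u, hu, h', hh, e⟩ := borel_decomp hG hf h
  obtain ⟨χ, hχ⟩ := tri_H hf hG hh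
  have htri : Tri F D (D.x F r t) := by
    rw [← coe_xe hG, e, Units.val_mul, hχ]
    have := (tri_U hf hu).mul (tri_hdiag hf χ)
    simpa [Tri] using this
  have hn : D.neg r = D.nroots - 1 - r := neg_eq hf hr
  have hev := hf.1
  have hlt : D.nroots - 1 - r < D.nroots := by omega
  have h0 := htri (Sum.inr ⟨r, hr⟩) (Sum.inr ⟨_, hlt⟩) (by
    simp only [rootLevel]
    rw [if_pos hneg, if_neg (by omega)]
    omega)
  simp only [ChevalleyDatum.x, dif_pos hr, ChevalleyDatum.xMat, Matrix.of_apply, Fin.ext_iff] at h0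
  rw [if_neg (by omega), if_pos (show D.nroots - 1 - r = D.negIdx.getD r 0 from hn.symm),
    if_neg (by omega), if_true, neg_eq_zero] at h0
  exact pow_eq_zero_iff (n := 2) (by norm_num) |>.1 h0

theorem xe_ne {r s : ℕ} (hr : r < D.nroots) (hs : s < D.nroots) (hrs : r ≠ s) {t : F} (ht : t ≠ 0)
    (u : F) : xe hG r t ≠ xe hG s u := by
  intro h
  obtain ⟨i, hi⟩ := exists_coroot_ne_zero (F := F) hf hr
  have e := congrArg (fun g : GL D.Idx F => (g : Matrix D.Idx D.Idx F)) h
  simp only [coe_xe] at e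
  have e' := congrFun (congrFun e (Sum.inl i)) (Sum.inr ⟨D.neg r, hG.neg_lt hr⟩)
  rw [x_entry_inl hr (hG.neg_lt hr), x_entry_inl hs (hG.neg_lt hr), if_neg (hG.neg_ne hr), if_pos rfl] at e'
  have h2 : D.neg r ≠ D.neg s := fun h => hrs (by rw [← hG.neg_neg hr, h, hG.neg_neg hs])
  rw [if_neg h2] at e'
  simp only [ite_self, mul_eq_zero] at e'
  exact e'.elim hi ht

theorem xe_ne_one {r : ℕ} (hr : r < D.nroots) {t : F} (ht : t ≠ 0) : xe hG r t ≠ 1 := fun h =>
  xe_ne hG hf hr (hG.neg_lt hr) (hG.neg_ne hr).symm ht 0 (by rw [h, xe_zero hG (hG.neg_lt hr)])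

theorem commTerms_pos {r s : ℕ} (hr : r < D.nroots) (hs : s < D.nroots) (hr' : D.nroots / 2 ≤ r)
    (hs' : D.nroots / 2 ≤ s) {x : ℕ × ℤ × ℕ × ℕ} (hx : x ∈ D.commTerms r s) :
    x.1 < D.nroots ∧ r < x.1 ∧ s < x.1 := by
  refine ⟨hG.commTerms_lt hr hs hx, ?_⟩
  have step : ∀ {a b i k : ℕ}, D.nroots / 2 ≤ a → D.nroots / 2 ≤ b → a < D.nroots →
      D.chainRoot a b i = some k → a < k ∧ b < k ∧ k < D.nroots := by
    intro a b i k ha hb halt h
    simp only [ChevalleyDatum.chainRoot, Option.map_eq_some_iff] at h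
    obtain ⟨q, hq, rfl⟩ := h
    have hlt : q.1 < D.nroots := by
      obtain ⟨c, hV⟩ := hG
      rw [hV.ent_eq halt] at hq
      exact hV.ent_lt halt (List.mem_of_getElem? hq)
    have hmem := List.mem_of_getElem? hq
    rw [ChevalleyDatum.chainEntry] at hmem
    split at hmem
    · simp at hmem
    · next e he =>
      have h1 := List.mem_of_find?_eq_some he
      have h2 := List.find?_some he
      simp only [decide_eq_true_eq] at h2
      refine ⟨hf.2.2.2.2.2 a halt ha e h1 (h2 ▸ hb) q hmem, ?_, hlt⟩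
      rw [← h2]
      exact (hf.2.1.2 a halt ((pos_iff hf halt).2 ha)).2.2 e h1 q hmem
  simp only [ChevalleyDatum.commTerms, List.mem_filterMap, List.mem_cons, List.not_mem_nil, or_false,
    Option.map_eq_some_iff] at hx
  obtain ⟨y, hy, k, hk, rfl⟩ := hx
  dsimp only
  rcases hy with rfl | rfl | rfl | rfl | rfl | rfl | rfl <;> dsimp only at hk
  · have := step hr' hs' hr hk; omega
  · have := step hr' hs' hr hk; omega
  · have := step hs' hr' hs hk; omega
  · have := step hr' hs' hr hk; omega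
  · have := step hs' hr' hs hk; omega
  · obtain ⟨m, hm, hk⟩ := Option.bind_eq_some_iff.1 hk
    have h1 := step hr' hs' hr hm
    have h2 := step (by omega) hs' h1.2.2 hk
    omega
  · obtain ⟨m, hm, hk⟩ := Option.bind_eq_some_iff.1 hk
    have h1 := step hs' hr' hs hm
    have h2 := step (by omega) hr' h1.2.2 hk
    omega

/-- Conjugation of a positive root element by another stays within the later root subgroups. -/
theorem xe_conj_mem {r s : ℕ} (hr : r < D.nroots) (hs : s < D.nroots) (hr' : D.nroots / 2 ≤ r)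
    (hs' : D.nroots / 2 ≤ s) (hrs : s ≠ r) (t u : F) {K : Subgroup (GL D.Idx F)}
    (hsK : xe hG s u ∈ K)
    (hK : ∀ k, k < D.nroots → r < k → s < k → ∀ v : F, xe hG k v ∈ K) :
    xe hG r t * xe hG s u * (xe hG r t)⁻¹ ∈ K := by
  have hne : s ≠ D.neg r := by rw [neg_eq hf hr]; have := hf.1; omega
  have h := hG.comm_formula hr hs hrs hne (-t) u
  have hw : ∀ wd : List (ℕ × F), (∀ l ∈ wd, l.1 < D.nroots ∧ r < l.1 ∧ s < l.1) →
      ∃ g : GL D.Idx F, g ∈ K ∧ (g : Matrix D.Idx D.Idx F) = D.wordMat F wd := by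
    intro wd
    induction wd with
    | nil => intro _; exact ⟨1, K.one_mem, by simp [ChevalleyDatum.wordMat]⟩
    | cons l wd ih =>
      intro hl
      obtain ⟨g, hg, he⟩ := ih fun x hx => hl x (List.mem_cons_of_mem _ hx)
      obtain ⟨h1, h2, h3⟩ := hl l List.mem_cons_self
      exact ⟨xe hG l.1 l.2 * g, K.mul_mem (hK _ h1 h2 h3 _) hg, by
        simp [ChevalleyDatum.wordMat, coe_xe, he]⟩
  obtain ⟨g, hg, hge⟩ := hw (D.commWord F r s (-t) u) (fun l hl => by
    simp only [ChevalleyDatum.commWord, List.mem_map] at hl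
    obtain ⟨x, hx, rfl⟩ := hl
    exact commTerms_pos hG hf hr hs hr' hs' hx)
  have e : xe hG s u * (xe hG r t)⁻¹ = (xe hG r t)⁻¹ * xe hG s u * g := by
    rw [xe_inv hG hr]
    exact Units.ext (by simp [coe_xe, h, hge])
  rw [mul_assoc, e, mul_assoc, mul_inv_cancel_left]
  exact K.mul_mem hsK hg

theorem axioms : (data hG F).Axioms where
  pos_opp r := by
    show D.nroots / 2 ≤ D.neg r.val ↔ ¬ D.nroots / 2 ≤ r.val
    rw [neg_eq hf r.2]
    have := r.2; have := hf.1; omega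
  opp_opp r := Fin.ext (hG.neg_neg r.2)
  pos_simp i := (hf.2.2.2.2.1 i.val i.2).2.1
  refl_simp i := Fin.ext (hf.2.2.2.2.1 i.val i.2).2.2.2.2
  refl_opp i r := Fin.ext (hG.reflectRoot_neg i.2 r.2)
  refl_refl i r := Fin.ext (hG.reflectRoot_reflectRoot i.2 r.2)
  refl_pos i r hr hne := ((hf.2.2.2.2.1 i.val i.2).2.2.2.1 r.val r.2).2 hr (fun h => hne (Fin.ext h))
  simp_inj i j h := Fin.ext ((hf.2.2.2.2.1 i.val i.2).2.2.1 j.val j.2 (congrArg Fin.val h))
  reach r := by
    refine hG.root_induction (P := fun s => ∀ hs : s < D.nroots,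
      ∃ (l : List (Fin D.rank)) (i : Fin D.rank), (data hG F).wl l ((data hG F).simp i) = ⟨s, hs⟩)
      ?_ ?_ r.2 r.2
    · intro i hi hs
      exact ⟨[], ⟨i, hi⟩, rfl⟩
    · intro i hi s hs ih _
      obtain ⟨l, j, e⟩ := ih hs
      refine ⟨⟨i, hi⟩ :: l, j, ?_⟩
      rw [RootBN.Data.wl_cons, Equiv.Perm.mul_apply, e]
      rfl
  X_inj r s h := by
    by_contra hne
    obtain ⟨u, hu⟩ := (mem_rootSubgroup hG s.2).1
      (h.le ((mem_rootSubgroup hG r.2).2 ⟨1, rfl⟩) : xe hG r.val (1 : F) ∈ D.rootSubgroup F s.val)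
    exact xe_ne hG hf r.2 s.2 (fun h => hne (Fin.ext h)) one_ne_zero u hu
  X_ne_bot r h := xe_ne_one hG hf r.2 (one_ne_zero (α := F))
    ((Subgroup.eq_bot_iff_forall _).1 h _ ((mem_rootSubgroup hG r.2).2 ⟨1, rfl⟩))
  H_le := by
    show D.diagonalSubgroup F ≤ _
    rw [data_grp hG, ChevalleyDatum.diagonalSubgroup, Subgroup.closure_le]
    rintro g ⟨r, t, hr, ht, hg⟩
    obtain rfl : g = he hG r t := Units.ext (hg.trans (coe_he hG r t).symm)
    have hm : ∀ u : F, ne' hG r u ∈ D.group F := fun u => Subgroup.mul_mem _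
      (Subgroup.mul_mem _ (xe_mem_group hG hr u) (xe_mem_group hG (hG.neg_lt hr) _)) (xe_mem_group hG hr u)
    exact Subgroup.mul_mem _ (hm t) (hm (-1))
  nn_mem i := by
    rw [data_grp hG]
    exact Subgroup.mul_mem _ (Subgroup.mul_mem _ (xe_mem_group hG (hG.simple_lt i.2) _)
      (xe_mem_group hG (hG.neg_lt (hG.simple_lt i.2)) _)) (xe_mem_group hG (hG.simple_lt i.2) _)
  conj_X i r y hy := by
    obtain ⟨t, rfl⟩ := (mem_rootSubgroup hG r.2).1 hy
    obtain ⟨e, -, hx, -⟩ := exists_conj hG (F := F) i.2 r.2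
    exact (mem_rootSubgroup hG (hG.reflectRoot_lt i.2 r.2)).2 ⟨e * t, hx t⟩
  H_conj r h hh y hy := normalisesAll_H hG hh r.val r.2 y hy
  nn_H i h hh := nn_conj_H hG i.2 hh
  nn_sq i := ne'_mul_ne'_mem hG (hG.simple_lt i.2) one_ne_zero one_ne_zero
  nroot_simp i := rfl
  conj_nroot i r := by
    obtain ⟨e, he2, -, hn⟩ := exists_conj hG (F := F) i.2 r.2
    have he0 : e ≠ 0 := fun h => by simp [h] at he2
    refine ⟨he hG (D.reflectRoot i.val r.val) e, he_mem_H hG (hG.reflectRoot_lt i.2 r.2) he0, ?_⟩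
    show _ = _ * ne' hG (D.reflectRoot i.val r.val) 1
    have := hn 1
    rw [mul_one] at this
    exact this.trans (ne'_eq_he_mul hG (hG.reflectRoot_lt i.2 r.2) e)
  simp_normal i r hr hne y hy z hz := by
    obtain ⟨t, rfl⟩ := (mem_rootSubgroup hG (hG.simple_lt i.2)).1 hy
    obtain ⟨u, rfl⟩ := (mem_rootSubgroup hG r.2).1 hz
    refine xe_conj_mem hG hf (hG.simple_lt i.2) r.2 (hf.2.2.2.2.1 i.val i.2).2.1 hr
      (fun h => hne (Fin.ext h)) t u (RootBN.Data.X_le_Urad (D := data hG F) hr hne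
        ((mem_rootSubgroup hG r.2).2 ⟨u, rfl⟩)) ?_
    intro k hk h1 h2 v
    exact RootBN.Data.X_le_Urad (D := data hG F) (r := ⟨k, hk⟩)
      (le_trans (hr : D.nroots / 2 ≤ r.val) h2.le) (fun h => h1.ne' (congrArg Fin.val h))
      ((mem_rootSubgroup hG hk).2 ⟨v, rfl⟩)
  rank_one i y hy hy1 := by
    have hp := hG.simple_lt i.2
    obtain ⟨u, rfl⟩ := (mem_rootSubgroup hG (hG.neg_lt hp)).1 hy
    have hu : u ≠ 0 := fun h => hy1 (by rw [h, xe_zero hG (hG.neg_lt hp)])
    set t : F := -u⁻¹ with htdef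
    have ht : t ≠ 0 := neg_ne_zero.2 (inv_ne_zero hu)
    refine ⟨xe hG (D.simple i.val) (-t), (mem_rootSubgroup hG hp).2 ⟨_, rfl⟩, he hG (D.simple i.val) t,
      he_mem_H hG hp ht, xe hG (D.simple i.val) (-t), (mem_rootSubgroup hG hp).2 ⟨_, rfl⟩, ?_⟩
    show xe hG (D.neg (D.simple i.val)) u = _ * _ * ne' hG (D.simple i.val) 1 * _
    rw [mul_assoc (xe hG (D.simple i.val) (-t)), ← ne'_eq_he_mul hG hp, ne', ← xe_inv hG hp,
      show -t⁻¹ = u by rw [htdef, inv_neg, inv_inv, neg_neg]]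
    group
  neg_not_mem r hneg := by
    rw [Subgroup.eq_bot_iff_forall]
    rintro y ⟨hy, hyB⟩
    obtain ⟨t, rfl⟩ := (mem_rootSubgroup hG r.2).1 hy
    rw [SetLike.mem_coe, data_B hG hf] at hyB
    rw [neg_inf_borel hG hf r.2 (not_le.1 hneg) hyB, xe_zero hG r.2]

end setup

/-! ### Normal form of U -/

section normalform

variable (hG : Good D) {tabs simps : List ℕ} (hf : Facts D tabs simps)

/-- The subgroup generated by the root elements of index at least `k`. -/
def Uge (F : Type*) [Field F] (k : ℕ) : Subgroup (GL D.Idx F) :=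
  Subgroup.closure {g | ∃ (r : ℕ) (t : F), r < D.nroots ∧ k ≤ r ∧ g = xe hG r t}

theorem Uge_succ_le (k : ℕ) : Uge hG F (k + 1) ≤ Uge hG F k := by
  rw [Uge, Uge]
  refine Subgroup.closure_mono ?_
  rintro g ⟨r, u, h1, h2, e⟩
  exact ⟨r, u, h1, by omega, e⟩

theorem xe_mem_Uge {k r : ℕ} (hr : r < D.nroots) (hk : k ≤ r) (t : F) : xe hG r t ∈ Uge hG F k :=
  Subgroup.subset_closure ⟨r, t, hr, hk, rfl⟩

include hf

theorem Uge_eq_U : Uge hG F (D.nroots / 2) = D.posUnipotent F := by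
  refine congrArg Subgroup.closure (Set.ext fun g => ?_)
  constructor
  · rintro ⟨r, t, hr, hk, rfl⟩
    exact ⟨r, t, (pos_iff hf hr).2 hk, rfl⟩
  · rintro ⟨r, t, hr, hg⟩
    exact ⟨r, t, hr.1, (pos_iff hf hr.1).1 hr, eq_xe hG hg⟩

omit hf in
theorem Uge_top {k : ℕ} (hk : D.nroots ≤ k) : Uge hG F k = ⊥ := by
  rw [Uge, Subgroup.closure_eq_bot_iff]
  rintro g ⟨r, t, hr, hk', -⟩
  omega

theorem Uge_split {k : ℕ} (hk : k < D.nroots) (hk' : D.nroots / 2 ≤ k) {g : GL D.Idx F}
    (hg : g ∈ Uge hG F k) : ∃ t, ∃ v ∈ Uge hG F (k + 1), g = xe hG k t * v := by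
  have conj : ∀ t : F, ∀ v ∈ Uge hG F (k + 1), xe hG k t * v * (xe hG k t)⁻¹ ∈ Uge hG F (k + 1) := by
    intro t v hv
    refine (show Uge hG F (k + 1) ≤ (Uge hG F (k + 1)).comap (MulAut.conj (xe hG k t)).toMonoidHom from ?_) hv
    conv_lhs => rw [Uge]
    rw [Subgroup.closure_le]
    rintro y ⟨s, u, hs, hks, rfl⟩
    exact xe_conj_mem hG hf hk hs hk' (by omega) (by omega) t u
      (xe_mem_Uge hG hs hks u)
      (fun j hj _ h2 v => xe_mem_Uge hG hj (by omega) v)
  induction hg using Subgroup.closure_induction with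
  | mem x hx =>
    obtain ⟨r, t, hr, hkr, rfl⟩ := hx
    rcases eq_or_lt_of_le hkr with h | h
    · subst h; exact ⟨t, 1, Subgroup.one_mem _, by simp⟩
    · exact ⟨0, _, xe_mem_Uge hG hr h t, by rw [xe_zero hG hk, one_mul]⟩
  | one => exact ⟨0, 1, Subgroup.one_mem _, by rw [xe_zero hG hk, one_mul]⟩
  | mul x y _ _ ihx ihy =>
    obtain ⟨t, v, hv, rfl⟩ := ihx
    obtain ⟨u, w, hw, rfl⟩ := ihy
    refine ⟨t + u, (xe hG k u)⁻¹ * v * xe hG k u * w, Subgroup.mul_mem _ ?_ hw, ?_⟩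
    · have := conj (-u) v hv
      rwa [← xe_inv hG hk, inv_inv] at this
    · rw [← xe_add hG hk]; group
  | inv x _ ih =>
    obtain ⟨t, v, hv, rfl⟩ := ih
    refine ⟨-t, xe hG k t * v⁻¹ * (xe hG k t)⁻¹, conj t _ (Subgroup.inv_mem _ hv), ?_⟩
    rw [← xe_inv hG hk]; group

/-- Later root elements do not reach the coroots from `e_{-r}`. -/
theorem Uge_entry {k : ℕ} (hk' : D.nroots / 2 ≤ k) {g : GL D.Idx F} (hg : g ∈ Uge hG F (k + 1))
    (i : Fin D.rank) (s : Fin D.nroots) (hs : D.nroots - 1 - k ≤ s.val) :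
    (g : Matrix D.Idx D.Idx F) (Sum.inl i) (Sum.inr s) = 0 := by
  have hgen : ∀ r, r < D.nroots → k + 1 ≤ r → ∀ (t : F) (i : Fin D.rank) (s : Fin D.nroots),
      D.nroots - 1 - k ≤ s.val → D.x F r t (Sum.inl i) (Sum.inr s) = 0 := by
    intro r hr hkr t i s hs
    rw [x_entry_inl hr s.2, neg_eq hf hr]
    split_ifs with h1 h2
    · rfl
    · omega
    · rfl
  have step : ∀ (a b : Matrix D.Idx D.Idx F),
      (∀ (i : Fin D.rank) (s : Fin D.nroots), D.nroots - 1 - k ≤ s.val → a (Sum.inl i) (Sum.inr s) = 0) →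
      (∀ (i : Fin D.rank) (s : Fin D.nroots), D.nroots - 1 - k ≤ s.val → b (Sum.inl i) (Sum.inr s) = 0) →
      Raises (rootLevel D) 0 b →
      ∀ (i : Fin D.rank) (s : Fin D.nroots), D.nroots - 1 - k ≤ s.val → (a * b) (Sum.inl i) (Sum.inr s) = 0 := by
    intro a b ha hb htri i s hs
    rw [Matrix.mul_apply]
    refine Finset.sum_eq_zero fun m _ => ?_
    rcases m with j | j
    · rw [hb j s hs, mul_zero]
    · by_cases hj : D.nroots - 1 - k ≤ j.val
      · rw [ha i j hj, zero_mul]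
      · rw [htri (Sum.inr j) (Sum.inr s) (by simp only [rootLevel]; split_ifs <;> omega), mul_zero]
  suffices key : g ∈ D.posUnipotent F ∧ ∀ (i : Fin D.rank) (s : Fin D.nroots),
      D.nroots - 1 - k ≤ s.val → (g : Matrix D.Idx D.Idx F) (Sum.inl i) (Sum.inr s) = 0 from key.2 i s hs
  clear hs s i
  induction hg using Subgroup.closure_induction_left with
  | one => exact ⟨Subgroup.one_mem _, fun i s _ => by simp⟩
  | mul_left x hx z _ ih =>
    obtain ⟨r, t, hr, hkr, rfl⟩ := hx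
    refine ⟨Subgroup.mul_mem _ (Subgroup.subset_closure ⟨r, t, (pos_iff hf hr).2 (by omega), rfl⟩) ih.1, ?_⟩
    rw [Units.val_mul, coe_xe]
    exact step _ _ (hgen r hr hkr t) ih.2 (tri_U hf ih.1)
  | inv_mul_cancel x hx z _ ih =>
    obtain ⟨r, t, hr, hkr, rfl⟩ := hx
    rw [xe_inv hG hr]
    refine ⟨Subgroup.mul_mem _ (Subgroup.subset_closure ⟨r, -t, (pos_iff hf hr).2 (by omega), rfl⟩) ih.1, ?_⟩
    rw [Units.val_mul, coe_xe]
    exact step _ _ (hgen r hr hkr (-t)) ih.2 (tri_U hf ih.1)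

theorem Uge_xe_eq_zero {k : ℕ} (hk : k < D.nroots) (hk' : D.nroots / 2 ≤ k) {t : F}
    (h : xe hG k t ∈ Uge hG F (k + 1)) : t = 0 := by
  obtain ⟨i, hi⟩ := exists_coroot_ne_zero (F := F) hf hk
  have := Uge_entry hG hf hk' h i ⟨D.neg k, hG.neg_lt hk⟩ (neg_eq hf hk).ge
  rw [coe_xe, x_entry_inl hk (hG.neg_lt hk), if_neg (hG.neg_ne hk), if_pos rfl] at this
  exact (mul_eq_zero.1 this).resolve_left hi

omit hf in
/-- The ordered product over the root indices from `k` to `k + m`. -/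
def prodFrom (F : Type*) [Field F] (t : ℕ → F) : ℕ → ℕ → GL D.Idx F
  | _, 0 => 1
  | k, m + 1 => xe hG k (t k) * prodFrom F t (k + 1) m

omit hf in
theorem prodFrom_mem {t : ℕ → F} : ∀ {k m : ℕ}, k + m = D.nroots → prodFrom hG F t k m ∈ Uge hG F k := by
  intro k m
  induction m generalizing k with
  | zero => intro _; exact Subgroup.one_mem _
  | succ m ih =>
    intro h
    refine Subgroup.mul_mem _ (xe_mem_Uge hG (by omega) le_rfl _) ?_
    exact Uge_succ_le hG k (ih (k := k + 1) (by omega))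

theorem prodFrom_inj {t u : ℕ → F} : ∀ {k m : ℕ}, k + m = D.nroots → D.nroots / 2 ≤ k →
    prodFrom hG F t k m = prodFrom hG F u k m → ∀ r, k ≤ r → r < D.nroots → t r = u r := by
  intro k m
  induction m generalizing k with
  | zero => intro h _ _ r h1 h2; omega
  | succ m ih =>
    intro h hk' e r h1 h2
    rw [prodFrom, prodFrom] at e
    have e2 : xe hG k (-u k + t k) = prodFrom hG F u (k + 1) m * (prodFrom hG F t (k + 1) m)⁻¹ := by
      rw [← xe_add hG (by omega), ← xe_inv hG (by omega), eq_mul_inv_iff_mul_eq, mul_assoc, e,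
        inv_mul_cancel_left]
    have h0 : -u k + t k = 0 := Uge_xe_eq_zero hG hf (by omega) hk' (e2 ▸
      Subgroup.mul_mem _ (prodFrom_mem hG (by omega)) (Subgroup.inv_mem _ (prodFrom_mem hG (by omega))))
    rw [neg_add_eq_zero] at h0
    rcases eq_or_lt_of_le h1 with rfl | h3
    · exact h0.symm
    · rw [h0] at e
      exact ih (by omega) (by omega) (mul_left_cancel e) r h3 h2

theorem exists_prodFrom : ∀ {k m : ℕ}, k + m = D.nroots → D.nroots / 2 ≤ k →
    ∀ g ∈ Uge hG F k, ∃ t : ℕ → F, (∀ r, (r < k ∨ D.nroots ≤ r) → t r = 0) ∧ g = prodFrom hG F t k m := by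
  intro k m
  induction m generalizing k with
  | zero =>
    intro h _ g hg
    rw [Uge_top hG (by omega), Subgroup.mem_bot] at hg
    exact ⟨fun _ => 0, fun _ _ => rfl, hg⟩
  | succ m ih =>
    intro h hk g hg
    obtain ⟨a, v, hv, rfl⟩ := Uge_split hG hf (by omega) hk hg
    obtain ⟨t, ht, rfl⟩ := ih (by omega) (by omega) v hv
    refine ⟨Function.update t k a, fun r hr => ?_, ?_⟩
    · rw [Function.update_of_ne (by omega)]
      exact ht r (by omega)
    · have hc : ∀ (m k' : ℕ), k < k' →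
          prodFrom hG F (Function.update t k a) k' m = prodFrom hG F t k' m := by
        intro m
        induction m with
        | zero => intros; rfl
        | succ m ih' =>
          intro k' hk'
          rw [prodFrom, prodFrom, Function.update_of_ne (by omega), ih' (k' + 1) (by omega)]
      rw [prodFrom, Function.update_self, hc m (k + 1) (by omega)]

theorem posRoots_eq : D.posRoots = List.range' (D.nroots / 2) (D.nroots - D.nroots / 2) := by
  rw [ChevalleyDatum.posRoots]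
  have e : List.range D.nroots = List.range (D.nroots / 2) ++ List.range' (D.nroots / 2) (D.nroots - D.nroots / 2) := by
    rw [List.range_eq_range', List.range_eq_range', show List.range' (D.nroots / 2) (D.nroots - D.nroots / 2)
      = List.range' (0 + 1 * (D.nroots / 2)) (D.nroots - D.nroots / 2) by simp, List.range'_append]
    congr 1; omega
  rw [e, List.filter_append, List.filter_eq_nil_iff.2, List.filter_eq_self.2, List.nil_append]
  · intro r hr
    simp only [List.mem_range'_1] at hr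
    simp [pos_iff hf (show r < D.nroots by omega), hr.1]
  · intro r hr
    simp only [List.mem_range] at hr
    simp [pos_iff hf (show r < D.nroots by omega)]
    omega

theorem coe_prodFrom (t : ℕ → F) : ∀ k m : ℕ,
    ((prodFrom hG F t k m : GL D.Idx F) : Matrix D.Idx D.Idx F) =
      D.wordMat F ((List.range' k m).map fun r => (r, t r)) := by
  intro k m
  induction m generalizing k with
  | zero => simp [prodFrom, ChevalleyDatum.wordMat]
  | succ m ih => simp [prodFrom, ChevalleyDatum.wordMat, List.range'_succ, coe_xe, ih]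

theorem card_Uge [Fintype F] : ∀ {k m : ℕ}, k + m = D.nroots → D.nroots / 2 ≤ k →
    Nat.card (Uge hG F k) = Fintype.card F ^ m := by
  intro k m
  induction m generalizing k with
  | zero => intro h _; rw [Uge_top hG (by omega), Subgroup.card_bot, pow_zero]
  | succ m ih =>
    intro h hk
    have hle : Uge hG F (k + 1) ≤ Uge hG F k := Uge_succ_le hG k
    rw [pow_succ', ← ih (k := k + 1) (by omega) (by omega), ← Nat.card_eq_fintype_card (α := F), ← Nat.card_prod]
    symm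
    have hkn : k < D.nroots := by omega
    refine Nat.card_congr (Equiv.ofBijective (fun p : F × Uge hG F (k + 1) =>
      (⟨xe hG k p.1 * p.2.1, Subgroup.mul_mem _ (xe_mem_Uge hG hkn le_rfl p.1) (hle p.2.2)⟩ : Uge hG F k))
      ⟨?_, ?_⟩)
    · rintro ⟨a, v, hv⟩ ⟨b, w, hw⟩ e
      have e' : xe hG k a * v = xe hG k b * w := congrArg Subtype.val e
      have e2 : xe hG k (-b + a) = w * v⁻¹ := by
        rw [← xe_add hG hkn, ← xe_inv hG hkn, eq_mul_inv_iff_mul_eq, mul_assoc, e',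
          inv_mul_cancel_left]
      have h0 : -b + a = 0 := Uge_xe_eq_zero hG hf hkn hk
        (e2 ▸ Subgroup.mul_mem _ hw (Subgroup.inv_mem _ hv))
      rw [neg_add_eq_zero] at h0
      subst h0
      exact Prod.ext rfl (Subtype.ext (mul_left_cancel e'))
    · rintro ⟨g, hg⟩
      obtain ⟨t, v, hv, rfl⟩ := Uge_split hG hf (by omega) hk hg
      exact ⟨(t, ⟨v, hv⟩), rfl⟩

theorem card_U (hG : Good D) [Fintype F] :
    Nat.card (D.posUnipotent F) = Fintype.card F ^ (D.nroots / 2) := by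
  rw [← Uge_eq_U hG hf, card_Uge hG hf (m := D.nroots / 2) (by have := hf.1; omega) le_rfl]

end normalform

end Cfsg.Agent.Chev.BNSetup
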