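import Cfsg.Prelude.Def_ChevAutomorphisms
import Cfsg.Agent.Lib.Chev.BN
import Cfsg.Agent.Lib.RootBN.Fixed

/-!
# Fixed points of a field automorphism of a Chevalley group

`fieldAut_fixed_equiv`: for a certified datum whose Cartan matrix has an integral inverse, the fixed
points of a field automorphism of prime order `r` form the group over a field `F₀` with `|F| = |F₀| ^ r`.
-/

set_option autoImplicit false

namespace Cfsg.Agent.Chev.BNSetup

open Cfsg.Lie
open scoped Matrix

variable {D : ChevalleyDatum}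

theorem xMat_map {R S : Type*} [Field R] [Field S] (f : R →+* S) (r : Fin D.nroots) (t : R) :
    (D.xMat R r t).map f = D.xMat S r (f t) := by
  ext row col
  rcases col with i | s <;> rcases row with j | u <;>
    simp only [Matrix.map_apply, ChevalleyDatum.xMat, Matrix.of_apply] <;>
    split_ifs <;>
    simp [map_list_sum, List.map_map, Function.comp_def]

theorem x_map {R S : Type*} [Field R] [Field S] (f : R →+* S) (r : ℕ) (t : R) :
    (D.x R r t).map f = D.x S r (f t) := by
  unfold ChevalleyDatum.x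
  split_ifs with h
  · exact xMat_map f _ t
  · exact Matrix.map_one _ (map_zero f) (map_one f)

variable (D) in
/-- Application of a ring homomorphism to the entries. -/
def entryMap {R S : Type*} [Field R] [Field S] (f : R →+* S) : GL D.Idx R →* GL D.Idx S :=
  Units.map (f.mapMatrix : Matrix D.Idx D.Idx R →+* Matrix D.Idx D.Idx S).toMonoidHom

variable (hG : Good D)
include hG

theorem entryMap_xe {R S : Type*} [Field R] [Field S] (f : R →+* S) (r : ℕ) (t : R) :
    entryMap D f (xe hG r t) = xe hG r (f t) := Units.ext (x_map f r t)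

theorem group_eq_closure_xe (F : Type*) [Field F] :
    D.group F = Subgroup.closure {g | ∃ r < D.nroots, ∃ t : F, g = xe hG r t} := by
  refine congrArg Subgroup.closure (Set.ext fun g => ⟨?_, ?_⟩)
  · rintro ⟨r, t, hg⟩
    exact ⟨r.val, r.2, t, Units.ext (by rw [hg, coe_xe, ChevalleyDatum.x, dif_pos r.2])⟩
  · rintro ⟨r, hr, t, rfl⟩
    exact ⟨⟨r, hr⟩, t, by rw [coe_xe, ChevalleyDatum.x, dif_pos hr]⟩

variable {F : Type*} [Field F] (σ : F ≃+* F)

/-- The group generated by the root elements with fixed parameter. -/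
def fixedRoots : Subgroup (GL D.Idx F) :=
  Subgroup.closure {g | ∃ r < D.nroots, ∃ t : F, σ t = t ∧ g = xe hG r t}

theorem xe_mem_fixedRoots {r : ℕ} (hr : r < D.nroots) {t : F} (ht : σ t = t) :
    xe hG r t ∈ fixedRoots hG σ := Subgroup.subset_closure ⟨r, hr, t, ht, rfl⟩

theorem ne'_mem_fixedRoots {r : ℕ} (hr : r < D.nroots) {t : F} (ht : σ t = t) :
    ne' hG r t ∈ fixedRoots hG σ :=
  mul_mem (mul_mem (xe_mem_fixedRoots hG σ hr ht)
    (xe_mem_fixedRoots hG σ (hG.neg_lt hr) (by rw [map_neg, map_inv₀, ht])))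
    (xe_mem_fixedRoots hG σ hr ht)

theorem he_mem_fixedRoots {r : ℕ} (hr : r < D.nroots) {t : F} (ht : σ t = t) :
    he hG r t ∈ fixedRoots hG σ :=
  mul_mem (ne'_mem_fixedRoots hG σ hr ht) (ne'_mem_fixedRoots hG σ hr (by simp))

omit σ in
theorem entryMap_ne' {S : Type*} [Field S] (f : F →+* S) (r : ℕ) (t : F) :
    entryMap D f (ne' hG r t) = ne' hG r (f t) := by
  simp only [ne', map_mul, entryMap_xe hG]
  rw [map_neg, map_inv₀]

omit σ in
theorem entryMap_he {S : Type*} [Field S] (f : F →+* S) (r : ℕ) (t : F) :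
    entryMap D f (he hG r t) = he hG r (f t) := by
  simp only [he, map_mul, entryMap_ne' hG]
  rw [map_neg, map_one]

omit σ in
theorem diagonal_eq_prod {h : GL D.Idx F} (hh : h ∈ D.diagonalSubgroup F) :
    ∃ τ : ℕ → Fˣ, (h : Matrix D.Idx D.Idx F) =
      hdiag D (fun s => ∏ i ∈ Finset.range D.rank, ((τ i ^ D.cartan i s : Fˣ) : F)) := by
  induction hh using Subgroup.closure_induction with
  | mem x hx =>
    obtain ⟨r, t, hr, ht, hx⟩ := hx
    refine ⟨fun i => Units.mk0 t ht ^ (D.coroot.getD r #[]).getD i 0, hx.trans ?_⟩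
    rw [hG.hMat_eq hr ht]
    refine hdiag_congr D fun s _ => ?_
    have e : ∀ L : List ℕ, t ^ (L.map fun i => (D.coroot.getD r #[]).getD i 0 * D.cartan i s).sum =
        (L.map fun i => (((Units.mk0 t ht ^ (D.coroot.getD r #[]).getD i 0) ^ D.cartan i s : Fˣ) : F)).prod := by
      intro L
      induction L with
      | nil => simp
      | cons a L ih =>
        rw [List.map_cons, List.sum_cons, List.map_cons, List.prod_cons, zpow_add₀ ht, ih, ← zpow_mul]
        simp
    exact e (List.range D.rank)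
  | one => exact ⟨fun _ => 1, by simp [hdiag_one]⟩
  | mul x y _ _ hx hy =>
    obtain ⟨τ, hτ⟩ := hx
    obtain ⟨τ', hτ'⟩ := hy
    refine ⟨fun i => τ i * τ' i, ?_⟩
    rw [Units.val_mul, hτ, hτ', hdiag_mul]
    refine hdiag_congr D fun s _ => ?_
    rw [← Finset.prod_mul_distrib]
    simp [mul_zpow]
  | inv x _ hx =>
    obtain ⟨τ, hτ⟩ := hx
    refine ⟨fun i => (τ i)⁻¹, Units.inv_eq_of_mul_eq_one_right ?_⟩
    rw [hτ, hdiag_mul, ← hdiag_one D]
    refine hdiag_congr D fun s _ => ?_
    rw [← Finset.prod_mul_distrib]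
    refine Finset.prod_eq_one fun i _ => ?_
    rw [← Units.val_mul, ← mul_zpow, mul_inv_cancel, one_zpow, Units.val_one]

omit σ in
theorem coe_prod_he (τ : ℕ → Fˣ) : ∀ n ≤ D.rank,
    ((((List.range n).map fun i => he hG (D.simple i) (τ i : F)).prod : GL D.Idx F) :
      Matrix D.Idx D.Idx F) = hdiag D (fun s => ∏ i ∈ Finset.range n, ((τ i ^ D.cartan i s : Fˣ) : F)) := by
  intro n
  induction n with
  | zero => intro; simp [hdiag_one]
  | succ n ih =>
    intro hn
    rw [List.range_succ, List.map_append, List.prod_append, Units.val_mul, ih (by omega),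
      List.map_cons, List.map_nil, List.prod_cons, List.prod_nil, mul_one, coe_he,
      hG.hMat_simple_eq (by omega) (τ n).ne_zero, hdiag_mul]
    refine hdiag_congr D fun s _ => ?_
    rw [Finset.prod_range_succ, Units.val_zpow_eq_zpow_val (τ n)]

theorem diagonal_fixed (Bm : ℕ → ℕ → ℤ)
    (hBm : ∀ i < D.rank, ∀ k < D.rank,
      ∑ j ∈ Finset.range D.rank, D.cartan i (D.simple j) * Bm j k = if i = k then 1 else 0)
    {h : GL D.Idx F} (hh : h ∈ D.diagonalSubgroup F) (hfix : entryMap D (σ : F →+* F) h = h) :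
    h ∈ fixedRoots hG σ := by
  obtain ⟨τ, hτ⟩ := diagonal_eq_prod hG hh
  set χ : ℕ → Fˣ := fun s => ∏ i ∈ Finset.range D.rank, τ i ^ D.cartan i s with hχ
  have hχc : ∀ s, ((χ s : Fˣ) : F) = ∏ i ∈ Finset.range D.rank, ((τ i ^ D.cartan i s : Fˣ) : F) :=
    fun s => map_prod (Units.coeHom F) _ _
  have hσχ : ∀ s < D.nroots, Units.map (σ : F →* F) (χ s) = χ s := by
    intro s hs
    refine Units.ext ?_
    have e : σ ((h : Matrix D.Idx D.Idx F) (Sum.inr ⟨s, hs⟩) (Sum.inr ⟨s, hs⟩)) =
        (h : Matrix D.Idx D.Idx F) (Sum.inr ⟨s, hs⟩) (Sum.inr ⟨s, hs⟩) :=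
      Matrix.ext_iff.2 (congrArg Units.val hfix) _ _
    rw [hτ, hdiag, Matrix.diagonal_apply_eq, Sum.elim_inr, ← hχc] at e
    exact e
  have key : ∀ k < D.rank, τ k = ∏ j ∈ Finset.range D.rank, χ (D.simple j) ^ Bm j k := by
    intro k hk
    have e1 : ∀ j, χ (D.simple j) ^ Bm j k =
        ∏ i ∈ Finset.range D.rank, τ i ^ (D.cartan i (D.simple j) * Bm j k) := fun j => by
      rw [hχ, ← Finset.prod_zpow]
      simp [zpow_mul]
    have e2 : ∀ (g : Fˣ) (f : ℕ → ℤ) (n : ℕ), ∏ j ∈ Finset.range n, g ^ f j = g ^ ∑ j ∈ Finset.range n, f j := by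
      intro g f n
      induction n with
      | zero => simp
      | succ n ih => rw [Finset.prod_range_succ, Finset.sum_range_succ, ih, zpow_add]
    rw [Finset.prod_congr rfl fun j _ => e1 j, Finset.prod_comm,
      Finset.prod_congr rfl fun i _ => e2 (τ i) _ _, Finset.prod_eq_single_of_mem k (Finset.mem_range.2 hk)]
    · rw [hBm k hk k hk, if_pos rfl, zpow_one]
    · intro i hi hik
      rw [hBm i (Finset.mem_range.1 hi) k hk, if_neg hik, zpow_zero]
  have hτfix : ∀ k < D.rank, σ (τ k : F) = τ k := by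
    intro k hk
    have : Units.map (σ : F →* F) (τ k) = τ k := by
      rw [key k hk, map_prod]
      refine Finset.prod_congr rfl fun j hj => ?_
      rw [map_zpow, hσχ _ (hG.simple_lt (Finset.mem_range.1 hj))]
    exact congrArg Units.val this
  have he' : h = ((List.range D.rank).map fun i => he hG (D.simple i) (τ i : F)).prod :=
    Units.ext (hτ.trans (coe_prod_he hG τ D.rank le_rfl).symm)
  rw [he']
  refine list_prod_mem fun x hx => ?_
  obtain ⟨i, hi, rfl⟩ := List.mem_map.1 hx
  exact he_mem_fixedRoots hG σ (hG.simple_lt (List.mem_range.1 hi)) (hτfix i (List.mem_range.1 hi))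

variable {tabs simps : List ℕ} (hf : Facts D tabs simps)
include hf

omit σ in
theorem xe_inj {r : ℕ} (hr : r < D.nroots) {t u : F} (h : xe hG r t = xe hG r u) : t = u := by
  by_contra hne
  refine xe_ne_one hG hf hr (sub_ne_zero.2 hne) ?_
  rw [sub_eq_add_neg, ← xe_add hG hr, h, xe_add hG hr, add_neg_cancel, xe_zero hG hr]

theorem entryMap_prodFrom (t : ℕ → F) : ∀ k m : ℕ,
    entryMap D (σ : F →+* F) (prodFrom hG F t k m) = prodFrom hG F (fun r => σ (t r)) k m := by
  intro k m
  induction m generalizing k with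
  | zero => simp [prodFrom]
  | succ m ih => rw [prodFrom, prodFrom, map_mul, entryMap_xe hG, ih]; rfl

theorem fixed_mem_fixedRoots (Bm : ℕ → ℕ → ℤ)
    (hBm : ∀ i < D.rank, ∀ k < D.rank,
      ∑ j ∈ Finset.range D.rank, D.cartan i (D.simple j) * Bm j k = if i = k then 1 else 0)
    {g : GL D.Idx F} (hg : g ∈ D.group F) (hfix : entryMap D (σ : F →+* F) g = g) :
    g ∈ fixedRoots hG σ := by
  have hax := axioms (F := F) hG hf
  rw [← data_grp hG] at hg
  have hX : ∀ (i : Fin D.rank) (y : GL D.Idx F), y ∈ (data hG F).X ((data hG F).simp i) ↔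
      ∃ t, y = xe hG (D.simple i.val) t := fun i y => mem_rootSubgroup hG (hG.simple_lt i.2)
  have hθU : ∀ u ∈ D.posUnipotent F, entryMap D (σ : F →+* F) u ∈ D.posUnipotent F := by
    intro u hu
    refine (show D.posUnipotent F ≤ (D.posUnipotent F).comap (entryMap D (σ : F →+* F)) from ?_) hu
    conv_lhs => rw [ChevalleyDatum.posUnipotent]
    rw [Subgroup.closure_le]
    rintro x ⟨r, t, hr, hx⟩
    refine Subgroup.subset_closure ⟨r, σ t, hr, ?_⟩
    rw [eq_xe hG hx, entryMap_xe hG]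
    rfl
  have hθH : ∀ u ∈ D.diagonalSubgroup F, entryMap D (σ : F →+* F) u ∈ D.diagonalSubgroup F := by
    intro u hu
    refine (show D.diagonalSubgroup F ≤ (D.diagonalSubgroup F).comap (entryMap D (σ : F →+* F)) from ?_) hu
    conv_lhs => rw [ChevalleyDatum.diagonalSubgroup]
    rw [Subgroup.closure_le]
    rintro x ⟨r, t, hr, ht, hx⟩
    refine Subgroup.subset_closure ⟨r, σ t, hr, (map_ne_zero σ).2 ht, ?_⟩
    obtain rfl : x = he hG r t := Units.ext (hx.trans (coe_he hG r t).symm)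
    rw [entryMap_he hG, coe_he]
    rfl
  refine RootBN.Data.mem_of_fixed hax (entryMap D (σ : F →+* F)) (fixedRoots hG σ) ?_ ?_ ?_ ?_ ?_ ?_ hg hfix
  · intro i
    show entryMap D (σ : F →+* F) (ne' hG (D.simple i.val) 1) = ne' hG (D.simple i.val) 1
    rw [entryMap_ne' hG, map_one]
  · intro b hb
    rw [data_B hG hf] at hb ⊢
    obtain ⟨u, hu, t, ht, rfl⟩ := borel_decomp hG hf hb
    rw [map_mul]
    exact mul_mem ((le_sup_left : D.posUnipotent F ≤ D.borelSubgroup F) (hθU u hu))
      ((le_sup_right : D.diagonalSubgroup F ≤ D.borelSubgroup F) (hθH t ht))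
  · intro i y hy
    obtain ⟨t, rfl⟩ := (hX i y).1 hy
    exact (hX i _).2 ⟨σ t, entryMap_xe hG _ _ _⟩
  · exact fun i => ne'_mem_fixedRoots hG σ (hG.simple_lt i.2) (map_one σ)
  · intro b hb hbf
    rw [data_B hG hf] at hb
    obtain ⟨u, hu, t, ht, rfl⟩ := borel_decomp hG hf hb
    rw [map_mul] at hbf
    have h1 : u⁻¹ * entryMap D (σ : F →+* F) u ∈ D.posUnipotent F ⊓ D.diagonalSubgroup F := by
      refine Subgroup.mem_inf.2 ⟨mul_mem (inv_mem hu) (hθU u hu), ?_⟩
      have e : u⁻¹ * entryMap D (σ : F →+* F) u = t * (entryMap D (σ : F →+* F) t)⁻¹ := by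
        rw [eq_mul_inv_iff_mul_eq, mul_assoc, hbf, inv_mul_cancel_left]
      rw [e]
      exact mul_mem ht (inv_mem (hθH t ht))
    rw [U_inf_H hf hG, Subgroup.mem_bot, inv_mul_eq_one] at h1
    rw [← h1, mul_right_inj] at hbf
    refine mul_mem ?_ (diagonal_fixed hG σ Bm hBm ht hbf)
    have hkm : D.nroots / 2 + (D.nroots - D.nroots / 2) = D.nroots := by omega
    rw [← Uge_eq_U hG hf] at hu
    obtain ⟨c, -, hc⟩ := exists_prodFrom hG hf hkm le_rfl u hu
    have e := h1.symm
    rw [hc, entryMap_prodFrom hG σ hf] at e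
    have hinj := prodFrom_inj hG hf hkm le_rfl e
    have hmem : ∀ m k, k + m = D.nroots → D.nroots / 2 ≤ k →
        prodFrom hG F c k m ∈ fixedRoots hG σ := by
      intro m
      induction m with
      | zero => intros; exact one_mem _
      | succ m ih =>
        intro k hk hk2
        exact mul_mem (xe_mem_fixedRoots hG σ (by omega) (hinj k hk2 (by omega)))
          (ih (k + 1) (by omega) (by omega))
    rw [hc]
    exact hmem _ _ hkm le_rfl
  · intro i y hy hyf
    obtain ⟨t, rfl⟩ := (hX i y).1 hy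
    rw [entryMap_xe hG] at hyf
    exact xe_mem_fixedRoots hG σ (hG.simple_lt i.2) (xe_inj hG hf (hG.simple_lt i.2) hyf)

omit σ in
theorem fieldAut_fixed_equiv (Bm : ℕ → ℕ → ℤ)
    (hBm : ∀ i < D.rank, ∀ k < D.rank,
      ∑ j ∈ Finset.range D.rank, D.cartan i (D.simple j) * Bm j k = if i = k then 1 else 0)
    (hn : 0 < D.nroots) [Fintype F] (φ : MulAut ↥(D.group F)) (hφ : D.IsFieldAut φ) (r : ℕ)
    (hr : r.Prime) (ho : orderOf φ = r) :
    ∃ (F₀ : Type) (_ : Field F₀) (_ : Fintype F₀), Fintype.card F = Fintype.card F₀ ^ r ∧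
      Nonempty (↥((MulEquiv.toMonoidHom φ).eqLocus (MonoidHom.id ↥(D.group F))) ≃* ↥(D.group F₀)) := by
  obtain ⟨σ, hσ⟩ := hφ
  have hxm : ∀ s < D.nroots, ∀ t : F, xe hG s t ∈ D.group F := fun s hs t => xe_mem_group hG hs t
  have hφθ : ∀ g : ↥(D.group F), ((φ g : ↥(D.group F)) : GL D.Idx F) = entryMap D (σ : F →+* F) g := by
    let f₁ : ↥(D.group F) →* GL D.Idx F := (D.group F).subtype.comp (MulEquiv.toMonoidHom φ)
    let f₂ : ↥(D.group F) →* GL D.Idx F := (entryMap D (σ : F →+* F)).comp (D.group F).subtype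
    have htop : Subgroup.closure {g : ↥(D.group F) | ∃ s < D.nroots, ∃ t : F, (g : GL D.Idx F) = xe hG s t} = ⊤ := by
      refine Subgroup.map_injective (D.group F).subtype_injective ?_
      rw [MonoidHom.map_closure, ← MonoidHom.range_eq_map, Subgroup.range_subtype]
      conv_rhs => rw [group_eq_closure_xe hG]
      congr 1
      ext g
      constructor
      · rintro ⟨g, hg, rfl⟩; exact hg
      · rintro ⟨s, hs, t, rfl⟩; exact ⟨⟨_, hxm s hs t⟩, ⟨s, hs, t, rfl⟩, rfl⟩
    have heq : f₁ = f₂ := by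
      refine MonoidHom.eq_of_eqOn_dense htop ?_
      rintro g ⟨s, hs, t, hg⟩
      show ((φ g : ↥(D.group F)) : GL D.Idx F) = entryMap D (σ : F →+* F) g
      rw [hg, entryMap_xe hG]
      refine Units.ext ((hσ g s t hs ?_).trans rfl)
      rw [hg, coe_xe]
    exact fun g => DFunLike.congr_fun heq g
  have hσ1 : σ ≠ 1 := by
    intro h
    have : φ = 1 := MulEquiv.ext fun g => Subtype.ext (by
      rw [hφθ, h]
      exact Units.ext (Matrix.ext fun a b => rfl))
    rw [this, orderOf_one] at ho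
    exact hr.one_lt.ne ho
  have hpow : σ ^ r = 1 := by
    have hk : ∀ (k : ℕ) (t : F), (φ ^ k) ⟨_, hxm 0 hn t⟩ = ⟨_, hxm 0 hn ((σ ^ k) t)⟩ := by
      intro k
      induction k with
      | zero => intro t; rfl
      | succ k ih =>
        intro t
        rw [pow_succ', MulAut.mul_apply, ih]
        refine Subtype.ext ?_
        rw [hφθ, entryMap_xe hG, pow_succ']
        rfl
    refine RingEquiv.ext fun t => ?_
    have := hk r t
    rw [← ho, pow_orderOf_eq_one, MulAut.one_apply, ho] at this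
    exact (xe_inj hG hf hn (congrArg Subtype.val this)).symm
  haveI : Fact r.Prime := ⟨hr⟩
  have hoσ : orderOf σ = r := orderOf_eq_prime hpow hσ1
  haveI : Finite (F ≃+* F) := Finite.of_injective (fun e : F ≃+* F => (e : F → F)) DFunLike.coe_injective
  haveI : Fintype ↥(Subgroup.zpowers σ) := Fintype.ofFinite _
  haveI : FaithfulSMul ↥(Subgroup.zpowers σ) F :=
    ⟨fun {a b} h => Subtype.ext (RingEquiv.ext h)⟩
  set K₀ := FixedPoints.subfield ↥(Subgroup.zpowers σ) F with hK₀
  have hK : ∀ t : F, t ∈ K₀ ↔ σ t = t := by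
    intro t
    constructor
    · intro ht; exact ht ⟨σ, Subgroup.mem_zpowers σ⟩
    · intro ht m
      obtain ⟨k, hk⟩ := Subgroup.mem_zpowers_iff.1 m.2
      have hle : Subgroup.zpowers σ ≤ MulAction.stabilizer (F ≃+* F) t := Subgroup.zpowers_le.2 ht
      exact hle m.2
  letI : Fintype K₀ := Fintype.ofFinite _
  letI : Fintype (Shrink.{0} K₀) := Fintype.ofFinite _
  refine ⟨Shrink.{0} K₀, inferInstance, inferInstance, ?_, ?_⟩
  · rw [← Fintype.card_congr (equivShrink.{0} K₀), Module.card_eq_pow_finrank (K := K₀) (V := F),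
      FixedPoints.finrank_eq_card, ← Nat.card_eq_fintype_card (α := ↥(Subgroup.zpowers σ)),
      Nat.card_zpowers, hoσ]
  let ι : Shrink.{0} K₀ →+* F := K₀.subtype.comp (Shrink.ringEquiv.{0} K₀).toRingHom
  have hι : Function.Injective ι := ι.injective
  have himg : (D.group (Shrink.{0} K₀)).map (entryMap D ι) = fixedRoots hG σ := by
    rw [group_eq_closure_xe hG, MonoidHom.map_closure]
    refine congrArg Subgroup.closure (Set.ext fun g => ⟨?_, ?_⟩)
    · rintro ⟨_, ⟨s, hs, t, rfl⟩, rfl⟩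
      exact ⟨s, hs, ι t, (hK _).1 (Shrink.ringEquiv.{0} K₀ t).2, entryMap_xe hG ι s t⟩
    · rintro ⟨s, hs, t, ht, rfl⟩
      refine ⟨_, ⟨s, hs, (Shrink.ringEquiv.{0} K₀).symm ⟨t, (hK t).2 ht⟩, rfl⟩, ?_⟩
      rw [entryMap_xe hG]
      congr 1
      simp [ι]
  have hinj : Function.Injective (entryMap D ι) :=
    Units.map_injective (Matrix.map_injective hι)
  have hfixmap : ((MulEquiv.toMonoidHom φ).eqLocus (MonoidHom.id ↥(D.group F))).map (D.group F).subtype =
      fixedRoots hG σ := by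
    apply le_antisymm
    · rintro _ ⟨g, hg, rfl⟩
      exact fixed_mem_fixedRoots hG σ hf Bm hBm g.2
        ((hφθ g).symm.trans (congrArg Subtype.val hg))
    · rw [fixedRoots, Subgroup.closure_le]
      rintro _ ⟨s, hs, t, ht, rfl⟩
      refine ⟨⟨_, hxm s hs t⟩, Subtype.ext ?_, rfl⟩
      show ((φ ⟨_, hxm s hs t⟩ : ↥(D.group F)) : GL D.Idx F) = xe hG s t
      rw [hφθ, entryMap_xe hG]
      exact congrArg (xe hG s) ht
  exact ⟨((Subgroup.equivMapOfInjective _ _ (D.group F).subtype_injective).trans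
    (MulEquiv.subgroupCongr (hfixmap.trans himg.symm))).trans
      (Subgroup.equivMapOfInjective _ _ hinj).symm⟩

end Cfsg.Agent.Chev.BNSetup
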