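/-
The diagonal subgroup as the image of the torus `(Fˣ)^l`, products of `h_p(c_p)`, and its order from an
integer certificate describing the kernel.
-/
import Cfsg.Agent.Lib.Chev.BN

set_option autoImplicit false

namespace Cfsg.Agent.Chev.BNSetup

open Cfsg.Lie
open scoped Matrix

variable {F : Type*} [Field F] {D : ChevalleyDatum}

/-- The character of the roots attached to a point of the torus. -/
def torusChar (D : ChevalleyDatum) (c : Fin D.rank → Fˣ) (s : ℕ) : Fˣ := ∏ i, c i ^ D.cartan i.val s

theorem torusChar_mul (c c' : Fin D.rank → Fˣ) (s : ℕ) :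
    torusChar D (c * c') s = torusChar D c s * torusChar D c' s := by
  simp [torusChar, mul_zpow, Finset.prod_mul_distrib]

theorem torusChar_one (s : ℕ) : torusChar D (1 : Fin D.rank → Fˣ) s = 1 := by simp [torusChar]

theorem hdiag_torus_mul (c c' : Fin D.rank → Fˣ) :
    hdiag D (fun s => ((torusChar D c s : Fˣ) : F)) * hdiag D (fun s => ((torusChar D c' s : Fˣ) : F)) =
      hdiag D (fun s => ((torusChar D (c * c') s : Fˣ) : F)) := by
  rw [hdiag_mul]
  exact hdiag_congr D fun s _ => by rw [torusChar_mul, Units.val_mul]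

theorem hdiag_torus_one :
    hdiag D (fun s => ((torusChar D (1 : Fin D.rank → Fˣ) s : Fˣ) : F)) = 1 := by
  rw [← hdiag_one D]
  exact hdiag_congr D fun s _ => by rw [torusChar_one, Units.val_one]

/-- The torus as a group of diagonal matrices. -/
def torusHom (F : Type*) [Field F] (D : ChevalleyDatum) : (Fin D.rank → Fˣ) →* GL D.Idx F where
  toFun c := ⟨hdiag D (fun s => ((torusChar D c s : Fˣ) : F)),
    hdiag D (fun s => ((torusChar D c⁻¹ s : Fˣ) : F)),
    by rw [hdiag_torus_mul, mul_inv_cancel, hdiag_torus_one],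
    by rw [hdiag_torus_mul, inv_mul_cancel, hdiag_torus_one]⟩
  map_one' := Units.ext hdiag_torus_one
  map_mul' c c' := Units.ext (hdiag_torus_mul c c').symm

theorem coe_torusHom (c : Fin D.rank → Fˣ) :
    ((torusHom F D c : GL D.Idx F) : Matrix D.Idx D.Idx F) = hdiag D (fun s => ((torusChar D c s : Fˣ) : F)) :=
  rfl

theorem zpow_finset_sum {G : Type*} [CommGroup G] {ι : Type*} (a : G) (f : ι → ℤ) (S : Finset ι) :
    a ^ (∑ i ∈ S, f i) = ∏ i ∈ S, a ^ f i := by
  classical
  induction S using Finset.induction_on with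
  | empty => simp
  | insert i S hi ih => rw [Finset.sum_insert hi, Finset.prod_insert hi, zpow_add, ih]

variable (hG : Good D)
include hG

theorem torusHom_single (i : Fin D.rank) (t : Fˣ) :
    torusHom F D (Pi.mulSingle i t) = he hG (D.simple i.val) (t : F) := by
  apply Units.ext
  rw [coe_torusHom, coe_he, hG.hMat_simple_eq i.2 t.ne_zero]
  refine hdiag_congr D fun s _ => ?_
  rw [torusChar, Finset.prod_eq_single i]
  · simp
  · intro j _ hj; simp [Pi.mulSingle_eq_of_ne hj]
  · simp

theorem he_eq_torusHom {r : ℕ} (hr : r < D.nroots) (t : Fˣ) :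
    he hG r (t : F) = torusHom F D (fun i => t ^ ((D.coroot.getD r #[]).getD i.val 0)) := by
  apply Units.ext
  rw [coe_torusHom, coe_he, hG.hMat_eq hr t.ne_zero]
  refine hdiag_congr D fun s _ => ?_
  rw [torusChar, ← Units.val_zpow_eq_zpow_val]
  congr 1
  simp only [← zpow_mul]
  rw [ChevalleyDatum.pairing, list_range_sum, zpow_finset_sum,
    ← Fin.prod_univ_eq_prod_range (fun i => t ^ ((D.coroot.getD r #[]).getD i 0 * D.cartan i s))]

theorem diagonal_eq_range : D.diagonalSubgroup F = (torusHom F D).range := by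
  refine le_antisymm ?_ ?_
  · rw [ChevalleyDatum.diagonalSubgroup, Subgroup.closure_le]
    rintro g ⟨r, t, hr, ht, hg⟩
    obtain rfl : g = he hG r t := Units.ext (hg.trans (coe_he hG r t).symm)
    exact ⟨_, (he_eq_torusHom hG hr (Units.mk0 t ht)).symm⟩
  · rintro _ ⟨c, rfl⟩
    rw [← Finset.univ_prod_mulSingle c]
    refine Finset.prod_induction _ (fun x => torusHom F D x ∈ D.diagonalSubgroup F) ?_ ?_ fun i _ => ?_
    · intro a b ha hb
      simp only [map_mul]
      exact Subgroup.mul_mem _ ha hb
    · simp only [map_one]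
      exact Subgroup.one_mem _
    · show torusHom F D _ ∈ _
      rw [torusHom_single hG]
      exact he_mem_H hG (hG.simple_lt i.2) (c i).ne_zero

theorem torusChar_simple {c : Fin D.rank → Fˣ} (h : ∀ i < D.rank, torusChar D c (D.simple i) = 1)
    {s : ℕ} (hs : s < D.nroots) : torusChar D c s = 1 := by
  refine hG.root_induction (P := fun s => torusChar D c s = 1) h (fun i hi s hs ih => ?_) hs
  have : torusChar D c (D.reflectRoot i s) = torusChar D c s * (torusChar D c (D.simple i)) ^ (-D.cartan i s) := by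
    simp only [torusChar, ← Finset.prod_zpow, ← Finset.prod_mul_distrib, ← zpow_mul, ← zpow_add]
    refine Finset.prod_congr rfl fun j _ => ?_
    rw [hG.cartan_reflectRoot hi j.2 hs]
    ring_nf
  rw [this, ih, h i hi, one_zpow, mul_one]

theorem mem_ker_torusHom {c : Fin D.rank → Fˣ} :
    c ∈ (torusHom F D).ker ↔ ∀ j : Fin D.rank, torusChar D c (D.simple j.val) = 1 := by
  constructor
  · intro hc j
    have e := congrArg (fun g : GL D.Idx F => (g : Matrix D.Idx D.Idx F)) ((MonoidHom.mem_ker).1 hc)
    simp only [coe_torusHom, Units.val_one] at e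
    have h1 := congrArg (fun A => A *ᵥ bvec D F (D.rank + D.simple j.val)) e
    simp only [hdiag_mulVec_inr D _ (hG.simple_lt j.2), Matrix.one_mulVec] at h1
    have h2 := congrFun h1 (Sum.inr ⟨D.simple j.val, hG.simple_lt j.2⟩)
    simp [bvec, idxNat] at h2
    exact Units.ext (by simpa using h2)
  · intro h
    rw [MonoidHom.mem_ker]
    apply Units.ext
    rw [coe_torusHom, Units.val_one, ← hdiag_one D]
    exact hdiag_congr D fun s hs => by
      rw [torusChar_simple hG (fun i hi => h ⟨i, hi⟩) hs, Units.val_one]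

omit hG in
/-- An integer certificate for the kernel of the torus map. -/
structure KerCert (D : ChevalleyDatum) (d k : ℕ) where
  /-- free positions -/
  pos : Fin k → Fin D.rank
  /-- kernel directions -/
  v : Fin k → Fin D.rank → ℤ
  /-- expresses the other coordinates -/
  Q : Fin D.rank → Fin D.rank → ℤ
  /-- expresses `d` times the free coordinates -/
  R : Fin k → Fin D.rank → ℤ

omit hG in
/-- The conditions on a certificate. -/
def KerCert.Valid {d k : ℕ} (C : KerCert D d k) : Prop :=
  (∀ a b, C.v a (C.pos b) = if a = b then 1 else 0) ∧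
  (∀ a j, (d : ℤ) ∣ ∑ i, D.cartan i.val (D.simple (j : Fin D.rank).val) * C.v a i) ∧
  (∀ i i', ∑ j, C.Q i j * D.cartan (i' : Fin D.rank).val (D.simple (j : Fin D.rank).val) =
    (if i' = i then 1 else 0) - ∑ a, if i' = C.pos a then C.v a i else 0) ∧
  ∀ a i', ∑ j, C.R a j * D.cartan (i' : Fin D.rank).val (D.simple (j : Fin D.rank).val) =
    if i' = C.pos a then (d : ℤ) else 0

omit hG in
instance decidableKerCertValid {d k : ℕ} (C : KerCert D d k) : Decidable C.Valid :=
  inferInstanceAs (Decidable (_ ∧ _))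

omit hG in
theorem prod_zpow_comb (c : Fin D.rank → Fˣ) (w : Fin D.rank → ℤ) :
    ∏ j, torusChar D c (D.simple (j : Fin D.rank).val) ^ w j =
      ∏ i', c i' ^ ∑ j, w j * D.cartan (i' : Fin D.rank).val (D.simple (j : Fin D.rank).val) := by
  simp only [torusChar, ← Finset.prod_zpow, zpow_finset_sum, ← zpow_mul]
  rw [Finset.prod_comm]
  simp [mul_comm]

theorem card_ker_torusHom [Fintype F] {d k : ℕ} (C : KerCert D d k) (hC : C.Valid) :
    Nat.card (torusHom F D).ker = Nat.gcd d (Fintype.card F - 1) ^ k := by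
  classical
  obtain ⟨hv, hM, hQ, hR⟩ := hC
  have hroots : Nat.card (powMonoidHom d : Fˣ →* Fˣ).ker = Nat.gcd d (Fintype.card F - 1) := by
    rw [IsCyclic.card_powMonoidHom_ker, Nat.gcd_comm, Nat.card_eq_fintype_card, Fintype.card_units]
  rw [← hroots, show Nat.card (powMonoidHom d : Fˣ →* Fˣ).ker ^ k =
    Nat.card (Fin k → (powMonoidHom d : Fˣ →* Fˣ).ker) by
      rw [Nat.card_fun, Nat.card_eq_fintype_card (α := Fin k), Fintype.card_fin]]
  have hker : ∀ c ∈ (torusHom F D).ker, ∀ w : Fin D.rank → ℤ,
      (∏ i', c i' ^ ∑ j, w j * D.cartan (i' : Fin D.rank).val (D.simple (j : Fin D.rank).val)) = 1 := by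
    intro c hc w
    rw [← prod_zpow_comb]
    exact Finset.prod_eq_one fun j _ => by rw [(mem_ker_torusHom hG).1 hc j, one_zpow]
  let α : (torusHom F D).ker → (Fin k → (powMonoidHom d : Fˣ →* Fˣ).ker) := fun c a =>
    ⟨c.1 (C.pos a), by
      have := hker c.1 c.2 (C.R a)
      simp only [hR, apply_ite, zpow_natCast, zpow_zero] at this
      rw [Finset.prod_ite_eq' Finset.univ (C.pos a), if_pos (Finset.mem_univ _)] at this
      exact MonoidHom.mem_ker.2 this⟩
  refine Nat.card_congr (Equiv.ofBijective α ⟨?_, ?_⟩)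
  · intro c c' h
    have key : ∀ c : (torusHom F D).ker, ∀ i, c.1 i = ∏ a, c.1 (C.pos a) ^ C.v a i := by
      intro c i
      have := hker c.1 c.2 (C.Q i)
      simp only [hQ, zpow_sub, Finset.prod_mul_distrib, Finset.prod_inv_distrib] at this
      rw [mul_inv_eq_one] at this
      simp only [zpow_finset_sum] at this
      rw [Finset.prod_comm] at this
      simp only [apply_ite, zpow_zero, zpow_one] at this
      simpa [Finset.prod_ite_eq'] using this
    apply Subtype.ext
    funext i
    rw [key c i, key c' i]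
    refine Finset.prod_congr rfl fun a _ => ?_
    rw [show c.1 (C.pos a) = c'.1 (C.pos a) from congrArg Subtype.val (congrFun h a)]
  · intro z
    refine ⟨⟨fun i => ∏ a, (z a : Fˣ) ^ C.v a i, (mem_ker_torusHom hG).2 fun j => ?_⟩, ?_⟩
    · simp only [torusChar, ← Finset.prod_zpow, ← zpow_mul]
      rw [Finset.prod_comm]
      refine Finset.prod_eq_one fun a _ => ?_
      rw [← zpow_finset_sum]
      obtain ⟨m, hm⟩ := hM a j
      have e : ∑ i : Fin D.rank, C.v a i * D.cartan i.val (D.simple j.val) = (d : ℤ) * m := by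
        rw [← hm]; exact Finset.sum_congr rfl fun i _ => mul_comm _ _
      rw [e, zpow_mul, zpow_natCast, show (z a : Fˣ) ^ d = 1 from MonoidHom.mem_ker.1 (z a).2, one_zpow]
    · funext b
      apply Subtype.ext
      show ∏ a, (z a : Fˣ) ^ C.v a (C.pos b) = z b
      simp [hv, apply_ite]

theorem card_diagonal [Fintype F] {d k : ℕ} (C : KerCert D d k) (hC : C.Valid) :
    Nat.gcd d (Fintype.card F - 1) ^ k * Nat.card (D.diagonalSubgroup F) =
      (Fintype.card F - 1) ^ D.rank := by
  classical
  rw [diagonal_eq_range hG, ← card_ker_torusHom hG (F := F) C hC, ← Subgroup.index_ker,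
    Subgroup.card_mul_index, Nat.card_fun, Nat.card_eq_fintype_card (α := Fin D.rank), Fintype.card_fin,
    Nat.card_eq_fintype_card, Fintype.card_units]

end Cfsg.Agent.Chev.BNSetup
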