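/-
Kernel certificates of the tori of the seven data.
-/
import Cfsg.Agent.Lib.Chev.TorusOrder

set_option autoImplicit false

namespace Cfsg.Agent.Chev.BNSetup

open Cfsg.Lie

/-- Kernel certificate of the torus of type G2. -/
def kerCertG2 : KerCert chevG2 1 0 where
  pos := Fin.elim0
  v := Fin.elim0
  Q := ![![2, 1], ![3, 2]]
  R := Fin.elim0

theorem kerCertG2_valid : kerCertG2.Valid := by decide +kernel

/-- Kernel certificate of the torus of type F4. -/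
def kerCertF4 : KerCert chevF4 1 0 where
  pos := Fin.elim0
  v := Fin.elim0
  Q := ![![2, 3, 2, 1], ![3, 6, 4, 2], ![4, 8, 6, 3], ![2, 4, 3, 2]]
  R := Fin.elim0

theorem kerCertF4_valid : kerCertF4.Valid := by decide +kernel

/-- Kernel certificate of the torus of type E8. -/
def kerCertE8 : KerCert chevE8 1 0 where
  pos := Fin.elim0
  v := Fin.elim0
  Q := ![![4, 5, 7, 10, 8, 6, 4, 2], ![5, 8, 10, 15, 12, 9, 6, 3], ![7, 10, 14, 20, 16, 12, 8, 4], ![10, 15, 20, 30, 24, 18, 12, 6], ![8, 12, 16, 24, 20, 15, 10, 5], ![6, 9, 12, 18, 15, 12, 8, 4], ![4, 6, 8, 12, 10, 8, 6, 3], ![2, 3, 4, 6, 5, 4, 3, 2]]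
  R := Fin.elim0

theorem kerCertE8_valid : kerCertE8.Valid := by decide +kernel

/-- Kernel certificate of the torus of type B2. -/
def kerCertB2 : KerCert chevB2 2 1 where
  pos := ![⟨0, by decide⟩]
  v := ![![1, 0]]
  Q := ![![0, 0], ![1, 1]]
  R := ![![2, 1]]

theorem kerCertB2_valid : kerCertB2.Valid := by decide +kernel

/-- Kernel certificate of the torus of type D4. -/
def kerCertD4 : KerCert chevD4 2 2 where
  pos := ![⟨2, by decide⟩, ⟨0, by decide⟩]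
  v := ![![0, 0, 1, 1], ![1, 0, 0, 1]]
  Q := ![![0, 0, 0, 0], ![1, 2, 1, 1], ![0, 0, 0, 0], ![-1, -1, -1, 0]]
  R := ![![1, 2, 2, 1], ![2, 2, 1, 1]]

theorem kerCertD4_valid : kerCertD4.Valid := by decide +kernel

/-- Kernel certificate of the torus of type E6. -/
def kerCertE6 : KerCert chevE6 3 1 where
  pos := ![⟨0, by decide⟩]
  v := ![![1, 0, 2, 0, 1, 2]]
  Q := ![![0, 0, 0, 0, 0, 0], ![1, 2, 2, 3, 2, 1], ![-1, 0, 0, 0, 0, 0], ![2, 3, 4, 6, 4, 2], ![0, 1, 1, 2, 2, 1], ![-2, -1, -2, -2, -1, 0]]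
  R := ![![4, 3, 5, 6, 4, 2]]

theorem kerCertE6_valid : kerCertE6.Valid := by decide +kernel

/-- Kernel certificate of the torus of type E7. -/
def kerCertE7 : KerCert chevE7 2 1 where
  pos := ![⟨1, by decide⟩]
  v := ![![0, 1, 0, 0, 1, 0, 1]]
  Q := ![![2, 2, 3, 4, 3, 2, 1], ![0, 0, 0, 0, 0, 0, 0], ![3, 4, 6, 8, 6, 4, 2], ![4, 6, 8, 12, 9, 6, 3], ![1, 1, 2, 3, 3, 2, 1], ![2, 3, 4, 6, 5, 4, 2], ![-1, -2, -2, -3, -2, -1, 0]]
  R := ![![4, 7, 8, 12, 9, 6, 3]]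

theorem kerCertE7_valid : kerCertE7.Valid := by decide +kernel

end Cfsg.Agent.Chev.BNSetup
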