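/-
Kernel check of the E8 certificate of Lib/Chev/WeylTab.
-/
import Cfsg.Agent.Lib.Chev.WeylTab

set_option autoImplicit false

namespace Cfsg.Agent.Chev.WeylTab

open Cfsg.Agent.RootBN

theorem levelsOK_E8 : levelsOK 240 tabsE8 simpsE8 0 levelsE8 = true := by decide +kernel

end Cfsg.Agent.Chev.WeylTab
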