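/-
Kernel checks of the certificates of Lib/Chev/WeylTab.
-/
import Cfsg.Agent.Lib.Chev.WeylTab
import Cfsg.Agent.Lib.Chev.WeylCheckE8

set_option autoImplicit false

namespace Cfsg.Agent.Chev.WeylTab

open Cfsg.Agent.RootBN

theorem levelsOK_G2 : levelsOK 12 tabsG2 simpsG2 0 levelsG2 = true := by decide +kernel

theorem levelsOK_B2 : levelsOK 8 tabsB2 simpsB2 0 levelsB2 = true := by decide +kernel

theorem levelsOK_D4 : levelsOK 24 tabsD4 simpsD4 0 levelsD4 = true := by decide +kernel

theorem levelsOK_F4 : levelsOK 48 tabsF4 simpsF4 0 levelsF4 = true := by decide +kernel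

theorem levelsOK_E6 : levelsOK 72 tabsE6 simpsE6 0 levelsE6 = true := by decide +kernel

theorem levelsOK_E7 : levelsOK 126 tabsE7 simpsE7 0 levelsE7 = true := by decide +kernel

end Cfsg.Agent.Chev.WeylTab
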