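/-
The order of a Chevalley group: |U| |H| times the Poincaré polynomial.
-/
import Cfsg.Agent.Lib.Chev.TorusCert
import Cfsg.Agent.Lib.Chev.WeylCheck
import Cfsg.Agent.Lib.RootBN.Table

set_option autoImplicit false

namespace Cfsg.Agent.Chev.BNSetup

open Cfsg.Lie

variable {F : Type*} [Field F] [Fintype F] {D : ChevalleyDatum}

theorem card_rootSubgroup (hG : Good D) {tabs simps : List ℕ} (hf : Facts D tabs simps) {r : ℕ}
    (hr : r < D.nroots) : Nat.card (D.rootSubgroup F r) = Fintype.card F := by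
  rw [← Nat.card_eq_fintype_card]
  symm
  refine Nat.card_congr (Equiv.ofBijective
    (fun t : F => (⟨xe hG r t, (mem_rootSubgroup hG hr).2 ⟨t, rfl⟩⟩ : D.rootSubgroup F r)) ⟨?_, ?_⟩)
  · intro a b h
    have h' : xe hG r a = xe hG r b := congrArg Subtype.val h
    by_contra hne
    apply xe_ne_one hG hf hr (t := -b + a) (by rwa [ne_eq, neg_add_eq_zero, eq_comm])
    rw [← xe_add hG hr, ← xe_inv hG hr, h', inv_mul_cancel]
  · rintro ⟨g, hg⟩
    obtain ⟨t, rfl⟩ := (mem_rootSubgroup hG hr).1 hg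
    exact ⟨t, rfl⟩

theorem card_borel (hG : Good D) {tabs simps : List ℕ} (hf : Facts D tabs simps) :
    Nat.card (D.borelSubgroup F) = Fintype.card F ^ (D.nroots / 2) * Nat.card (D.diagonalSubgroup F) := by
  rw [← card_U hf hG, ← Nat.card_prod]
  symm
  refine Nat.card_congr (Equiv.ofBijective
    (fun p : D.posUnipotent F × D.diagonalSubgroup F => (⟨p.1.1 * p.2.1,
      Subgroup.mul_mem _ (Subgroup.mem_sup_left p.1.2) (Subgroup.mem_sup_right p.2.2)⟩ : D.borelSubgroup F))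
    ⟨?_, ?_⟩)
  · rintro ⟨⟨u, hu⟩, h, hh⟩ ⟨⟨v, hv⟩, k, hk⟩ e
    have e' : u * h = v * k := congrArg Subtype.val e
    have e2 : v⁻¹ * u = k * h⁻¹ := by rw [eq_mul_inv_iff_mul_eq, mul_assoc, e', inv_mul_cancel_left]
    have : v⁻¹ * u ∈ D.posUnipotent F ⊓ D.diagonalSubgroup F :=
      ⟨Subgroup.mul_mem _ (Subgroup.inv_mem _ hv) hu,
        e2 ▸ Subgroup.mul_mem _ hk (Subgroup.inv_mem _ hh)⟩
    rw [U_inf_H hf hG, Subgroup.mem_bot, inv_mul_eq_one] at this
    subst this
    exact Prod.ext rfl (Subtype.ext (mul_left_cancel e'))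
  · rintro ⟨g, hg⟩
    obtain ⟨u, hu, h, hh, rfl⟩ := borel_decomp hG hf hg
    exact ⟨(⟨u, hu⟩, ⟨h, hh⟩), rfl⟩

/-- `gcd(d, q-1)^k |G| = q^N (q-1)^l P_W(q)`. -/
theorem card_group (hG : Good D) {tabs simps : List ℕ} (hf : Facts D tabs simps) {d k : ℕ}
    (C : KerCert D d k) (hC : C.Valid) (Ls : List RootBN.Level) (hLs : Ls.length = D.rank)
    (hok : RootBN.levelsOK D.nroots tabs simps 0 Ls = true) :
    Nat.gcd d (Fintype.card F - 1) ^ k * Nat.card (D.group F) =
      Fintype.card F ^ (D.nroots / 2) * (Fintype.card F - 1) ^ D.rank *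
        RootBN.levelsPoly (Fintype.card F) Ls := by
  classical
  haveI : Finite (GL D.Idx F) := inferInstance
  have h := RootBN.Data.card_grp (axioms (F := F) hG hf) (q := Fintype.card F)
    (fun i => card_rootSubgroup hG hf (hG.simple_lt i.2))
  rw [data_grp hG, data_B hG hf, card_borel hG hf,
    RootBN.Data.sum_weyl_of_levels (axioms (F := F) hG hf)
      (fun i s => ((hf.2.2.2.2.1 i.val i.2).2.2.2.1 s.val s.2).1) (fun _ => Iff.rfl)
      (fun r => (hf.2.2.1 r.val r.2).1) (fun i => (hf.2.2.2.2.1 i.val i.2).1) hf.2.2.2.1 Ls hLs hok] at h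
  rw [h, ← card_diagonal hG (F := F) C hC]
  ring

end Cfsg.Agent.Chev.BNSetup
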