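/-
The positive unipotent subgroup of a Chevalley group over a finite field is a Sylow subgroup for the
characteristic; subgroups generated by words in root elements.
-/
import Cfsg.Agent.Lib.Chev.BN

set_option autoImplicit false

namespace Cfsg.Agent.Chev.ChevSylow

open Cfsg.Lie Cfsg.Agent.Chev.BNSetup

variable {F : Type*} [Field F] {D : ChevalleyDatum}

/-- Words in root elements give elements of the group. -/
theorem genSubgroup_le_group (hG : Good D) (S : Set (List (ℕ × F))) :
    D.genSubgroup F S ≤ D.group F := by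
  rw [ChevalleyDatum.genSubgroup, Subgroup.closure_le]
  rintro g ⟨w, -, hg⟩
  have key : ∀ w : List (ℕ × F), ∃ y ∈ D.group F,
      ((y : GL D.Idx F) : Matrix D.Idx D.Idx F) = D.wordMat F w := by
    intro w
    induction w with
    | nil => exact ⟨1, Subgroup.one_mem _, by simp [ChevalleyDatum.wordMat]⟩
    | cons a w ih =>
      obtain ⟨y, hy, e⟩ := ih
      by_cases h : a.1 < D.nroots
      · refine ⟨xe hG a.1 a.2 * y, Subgroup.mul_mem _ (xe_mem_group hG h a.2) hy, ?_⟩
        simp [ChevalleyDatum.wordMat, coe_xe, e]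
      · refine ⟨y, hy, ?_⟩
        rw [e]
        simp [ChevalleyDatum.wordMat, ChevalleyDatum.x, dif_neg h]
  obtain ⟨y, hy, e⟩ := key w
  rw [← e] at hg
  rw [Units.ext hg]
  exact hy

theorem card_rootSubgroup (hG : Good D) {tabs simps : List ℕ} (hf : Facts D tabs simps) {r : ℕ}
    (hr : r < D.nroots) : Nat.card (D.rootSubgroup F r) = Nat.card F := by
  symm
  refine Nat.card_congr (Equiv.ofBijective
    (fun t : F => (⟨xe hG r t, (mem_rootSubgroup hG hr).2 ⟨t, rfl⟩⟩ : D.rootSubgroup F r)) ⟨?_, ?_⟩)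
  · intro a b h
    have h' : xe hG r a = xe hG r b := congrArg Subtype.val h
    by_contra hne
    refine xe_ne_one hG hf hr (sub_ne_zero.2 hne) ?_
    rw [sub_eq_add_neg, ← xe_add hG hr, h', xe_add hG hr, add_neg_cancel, xe_zero hG hr]
  · rintro ⟨g, hg⟩
    obtain ⟨t, rfl⟩ := (mem_rootSubgroup hG hr).1 hg
    exact ⟨t, rfl⟩

theorem card_borel (hG : Good D) {tabs simps : List ℕ} (hf : Facts D tabs simps) :
    Nat.card (D.borelSubgroup F) =
      Nat.card (D.posUnipotent F) * Nat.card (D.diagonalSubgroup F) := by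
  have hU : D.posUnipotent F ≤ D.borelSubgroup F := le_sup_left
  have hH : D.diagonalSubgroup F ≤ D.borelSubgroup F := le_sup_right
  rw [← Nat.card_prod]
  symm
  refine Nat.card_congr (Equiv.ofBijective (fun p : D.posUnipotent F × D.diagonalSubgroup F =>
    (⟨(p.1 : GL D.Idx F) * p.2, Subgroup.mul_mem _ (hU p.1.2) (hH p.2.2)⟩ : D.borelSubgroup F))
    ⟨?_, ?_⟩)
  · exact fun a b h => Subgroup.mul_injective_of_disjoint
      (disjoint_iff.2 (U_inf_H hf hG)) (congrArg Subtype.val h)
  · rintro ⟨g, hg⟩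
    obtain ⟨u, hu, h, hh, rfl⟩ := borel_decomp hG hf hg
    exact ⟨(⟨u, hu⟩, ⟨h, hh⟩), rfl⟩

section finite

variable [Fintype F] (p : ℕ) [Fact p.Prime] [CharP F p] (hG : Good D) {tabs simps : List ℕ}
  (hf : Facts D tabs simps)
include hG hf

theorem not_dvd_card_diagonal : ¬ p ∣ Nat.card (D.diagonalSubgroup F) := by
  intro hdvd
  obtain ⟨g, hg⟩ := exists_prime_orderOf_dvd_card' p hdvd
  obtain ⟨n, -, hn⟩ := FiniteField.card F p
  obtain ⟨χ, hχ⟩ := tri_H hf hG g.2
  have hpow : g ^ (Fintype.card F - 1) = 1 := by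
    apply Subtype.ext
    apply Units.ext
    rw [SubgroupClass.coe_pow, Units.val_pow_eq_pow_val, OneMemClass.coe_one, Units.val_one, hχ, hdiag,
      Matrix.diagonal_pow, ← Matrix.diagonal_one]
    congr 1
    funext i
    rw [Pi.pow_apply]
    apply FiniteField.pow_card_sub_one_eq_one
    intro h0
    have hdet := ((Matrix.isUnit_iff_isUnit_det _).1 (g : GL D.Idx F).isUnit)
    rw [hχ, hdiag, Matrix.det_diagonal] at hdet
    exact hdet.ne_zero (Finset.prod_eq_zero (Finset.mem_univ i) h0)
  have h1 := orderOf_dvd_of_pow_eq_one hpow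
  rw [hg] at h1
  have h2 : p ∣ Fintype.card F := by rw [hn]; exact dvd_pow_self p n.pos.ne'
  have h3 := Nat.dvd_sub h2 h1
  rw [Nat.sub_sub_self (Fintype.card_pos (α := F))] at h3
  exact (Fact.out : p.Prime).not_dvd_one h3

omit [Fact p.Prime] [CharP F p] in
theorem card_group :
    Nat.card (D.group F) = Nat.card (D.posUnipotent F) * (Nat.card (D.diagonalSubgroup F) *
      ∑ σ ∈ (data hG F).weyl, Nat.card F ^ (data hG F).inv σ) := by
  have h := RootBN.Data.card_grp (D := data hG F) (axioms hG hf) (q := Nat.card F)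
    (fun i => card_rootSubgroup hG hf (hG.simple_lt i.2))
  rw [data_grp, data_B hG hf, card_borel hG hf] at h
  rw [h, mul_assoc]

theorem not_dvd_cofactor :
    ¬ p ∣ Nat.card (D.diagonalSubgroup F) *
      ∑ σ ∈ (data hG F).weyl, Nat.card F ^ (data hG F).inv σ := by
  classical
  intro h
  rcases (Fact.out : p.Prime).dvd_mul.1 h with h | h
  · exact not_dvd_card_diagonal p hG hf h
  obtain ⟨n, -, hn⟩ := FiniteField.card F p
  have hq : p ∣ Nat.card F := by
    rw [Nat.card_eq_fintype_card, hn]; exact dvd_pow_self p n.pos.ne'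
  have h1 : (1 : Equiv.Perm (Fin D.nroots)) ∈ (data hG F).weyl :=
    RootBN.Data.mem_weyl.2 ⟨[], RootBN.Data.wl_nil⟩
  rw [← Finset.add_sum_erase _ _ h1, RootBN.Data.inv_one, pow_zero] at h
  have h2 : p ∣ ∑ σ ∈ (data hG F).weyl.erase 1, Nat.card F ^ (data hG F).inv σ := by
    refine Finset.dvd_sum fun σ hσ => ?_
    obtain ⟨hne, hσ⟩ := Finset.mem_erase.1 hσ
    obtain ⟨l, rfl⟩ := RootBN.Data.mem_weyl.1 hσ
    exact dvd_pow hq fun h0 => hne (RootBN.Data.inv_eq_zero (axioms hG hf) l h0)
  exact (Fact.out : p.Prime).not_dvd_one ((Nat.dvd_add_left h2).1 h)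

omit [Fintype F] [Fact p.Prime] [CharP F p] in
theorem posUnipotent_le_group : D.posUnipotent F ≤ D.group F := by
  rw [← data_U hG hf, ← data_grp hG]
  exact iSup₂_le fun r _ => RootBN.Data.X_le_grp r

theorem isPGroup_posUnipotent : IsPGroup p (D.posUnipotent F) := by
  obtain ⟨n, -, hn⟩ := FiniteField.card F p
  refine IsPGroup.of_card (n := (n : ℕ) * (D.nroots / 2)) ?_
  rw [card_U hf hG, hn, pow_mul]

/-- `U` is a Sylow subgroup. -/
theorem exists_sylow : ∃ P : Sylow p (D.group F),
    (P : Subgroup (D.group F)) = (D.posUnipotent F).subgroupOf (D.group F) := by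
  have e := (Subgroup.subgroupOfEquivOfLe (posUnipotent_le_group hG hf (F := F))).symm
  have hp := (isPGroup_posUnipotent p hG hf (F := F)).of_equiv e
  have hidx : ¬ p ∣ ((D.posUnipotent F).subgroupOf (D.group F)).index := by
    have hmul := ((D.posUnipotent F).subgroupOf (D.group F)).card_mul_index
    rw [← Nat.card_congr e.toEquiv, card_group hG hf] at hmul
    rw [Nat.eq_of_mul_eq_mul_left Nat.card_pos hmul]
    exact not_dvd_cofactor p hG hf
  exact ⟨hp.toSylow hidx, IsPGroup.toSylow_coe _ _⟩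

/-- A `p`-element is conjugate into `U`. -/
theorem exists_conj_mem_U {x : GL D.Idx F} (hx : x ∈ D.group F) {j : ℕ} (hj : orderOf x = p ^ j) :
    ∃ g : GL D.Idx F, g * x * g⁻¹ ∈ D.posUnipotent F := by
  obtain ⟨P, hP⟩ := exists_sylow p hG hf (F := F)
  set y : D.group F := ⟨x, hx⟩ with hy
  have hyo : orderOf y = p ^ j := by rw [← hj, hy, Subgroup.orderOf_mk]
  have hcy : IsPGroup p (Subgroup.zpowers y) :=
    IsPGroup.of_card (n := j) (by rw [Nat.card_zpowers, hyo])
  obtain ⟨Q, hQ⟩ := hcy.exists_le_sylow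
  obtain ⟨g, hg⟩ := MulAction.exists_smul_eq (D.group F) Q P
  have h1 : g * y * g⁻¹ ∈ (P : Subgroup (D.group F)) := by
    have hm := Subgroup.smul_mem_pointwise_smul y (MulAut.conj g) (Q : Subgroup (D.group F))
      (hQ (Subgroup.mem_zpowers y))
    rw [← hg]
    exact hm
  rw [hP, Subgroup.mem_subgroupOf] at h1
  exact ⟨g, by simpa [hy] using h1⟩

end finite

/-! ### A level function on the roots -/

/-- The finitely checkable property of a level `w` on the roots, with level `c` for the coroots. -/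
def LevelChecked (D : ChevalleyDatum) (w : List ℕ) (c : ℕ) : Prop :=
  ∀ r < D.nroots, D.IsPosRoot r →
    c < w.getD r 0 ∧ w.getD (D.negIdx.getD r 0) 0 < c ∧
      ∀ e ∈ (D.chain.getD r #[]).toList, ∀ q ∈ e.2.toList, w.getD e.1 0 < w.getD q.1 0

instance decidableLevelChecked (D : ChevalleyDatum) (w : List ℕ) (c : ℕ) :
    Decidable (LevelChecked D w c) :=
  inferInstanceAs (Decidable (∀ _, _ → _))

/-- The level of a coordinate. -/
def lev (D : ChevalleyDatum) (w : List ℕ) (c : ℕ) : D.Idx → ℕ :=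
  Sum.elim (fun _ => c) (fun s => w.getD s.val 0)

variable {w : List ℕ} {c : ℕ}

theorem chainCoeff_eq_nil_of_level (h : LevelChecked D w c) {r s u : ℕ} (hr : D.IsPosRoot r)
    (hsu : w.getD u 0 ≤ w.getD s 0) : D.chainCoeff r s u = [] := by
  obtain ⟨-, -, hc⟩ := h r hr.1 hr
  rw [ChevalleyDatum.chainCoeff, List.flatMap_eq_nil_iff]
  intro e he
  rw [List.map_eq_nil_iff, List.filter_eq_nil_iff]
  intro q hq
  obtain ⟨he1, he2⟩ := List.mem_filter.1 he
  have := hc e he1 q.1 (by
    obtain ⟨q1, q2⟩ := q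
    exact List.fst_mem_of_mem_zipIdx hq)
  simp only [decide_eq_true_eq] at he2 ⊢
  intro hqu
  rw [he2, hqu] at this
  omega

theorem posUnipotent_le_unitri_lev (h : LevelChecked D w c) :
    D.posUnipotent F ≤ unitri F (lev D w c) 0 := by
  rw [ChevalleyDatum.posUnipotent, Subgroup.closure_le]
  rintro g ⟨r, t, hr, hg⟩
  rw [SetLike.mem_coe, mem_unitri, hg, ChevalleyDatum.x, dif_pos hr.1]
  obtain ⟨h1, h2, -⟩ := h r hr.1 hr
  intro row col hlt
  rw [Matrix.sub_apply, sub_eq_zero]
  simp only [ChevalleyDatum.xMat, Matrix.of_apply]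
  rcases col with i | s
  · rcases row with i' | u
    · simp only [Matrix.one_apply, Sum.inl.injEq]
    · rw [Matrix.one_apply_ne (by simp)]
      refine if_neg ?_
      rintro rfl
      simp only [lev, Sum.elim_inl, Sum.elim_inr] at hlt
      omega
  · simp only
    by_cases hsr : s = ⟨r, hr.1⟩
    · subst hsr
      rcases row with i' | u
      · simp [Matrix.one_apply]
      · simp [Matrix.one_apply]
    rw [if_neg hsr]
    by_cases hsn : s.val = D.negIdx.getD r 0
    · rw [if_pos hsn]
      rw [← hsn] at h2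
      rcases row with i' | u
      · exfalso
        simp only [lev, Sum.elim_inl, Sum.elim_inr] at hlt
        omega
      · simp only [Matrix.one_apply, Sum.inr.injEq]
        by_cases hus : u = s
        · simp [hus]
        · rw [if_neg hus, if_neg hus]
          refine if_neg ?_
          rintro rfl
          simp only [lev, Sum.elim_inr] at hlt
          omega
    · rw [if_neg hsn]
      rcases row with i' | u
      · simp [Matrix.one_apply]
      · simp only [Matrix.one_apply, Sum.inr.injEq]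
        have hus : w.getD u.val 0 ≤ w.getD s.val 0 := by
          simp only [lev, Sum.elim_inr] at hlt
          omega
        simp [chainCoeff_eq_nil_of_level h hr hus]

end Cfsg.Agent.Chev.ChevSylow
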