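/-
Words for the longest elements of the seven Weyl groups, checked on the packed tables.
-/
import Cfsg.Agent.Lib.Chev.WeylTab
import Cfsg.Agent.Lib.Chev.BNFacts

set_option autoImplicit false

namespace Cfsg.Agent.Chev.BNSetup

open Cfsg.Lie Cfsg.Agent.RootBN

/-- A word sending every positive root to a negative one. -/
def IsLongest (D : ChevalleyDatum) (tabs w : List ℕ) : Prop :=
  (∀ x ∈ w, x < D.rank) ∧ ∀ r < D.nroots, D.nroots / 2 ≤ r → evWord tabs w r < D.nroots / 2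

instance decidableIsLongest (D : ChevalleyDatum) (tabs w : List ℕ) : Decidable (IsLongest D tabs w) :=
  inferInstanceAs (Decidable (_ ∧ _))

theorem isLongest_chevG2 : IsLongest chevG2 WeylTab.tabsG2 [1, 0, 1, 0, 1, 0] := by decide +kernel

theorem isLongest_chevB2 : IsLongest chevB2 WeylTab.tabsB2 [1, 0, 1, 0] := by decide +kernel

theorem isLongest_chevD4 : IsLongest chevD4 WeylTab.tabsD4 [3, 1, 2, 0, 1, 3, 0, 1, 2, 0, 1, 0] := by decide +kernel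

theorem isLongest_chevF4 : IsLongest chevF4 WeylTab.tabsF4 [3, 2, 1, 2, 0, 1, 2, 3, 2, 1, 2, 0, 1, 2, 3, 2, 1, 2, 0, 1, 2, 0, 1, 0] := by decide +kernel

theorem isLongest_chevE6 : IsLongest chevE6 WeylTab.tabsE6 [0, 2, 3, 4, 5, 1, 3, 4, 2, 3, 0, 2, 1, 3, 4, 5, 1, 3, 4, 2, 3, 0, 2, 1, 3, 4, 2, 3, 0, 2, 1, 3, 0, 2, 1, 0] := by decide +kernel

theorem isLongest_chevE7 : IsLongest chevE7 WeylTab.tabsE7 [6, 5, 4, 3, 2, 1, 3, 4, 5, 6, 0, 2, 3, 4, 5, 1, 3, 4, 2, 3, 0, 2, 1, 3, 4, 5, 6, 0, 2, 3, 4, 5, 1, 3, 4, 2, 3, 0, 2, 1, 3, 4, 5, 1, 3, 4, 2, 3, 0, 2, 1, 3, 4, 2, 3, 0, 2, 1, 3, 0, 2, 1, 0] := by decide +kernel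

theorem isLongest_chevE8 : IsLongest chevE8 WeylTab.tabsE8 [7, 6, 5, 4, 3, 2, 1, 3, 4, 5, 6, 0, 2, 3, 4, 5, 1, 3, 4, 2, 3, 0, 2, 1, 3, 4, 5, 6, 7, 6, 5, 4, 3, 2, 1, 3, 4, 5, 6, 0, 2, 3, 4, 5, 1, 3, 4, 2, 3, 0, 2, 1, 3, 4, 5, 6, 7, 6, 5, 4, 3, 2, 1, 3, 4, 5, 6, 0, 2, 3, 4, 5, 1, 3, 4, 2, 3, 0, 2, 1, 3, 4, 5, 6, 0, 2, 3, 4, 5, 1, 3, 4, 2, 3, 0, 2, 1, 3, 4, 5, 1, 3, 4, 2, 3, 0, 2, 1, 3, 4, 2, 3, 0, 2, 1, 3, 0, 2, 1, 0] := by decide +kernel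

theorem exists_facts_longest {D : ChevalleyDatum}
    (hD : D ∈ [chevG2, chevB2, chevD4, chevF4, chevE6, chevE7, chevE8]) :
    ∃ tabs simps w, Facts D tabs simps ∧ IsLongest D tabs w := by
  simp only [List.mem_cons, List.not_mem_nil, or_false] at hD
  rcases hD with rfl | rfl | rfl | rfl | rfl | rfl | rfl
  · exact ⟨_, _, _, facts_chevG2, isLongest_chevG2⟩
  · exact ⟨_, _, _, facts_chevB2, isLongest_chevB2⟩
  · exact ⟨_, _, _, facts_chevD4, isLongest_chevD4⟩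
  · exact ⟨_, _, _, facts_chevF4, isLongest_chevF4⟩
  · exact ⟨_, _, _, facts_chevE6, isLongest_chevE6⟩
  · exact ⟨_, _, _, facts_chevE7, isLongest_chevE7⟩
  · exact ⟨_, _, _, facts_chevE8, isLongest_chevE8⟩

end Cfsg.Agent.Chev.BNSetup
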