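/-
Structure of a Chevalley group from the root-subgroup setup: B, N, H, U, V.
-/
import Cfsg.Agent.Lib.Chev.BN
import Cfsg.Agent.Lib.Chev.Longest

set_option autoImplicit false

namespace Cfsg.Agent.Chev.BNSetup

open Cfsg.Lie
open Cfsg.Agent.RootBN (Data)
open scoped Matrix

variable {F : Type*} [Field F] {D : ChevalleyDatum} (hG : Good D) {tabs simps : List ℕ}
  (hf : Facts D tabs simps)
include hG hf

theorem data_N : (data hG F).N = D.monomialSubgroup F := by
  refine le_antisymm ?_ ?_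
  · rw [RootBN.Data.N, Subgroup.closure_le]
    rintro x (hx | ⟨i, rfl⟩)
    · exact Subgroup.mem_sup_left hx
    · exact Subgroup.mem_sup_right (Subgroup.subset_closure ⟨_, hG.simple_lt i.2, coe_ne' hG _ _⟩)
  · refine sup_le (RootBN.Data.H_le_N (D := data hG F)) ?_
    rw [Subgroup.closure_le]
    rintro g ⟨r, hr, hg⟩
    obtain rfl : g = ne' hG r 1 := Units.ext (hg.trans (coe_ne' hG r 1).symm)
    obtain ⟨l, i, e⟩ := (axioms (F := F) hG hf).reach ⟨r, hr⟩
    obtain ⟨h, hh, e'⟩ := RootBN.Data.conj_nroot_nw (axioms (F := F) hG hf) l ((data hG F).simp i)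
    rw [e, (axioms (F := F) hG hf).nroot_simp] at e'
    have : ne' hG r 1 = h⁻¹ * ((data hG F).nw l * (data hG F).nn i * ((data hG F).nw l)⁻¹) := by
      rw [e', inv_mul_cancel_left]
      rfl
    rw [SetLike.mem_coe, this]
    exact Subgroup.mul_mem _ (Subgroup.inv_mem _ (RootBN.Data.H_le_N hh))
      (Subgroup.mul_mem _ (Subgroup.mul_mem _ (RootBN.Data.nw_mem_N l) (RootBN.Data.nn_mem_N i))
        (Subgroup.inv_mem _ (RootBN.Data.nw_mem_N l)))

theorem borel_inf_monomial : D.borelSubgroup F ⊓ D.monomialSubgroup F = D.diagonalSubgroup F := by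
  rw [← data_B hG hf, ← data_N hG hf, inf_comm]
  exact RootBN.Data.N_inf_B (axioms hG hf)

theorem U_inf_monomial : D.posUnipotent F ⊓ D.monomialSubgroup F = ⊥ := by
  rw [eq_bot_iff, ← U_inf_H (F := F) hf hG, ← borel_inf_monomial (F := F) hG hf]
  exact le_inf inf_le_left (inf_le_inf_right _ le_sup_left)

theorem diagonal_normal_in_monomial :
    ((D.diagonalSubgroup F).subgroupOf (D.monomialSubgroup F)).Normal := by
  constructor
  intro h hh g
  rw [Subgroup.mem_subgroupOf] at hh ⊢
  exact RootBN.Data.N_conj_H (axioms (F := F) hG hf) ((data_N hG hf).ge g.2) hh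

theorem diagonal_le_normalizer_U :
    D.diagonalSubgroup F ≤ Subgroup.normalizer (D.posUnipotent F : Set (GL D.Idx F)) := by
  rw [← data_U hG hf]
  exact RootBN.Data.H_le_normalizer_U (axioms hG hf)

theorem borel_le_group : D.borelSubgroup F ≤ D.group F := by
  rw [← data_B hG hf, ← data_grp hG]
  exact RootBN.Data.B_le_grp (axioms hG hf)

theorem monomial_le_group : D.monomialSubgroup F ≤ D.group F := by
  rw [← data_N hG hf, ← data_grp hG]
  exact RootBN.Data.N_le_grp (axioms hG hf)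

theorem borel_sup_monomial : D.borelSubgroup F ⊔ D.monomialSubgroup F = D.group F := by
  refine le_antisymm (sup_le (borel_le_group hG hf) (monomial_le_group hG hf)) ?_
  rw [← data_B hG hf, ← data_N hG hf, ← data_grp hG]
  exact RootBN.Data.grp_le_B_sup_N (axioms hG hf)

theorem exists_bnPair :
    ∃ P : Cfsg.BNPair ↥(D.group F),
      P.B = (D.borelSubgroup F).subgroupOf (D.group F) ∧ P.N = (D.monomialSubgroup F).subgroupOf (D.group F) ∧
      P.S = {n : ↥(D.group F) | ∃ i < D.rank,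
        ((n : GL D.Idx F) : Matrix D.Idx D.Idx F) = D.nMat F (D.simple i) 1} := by
  rw [← data_B hG hf, ← data_N hG hf, ← data_grp hG]
  refine ⟨RootBN.Data.bnPair (axioms hG hf), rfl, rfl, Set.ext fun n => ?_⟩
  constructor
  · rintro ⟨i, hi⟩
    exact ⟨i.val, i.2, by rw [hi]; exact coe_ne' hG _ _⟩
  · rintro ⟨i, hi, e⟩
    exact ⟨⟨i, hi⟩, Units.ext (e.trans (coe_ne' hG (D.simple i) 1).symm)⟩

theorem nw_refl_cell (i : Fin D.rank) :
    ((data hG F).cell ((data hG F).refl i)) =
      DoubleCoset.doubleCoset ((data hG F).nn i) (D.borelSubgroup F : Set (GL D.Idx F)) (D.borelSubgroup F) := by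
  ext g
  rw [RootBN.Data.mem_cell_iff (axioms hG hf) (RootBN.Data.nn_mem_N i)
    (RootBN.Data.acts_nn (axioms hG hf) i), DoubleCoset.mem_doubleCoset, data_B hG hf]
  rfl

theorem exists_rank_one_parabolic (i : ℕ) (hi : i < D.rank) (n : GL D.Idx F)
    (hn : (n : Matrix D.Idx D.Idx F) = D.nMat F (D.simple i) 1) :
    ∃ P : Subgroup (GL D.Idx F), (P : Set (GL D.Idx F)) =
      (D.borelSubgroup F : Set (GL D.Idx F)) ∪
        DoubleCoset.doubleCoset n (D.borelSubgroup F : Set (GL D.Idx F)) (D.borelSubgroup F) := by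
  obtain rfl : n = (data hG F).nn ⟨i, hi⟩ := Units.ext (hn.trans (coe_ne' hG (D.simple i) 1).symm)
  have ax := axioms (F := F) hG hf
  set j : Fin D.rank := ⟨i, hi⟩
  have hB : ∀ g, g ∈ D.borelSubgroup F ↔ g ∈ (data hG F).cell 1 := fun g => by
    rw [RootBN.Data.mem_cell_one ax, data_B hG hf]
  have hss : (data hG F).refl j * (data hG F).refl j = 1 := by
    simpa using RootBN.Data.refl_mul_refl_mul ax j 1
  refine ⟨{ carrier := (data hG F).cell 1 ∪ (data hG F).cell ((data hG F).refl j)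
            one_mem' := Or.inl ((hB 1).1 (Subgroup.one_mem _))
            mul_mem' := ?_
            inv_mem' := ?_ }, ?_⟩
  · intro a b ha hb
    rcases ha with ha | ha
    · rw [RootBN.Data.mem_cell_one ax] at ha
      rcases hb with hb | hb
      · exact Or.inl (by simpa using RootBN.Data.mul_mem_cell hb ha (data hG F).B.one_mem)
      · exact Or.inr (by simpa using RootBN.Data.mul_mem_cell hb ha (data hG F).B.one_mem)
    · obtain ⟨b1, hb1, c1, hc1, rfl⟩ := (RootBN.Data.mem_cell_iff ax (RootBN.Data.nn_mem_N j)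
        (RootBN.Data.acts_nn ax j)).1 ha
      have hb' : c1 * b ∈ (data hG F).cell 1 ∨ c1 * b ∈ (data hG F).cell ((data hG F).refl j) := by
        rcases hb with hb | hb
        · exact Or.inl (by simpa using RootBN.Data.mul_mem_cell hb hc1 (data hG F).B.one_mem)
        · exact Or.inr (by simpa using RootBN.Data.mul_mem_cell hb hc1 (data hG F).B.one_mem)
      have e : b1 * (data hG F).nn j * c1 * b = b1 * ((data hG F).nn j * (c1 * b)) * 1 := by group
      rw [e]
      rcases hb' with hb' | hb'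
      · rcases RootBN.Data.nn_mul_cell ax (i := j) hb' with h | h
        · exact Or.inr (by simpa using RootBN.Data.mul_mem_cell h hb1 (data hG F).B.one_mem)
        · exact Or.inl (by simpa using RootBN.Data.mul_mem_cell h hb1 (data hG F).B.one_mem)
      · rcases RootBN.Data.nn_mul_cell ax (i := j) hb' with h | h
        · rw [hss] at h
          exact Or.inl (by simpa using RootBN.Data.mul_mem_cell h hb1 (data hG F).B.one_mem)
        · exact Or.inr (by simpa using RootBN.Data.mul_mem_cell h hb1 (data hG F).B.one_mem)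
  · intro a ha
    rcases ha with ha | ha
    · rw [RootBN.Data.mem_cell_one ax] at ha
      exact Or.inl ((RootBN.Data.mem_cell_one ax).2 (Subgroup.inv_mem _ ha))
    · obtain ⟨b1, hb1, c1, hc1, rfl⟩ := (RootBN.Data.mem_cell_iff ax (RootBN.Data.nn_mem_N j)
        (RootBN.Data.acts_nn ax j)).1 ha
      right
      rw [RootBN.Data.mem_cell_iff ax (RootBN.Data.nn_mem_N j) (RootBN.Data.acts_nn ax j)]
      exact ⟨c1⁻¹ * ((data hG F).nn j * (data hG F).nn j)⁻¹,
        Subgroup.mul_mem _ (Subgroup.inv_mem _ hc1)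
          (RootBN.Data.H_le_B (Subgroup.inv_mem _ (ax.nn_sq j))),
        b1⁻¹, Subgroup.inv_mem _ hb1, by group⟩
  · rw [← nw_refl_cell hG hf]
    show (data hG F).cell 1 ∪ _ = _
    congr 1
    exact Set.ext fun g => (hB g).symm

theorem Urad_eq (i : Fin D.rank) :
    (data hG F).Urad i = Subgroup.closure {g : GL D.Idx F | ∃ (s : ℕ) (t : F), D.IsPosRoot s ∧
      s ≠ D.simple i.val ∧ (g : Matrix D.Idx D.Idx F) = D.x F s t} := by
  refine le_antisymm (iSup₂_le fun r hr => ?_) ?_
  · show D.rootSubgroup F r.val ≤ _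
    intro g hg
    obtain ⟨t, rfl⟩ := (mem_rootSubgroup hG r.2).1 hg
    exact Subgroup.subset_closure ⟨r, t, (pos_iff hf r.2).2 hr.1, fun h => hr.2 (Fin.ext h), rfl⟩
  · rw [Subgroup.closure_le]
    rintro g ⟨r, t, hr, hne, hg⟩
    exact RootBN.Data.X_le_Urad (D := data hG F) (r := ⟨r, hr.1⟩) ((pos_iff hf hr.1).1 hr)
      (fun h => hne (congrArg Fin.val h)) (Subgroup.subset_closure ⟨t, hg⟩)

theorem minimal_parabolic_radical (i : ℕ) (hi : i < D.rank) :
    D.rootSubgroup F (D.simple i) ⊔ D.rootSubgroup F (D.neg (D.simple i)) ≤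
        Subgroup.normalizer (Subgroup.closure {g : GL D.Idx F | ∃ (s : ℕ) (t : F), D.IsPosRoot s ∧
          s ≠ D.simple i ∧ (g : Matrix D.Idx D.Idx F) = D.x F s t} : Set (GL D.Idx F)) ∧
      Subgroup.closure {g : GL D.Idx F | ∃ (s : ℕ) (t : F), D.IsPosRoot s ∧ s ≠ D.simple i ∧
          (g : Matrix D.Idx D.Idx F) = D.x F s t} ⊔ D.rootSubgroup F (D.simple i) = D.posUnipotent F := by
  have ax := axioms (F := F) hG hf
  set j : Fin D.rank := ⟨i, hi⟩
  rw [show D.simple i = D.simple j.val from rfl, ← Urad_eq hG hf j]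
  have key : ∀ S : Set (GL D.Idx F), (∀ y ∈ S, ∀ v ∈ (data hG F).Urad j, y * v * y⁻¹ ∈ (data hG F).Urad j) →
      (∀ y ∈ S, y⁻¹ ∈ S) → S ⊆ Subgroup.normalizer ((data hG F).Urad j : Set (GL D.Idx F)) := by
    intro S h hinv y hy
    refine Subgroup.mem_normalizer_iff.2 fun v => ⟨h y hy v, fun hv => ?_⟩
    have := h _ (hinv y hy) _ hv
    simpa [mul_assoc] using this
  constructor
  · refine sup_le ?_ ?_
    · exact key _ (fun y hy v hv => RootBN.Data.X_conj_Urad ax hy hv) fun y hy => Subgroup.inv_mem _ hy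
    · refine key _ (fun y hy v hv => ?_) fun y hy => Subgroup.inv_mem _ hy
      have hy' : ((data hG F).nn j)⁻¹ * y * (data hG F).nn j ∈ (data hG F).X ((data hG F).simp j) := by
        refine ((RootBN.Data.acts_nn ax j) _ _).1 ?_
        rw [ax.refl_simp]
        simpa [mul_assoc] using (show y ∈ (data hG F).X ((data hG F).opp ((data hG F).simp j)) from hy)
      have := RootBN.Data.nn_conj_Urad ax (RootBN.Data.X_conj_Urad ax hy'
        (RootBN.Data.nn_inv_conj_Urad ax hv))
      simpa [mul_assoc] using this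
  · rw [← data_U hG hf]
    refine le_antisymm (sup_le (RootBN.Data.Urad_le_U j) (RootBN.Data.X_le_U (ax.pos_simp j))) ?_
    intro u hu
    obtain ⟨y, hy, v, hv, rfl⟩ := RootBN.Data.U_eq_mul ax j hu
    exact Subgroup.mul_mem _ (Subgroup.mem_sup_right hy) (Subgroup.mem_sup_left hv)

variable {w0 : List ℕ} (hw : IsLongest D tabs w0)
include hw

theorem exists_longest :
    ∃ l : List (Fin D.rank), ∀ r, (data hG F).Pos ((data hG F).wl l r) ↔ ¬ (data hG F).Pos r := by
  have ax := axioms (F := F) hG hf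
  refine ⟨RootBN.Data.toFin w0, fun r => ?_⟩
  have hneg : ∀ r, (data hG F).Pos r → ¬ (data hG F).Pos ((data hG F).wl (RootBN.Data.toFin w0) r) := by
    intro r hr
    show ¬ D.nroots / 2 ≤ _
    rw [← RootBN.Data.evWord_eq (tabs := tabs) (fun i s => ((hf.2.2.2.2.1 i.val i.2).2.2.2.1 s.val s.2).1),
      RootBN.Data.map_val_toFin hw.1, not_le]
    exact hw.2 r.val r.2 hr
  refine ⟨fun h hr => hneg r hr h, fun hr => ?_⟩
  have := hneg _ ((ax.pos_opp r).2 hr)
  rw [RootBN.Data.wl_opp ax, ax.pos_opp, not_not] at this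
  exact this

theorem exists_conj_U_eq_V :
    ∃ n ∈ D.monomialSubgroup F, (D.posUnipotent F).map (MulAut.conj n).toMonoidHom = D.negUnipotent F := by
  have ax := axioms (F := F) hG hf
  obtain ⟨l, hl⟩ := exists_longest (F := F) hG hf hw
  refine ⟨(data hG F).nw l, (data_N hG hf).le (RootBN.Data.nw_mem_N l), ?_⟩
  have hact := RootBN.Data.acts_nw ax l
  refine le_antisymm ?_ ?_
  · rw [Subgroup.map_le_iff_le_comap, ← data_U hG hf]
    refine iSup₂_le fun r hr y hy => ?_
    have h1 := (hact r y).2 hy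
    obtain ⟨t, ht⟩ := (mem_rootSubgroup hG ((data hG F).wl l r).2).1 h1
    exact Subgroup.subset_closure ⟨_, t, ((hf.2.2.1 _ ((data hG F).wl l r).2).2.2.1).2
      (not_le.1 fun h => (hl r).1 h hr), congrArg Units.val ht⟩
  · rw [ChevalleyDatum.negUnipotent, Subgroup.closure_le]
    rintro g ⟨r, t, hr, hg⟩
    set r' : Fin D.nroots := ((data hG F).wl l)⁻¹ ⟨r, hr.1⟩
    have hr' : (data hG F).wl l r' = ⟨r, hr.1⟩ := Equiv.apply_symm_apply _ _
    refine ⟨((data hG F).nw l)⁻¹ * g * (data hG F).nw l, ?_, by simp [mul_assoc]⟩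
    rw [SetLike.mem_coe, ← data_U hG hf]
    refine RootBN.Data.X_le_U (r := r') ?_ ((hact r' _).1 ?_)
    · by_contra h
      have h1 := (hl r').2 h
      rw [hr'] at h1
      exact absurd h1 (not_le.2 (((hf.2.2.1 r hr.1).2.2.1).1 hr))
    · rw [hr']
      simpa [mul_assoc] using (show g ∈ (data hG F).X ⟨r, hr.1⟩ from Subgroup.subset_closure ⟨t, hg⟩)

end Cfsg.Agent.Chev.BNSetup
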