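/-
Negative unipotent subgroup, core of B, conjugacy in H, solvability of B, the ordered products in U.
-/
import Cfsg.Agent.Lib.Chev.BNStruct

set_option autoImplicit false

namespace Cfsg.Agent.Chev.BNSetup

open Cfsg.Lie
open scoped Matrix

section negative

variable (D : ChevalleyDatum)

/-- The chains of negative roots decrease. -/
def NegTri : Prop :=
  ∀ r < D.nroots, r < D.nroots / 2 → D.nroots / 2 ≤ D.negIdx.getD r 0 ∧
    ∀ e ∈ (D.chain.getD r #[]).toList, ∀ q ∈ e.2.toList, q.1 < e.1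

instance decidableNegTri : Decidable (NegTri D) := inferInstanceAs (Decidable (∀ _, _ → _))

theorem negTri_chevG2 : NegTri chevG2 := by decide +kernel
theorem negTri_chevB2 : NegTri chevB2 := by decide +kernel
theorem negTri_chevD4 : NegTri chevD4 := by decide +kernel
theorem negTri_chevF4 : NegTri chevF4 := by decide +kernel
theorem negTri_chevE6 : NegTri chevE6 := by decide +kernel
theorem negTri_chevE7 : NegTri chevE7 := by decide +kernel
theorem negTri_chevE8 : NegTri chevE8 := by decide +kernel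

/-- The opposite level. -/
def coLevel (a : D.Idx) : ℕ := D.nroots + 1 - rootLevel D a

variable {D}

theorem negTri_of_mem (hD : D ∈ [chevG2, chevB2, chevD4, chevF4, chevE6, chevE7, chevE8]) : NegTri D := by
  simp only [List.mem_cons, List.not_mem_nil, or_false] at hD
  rcases hD with rfl | rfl | rfl | rfl | rfl | rfl | rfl
  exacts [negTri_chevG2, negTri_chevB2, negTri_chevD4, negTri_chevF4, negTri_chevE6, negTri_chevE7,
    negTri_chevE8]

theorem rootLevel_le (hn : 1 ≤ D.nroots) (a : D.Idx) : rootLevel D a ≤ D.nroots := by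
  rcases a with i | s
  · simp only [rootLevel]; omega
  · simp only [rootLevel]; have := s.2; split <;> omega

variable {F : Type*} [Field F]

theorem raises_neg_xMat (h : NegTri D) {r : ℕ} (hr : r < D.nroots) (hneg : r < D.nroots / 2) (t : F) :
    Raises (coLevel D) 1 (D.xMat F ⟨r, hr⟩ t - 1) := by
  obtain ⟨h2, hc⟩ := h r hr hneg
  intro row col hlt
  have hlt' : rootLevel D col ≤ rootLevel D row := by
    have h1 := rootLevel_le (D := D) (by omega) row
    have h2 := rootLevel_le (D := D) (by omega) col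
    simp only [coLevel] at hlt
    omega
  clear hlt
  rw [Matrix.sub_apply, sub_eq_zero]
  simp only [ChevalleyDatum.xMat, Matrix.of_apply]
  rcases col with i | s
  · rcases row with i' | u
    · simp only [Matrix.one_apply, Sum.inl.injEq]
    · rw [Matrix.one_apply_ne (by simp)]
      refine if_neg ?_
      rintro rfl
      simp only [rootLevel, if_pos hneg] at hlt'
      omega
  · simp only
    by_cases hsr : s = ⟨r, hr⟩
    · subst hsr
      rcases row with i' | u <;> simp [Matrix.one_apply]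
    rw [if_neg hsr]
    by_cases hsn : s.val = D.negIdx.getD r 0
    · rw [if_pos hsn]
      rcases row with i' | u
      · exfalso
        simp only [rootLevel, if_neg (show ¬ s.val < D.nroots / 2 by omega)] at hlt'
        omega
      · simp only [Matrix.one_apply, Sum.inr.injEq]
        by_cases hus : u = s
        · simp [hus]
        · rw [if_neg hus, if_neg hus]
          refine if_neg ?_
          rintro rfl
          simp only [rootLevel, if_pos hneg, if_neg (show ¬ s.val < D.nroots / 2 by omega)] at hlt'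
          omega
    · rw [if_neg hsn]
      rcases row with i' | u
      · simp [Matrix.one_apply]
      · simp only [Matrix.one_apply, Sum.inr.injEq]
        have hus : s.val ≤ u.val := by
          simp only [rootLevel] at hlt'
          split_ifs at hlt' <;> omega
        have hnil : D.chainCoeff r s.val u.val = [] := by
          rw [ChevalleyDatum.chainCoeff, List.flatMap_eq_nil_iff]
          intro e he
          rw [List.map_eq_nil_iff, List.filter_eq_nil_iff]
          intro q hq
          obtain ⟨he1, he2⟩ := List.mem_filter.1 he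
          obtain ⟨q1, q2⟩ := q
          have := hc e he1 q1 (List.fst_mem_of_mem_zipIdx hq)
          simp only [decide_eq_true_eq] at he2 ⊢
          omega
        simp [hnil]

theorem negUnipotent_le_unitri (h : NegTri D) {tabs simps : List ℕ} (hf : Facts D tabs simps) :
    D.negUnipotent F ≤ unitri F (coLevel D) 0 := by
  rw [ChevalleyDatum.negUnipotent, Subgroup.closure_le]
  rintro g ⟨r, t, hr, hg⟩
  rw [SetLike.mem_coe, mem_unitri, hg, ChevalleyDatum.x, dif_pos hr.1]
  exact raises_neg_xMat h hr.1 ((hf.2.2.1 r hr.1).2.2.1.1 hr) t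

end negative

variable {F : Type*} [Field F] {D : ChevalleyDatum} (hG : Good D) {tabs simps : List ℕ}
  (hf : Facts D tabs simps)
include hG hf

theorem borel_inf_V (hn : NegTri D) : D.borelSubgroup F ⊓ D.negUnipotent F = ⊥ := by
  rw [Subgroup.eq_bot_iff_forall]
  rintro g ⟨hb, hv⟩
  have hV := negUnipotent_le_unitri (F := F) hn hf hv
  rw [mem_unitri] at hV
  obtain ⟨u, hu, h, hh, rfl⟩ := borel_decomp hG hf hb
  obtain ⟨χ, hχ⟩ := tri_H hf hG hh
  have hU := raises_unitri hf hu
  have htri : Raises (rootLevel D) 0 ((u * h : GL D.Idx F) : Matrix D.Idx D.Idx F) := by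
    rw [Units.val_mul, hχ]
    have := (tri_U hf hu).mul (tri_hdiag hf χ)
    simpa [Tri] using this
  apply Units.ext
  rw [Units.val_one]
  ext a b
  by_cases hle : rootLevel D b ≤ rootLevel D a
  · have := hV a b (by
      have h1 := rootLevel_le (D := D) (by
        rcases Nat.eq_zero_or_pos D.nroots with h0 | h0
        · exfalso
          obtain ⟨i, -⟩ : ∃ i : Fin D.rank, True :=
            ⟨⟨0, (hf.2.1).1⟩, trivial⟩
          have := hG.simple_lt i.2
          omega
        · omega) a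
      simp only [coLevel]
      omega)
    rwa [Matrix.sub_apply, sub_eq_zero] at this
  · rw [htri a b (by omega), Matrix.one_apply_ne]
    rintro rfl
    exact hle le_rfl

theorem borel_inf_VH (hn : NegTri D) :
    D.borelSubgroup F ⊓ (D.negUnipotent F ⊔ D.diagonalSubgroup F) = D.diagonalSubgroup F := by
  refine le_antisymm ?_ (le_inf le_sup_right le_sup_right)
  rintro g ⟨hb, hg⟩
  have hnorm : D.diagonalSubgroup F ≤ Subgroup.normalizer (D.negUnipotent F : Set (GL D.Idx F)) := by
    have key : ∀ h ∈ D.diagonalSubgroup F, ∀ v ∈ D.negUnipotent F, h * v * h⁻¹ ∈ D.negUnipotent F := by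
      intro h hh v hv
      refine (show D.negUnipotent F ≤ (D.negUnipotent F).comap (MulAut.conj h).toMonoidHom from ?_) hv
      conv_lhs => rw [ChevalleyDatum.negUnipotent]
      rw [Subgroup.closure_le]
      rintro y ⟨r, t, hr, hy⟩
      obtain ⟨t', ht'⟩ := (mem_rootSubgroup hG hr.1).1
        (normalisesAll_H hG hh r hr.1 y (Subgroup.subset_closure ⟨t, hy⟩))
      exact Subgroup.subset_closure ⟨r, t', hr, (congrArg Units.val ht').trans (coe_xe hG r t')⟩
    intro h hh
    refine Subgroup.mem_normalizer_iff.2 fun v => ⟨key h hh v, fun hv => ?_⟩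
    have := key h⁻¹ (Subgroup.inv_mem _ hh) _ hv
    simpa [mul_assoc] using this
  replace hg : g ∈ (D.negUnipotent F ⊔ D.diagonalSubgroup F : Subgroup _) := hg
  rw [← SetLike.mem_coe,
    Subgroup.coe_mul_of_right_le_normalizer_left _ _ hnorm, Set.mem_mul] at hg
  obtain ⟨v, hv, h, hh, rfl⟩ := hg
  have : v ∈ D.borelSubgroup F ⊓ D.negUnipotent F := by
    refine ⟨?_, hv⟩
    have := Subgroup.mul_mem _ hb (Subgroup.inv_mem _ (Subgroup.mem_sup_right (S := D.posUnipotent F) hh))
    simpa [ChevalleyDatum.borelSubgroup] using this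
  rw [borel_inf_V hG hf hn, Subgroup.mem_bot] at this
  rw [this, one_mul]
  exact hh

/-- An element of `H` centralising all root subgroups is trivial. -/
theorem eq_one_of_centralizes {h : GL D.Idx F} (hh : h ∈ D.diagonalSubgroup F)
    (hc : ∀ r < D.nroots, h * xe hG r 1 = xe hG r 1 * h) : h = 1 := by
  obtain ⟨χ, hχ⟩ := tri_H hf hG hh
  have key : ∀ r < D.nroots, χ (D.neg r) = 1 := by
    intro r hr
    obtain ⟨i, hi⟩ := exists_coroot_ne_zero (F := F) hf hr
    have e := congrArg (fun g : GL D.Idx F => (g : Matrix D.Idx D.Idx F) (Sum.inl i)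
      (Sum.inr ⟨D.neg r, hG.neg_lt hr⟩)) (hc r hr)
    simp only [Units.val_mul, coe_xe, hχ, hdiag, Matrix.diagonal_mul, Matrix.mul_diagonal] at e
    rw [x_entry_inl hr (hG.neg_lt hr), if_neg (hG.neg_ne hr), if_pos rfl, mul_one] at e
    simp only [Sum.elim_inl, Sum.elim_inr, one_mul] at e
    exact (mul_right_eq_self₀.1 e.symm).resolve_right hi
  apply Units.ext
  rw [hχ, Units.val_one, ← hdiag_one D]
  exact hdiag_congr D fun s hs => by rw [← hG.neg_neg hs]; exact key _ (hG.neg_lt hs)

theorem normalCore_borel (hn : NegTri D) {w0 : List ℕ} (hw : IsLongest D tabs w0) :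
    ((D.borelSubgroup F).subgroupOf (D.group F)).normalCore = ⊥ := by
  set K := ((D.borelSubgroup F).subgroupOf (D.group F)).normalCore with hK
  obtain ⟨n, hnN, hnU⟩ := exists_conj_U_eq_V (F := F) hG hf hw
  have hH : ∀ k ∈ K, (k : GL D.Idx F) ∈ D.diagonalSubgroup F := by
    intro k hk
    have h1' : k ∈ (D.borelSubgroup F).subgroupOf (D.group F) := Subgroup.normalCore_le _ hk
    have h1 : (k : GL D.Idx F) ∈ D.borelSubgroup F := Subgroup.mem_subgroupOf.1 h1'
    have hng : n ∈ D.group F := monomial_le_group hG hf hnN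
    have hk' := (Subgroup.normalCore_normal _).conj_mem k hk ⟨n⁻¹, Subgroup.inv_mem _ hng⟩
    have h2 : n⁻¹ * (k : GL D.Idx F) * n ∈ D.borelSubgroup F := by
      have := Subgroup.normalCore_le _ hk'
      simpa [Subgroup.mem_subgroupOf] using this
    obtain ⟨u, hu, h, hh, e⟩ := borel_decomp hG hf h2
    rw [← borel_inf_VH (F := F) hG hf hn]
    refine ⟨h1, ?_⟩
    have e' : (k : GL D.Idx F) = (n * u * n⁻¹) * (n * h * n⁻¹) := by
      calc (k : GL D.Idx F) = n * (n⁻¹ * k * n) * n⁻¹ := by group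
        _ = _ := by rw [e]; group
    rw [SetLike.mem_coe, e']
    refine Subgroup.mul_mem _ (Subgroup.mem_sup_left ?_) (Subgroup.mem_sup_right ?_)
    · rw [← hnU]; exact ⟨u, hu, rfl⟩
    · exact RootBN.Data.N_conj_H (axioms (F := F) hG hf) ((data_N hG hf).ge hnN) hh
  rw [Subgroup.eq_bot_iff_forall]
  intro k hk
  apply Subtype.ext
  refine eq_one_of_centralizes hG hf (hH k hk) fun r hr => ?_
  have h1 := hH _ ((Subgroup.normalCore_normal _).conj_mem k hk ⟨xe hG r 1, xe_mem_group hG hr 1⟩)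
  simp only [Subgroup.coe_mul, Subgroup.coe_inv] at h1
  have h2 : (k : GL D.Idx F) * xe hG r 1 * (k : GL D.Idx F)⁻¹ * (xe hG r 1)⁻¹ ∈ D.diagonalSubgroup F := by
    have := Subgroup.mul_mem _ (hH k hk) (Subgroup.inv_mem _ h1)
    simpa [mul_assoc] using this
  have h3 : (k : GL D.Idx F) * xe hG r 1 * (k : GL D.Idx F)⁻¹ * (xe hG r 1)⁻¹ ∈ D.rootSubgroup F r :=
    Subgroup.mul_mem _ (normalisesAll_H hG (hH k hk) r hr _ ((mem_rootSubgroup hG hr).2 ⟨1, rfl⟩))
      (Subgroup.inv_mem _ ((mem_rootSubgroup hG hr).2 ⟨1, rfl⟩))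
  obtain ⟨t, ht⟩ := (mem_rootSubgroup hG hr).1 h3
  have ht0 : t = 0 := by
    by_cases hp : D.nroots / 2 ≤ r
    · by_contra hne
      have : xe hG r t ∈ D.posUnipotent F ⊓ D.diagonalSubgroup F :=
        ⟨Subgroup.subset_closure ⟨r, t, (pos_iff hf hr).2 hp, rfl⟩, ht ▸ h2⟩
      rw [U_inf_H hf hG, Subgroup.mem_bot] at this
      exact xe_ne_one hG hf hr hne this
    · exact neg_inf_borel hG hf hr (not_le.1 hp)
        (Subgroup.mem_sup_right (S := D.posUnipotent F) (ht ▸ h2))
  rw [ht0, xe_zero hG hr, mul_inv_eq_one, mul_inv_eq_iff_eq_mul] at ht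
  exact ht

/-- Two elements of `H` conjugate in the group are conjugate under `N`. -/
theorem conj_in_monomial (h₁ h₂ g : GL D.Idx F) (h1 : h₁ ∈ D.diagonalSubgroup F)
    (h2 : h₂ ∈ D.diagonalSubgroup F) (hg : g ∈ D.group F) (hc : g * h₁ * g⁻¹ = h₂) :
    ∃ n ∈ D.monomialSubgroup F, n * h₁ * n⁻¹ = h₂ := by
  have ax := axioms (F := F) hG hf
  obtain ⟨l, hl⟩ := RootBN.Data.exists_cell ax ((data_grp hG).ge hg)
  obtain ⟨b, hb, c, hcB, rfl⟩ := (RootBN.Data.mem_cell_iff ax (RootBN.Data.nw_mem_N l)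
    (RootBN.Data.acts_nw ax l)).1 hl
  rw [data_B hG hf] at hb hcB
  obtain ⟨u, hu, a, ha, rfl⟩ := borel_decomp hG hf hb
  obtain ⟨v, hv, a', ha', rfl⟩ := borel_decomp hG hf hcB
  -- absorb the torus parts into the monomial element
  set n := a * (data hG F).nw l * a' with hn
  have hnN : n ∈ (data hG F).N := Subgroup.mul_mem _ (Subgroup.mul_mem _ (RootBN.Data.H_le_N ha)
    (RootBN.Data.nw_mem_N l)) (RootBN.Data.H_le_N ha')
  set v' := a'⁻¹ * v * a' with hv'
  have hnorm := diagonal_le_normalizer_U (F := F) hG hf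
  have hv'U : v' ∈ D.posUnipotent F := by
    have := (Subgroup.mem_normalizer_iff.1 (hnorm (Subgroup.inv_mem _ ha')) v).1 hv
    simpa [hv'] using this
  have hg' : u * a * (data hG F).nw l * (v * a') = u * n * v' := by rw [hn, hv']; group
  rw [hg'] at hc
  set h₃ := n * h₁ * n⁻¹ with hh3
  have h3 : h₃ ∈ D.diagonalSubgroup F := RootBN.Data.N_conj_H ax hnN h1
  refine ⟨n, (data_N hG hf).le hnN, ?_⟩
  show h₃ = h₂
  -- `x = n (v' (h₁ v'⁻¹ h₁⁻¹)) n⁻¹` is unipotent and lies in `B`
  set w := v' * (h₁ * v'⁻¹ * h₁⁻¹) with hw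
  have hwU : w ∈ D.posUnipotent F := Subgroup.mul_mem _ hv'U
    ((Subgroup.mem_normalizer_iff.1 (hnorm h1) v'⁻¹).1 (Subgroup.inv_mem _ hv'U))
  have hx : n * w * n⁻¹ = (u⁻¹ * (h₂ * u * h₂⁻¹)) * (h₂ * h₃⁻¹) := by
    have e : u * (n * w * n⁻¹) * h₃ * u⁻¹ = h₂ := by
      rw [← hc, hw, hh3]
      group
    calc n * w * n⁻¹ = u⁻¹ * (u * (n * w * n⁻¹) * h₃ * u⁻¹) * u * h₃⁻¹ := by group
      _ = _ := by rw [e]; group
  have hu' : u⁻¹ * (h₂ * u * h₂⁻¹) ∈ D.posUnipotent F :=
    Subgroup.mul_mem _ (Subgroup.inv_mem _ hu) ((Subgroup.mem_normalizer_iff.1 (hnorm h2) u).1 hu)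
  set k := D.rank + D.nroots
  have hnil : (((n * w * n⁻¹ : GL D.Idx F) : Matrix D.Idx D.Idx F) - 1) ^ k = 0 := by
    have h0 := pow_sub_one_eq_zero (posUnipotent_le_unitri (F := F) hf.2.1 hwU) (rootLevel_lt D hf.2.1.1)
    have e : ((n * w * n⁻¹ : GL D.Idx F) : Matrix D.Idx D.Idx F) - 1 =
        (n : Matrix D.Idx D.Idx F) * ((w : Matrix D.Idx D.Idx F) - 1) * ((n⁻¹ : GL D.Idx F) : Matrix D.Idx D.Idx F) := by
      rw [mul_sub, sub_mul, mul_one, Units.mul_inv, Units.val_mul, Units.val_mul]
    rw [e, Units.conj_pow, h0, mul_zero, zero_mul]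
  obtain ⟨χ, hχ⟩ := tri_H hf hG (Subgroup.mul_mem _ h2 (Subgroup.inv_mem _ h3))
  have htri : Raises (rootLevel D) 0 (((n * w * n⁻¹ : GL D.Idx F) : Matrix D.Idx D.Idx F) - hdiag D χ) ∧
      Raises (rootLevel D) 1 (((n * w * n⁻¹ : GL D.Idx F) : Matrix D.Idx D.Idx F) - hdiag D χ) := by
    rw [hx, Units.val_mul, hχ, ← sub_one_mul]
    have := (raises_unitri hf hu').mul (tri_hdiag (F := F) hf χ)
    exact ⟨by simpa using this.mono (Nat.zero_le 1), by simpa using this⟩
  have hdiagone : ∀ s < D.nroots, χ s = 1 := by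
    intro s hs
    -- the diagonal entry of a power
    set A := ((n * w * n⁻¹ : GL D.Idx F) : Matrix D.Idx D.Idx F) - 1 with hA
    have hdec : A = (((n * w * n⁻¹ : GL D.Idx F) : Matrix D.Idx D.Idx F) - hdiag D χ) + (hdiag D χ - 1) := by
      rw [hA]; abel
    have hpow : ∀ m : ℕ, Raises (rootLevel D) 1 (A ^ m - (hdiag D χ - 1) ^ m) ∧
        Raises (rootLevel D) 0 ((hdiag D χ - 1 : Matrix D.Idx D.Idx F) ^ m) := by
      intro m
      induction m with
      | zero => simp [raises_zero, raises_one]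
      | succ m ih =>
        have h0 : Raises (rootLevel D) 0 (hdiag D χ - 1 : Matrix D.Idx D.Idx F) :=
          Raises.sub (tri_hdiag hf χ) raises_one
        refine ⟨?_, by rw [pow_succ]; simpa using ih.2.mul h0⟩
        have e : A ^ (m + 1) - (hdiag D χ - 1) ^ (m + 1) = (A ^ m - (hdiag D χ - 1) ^ m) * A +
            (hdiag D χ - 1) ^ m * (((n * w * n⁻¹ : GL D.Idx F) : Matrix D.Idx D.Idx F) - hdiag D χ) := by
          rw [pow_succ, pow_succ, sub_mul, hA]
          noncomm_ring
        rw [e]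
        have hA0 : Raises (rootLevel D) 0 A := hdec ▸ htri.1.add h0
        exact Raises.add (by simpa using ih.1.mul hA0) (by simpa using ih.2.mul htri.2)
    have h1' := (hpow k).1 (Sum.inr ⟨s, hs⟩) (Sum.inr ⟨s, hs⟩) (by omega)
    rw [hnil, zero_sub, Matrix.neg_apply, neg_eq_zero] at h1'
    have hd : (hdiag D χ - 1 : Matrix D.Idx D.Idx F) = Matrix.diagonal (fun a =>
        Sum.elim (fun _ => (0 : F)) (fun r : Fin D.nroots => χ r.val - 1) a) := by
      ext a b
      rcases a with a | a <;> rcases b with b | b <;>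
        simp [hdiag, Matrix.diagonal_apply, Matrix.one_apply, sub_eq_zero] <;> split_ifs <;> simp
    rw [hd, Matrix.diagonal_pow, Matrix.diagonal_apply_eq, Pi.pow_apply, Sum.elim_inr] at h1'
    exact sub_eq_zero.1 (pow_eq_zero_iff (by have := hf.2.1.1; omega) |>.1 h1')
  have : h₂ * h₃⁻¹ = 1 := by
    apply Units.ext
    rw [hχ, Units.val_one, ← hdiag_one D]
    exact hdiag_congr D hdiagone
  exact (mul_inv_eq_one.1 this).symm

theorem isSolvable_borel : Group.IsSolvable ↥(D.borelSubgroup F) := by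
  have hnorm := diagonal_le_normalizer_U (F := F) hG hf
  have hUB : D.posUnipotent F ≤ D.borelSubgroup F := le_sup_left
  let δ : D.borelSubgroup F → D.Idx → F := fun g a => ((g : GL D.Idx F) : Matrix D.Idx D.Idx F) a a
  have hval : ∀ g : D.borelSubgroup F, ∃ u ∈ D.posUnipotent F, ∃ h ∈ D.diagonalSubgroup F, ∃ χ : ℕ → F,
      (g : GL D.Idx F) = u * h ∧ (h : Matrix D.Idx D.Idx F) = hdiag D χ ∧
      δ g = Sum.elim (fun _ => (1 : F)) (fun r : Fin D.nroots => χ r.val) := by
    intro g
    obtain ⟨u, hu, h, hh, e⟩ := borel_decomp hG hf g.2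
    obtain ⟨χ, hχ⟩ := tri_H hf hG hh
    refine ⟨u, hu, h, hh, χ, e, hχ, funext fun a => ?_⟩
    have hd := raises_unitri hf hu a a (by omega)
    rw [Matrix.sub_apply, sub_eq_zero, Matrix.one_apply_eq] at hd
    simp only [δ, e, Units.val_mul, hχ, hdiag, Matrix.mul_diagonal, hd, one_mul]
  let f : D.borelSubgroup F →* (D.Idx → F) :=
    { toFun := δ
      map_one' := funext fun a => by simp [δ]
      map_mul' := fun g g' => by
        obtain ⟨u, hu, h, hh, χ, e, hχ, hd⟩ := hval g
        obtain ⟨u', hu', h', hh', χ', e', hχ', hd'⟩ := hval g'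
        rw [hd, hd']
        funext a
        have e2 : ((g * g' : D.borelSubgroup F) : GL D.Idx F) = u * (h * u' * h⁻¹) * (h * h') := by
          rw [Subgroup.coe_mul, e, e']; group
        have hu2 : u * (h * u' * h⁻¹) ∈ D.posUnipotent F :=
          Subgroup.mul_mem _ hu ((Subgroup.mem_normalizer_iff.1 (hnorm hh) u').1 hu')
        have hd2 := raises_unitri hf hu2 a a (by omega)
        rw [Matrix.sub_apply, sub_eq_zero, Matrix.one_apply_eq] at hd2
        simp only [δ, e2]
        rw [Units.val_mul, Units.val_mul h h', hχ, hχ', hdiag_mul, hdiag, Matrix.mul_diagonal, hd2, one_mul]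
        rcases a with a | a <;> simp }
  haveI : Group.IsNilpotent (D.posUnipotent F) := by
    haveI := isNilpotent_unitri (F := F) (w := rootLevel D)
    exact Group.nilpotent_of_mulEquiv
      (Subgroup.subgroupOfEquivOfLe (posUnipotent_le_unitri (F := F) hf.2.1))
  refine solvable_of_ker_le_range (Subgroup.inclusion hUB) f.toHomUnits ?_
  intro g hg
  obtain ⟨u, hu, h, hh, χ, e, hχ, hd⟩ := hval g
  rw [MonoidHom.mem_ker] at hg
  have hg' : δ g = 1 := by
    have := congrArg Units.val hg
    simpa [f] using this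
  have h1 : h = 1 := by
    apply Units.ext
    rw [hχ, Units.val_one, ← hdiag_one D]
    refine hdiag_congr D fun s hs => ?_
    have := congrFun (hd.symm.trans hg') (Sum.inr ⟨s, hs⟩)
    simpa using this
  exact ⟨⟨u, hu⟩, Subtype.ext (by simp [e, h1])⟩

theorem ordered_product :
    (∀ g : GL D.Idx F, g ∈ D.posUnipotent F →
      ∃! t : ℕ → F, (∀ r, ¬ D.IsPosRoot r → t r = 0) ∧
        (g : Matrix D.Idx D.Idx F) = D.wordMat F (D.posRoots.map fun r => (r, t r))) ∧
    (∀ t : ℕ → F, ∃ g : GL D.Idx F, g ∈ D.posUnipotent F ∧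
      (g : Matrix D.Idx D.Idx F) = D.wordMat F (D.posRoots.map fun r => (r, t r))) := by
  have hkm : D.nroots / 2 + (D.nroots - D.nroots / 2) = D.nroots := by omega
  constructor
  · intro g hg
    rw [← Uge_eq_U hG hf] at hg
    obtain ⟨t, ht, rfl⟩ := exists_prodFrom hG hf hkm le_rfl g hg
    have ht0 : ∀ r, ¬ D.IsPosRoot r → t r = 0 := by
      intro r hr
      apply ht
      by_cases h : r < D.nroots
      · exact Or.inl (not_le.1 fun h' => hr ((pos_iff hf h).2 h'))
      · exact Or.inr (not_lt.1 h)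
    refine ⟨t, ⟨ht0, by rw [coe_prodFrom hG hf, posRoots_eq hf]⟩, ?_⟩
    rintro t' ⟨ht', e⟩
    rw [posRoots_eq hf, ← coe_prodFrom hG hf] at e
    have := prodFrom_inj hG hf hkm le_rfl (Units.ext e)
    funext r
    by_cases hr : D.IsPosRoot r
    · exact (this r ((pos_iff hf hr.1).1 hr) hr.1).symm
    · rw [ht' r hr, ht0 r hr]
  · intro t
    refine ⟨prodFrom hG F t (D.nroots / 2) (D.nroots - D.nroots / 2), ?_, ?_⟩
    · rw [← Uge_eq_U hG hf]; exact prodFrom_mem hG hkm
    · rw [coe_prodFrom hG hf, posRoots_eq hf]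

end Cfsg.Agent.Chev.BNSetup
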