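/-
Intersections of the positive unipotent subgroup with its conjugates under the monomial elements: exact
description by root subgroups, and leading indices of unipotent elements.
-/
import Cfsg.Agent.Lib.RootBN.NormalForm
import Cfsg.Agent.Lib.Chev.BNStruct
import Cfsg.Agent.Lib.Chev.BNCore

set_option autoImplicit false

namespace Cfsg.Agent.Chev.BNSetup

open Cfsg.Lie
open Cfsg.Agent.RootBN (Data)

variable {F : Type*} [Field F] {D : ChevalleyDatum} (hG : Good D)

/-- The leading root index of an element of `U`. -/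
def Lead (F : Type*) [Field F] (g : GL D.Idx F) (k : ℕ) : Prop :=
  D.nroots / 2 ≤ k ∧ k < D.nroots ∧ g ∈ Uge hG F k ∧ g ∉ Uge hG F (k + 1)

theorem Uge_anti {a b : ℕ} (h : a ≤ b) : Uge hG F b ≤ Uge hG F a := by
  induction h with
  | refl => exact le_rfl
  | step _ ih => exact (Uge_succ_le hG _).trans ih

theorem Lead.unique {g : GL D.Idx F} {a b : ℕ} (ha : Lead hG F g a) (hb : Lead hG F g b) : a = b := by
  rcases lt_trichotomy a b with h | h | h
  · exact absurd (Uge_anti hG h hb.2.2.1) ha.2.2.2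
  · exact h
  · exact absurd (Uge_anti hG h ha.2.2.1) hb.2.2.2

theorem prodFrom_mem_of {K : Subgroup (GL D.Idx F)} {t : ℕ → F} : ∀ {k m : ℕ}, k + m ≤ D.nroots →
    (∀ r, k ≤ r → r < k + m → t r ≠ 0 → xe hG r (t r) ∈ K) → prodFrom hG F t k m ∈ K := by
  intro k m
  induction m generalizing k with
  | zero => intro _ _; exact K.one_mem
  | succ m ih =>
    intro h hK
    refine K.mul_mem ?_ (ih (k := k + 1) (by omega) fun r h1 h2 => hK r (by omega) (by omega))
    by_cases h0 : t k = 0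
    · rw [h0, xe_zero hG (by omega)]; exact K.one_mem
    · exact hK k le_rfl (by omega) h0

/-- `U ∩ n U n⁻¹` for the monomial element of a word. -/
def Inter (F : Type*) [Field F] (l : List (Fin D.rank)) : Subgroup (GL D.Idx F) :=
  (data hG F).U ⊓ (data hG F).U.comap (MulAut.conj ((data hG F).nw l)⁻¹).toMonoidHom

theorem mem_Inter {l : List (Fin D.rank)} {g : GL D.Idx F} :
    g ∈ Inter hG F l ↔
      g ∈ (data hG F).U ∧ ((data hG F).nw l)⁻¹ * g * (data hG F).nw l ∈ (data hG F).U := by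
  simp [Inter]

/-- The positive roots kept positive by the inverse of the Weyl element of a word. -/
def Keep (F : Type*) [Field F] (l : List (Fin D.rank)) (r : ℕ) : Prop :=
  ∃ hr : r < D.nroots, D.nroots / 2 ≤ r ∧ (data hG F).Pos (((data hG F).wl l)⁻¹ ⟨r, hr⟩)

variable {tabs simps : List ℕ} (hf : Facts D tabs simps)
include hf

theorem Lead_xe {r : ℕ} (hr : r < D.nroots) (hr' : D.nroots / 2 ≤ r) {t : F} (ht : t ≠ 0) :
    Lead hG F (xe hG r t) r :=
  ⟨hr', hr, xe_mem_Uge hG hr le_rfl t, fun h => ht (Uge_xe_eq_zero hG hf hr hr' h)⟩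

/-- The leading index of an ordered product occurs in it. -/
theorem Lead_prodFrom {t : ℕ → F} : ∀ {k m : ℕ}, k + m = D.nroots → D.nroots / 2 ≤ k →
    ∀ {j : ℕ}, Lead hG F (prodFrom hG F t k m) j → t j ≠ 0 := by
  intro k m
  induction m generalizing k with
  | zero => intro _ _ j hj; exact absurd (Subgroup.one_mem _) hj.2.2.2
  | succ m ih =>
    intro h hk j hj
    have hkn : k < D.nroots := by omega
    by_cases h0 : t k = 0
    · rw [prodFrom, h0, xe_zero hG hkn, one_mul] at hj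
      exact ih (by omega) (by omega) hj
    · have hL : Lead hG F (prodFrom hG F t k (m + 1)) k := by
        refine ⟨hk, hkn, prodFrom_mem hG h, fun hmem => h0 ?_⟩
        refine Uge_xe_eq_zero hG hf hkn hk ?_
        have h2 := prodFrom_mem hG (t := t) (k := k + 1) (m := m) (by omega)
        rw [prodFrom] at hmem
        exact (Subgroup.mul_mem_cancel_right _ h2).1 hmem
      rw [Lead.unique hG hj hL]
      exact h0

theorem xe_conj_Uge {k r : ℕ} (hk : D.nroots / 2 ≤ k) (hr : r < D.nroots) (hr' : D.nroots / 2 ≤ r)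
    (t : F) {g : GL D.Idx F} (hg : g ∈ Uge hG F k) : xe hG r t * g * (xe hG r t)⁻¹ ∈ Uge hG F k := by
  by_cases hkr : k ≤ r
  · exact Subgroup.mul_mem _ (Subgroup.mul_mem _ (xe_mem_Uge hG hr hkr t) hg)
      (Subgroup.inv_mem _ (xe_mem_Uge hG hr hkr t))
  refine (show Uge hG F k ≤ (Uge hG F k).comap (MulAut.conj (xe hG r t)).toMonoidHom from ?_) hg
  conv_lhs => rw [Uge]
  rw [Subgroup.closure_le]
  rintro y ⟨s, u, hs, hks, rfl⟩
  exact xe_conj_mem hG hf hr hs hr' (by omega) (by omega) t u (xe_mem_Uge hG hs hks u)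
    fun j hj _ h2 v => xe_mem_Uge hG hj (by omega) v

theorem borel_conj_Uge {k : ℕ} (hk : D.nroots / 2 ≤ k) {b : GL D.Idx F}
    (hb : b ∈ (data hG F).B) {g : GL D.Idx F} (hg : g ∈ Uge hG F k) : b * g * b⁻¹ ∈ Uge hG F k := by
  have hU : ∀ u ∈ D.posUnipotent F, ∀ g ∈ Uge hG F k, u * g * u⁻¹ ∈ Uge hG F k := by
    intro u hu
    rw [← Uge_eq_U hG hf] at hu
    induction hu using Subgroup.closure_induction_left with
    | one => intro g hg; simpa using hg
    | mul_left x hx z _ ih =>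
      obtain ⟨r, t, hr, hkr, rfl⟩ := hx
      intro g hg
      have := xe_conj_Uge hG hf hk hr hkr t (ih g hg)
      simpa [mul_assoc] using this
    | inv_mul_cancel x hx z _ ih =>
      obtain ⟨r, t, hr, hkr, rfl⟩ := hx
      intro g hg
      rw [xe_inv hG hr]
      have := xe_conj_Uge hG hf hk hr hkr (-t) (ih g hg)
      simpa [mul_assoc] using this
  have hH : ∀ h ∈ D.diagonalSubgroup F, ∀ g ∈ Uge hG F k, h * g * h⁻¹ ∈ Uge hG F k := by
    intro h hh g hg
    refine (show Uge hG F k ≤ (Uge hG F k).comap (MulAut.conj h).toMonoidHom from ?_) hg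
    conv_lhs => rw [Uge]
    rw [Subgroup.closure_le]
    rintro y ⟨s, u, hs, hks, rfl⟩
    obtain ⟨v, hv⟩ := (mem_rootSubgroup hG hs).1
      (normalisesAll_H hG hh s hs _ ((mem_rootSubgroup hG hs).2 ⟨u, rfl⟩))
    exact Subgroup.subset_closure ⟨s, v, hs, hks, hv⟩
  rw [data_B hG hf] at hb
  obtain ⟨u, hu, h, hh, rfl⟩ := borel_decomp hG hf hb
  have := hU u hu _ (hH h hh g hg)
  simpa [mul_assoc] using this

theorem borel_conj_Uge_iff {k : ℕ} (hk : D.nroots / 2 ≤ k) {b : GL D.Idx F}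
    (hb : b ∈ (data hG F).B) {g : GL D.Idx F} : b * g * b⁻¹ ∈ Uge hG F k ↔ g ∈ Uge hG F k := by
  refine ⟨fun h => ?_, borel_conj_Uge hG hf hk hb⟩
  have := borel_conj_Uge hG hf hk (Subgroup.inv_mem _ hb) h
  simpa [mul_assoc] using this

theorem Lead_conj {g b : GL D.Idx F} {k : ℕ} (hb : b ∈ (data hG F).B) (h : Lead hG F g k) :
    Lead hG F (b * g * b⁻¹) k :=
  ⟨h.1, h.2.1, borel_conj_Uge hG hf h.1 hb h.2.2.1,
    fun h' => h.2.2.2 ((borel_conj_Uge_iff hG hf (Nat.le_succ_of_le h.1) hb).1 h')⟩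

theorem xe_mem_Inter {l : List (Fin D.rank)} {r : ℕ} (h : Keep hG F l r) (t : F) :
    xe hG r t ∈ Inter hG F l := by
  have ax := axioms (F := F) hG hf
  obtain ⟨hr, hr', hp⟩ := h
  have hX : xe hG r t ∈ (data hG F).X ⟨r, hr⟩ := (mem_rootSubgroup hG hr).2 ⟨t, rfl⟩
  refine (mem_Inter hG).2 ⟨RootBN.Data.X_le_U (D := data hG F) (r := (⟨r, hr⟩ : Fin D.nroots)) hr' hX, ?_⟩
  refine RootBN.Data.X_le_U hp ?_
  have := ((RootBN.Data.acts_nw ax l).inv ⟨r, hr⟩ (xe hG r t)).2 hX
  rwa [inv_inv] at this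

variable [Fintype F]

/-- The exact description of `U ∩ n U n⁻¹`. -/
theorem exists_prodFrom_Inter (hn : NegTri D) (l : List (Fin D.rank)) {g : GL D.Idx F}
    (hg : g ∈ Inter hG F l) : ∃ t : ℕ → F, (∀ r, t r ≠ 0 → Keep hG F l r) ∧
      g = prodFrom hG F t (D.nroots / 2) (D.nroots / 2) := by
  classical
  have ax := axioms (F := F) hG hf
  have hN : D.nroots / 2 + D.nroots / 2 = D.nroots := by have := hf.1; omega
  let In : ℕ → Prop := Keep hG F l
  let ext : (Fin (D.nroots / 2) → F) → ℕ → F := fun f r =>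
    if h : r - D.nroots / 2 < D.nroots / 2 ∧ D.nroots / 2 ≤ r then f ⟨_, h.1⟩ else 0
  let f1 : (Fin (D.nroots / 2) → F) → ℕ → F := fun f r => if In r then ext f r else 0
  let f2 : (Fin (D.nroots / 2) → F) → ℕ → F := fun f r => if In r then 0 else ext f r
  let pr : (ℕ → F) → GL D.Idx F := fun t => prodFrom hG F t (D.nroots / 2) (D.nroots / 2)
  have hA : ∀ f, pr (f1 f) ∈ Inter hG F l := fun f => prodFrom_mem_of hG hN.le fun r _ _ h => by
    refine xe_mem_Inter hG hf ?_ _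
    by_contra hc
    exact h (if_neg hc)
  -- the complementary product conjugates into the negative unipotent subgroup
  set W : Subgroup (GL D.Idx F) :=
    (data hG F).U ⊓ (D.negUnipotent F).comap (MulAut.conj ((data hG F).nw l)⁻¹).toMonoidHom with hW
  have hmemW : ∀ x, x ∈ W ↔ x ∈ (data hG F).U ∧
      ((data hG F).nw l)⁻¹ * x * (data hG F).nw l ∈ D.negUnipotent F := fun x => by simp [hW]
  have hB2 : ∀ f, pr (f2 f) ∈ W := fun f => prodFrom_mem_of hG hN.le fun r h1 h2 h => by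
    have hr : r < D.nroots := by omega
    have hX : xe hG r (f2 f r) ∈ (data hG F).X ⟨r, hr⟩ := (mem_rootSubgroup hG hr).2 ⟨_, rfl⟩
    refine (hmemW _).2 ⟨RootBN.Data.X_le_U (D := data hG F) (r := (⟨r, hr⟩ : Fin D.nroots)) h1 hX, ?_⟩
    have hneg : ¬ (data hG F).Pos (((data hG F).wl l)⁻¹ ⟨r, hr⟩) := fun hp => h (if_pos ⟨hr, h1, hp⟩)
    have hm := ((RootBN.Data.acts_nw ax l).inv ⟨r, hr⟩ (xe hG r (f2 f r))).2 hX
    rw [inv_inv] at hm
    obtain ⟨v, hv⟩ := (mem_rootSubgroup hG (((data hG F).wl l)⁻¹ ⟨r, hr⟩).2).1 hm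
    exact Subgroup.subset_closure ⟨_, v,
      ((hf.2.2.1 _ (((data hG F).wl l)⁻¹ ⟨r, hr⟩).2).2.2.1).2 (not_le.1 hneg), congrArg Units.val hv⟩
  have hAW : ∀ x, x ∈ Inter hG F l → x ∈ W → x = 1 := by
    intro x hx1 hx2
    rw [mem_Inter] at hx1
    rw [hmemW] at hx2
    have hb : ((data hG F).nw l)⁻¹ * x * (data hG F).nw l ∈ D.borelSubgroup F ⊓ D.negUnipotent F :=
      ⟨(data_B hG hf).le (RootBN.Data.U_le_B hx1.2), hx2.2⟩
    rw [borel_inf_V hG hf hn, Subgroup.mem_bot] at hb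
    have hb' : x = (data hG F).nw l * 1 * ((data hG F).nw l)⁻¹ := by rw [← hb]; group
    simpa using hb'
  have hU : ∀ x, x ∈ Inter hG F l ∨ x ∈ W → x ∈ Uge hG F (D.nroots / 2) := fun x hx => by
    rw [Uge_eq_U hG hf, ← data_U hG hf]
    rcases hx with hx | hx
    exacts [((mem_Inter hG).1 hx).1, ((hmemW x).1 hx).1]
  let Φ : (Fin (D.nroots / 2) → F) → Uge hG F (D.nroots / 2) := fun f =>
    ⟨pr (f1 f) * pr (f2 f), Subgroup.mul_mem _ (hU _ (Or.inl (hA f))) (hU _ (Or.inr (hB2 f)))⟩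
  have hinj : Function.Injective Φ := by
    intro f f' e
    have e' : pr (f1 f) * pr (f2 f) = pr (f1 f') * pr (f2 f') := congrArg Subtype.val e
    have e2 : (pr (f1 f'))⁻¹ * pr (f1 f) = pr (f2 f') * (pr (f2 f))⁻¹ := by
      rw [eq_mul_inv_iff_mul_eq, mul_assoc, e', inv_mul_cancel_left]
    have h1 := hAW _ (Subgroup.mul_mem _ (Subgroup.inv_mem _ (hA f')) (hA f))
      (e2 ▸ Subgroup.mul_mem _ (hB2 f') (Subgroup.inv_mem _ (hB2 f)))
    have ea : pr (f1 f) = pr (f1 f') := (inv_mul_eq_one.1 h1).symm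
    have eb : pr (f2 f) = pr (f2 f') := mul_left_cancel (ea ▸ e')
    funext i
    have hi : D.nroots / 2 + i.val < D.nroots := by omega
    have k1 := prodFrom_inj hG hf hN le_rfl ea (D.nroots / 2 + i.val) (Nat.le_add_right _ _) hi
    have k2 := prodFrom_inj hG hf hN le_rfl eb (D.nroots / 2 + i.val) (Nat.le_add_right _ _) hi
    have hext : ∀ f : Fin (D.nroots / 2) → F, ext f (D.nroots / 2 + i.val) = f i := fun f => by
      simp only [ext]
      rw [dif_pos ⟨by omega, Nat.le_add_right _ _⟩]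
      exact congrArg f (Fin.ext (by simp))
    simp only [f1, f2] at k1 k2
    by_cases hk : In (D.nroots / 2 + i.val)
    · rwa [if_pos hk, if_pos hk, hext, hext] at k1
    · rwa [if_neg hk, if_neg hk, hext, hext] at k2
  have hbij : Function.Bijective Φ := by
    refine hinj.bijective_of_nat_card_le (le_of_eq ?_)
    rw [card_Uge hG hf hN le_rfl, Nat.card_eq_fintype_card]
    simp
  obtain ⟨f, hf'⟩ := hbij.2 ⟨g, hU g (Or.inl hg)⟩
  have e : pr (f1 f) * pr (f2 f) = g := congrArg Subtype.val hf'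
  have h2 : pr (f2 f) = 1 := by
    refine hAW _ ?_ (hB2 f)
    rw [show pr (f2 f) = (pr (f1 f))⁻¹ * g by rw [← e, inv_mul_cancel_left]]
    exact Subgroup.mul_mem _ (Subgroup.inv_mem _ (hA f)) hg
  refine ⟨f1 f, fun r hr => ?_, ?_⟩
  · by_contra hc
    exact hr (if_neg hc)
  · rw [← e, h2, mul_one]

/-- The leading indices of `U ∩ n U n⁻¹` are the kept roots. -/
theorem Keep_of_Lead (hn : NegTri D) {l : List (Fin D.rank)} {g : GL D.Idx F} {k : ℕ}
    (hg : g ∈ Inter hG F l) (hk : Lead hG F g k) : Keep hG F l k := by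
  obtain ⟨t, ht, rfl⟩ := exists_prodFrom_Inter hG hf hn l hg
  exact ht k (Lead_prodFrom hG hf (by have := hf.1; omega) le_rfl hk)

omit [Fintype F] in
/-- An element of `n B` centralising `U ∩ n U n⁻¹` forces the kept roots to be fixed. -/
theorem fixed_of_centralises {l : List (Fin D.rank)} {b : GL D.Idx F} (hb : b ∈ (data hG F).B)
    (hc : ∀ g ∈ Inter hG F l,
      (data hG F).nw l * b * g = g * ((data hG F).nw l * b)) {r : ℕ} (hr : r < D.nroots)
    (h : Keep hG F l r) : ((data hG F).wl l)⁻¹ ⟨r, hr⟩ = ⟨r, hr⟩ := by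
  have ax := axioms (F := F) hG hf
  have ha := xe_mem_Inter hG hf h (1 : F)
  obtain ⟨_, hr', hp⟩ := h
  have e : b * xe hG r 1 * b⁻¹ = ((data hG F).nw l)⁻¹ * xe hG r 1 * (data hG F).nw l := by
    have := hc _ ha
    calc b * xe hG r 1 * b⁻¹
        = ((data hG F).nw l)⁻¹ * ((data hG F).nw l * b * xe hG r 1) * b⁻¹ := by group
      _ = _ := by rw [this]; group
  have hm := ((RootBN.Data.acts_nw ax l).inv ⟨r, hr⟩ (xe hG r (1 : F))).2
    ((mem_rootSubgroup hG hr).2 ⟨1, rfl⟩)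
  rw [inv_inv] at hm
  set r' := ((data hG F).wl l)⁻¹ ⟨r, hr⟩ with hr'def
  obtain ⟨v, hv⟩ := (mem_rootSubgroup hG r'.2).1 hm
  have hv0 : v ≠ 0 := by
    rintro rfl
    rw [xe_zero hG r'.2] at hv
    have h1 : xe hG r (1 : F) = (data hG F).nw l * 1 * ((data hG F).nw l)⁻¹ := by rw [← hv]; group
    exact xe_ne_one hG hf hr one_ne_zero (by simpa using h1)
  refine Fin.ext (Lead.unique hG (g := xe hG r'.val v) (Lead_xe hG hf r'.2 hp hv0) ?_)
  rw [← hv, ← e]
  exact Lead_conj hG hf hb (Lead_xe hG hf hr hr' one_ne_zero)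

end Cfsg.Agent.Chev.BNSetup
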