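/-
Linearity of the Weyl words on the rows of Cartan integers, and consequences for the roots that an element
keeps positive.
-/
import Cfsg.Agent.Lib.Chev.UnipotentInter

set_option autoImplicit false

namespace Cfsg.Agent.Chev.BNSetup

open Cfsg.Lie
open Cfsg.Agent.RootBN (Data)

variable {F : Type*} [Field F] {D : ChevalleyDatum}

/-- A linear functional in the Cartan integers, evaluated at a root. -/
def cartanForm (D : ChevalleyDatum) (k : List ℤ) (r : ℕ) : ℤ :=
  ∑ i ∈ Finset.range D.rank, k.getD i 0 * D.cartan i r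

/-- A functional positive on the positive roots and negative on the negative ones. -/
def PosForm (D : ChevalleyDatum) (k : List ℤ) : Prop :=
  ∀ r < D.nroots, (D.nroots / 2 ≤ r → 0 < cartanForm D k r) ∧
    (r < D.nroots / 2 → cartanForm D k r < 0)

instance decidablePosForm (D : ChevalleyDatum) (k : List ℤ) : Decidable (PosForm D k) :=
  inferInstanceAs (Decidable (∀ _, _ → _))

/-- Every proper non-empty set of nodes has an edge leaving it. -/
def Linked (D : ChevalleyDatum) : Prop :=
  ∀ J ∈ (Finset.range D.rank).powerset, J.Nonempty → J ≠ Finset.range D.rank →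
    ∃ a ∈ J, ∃ b ∈ Finset.range D.rank \ J, D.cartan b (D.simple a) < 0

instance decidableLinked (D : ChevalleyDatum) : Decidable (Linked D) :=
  inferInstanceAs (Decidable (∀ _ ∈ _, _))

variable (hG : Good D)

/-- An affine relation between rows of Cartan integers is preserved by every word. -/
theorem cartan_wl_affine (l : List (Fin D.rank)) {a b d : Fin D.nroots} {c : ℤ}
    (h : ∀ j < D.rank, D.cartan j a.val = D.cartan j b.val + c * D.cartan j d.val) :
    ∀ j < D.rank, D.cartan j ((data hG F).wl l a).val =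
      D.cartan j ((data hG F).wl l b).val + c * D.cartan j ((data hG F).wl l d).val := by
  induction l with
  | nil => exact h
  | cons i l ih =>
    intro j hj
    simp only [RootBN.Data.wl_cons, Equiv.Perm.mul_apply, data_refl]
    rw [hG.cartan_reflectRoot i.2 hj (Fin.is_lt _), hG.cartan_reflectRoot i.2 hj (Fin.is_lt _),
      hG.cartan_reflectRoot i.2 hj (Fin.is_lt _), ih j hj, ih i.val i.2]
    ring

theorem cartanForm_affine {k : List ℤ} {a b d : ℕ} {c : ℤ}
    (h : ∀ j < D.rank, D.cartan j a = D.cartan j b + c * D.cartan j d) :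
    cartanForm D k a = cartanForm D k b + c * cartanForm D k d := by
  simp only [cartanForm, Finset.mul_sum]
  rw [← Finset.sum_add_distrib]
  refine Finset.sum_congr rfl fun i hi => ?_
  rw [h i (Finset.mem_range.1 hi)]
  ring

variable {tabs simps : List ℕ} (hf : Facts D tabs simps)
include hf

/-- All simple roots kept: the element is trivial. -/
theorem wl_eq_one_of_keep {l : List (Fin D.rank)}
    (h : ∀ i : Fin D.rank, Keep hG F l (D.simple i.val)) : (data hG F).wl l = 1 := by
  have ax := axioms (F := F) hG hf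
  by_contra hne
  obtain ⟨i, hi⟩ := RootBN.Data.exists_descent ax hne
  obtain ⟨_, _, hp⟩ := h i
  exact hi hp

/-- No simple root kept: no root is kept. -/
theorem not_keep_of_simple {w0 : List ℕ} (hw : IsLongest D tabs w0) {l : List (Fin D.rank)}
    (h : ∀ i : Fin D.rank, ¬ Keep hG F l (D.simple i.val)) (r : ℕ) : ¬ Keep hG F l r := by
  have ax := axioms (F := F) hG hf
  obtain ⟨l0, hl0⟩ := exists_longest (F := F) hG hf hw
  have h1 : (data hG F).wl (l0 ++ l.reverse) = 1 := by
    by_contra hne
    obtain ⟨i, hi⟩ := RootBN.Data.exists_simp_neg ax _ hne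
    rw [RootBN.Data.wl_append, RootBN.Data.wl_reverse ax, Equiv.Perm.mul_apply, hl0, not_not] at hi
    exact h i ⟨hG.simple_lt i.2, (hf.2.2.2.2.1 i.val i.2).2.1, hi⟩
  rintro ⟨hr, hr', hp⟩
  rw [RootBN.Data.wl_append, RootBN.Data.wl_reverse ax] at h1
  have h2 : (data hG F).wl l0 (((data hG F).wl l)⁻¹ ⟨r, hr⟩) = ⟨r, hr⟩ := by
    have := congrArg (fun σ : Equiv.Perm (Fin D.nroots) => σ ⟨r, hr⟩) h1
    simpa using this
  have h3 : ¬ (data hG F).Pos ((data hG F).wl l0 (((data hG F).wl l)⁻¹ ⟨r, hr⟩)) := fun h4 =>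
    (hl0 _).1 h4 hp
  rw [h2] at h3
  exact h3 hr'

/-- An element fixing what it keeps cannot keep the reflection of a node in a neighbour it does not keep. -/
theorem no_middle {k : List ℤ} (hk : PosForm D k) {l : List (Fin D.rank)}
    (hfix : ∀ r (hr : r < D.nroots), Keep hG F l r → ((data hG F).wl l)⁻¹ ⟨r, hr⟩ = ⟨r, hr⟩)
    {a b : Fin D.rank} (hab : D.cartan b.val (D.simple a.val) < 0)
    (hr : Keep hG F l (D.reflectRoot b.val (D.simple a.val)))
    (hb : ¬ Keep hG F l (D.simple b.val)) : False := by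
  have ax := axioms (F := F) hG hf
  have hA := hG.simple_lt a.2
  have hB := hG.simple_lt b.2
  have hApos := (hf.2.2.2.2.1 a.val a.2).2.1
  have hBpos := (hf.2.2.2.2.1 b.val b.2).2.1
  have hr0 := hr
  obtain ⟨hR, hRpos, -⟩ := hr0
  set R : Fin D.nroots := ⟨_, hR⟩ with hRdef
  set A : Fin D.nroots := ⟨_, hA⟩ with hAdef
  set B : Fin D.nroots := ⟨_, hB⟩ with hBdef
  set c : ℤ := -D.cartan b.val (D.simple a.val) with hc
  have hc0 : 0 < c := by omega
  have haff : ∀ j < D.rank, D.cartan j R.val = D.cartan j A.val + c * D.cartan j B.val := fun j hj => by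
    simp only [hRdef, hAdef, hBdef, hc]
    rw [hG.cartan_reflectRoot b.2 hj hA]
    ring
  have htau := cartan_wl_affine (F := F) hG l.reverse haff
  rw [RootBN.Data.wl_reverse ax] at htau
  have e1 := cartanForm_affine (k := k) htau
  rw [hfix _ hR hr] at e1
  have e0 := cartanForm_affine (k := k) haff
  have fB : cartanForm D k (((data hG F).wl l)⁻¹ B).val < 0 :=
    (hk _ (Fin.is_lt _)).2 (not_le.1 fun h => hb ⟨hB, hBpos, h⟩)
  have fB0 : 0 < cartanForm D k B.val := (hk _ hB).1 hBpos
  have hcB : c * cartanForm D k (((data hG F).wl l)⁻¹ B).val < 0 := mul_neg_of_pos_of_neg hc0 fB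
  have hcB0 : 0 < c * cartanForm D k B.val := mul_pos hc0 fB0
  by_cases ha : Keep hG F l (D.simple a.val)
  · rw [hfix _ hA ha] at e1
    rw [e0] at e1
    linarith
  · have fA : cartanForm D k (((data hG F).wl l)⁻¹ A).val < 0 :=
      (hk _ (Fin.is_lt _)).2 (not_le.1 fun h => ha ⟨hA, hApos, h⟩)
    have fR : 0 < cartanForm D k R.val := (hk _ hR).1 hRpos
    linarith

end Cfsg.Agent.Chev.BNSetup
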