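/-
Ordered products over closed sets of positive roots, and linear forms on the root system.
-/
import Cfsg.Agent.Lib.Chev.WeylLinear
import Cfsg.Prelude.Def_LieChev

set_option autoImplicit false

namespace Cfsg.Agent.Chev.BNSetup

open Cfsg.Lie
open Cfsg.Agent.RootBN (Data)

variable {F : Type*} [Field F] {D : ChevalleyDatum}

/-- A real linear form on the roots, given by its values on the Cartan rows. -/
noncomputable def rootForm (D : ChevalleyDatum) : (Fin D.rank → ℝ) →ₗ[ℝ] EuclideanSpace ℝ (Fin D.nroots) where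
  toFun c := WithLp.toLp 2 fun r => ∑ i : Fin D.rank, c i * (D.cartan i.val r.val : ℝ)
  map_add' a b := by ext r; simp [add_mul, Finset.sum_add_distrib]
  map_smul' a b := by ext r; simp [Finset.mul_sum, mul_assoc]

/-- The vectors coming from linear forms. -/
noncomputable def linForms (D : ChevalleyDatum) : Submodule ℝ (EuclideanSpace ℝ (Fin D.nroots)) :=
  LinearMap.range (rootForm D)

theorem linForms_affine {v : EuclideanSpace ℝ (Fin D.nroots)} (hv : v ∈ linForms D) {a b d : Fin D.nroots}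
    {s t : ℤ} (h : ∀ j < D.rank, D.cartan j a.val = s * D.cartan j b.val + t * D.cartan j d.val) :
    v a = (s : ℝ) * v b + (t : ℝ) * v d := by
  obtain ⟨c, rfl⟩ := hv
  simp only [rootForm, LinearMap.coe_mk, AddHom.coe_mk, Finset.mul_sum]
  rw [← Finset.sum_add_distrib]
  refine Finset.sum_congr rfl fun i _ => ?_
  rw [h i.val i.2, Int.cast_add, Int.cast_mul, Int.cast_mul]
  ring

/-- Composition with a Weyl word. -/
noncomputable def moveForm (σ : Equiv.Perm (Fin D.nroots)) (v : EuclideanSpace ℝ (Fin D.nroots)) :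
    EuclideanSpace ℝ (Fin D.nroots) :=
  WithLp.toLp 2 fun r => v (σ r)

theorem moveForm_apply (σ : Equiv.Perm (Fin D.nroots)) (v : EuclideanSpace ℝ (Fin D.nroots)) (r) :
    moveForm σ v r = v (σ r) := rfl

theorem norm_moveForm (σ : Equiv.Perm (Fin D.nroots)) (v : EuclideanSpace ℝ (Fin D.nroots)) :
    ‖moveForm σ v‖ = ‖v‖ := by
  simp only [EuclideanSpace.norm_eq, moveForm_apply]
  rw [Equiv.sum_comp σ (fun i => ‖v i‖ ^ 2)]

/-- The positive roots are non-negative combinations of the fundamental ones, read off the coroots. -/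
def CorootFact (D : ChevalleyDatum) (M : List ℕ) : Prop :=
  (∀ i < D.rank, 1 ≤ M.getD i 0) ∧ ∀ r < D.nroots, ∃ m ∈ [1, 2, 3], ∀ j < D.rank,
    (m : ℤ) * D.cartan j r =
      ((List.range D.rank).map fun k =>
        (D.coroot.getD r #[]).getD k 0 * (M.getD k 0 : ℤ) * D.cartan j (D.simple k)).sum

instance decidableCorootFact (D : ChevalleyDatum) (M : List ℕ) : Decidable (CorootFact D M) :=
  inferInstanceAs (Decidable (_ ∧ _))

/-- The root terms of a commutator formula are positive combinations. -/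
theorem commTerms_cartan (hG : Good D) {r s : ℕ} (hr : r < D.nroots) (hs : s < D.nroots)
    {x : ℕ × ℤ × ℕ × ℕ} (hx : x ∈ D.commTerms r s) :
    1 ≤ x.2.2.1 ∧ 1 ≤ x.2.2.2 ∧ ∀ j < D.rank,
      D.cartan j x.1 = (x.2.2.1 : ℤ) * D.cartan j r + (x.2.2.2 : ℤ) * D.cartan j s := by
  have step : ∀ {a b i k : ℕ}, a < D.nroots → b < D.nroots → 1 ≤ i → D.chainRoot a b i = some k →
      ∀ j < D.rank, D.cartan j k = D.cartan j b + (i : ℤ) * D.cartan j a := by
    intro a b i k ha hb hi h j hj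
    simp only [ChevalleyDatum.chainRoot, Option.map_eq_some_iff] at h
    obtain ⟨q, hq, rfl⟩ := h
    have := hG.cartan_chain ha hq hj hb
    rwa [show i - 1 + 1 = i by omega] at this
  have lt : ∀ {a b i k : ℕ}, a < D.nroots → D.chainRoot a b i = some k → k < D.nroots := by
    intro a b i k ha h
    simp only [ChevalleyDatum.chainRoot, Option.map_eq_some_iff] at h
    obtain ⟨q, hq, rfl⟩ := h
    obtain ⟨c, hV⟩ := hG
    rw [hV.ent_eq ha] at hq
    exact hV.ent_lt ha (List.mem_of_getElem? hq)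
  simp only [ChevalleyDatum.commTerms, List.mem_filterMap, List.mem_cons, List.not_mem_nil, or_false,
    Option.map_eq_some_iff] at hx
  obtain ⟨y, hy, k, hk, rfl⟩ := hx
  dsimp only
  rcases hy with rfl | rfl | rfl | rfl | rfl | rfl | rfl <;> dsimp only at hk ⊢ <;>
    refine ⟨by omega, by omega, fun j hj => ?_⟩
  · have := step hr hs le_rfl hk j hj; omega
  · have := step hr hs (by omega) hk j hj; omega
  · have := step hs hr (by omega) hk j hj; omega
  · have := step hr hs (by omega) hk j hj; omega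
  · have := step hs hr (by omega) hk j hj; omega
  · obtain ⟨m, hm, hk⟩ := Option.bind_eq_some_iff.1 hk
    have h1 := step hr hs (by omega) hm j hj
    have h2 := step (lt hr hm) hs le_rfl hk j hj
    omega
  · obtain ⟨m, hm, hk⟩ := Option.bind_eq_some_iff.1 hk
    have h1 := step hs hr (by omega) hm j hj
    have h2 := step (lt hs hm) hr le_rfl hk j hj
    omega

variable (hG : Good D)

/-- A set of positive roots closed under the commutator formula. -/
def ClosedPos (D : ChevalleyDatum) (S : Set (Fin D.nroots)) : Prop :=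
  (∀ r ∈ S, D.nroots / 2 ≤ r.val) ∧
    ∀ r ∈ S, ∀ s ∈ S, ∀ x ∈ D.commTerms r.val s.val, ∀ h : x.1 < D.nroots, (⟨x.1, h⟩ : Fin D.nroots) ∈ S

theorem ClosedPos.inter {S T : Set (Fin D.nroots)} (hS : ClosedPos D S) (hT : ClosedPos D T) :
    ClosedPos D (S ∩ T) :=
  ⟨fun r hr => hS.1 r hr.1, fun r hr s hs x hx h =>
    ⟨hS.2 r hr.1 s hs.1 x hx h, hT.2 r hr.2 s hs.2 x hx h⟩⟩

/-- The group generated by the root elements of a set of roots. -/
def rootGen (F : Type*) [Field F] (S : Set (Fin D.nroots)) : Subgroup (GL D.Idx F) :=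
  Subgroup.closure {g | ∃ r ∈ S, ∃ t : F, g = xe hG r.val t}

theorem xe_mem_rootGen {S : Set (Fin D.nroots)} {r : Fin D.nroots} (hr : r ∈ S) (t : F) :
    xe hG r.val t ∈ rootGen hG F S := Subgroup.subset_closure ⟨r, hr, t, rfl⟩

theorem rootGen_mono {S T : Set (Fin D.nroots)} (h : S ⊆ T) : rootGen hG F S ≤ rootGen hG F T :=
  Subgroup.closure_mono fun _ ⟨r, hr, t, e⟩ => ⟨r, h hr, t, e⟩

/-- Conjugation by an element acting as `σ` moves the generators. -/
theorem conj_mem_rootGen {n : GL D.Idx F} {σ : Equiv.Perm (Fin D.nroots)} (hn : (data hG F).Acts n σ)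
    {S T : Set (Fin D.nroots)} (h : ∀ r ∈ S, σ r ∈ T) {g : GL D.Idx F} (hg : g ∈ rootGen hG F S) :
    n * g * n⁻¹ ∈ rootGen hG F T := by
  refine (show rootGen hG F S ≤ (rootGen hG F T).comap (MulAut.conj n).toMonoidHom from ?_) hg
  conv_lhs => rw [rootGen]
  rw [Subgroup.closure_le]
  rintro _ ⟨r, hr, t, rfl⟩
  have := (hn r (xe hG r.val t)).2 ((mem_rootSubgroup hG r.2).2 ⟨t, rfl⟩)
  obtain ⟨u, hu⟩ := (mem_rootSubgroup hG (σ r).2).1 this
  exact Subgroup.subset_closure ⟨σ r, h r hr, u, hu⟩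

variable {tabs simps : List ℕ} (hf : Facts D tabs simps)
include hf

/-- Conjugation of a positive root element by another, with the terms of the commutator formula. -/
theorem xe_conj_mem_terms {r s : ℕ} (hr : r < D.nroots) (hs : s < D.nroots) (hr' : D.nroots / 2 ≤ r)
    (hs' : D.nroots / 2 ≤ s) (t u : F) {K : Subgroup (GL D.Idx F)} (hsK : xe hG s u ∈ K)
    (hK : s ≠ r → ∀ x ∈ D.commTerms r s, x.1 < D.nroots → r < x.1 → s < x.1 → ∀ v : F, xe hG x.1 v ∈ K) :
    xe hG r t * xe hG s u * (xe hG r t)⁻¹ ∈ K := by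
  by_cases hrs : s = r
  · subst hrs
    rwa [xe_inv hG hr, xe_add hG hr, xe_add hG hr, show t + u + -t = u by ring]
  have hne : s ≠ D.neg r := by rw [neg_eq hf hr]; have := hf.1; omega
  have h := hG.comm_formula hr hs hrs hne (-t) u
  have hw : ∀ wd : List (ℕ × F), (∀ l ∈ wd, l.1 < D.nroots ∧ ∀ v : F, xe hG l.1 v ∈ K) →
      ∃ g : GL D.Idx F, g ∈ K ∧ (g : Matrix D.Idx D.Idx F) = D.wordMat F wd := by
    intro wd
    induction wd with
    | nil => intro _; exact ⟨1, K.one_mem, by simp [ChevalleyDatum.wordMat]⟩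
    | cons l wd ih =>
      intro hl
      obtain ⟨g, hg, he⟩ := ih fun x hx => hl x (List.mem_cons_of_mem _ hx)
      obtain ⟨h1, h2⟩ := hl l List.mem_cons_self
      exact ⟨xe hG l.1 l.2 * g, K.mul_mem (h2 _) hg, by
        simp [ChevalleyDatum.wordMat, coe_xe, he]⟩
  obtain ⟨g, hg, hge⟩ := hw (D.commWord F r s (-t) u) (fun l hl => by
    simp only [ChevalleyDatum.commWord, List.mem_map] at hl
    obtain ⟨x, hx, rfl⟩ := hl
    obtain ⟨h1, h2, h3⟩ := commTerms_pos hG hf hr hs hr' hs' hx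
    exact ⟨h1, hK hrs x hx h1 h2 h3⟩)
  have e : xe hG s u * (xe hG r t)⁻¹ = (xe hG r t)⁻¹ * xe hG s u * g := by
    rw [xe_inv hG hr]
    exact Units.ext (by simp [coe_xe, h, hge])
  rw [mul_assoc, e, mul_assoc, mul_inv_cancel_left]
  exact K.mul_mem hsK hg

/-- The elements of a closed set are ordered products over it. -/
theorem exists_prodFrom_rootGen {S : Set (Fin D.nroots)} (hS : ClosedPos D S) :
    ∀ {k m : ℕ}, k + m = D.nroots → D.nroots / 2 ≤ k →
      ∀ g ∈ rootGen hG F {r | r ∈ S ∧ k ≤ r.val}, ∃ t : ℕ → F,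
        (∀ j, t j ≠ 0 → k ≤ j ∧ ∃ hj : j < D.nroots, (⟨j, hj⟩ : Fin D.nroots) ∈ S) ∧
          g = prodFrom hG F t k m := by
  intro k m
  induction m generalizing k with
  | zero =>
    intro h _ g hg
    refine ⟨fun _ => 0, fun j hj => absurd rfl hj, ?_⟩
    show g = 1
    have hle : rootGen hG F {r | r ∈ S ∧ k ≤ r.val} ≤ ⊥ := by
      rw [rootGen, Subgroup.closure_le]
      rintro _ ⟨r, ⟨-, hr⟩, t, rfl⟩
      exact absurd r.2 (by omega)
    exact Subgroup.mem_bot.1 (hle hg)
  | succ m ih =>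
    intro h hk g hg
    have hkn : k < D.nroots := by omega
    by_cases hkS : (⟨k, hkn⟩ : Fin D.nroots) ∈ S
    swap
    · have hle : rootGen hG F {r | r ∈ S ∧ k ≤ r.val} ≤ rootGen hG F {r | r ∈ S ∧ k + 1 ≤ r.val} :=
        rootGen_mono hG fun r hr => ⟨hr.1, by
          rcases eq_or_lt_of_le hr.2 with e | e
          · exact absurd hr.1 (by rwa [show r = (⟨k, hkn⟩ : Fin D.nroots) from Fin.ext e.symm])
          · exact e⟩
      obtain ⟨t, ht, rfl⟩ := ih (by omega) (by omega) g (hle hg)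
      refine ⟨t, fun j hj => ⟨by have := (ht j hj).1; omega, (ht j hj).2⟩, ?_⟩
      have h0 : t k = 0 := by
        by_contra hne
        have := (ht k hne).1
        omega
      rw [show prodFrom hG F t k (m + 1) = xe hG k (t k) * prodFrom hG F t (k + 1) m from rfl, h0,
        xe_zero hG hkn, one_mul]
    set K := rootGen hG F {r | r ∈ S ∧ k + 1 ≤ r.val} with hKdef
    have conj : ∀ t : F, ∀ v ∈ K, xe hG k t * v * (xe hG k t)⁻¹ ∈ K := by
      intro t v hv
      refine (show K ≤ K.comap (MulAut.conj (xe hG k t)).toMonoidHom from ?_) hv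
      conv_lhs => rw [hKdef, rootGen]
      rw [Subgroup.closure_le]
      rintro _ ⟨s, ⟨hsS, hks⟩, u, rfl⟩
      exact xe_conj_mem_terms hG hf hkn s.2 hk (hS.1 s hsS) t u (xe_mem_rootGen hG (show s ∈ {r : Fin D.nroots | r ∈ S ∧ k + 1 ≤ r.val} from ⟨hsS, hks⟩) u)
        fun _ x hx hlt h1 _ v => xe_mem_rootGen hG (r := (⟨x.1, hlt⟩ : Fin D.nroots))
          (show (⟨x.1, hlt⟩ : Fin D.nroots) ∈ {r : Fin D.nroots | r ∈ S ∧ k + 1 ≤ r.val} from
            ⟨hS.2 _ hkS s hsS x hx hlt, h1⟩) v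
    have split : ∀ g ∈ rootGen hG F {r | r ∈ S ∧ k ≤ r.val}, ∃ t, ∃ v ∈ K, g = xe hG k t * v := by
      intro g hg
      induction hg using Subgroup.closure_induction with
      | mem x hx =>
        obtain ⟨r, ⟨hrS, hkr⟩, t, rfl⟩ := hx
        rcases eq_or_lt_of_le hkr with e | e
        · exact ⟨t, 1, Subgroup.one_mem _, by rw [e, mul_one]⟩
        · exact ⟨0, _, xe_mem_rootGen hG (S := {r | r ∈ S ∧ k + 1 ≤ r.val}) (r := r) ⟨hrS, e⟩ t, by rw [xe_zero hG hkn, one_mul]⟩
      | one => exact ⟨0, 1, Subgroup.one_mem _, by rw [xe_zero hG hkn, one_mul]⟩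
      | mul x y _ _ ihx ihy =>
        obtain ⟨t, v, hv, rfl⟩ := ihx
        obtain ⟨u, w, hw, rfl⟩ := ihy
        refine ⟨t + u, (xe hG k u)⁻¹ * v * xe hG k u * w, Subgroup.mul_mem _ ?_ hw, ?_⟩
        · have := conj (-u) v hv
          rwa [← xe_inv hG hkn, inv_inv] at this
        · rw [← xe_add hG hkn]; group
      | inv x _ ih =>
        obtain ⟨t, v, hv, rfl⟩ := ih
        refine ⟨-t, xe hG k t * v⁻¹ * (xe hG k t)⁻¹, conj t _ (Subgroup.inv_mem _ hv), ?_⟩
        rw [← xe_inv hG hkn]; group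
    obtain ⟨a, v, hv, rfl⟩ := split g hg
    obtain ⟨t, ht, rfl⟩ := ih (by omega) (by omega) v hv
    refine ⟨Function.update t k a, fun j hj => ?_, ?_⟩
    · rcases eq_or_ne j k with rfl | hne
      · exact ⟨le_rfl, hkn, hkS⟩
      · rw [Function.update_of_ne hne] at hj
        exact ⟨by have := (ht j hj).1; omega, (ht j hj).2⟩
    · have hc : ∀ (m k' : ℕ), k < k' →
          prodFrom hG F (Function.update t k a) k' m = prodFrom hG F t k' m := by
        intro m
        induction m with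
        | zero => intros; rfl
        | succ m ih' =>
          intro k' hk'
          rw [prodFrom, prodFrom, Function.update_of_ne (by omega), ih' (k' + 1) (by omega)]
      rw [show prodFrom hG F (Function.update t k a) k (m + 1) = xe hG k (Function.update t k a k) *
        prodFrom hG F (Function.update t k a) (k + 1) m from rfl, Function.update_self, hc m (k + 1) (by omega)]

omit hf in
theorem rootGen_le_U {S : Set (Fin D.nroots)} (hS : ∀ r ∈ S, D.nroots / 2 ≤ r.val) :
    rootGen hG F S ≤ (data hG F).U := by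
  rw [rootGen, Subgroup.closure_le]
  rintro _ ⟨r, hr, t, rfl⟩
  exact RootBN.Data.X_le_U (D := data hG F) (r := r) (hS r hr) ((mem_rootSubgroup hG r.2).2 ⟨t, rfl⟩)

/-- Closed sets: intersection of the groups is the group of the intersection. -/
theorem rootGen_inter {S T : Set (Fin D.nroots)} (hS : ClosedPos D S) (hT : ClosedPos D T) {g : GL D.Idx F}
    (h1 : g ∈ rootGen hG F S) (h2 : g ∈ rootGen hG F T) : g ∈ rootGen hG F (S ∩ T) := by
  have hN : D.nroots / 2 + D.nroots / 2 = D.nroots := by have := hf.1; omega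
  have key : ∀ {S : Set (Fin D.nroots)}, ClosedPos D S → ∀ {g : GL D.Idx F}, g ∈ rootGen hG F S →
      ∃ t : ℕ → F, (∀ j, t j ≠ 0 → ∃ hj : j < D.nroots, (⟨j, hj⟩ : Fin D.nroots) ∈ S) ∧
        g = prodFrom hG F t (D.nroots / 2) (D.nroots / 2) := by
    intro S hS g hg
    obtain ⟨t, ht, e⟩ := exists_prodFrom_rootGen hG hf hS hN le_rfl g
      (rootGen_mono hG (T := {r | r ∈ S ∧ D.nroots / 2 ≤ r.val}) (fun r hr => ⟨hr, hS.1 r hr⟩) hg)
    exact ⟨t, fun j hj => (ht j hj).2, e⟩
  obtain ⟨t, ht, rfl⟩ := key hS h1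
  obtain ⟨u, hu, e⟩ := key hT h2
  refine prodFrom_mem_of hG hN.le fun r hr1 hr2 hne => ?_
  have hr : r < D.nroots := by omega
  have hu0 : u r ≠ 0 := by rwa [← prodFrom_inj hG hf hN le_rfl e r hr1 hr]
  exact xe_mem_rootGen hG (S := S ∩ T) (r := (⟨r, hr⟩ : Fin D.nroots))
    ⟨(ht r hne).choose_spec, (hu r hu0).choose_spec⟩ (t r)

end Cfsg.Agent.Chev.BNSetup
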