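/-
The theorem of Borel and Tits for a Chevalley group over a finite field: the normaliser of a non-trivial
unipotent subgroup lies in a proper parabolic subgroup having it in its radical. The parabolic subgroup is that
of the shortest coweight which is at least one on the subgroup; it is unique by the parallelogram law.
-/
import Cfsg.Agent.Lib.Chev.RootProducts
import Cfsg.Agent.Lib.Chev.Sylow
import Mathlib.Analysis.InnerProductSpace.EuclideanDist

set_option autoImplicit false

namespace Cfsg.Agent.Chev.BNSetup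

open Cfsg.Lie
open Cfsg.Agent.RootBN (Data)

variable {F : Type*} [Field F] {D : ChevalleyDatum}

/-- Non-negative on the fundamental roots. -/
def IsDominant (hG : Good D) (v : EuclideanSpace ℝ (Fin D.nroots)) : Prop :=
  ∀ i : Fin D.rank, 0 ≤ v ⟨D.simple i.val, hG.simple_lt i.2⟩

/-- `v` is at least one on the conjugate `g⁻¹ R g`. -/
def Feasible (hG : Good D) (R : Subgroup (GL D.Idx F)) (g : GL D.Idx F)
    (v : EuclideanSpace ℝ (Fin D.nroots)) : Prop :=
  ∀ x ∈ R, g⁻¹ * x * g ∈ rootGen hG F {r | 1 ≤ v r}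

variable (hG : Good D)
include hG

theorem cartan_neg {j r : ℕ} (hj : j < D.rank) (hr : r < D.nroots) : D.cartan j (D.neg r) = -D.cartan j r := by
  obtain ⟨c, hV⟩ := hG
  rw [hV.ng_eq hr, hV.A_eq hj (hV.ng_lt hr), hV.A_eq hj hr]
  exact ((hV.base'.1 r hr).2.2.2.1 j hj).1

theorem linForms_neg {v : EuclideanSpace ℝ (Fin D.nroots)} (hv : v ∈ linForms D) (r : Fin D.nroots) :
    v ⟨D.neg r.val, hG.neg_lt r.2⟩ = - v r := by
  have := linForms_affine hv (a := ⟨D.neg r.val, hG.neg_lt r.2⟩) (b := r) (d := r) (s := -1) (t := 0)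
    (fun j hj => by rw [cartan_neg hG hj r.2]; ring)
  simpa using this

theorem moveForm_wl_mem (l : List (Fin D.rank)) {v : EuclideanSpace ℝ (Fin D.nroots)}
    (hv : v ∈ linForms D) : moveForm ((data hG F).wl l) v ∈ linForms D := by
  induction l generalizing v with
  | nil =>
    rwa [RootBN.Data.wl_nil, show moveForm 1 v = v from PiLp.ext fun r => rfl]
  | cons i l ih =>
    have h1 : moveForm ((data hG F).refl i) v ∈ linForms D := by
      obtain ⟨c, rfl⟩ := hv
      refine ⟨Function.update c i (c i - ∑ j : Fin D.rank, c j * (D.cartan j.val (D.simple i.val) : ℝ)),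
        PiLp.ext fun r => ?_⟩
      simp only [rootForm, LinearMap.coe_mk, AddHom.coe_mk, moveForm_apply, data_refl]
      have e : ∀ j : Fin D.rank, (D.cartan j.val (D.reflectRoot i.val r.val) : ℝ) =
          (D.cartan j.val r.val : ℝ) - (D.cartan i.val r.val : ℝ) * (D.cartan j.val (D.simple i.val) : ℝ) :=
        fun j => by rw [hG.cartan_reflectRoot i.2 j.2 r.2, Int.cast_sub, Int.cast_mul]
      have hupd : ∀ (S : ℝ) (j : Fin D.rank),
          Function.update c i (c i - S) j * (D.cartan j.val r.val : ℝ) =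
            c j * (D.cartan j.val r.val : ℝ) - if j = i then S * (D.cartan j.val r.val : ℝ) else 0 := by
        intro S j
        by_cases hj : j = i
        · subst hj
          rw [Function.update_self, if_pos rfl]
          ring
        · rw [Function.update_of_ne hj, if_neg hj, sub_zero]
      simp only [e, hupd, mul_sub, Finset.sum_sub_distrib, Finset.sum_ite_eq', Finset.mem_univ, if_true,
        Finset.sum_mul]
      congr 1
      exact Finset.sum_congr rfl fun j _ => by ring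
    have h2 := ih h1
    rwa [show moveForm ((data hG F).wl (i :: l)) v =
      moveForm ((data hG F).wl l) (moveForm ((data hG F).refl i) v) from PiLp.ext fun r => by
        simp [moveForm_apply]]

variable {tabs simps : List ℕ} (hf : Facts D tabs simps) {M : List ℕ} (hM : CorootFact D M)

omit hG in
include hM in
theorem exists_coroot_sum {v : EuclideanSpace ℝ (Fin D.nroots)} (hv : v ∈ linForms D) (hG : Good D)
    (r : Fin D.nroots) : ∃ m : ℕ, 1 ≤ m ∧ m ≤ 3 ∧ (m : ℝ) * v r = ∑ k : Fin D.rank,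
      (((D.coroot.getD r.val #[]).getD k.val 0 : ℤ) : ℝ) * (M.getD k.val 0 : ℝ) *
        v ⟨D.simple k.val, hG.simple_lt k.2⟩ := by
  obtain ⟨c, rfl⟩ := hv
  obtain ⟨m, hm, hsum⟩ := hM.2 r.val r.2
  simp only [List.mem_cons, List.not_mem_nil, or_false] at hm
  refine ⟨m.toNat, by omega, by omega, ?_⟩
  rw [show ((m.toNat : ℕ) : ℝ) = ((m : ℤ) : ℝ) by
    rw [← Int.cast_natCast, Int.toNat_of_nonneg (by omega)]]
  simp only [rootForm, LinearMap.coe_mk, AddHom.coe_mk, Finset.mul_sum]
  rw [Finset.sum_comm]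
  refine Finset.sum_congr rfl fun i _ => ?_
  have h := congrArg (Int.cast : ℤ → ℝ) (hsum i.val i.2)
  rw [list_range_sum, Finset.sum_range (f := fun k => (D.coroot.getD r.val #[]).getD k 0 * (M.getD k 0 : ℤ) *
    D.cartan i.val (D.simple k))] at h
  push_cast at h
  calc ((m : ℤ) : ℝ) * (c i * (D.cartan i.val r.val : ℝ)) = c i * (((m : ℤ) : ℝ) * (D.cartan i.val r.val : ℝ)) := by ring
    _ = _ := by
      rw [h, Finset.mul_sum]
      exact Finset.sum_congr rfl fun k _ => by ring

include hf hM in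
theorem dominant_sign {v : EuclideanSpace ℝ (Fin D.nroots)} (hv : v ∈ linForms D)
    (hd : IsDominant hG v) (r : Fin D.nroots) :
    (D.nroots / 2 ≤ r.val → 0 ≤ v r) ∧ (1 ≤ v r → D.nroots / 2 ≤ r.val) := by
  have hkey : ∀ r : Fin D.nroots, D.nroots / 2 ≤ r.val → 0 ≤ v r := by
    intro r hr
    obtain ⟨m, hm, -, e⟩ := exists_coroot_sum hM hv hG r
    have hm' : (0 : ℝ) < m := by exact_mod_cast hm
    refine nonneg_of_mul_nonneg_right ?_ hm'
    rw [e]
    refine Finset.sum_nonneg fun k _ => mul_nonneg (mul_nonneg ?_ (Nat.cast_nonneg _)) (hd k)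
    have hsz := (hf.2.2.1 r.val r.2).2.2.2.2
    refine Int.cast_nonneg ?_
    have hpos := ((pos_iff hf r.2).2 hr).2
    have hk : k.val < (D.coroot.getD r.val #[]).size := by rw [hsz]; exact k.2
    rw [Array.getD_eq_getD_getElem?, Array.getElem?_eq_getElem hk]
    exact hpos _ (Array.mem_toList_iff.2 (Array.getElem_mem hk))
  refine ⟨hkey r, fun h => ?_⟩
  by_contra hneg
  have h1 := hkey ⟨D.neg r.val, hG.neg_lt r.2⟩ (by
    show D.nroots / 2 ≤ D.neg r.val
    rw [neg_eq hf r.2]; have := r.2; have := hf.1; omega)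
  rw [linForms_neg hG hv] at h1
  linarith

include hf in
theorem exists_dominant {v : EuclideanSpace ℝ (Fin D.nroots)} (hv : v ∈ linForms D) :
    ∃ l : List (Fin D.rank), IsDominant hG (moveForm ((data hG F).wl l) v) := by
  classical
  have ax := axioms (F := F) hG hf
  set P : Finset (Fin D.nroots) := Finset.univ.filter fun r => D.nroots / 2 ≤ r.val with hP
  obtain ⟨σ, hσ, hmax⟩ := Finset.exists_max_image (data hG F).weyl (fun σ => ∑ r ∈ P, v (σ r))
    ⟨1, RootBN.Data.mem_weyl.2 ⟨[], RootBN.Data.wl_nil⟩⟩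
  obtain ⟨l, rfl⟩ := RootBN.Data.mem_weyl.1 hσ
  refine ⟨l, fun i => ?_⟩
  rw [moveForm_apply]
  set a : Fin D.nroots := (data hG F).simp i with ha
  have haP : a ∈ P := Finset.mem_filter.2 ⟨Finset.mem_univ _, ax.pos_simp i⟩
  have h2 := hmax _ (RootBN.Data.mem_weyl.2 ⟨l ++ [i], rfl⟩)
  simp only [RootBN.Data.wl_append, RootBN.Data.wl_cons, RootBN.Data.wl_nil, mul_one, Equiv.Perm.mul_apply] at h2
  rw [← Finset.add_sum_erase P _ haP, ← Finset.add_sum_erase P _ haP] at h2
  have he : ∑ r ∈ P.erase a, v ((data hG F).wl l ((data hG F).refl i r)) =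
      ∑ r ∈ P.erase a, v ((data hG F).wl l r) := by
    refine Finset.sum_nbij' ((data hG F).refl i) ((data hG F).refl i) ?_ ?_ (fun r _ => ax.refl_refl i r)
      (fun r _ => ax.refl_refl i r) (fun r _ => rfl)
    all_goals
      intro r hr
      obtain ⟨hne, hr⟩ := Finset.mem_erase.1 hr
      have hpos : (data hG F).Pos r := (Finset.mem_filter.1 hr).2
      refine Finset.mem_erase.2 ⟨fun e => ?_, Finset.mem_filter.2 ⟨Finset.mem_univ _, ax.refl_pos i r hpos hne⟩⟩
      have h3 := congrArg ((data hG F).refl i) e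
      rw [ax.refl_refl, ha, ax.refl_simp] at h3
      exact RootBN.Data.not_pos_opp_simp ax i (h3 ▸ hpos)
  rw [he, ha, ax.refl_simp, RootBN.Data.wl_opp ax] at h2
  have h4 : v ((data hG F).opp ((data hG F).wl l ((data hG F).simp i))) =
      - v ((data hG F).wl l ((data hG F).simp i)) := linForms_neg hG hv _
  rw [h4] at h2
  show 0 ≤ v ((data hG F).wl l ((data hG F).simp i))
  linarith

include hf in
theorem closedPos_ge {v : EuclideanSpace ℝ (Fin D.nroots)} (hv : v ∈ linForms D) {a : ℝ} (ha : 0 < a) :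
    ClosedPos D {r : Fin D.nroots | D.nroots / 2 ≤ r.val ∧ a ≤ v r} := by
  refine ⟨fun r hr => hr.1, fun r hr s hs x hx h => ⟨?_, ?_⟩⟩
  · have := (commTerms_pos hG hf r.2 s.2 hr.1 hs.1 hx).2.1
    have := hr.1
    show D.nroots / 2 ≤ x.1
    omega
  · obtain ⟨h1, h2, hlin⟩ := commTerms_cartan hG r.2 s.2 hx
    rw [linForms_affine hv (a := ⟨x.1, h⟩) (b := r) (d := s) (s := x.2.2.1) (t := x.2.2.2) hlin]
    have hi : (1 : ℝ) ≤ ((x.2.2.1 : ℤ) : ℝ) := by exact_mod_cast h1
    have hj : (0 : ℝ) ≤ ((x.2.2.2 : ℤ) : ℝ) := by positivity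
    have := hr.2
    have := hs.2
    nlinarith

include hf hM in
theorem borel_conj_rootGen {v : EuclideanSpace ℝ (Fin D.nroots)} (hv : v ∈ linForms D)
    (hd : IsDominant hG v) {b : GL D.Idx F} (hb : b ∈ (data hG F).B) {g : GL D.Idx F}
    (hg : g ∈ rootGen hG F {r | 1 ≤ v r}) : b * g * b⁻¹ ∈ rootGen hG F {r | 1 ≤ v r} := by
  set K := rootGen hG F {r | 1 ≤ v r} with hK
  have hx : ∀ (k : Fin D.nroots), D.nroots / 2 ≤ k.val → ∀ t : F, ∀ g ∈ K,
      xe hG k.val t * g * (xe hG k.val t)⁻¹ ∈ K := by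
    intro k hk t g hg
    refine (show K ≤ K.comap (MulAut.conj (xe hG k.val t)).toMonoidHom from ?_) hg
    conv_lhs => rw [hK, rootGen]
    rw [Subgroup.closure_le]
    rintro _ ⟨s, hs, u, rfl⟩
    have hs' := (dominant_sign hG hf hM hv hd s).2 hs
    refine xe_conj_mem_terms hG hf k.2 s.2 hk hs' t u (xe_mem_rootGen hG hs u) fun _ x hx hlt _ _ w => ?_
    refine xe_mem_rootGen hG (r := (⟨x.1, hlt⟩ : Fin D.nroots)) ?_ w
    obtain ⟨h1, h2, hlin⟩ := commTerms_cartan hG k.2 s.2 hx
    show 1 ≤ v ⟨x.1, hlt⟩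
    rw [linForms_affine hv (a := ⟨x.1, hlt⟩) (b := k) (d := s) (s := x.2.2.1) (t := x.2.2.2) hlin]
    have hi : (0 : ℝ) ≤ ((x.2.2.1 : ℤ) : ℝ) := by positivity
    have hj : (1 : ℝ) ≤ ((x.2.2.2 : ℤ) : ℝ) := by exact_mod_cast h2
    have := (dominant_sign hG hf hM hv hd k).1 hk
    have : (1 : ℝ) ≤ v s := hs
    nlinarith
  have hH : ∀ h ∈ D.diagonalSubgroup F, ∀ g ∈ K, h * g * h⁻¹ ∈ K := fun h hh g hg =>
    conj_mem_rootGen hG (RootBN.Data.acts_H (axioms hG hf) hh) (fun r hr => hr) hg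
  rw [data_B hG hf] at hb
  obtain ⟨u0, hu0, h, hh, rfl⟩ := borel_decomp hG hf hb
  have hU : ∀ u ∈ D.posUnipotent F, ∀ g ∈ K, u * g * u⁻¹ ∈ K := by
    intro u hu
    rw [← Uge_eq_U hG hf] at hu
    induction hu using Subgroup.closure_induction_left with
    | one => intro g hg; simpa using hg
    | mul_left x hx' z _ ih =>
      obtain ⟨r, t, hr, hkr, rfl⟩ := hx'
      intro g hg
      have := hx ⟨r, hr⟩ hkr t _ (ih g hg)
      simpa [mul_assoc] using this
    | inv_mul_cancel x hx' z _ ih =>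
      obtain ⟨r, t, hr, hkr, rfl⟩ := hx'
      intro g hg
      rw [xe_inv hG hr]
      have := hx ⟨r, hr⟩ hkr (-t) _ (ih g hg)
      simpa [mul_assoc] using this
  have := hU u0 hu0 _ (hH h hh g hg)
  simpa [mul_assoc] using this

include hf hM in
/-- A monomial element fixing a dominant form lies in its parabolic subgroup. -/
theorem nw_mem_parabolic {v : EuclideanSpace ℝ (Fin D.nroots)} (hv : v ∈ linForms D)
    (hd : IsDominant hG v) (l : List (Fin D.rank)) (h : moveForm ((data hG F).wl l) v = v) :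
    (data hG F).nw l ∈ D.parabolicSubgroup F
      {i | ∃ hi : i < D.rank, v ⟨D.simple i, hG.simple_lt hi⟩ = 0} := by
  have ax := axioms (F := F) hG hf
  suffices key : ∀ n, ∀ l : List (Fin D.rank), (data hG F).inv ((data hG F).wl l) = n →
      moveForm ((data hG F).wl l) v = v → (data hG F).nw l ∈ D.parabolicSubgroup F
        {i | ∃ hi : i < D.rank, v ⟨D.simple i, hG.simple_lt hi⟩ = 0} from key _ l rfl h
  intro n
  induction n with
  | zero =>
    intro l hl _
    refine Subgroup.mem_sup_left (Subgroup.mem_sup_right ?_)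
    refine RootBN.Data.mem_H_of_pos_preserving ax (RootBN.Data.nw_mem_N l) (RootBN.Data.acts_nw ax l)
      fun r hr => ?_
    rw [RootBN.Data.inv_eq_zero ax l hl]
    simpa using hr
  | succ n ih =>
    intro l hl hfix
    have hne : (data hG F).wl l ≠ 1 := fun he => by rw [he, RootBN.Data.inv_one] at hl; omega
    obtain ⟨i, hi⟩ := RootBN.Data.exists_simp_neg ax l hne
    have e1 : v ((data hG F).wl l ((data hG F).simp i)) = v ((data hG F).simp i) :=
      congrArg (fun w : EuclideanSpace ℝ (Fin D.nroots) => w ((data hG F).simp i)) hfix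
    have h0 : v ((data hG F).simp i) = 0 := by
      refine le_antisymm ?_ (hd i)
      rw [← e1]
      have h1 := (dominant_sign hG hf hM hv hd ((data hG F).opp ((data hG F).wl l ((data hG F).simp i)))).1
        ((ax.pos_opp _).2 hi)
      have h2 : v ((data hG F).opp ((data hG F).wl l ((data hG F).simp i))) =
          - v ((data hG F).wl l ((data hG F).simp i)) := linForms_neg hG hv _
      linarith
    have hfix' : moveForm ((data hG F).wl (l ++ [i])) v = v := by
      refine PiLp.ext fun r => ?_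
      simp only [moveForm_apply, RootBN.Data.wl_append, RootBN.Data.wl_cons, RootBN.Data.wl_nil, mul_one,
        Equiv.Perm.mul_apply]
      rw [show v ((data hG F).wl l ((data hG F).refl i r)) = v ((data hG F).refl i r) from
        congrArg (fun w : EuclideanSpace ℝ (Fin D.nroots) => w ((data hG F).refl i r)) hfix]
      rw [linForms_affine hv (a := (data hG F).refl i r) (b := r) (d := (data hG F).simp i)
        (s := 1) (t := -D.cartan i.val r.val) (fun j hj => by
          rw [data_refl, hG.cartan_reflectRoot i.2 hj r.2]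
          show _ = _ + _ * D.cartan j (D.simple i.val)
          ring), h0]
      simp
    have hinv : (data hG F).inv ((data hG F).wl (l ++ [i])) = n := by
      have := RootBN.Data.inv_mul_refl_neg ax (σ := (data hG F).wl l) (RootBN.Data.wl_opp ax l) hi
      rw [RootBN.Data.wl_append, RootBN.Data.wl_cons, RootBN.Data.wl_nil, mul_one]
      omega
    have e : (data hG F).nw l = (data hG F).nw (l ++ [i]) * ((data hG F).nn i)⁻¹ := by
      rw [RootBN.Data.nw_append, RootBN.Data.nw_cons, RootBN.Data.nw_nil, mul_one, mul_inv_cancel_right]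
    rw [e]
    refine Subgroup.mul_mem _ (ih _ hinv hfix') (Subgroup.inv_mem _ (Subgroup.mem_sup_right
      (Subgroup.subset_closure ⟨i.val, ⟨i.2, h0⟩, i.2, coe_ne' hG _ _⟩)))

include hf in
/-- Intersections of the group of a form with its conjugate by a monomial element. -/
theorem rootGen_inter_conj {v : EuclideanSpace ℝ (Fin D.nroots)} (hv : v ∈ linForms D)
    (hpos : ∀ r : Fin D.nroots, 1 ≤ v r → D.nroots / 2 ≤ r.val) (hn : NegTri D) [Fintype F]
    {k : List ℤ} (hk : PosForm D k) (l : List (Fin D.rank)) {g : GL D.Idx F}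
    (h1 : g ∈ rootGen hG F {r | 1 ≤ v r})
    (h2 : ((data hG F).nw l)⁻¹ * g * (data hG F).nw l ∈ rootGen hG F {r | 1 ≤ v r}) :
    g ∈ rootGen hG F {r | 1 ≤ v r ∧ 1 ≤ v (((data hG F).wl l)⁻¹ r)} := by
  have ax := axioms (F := F) hG hf
  set σ := (data hG F).wl l with hσ
  have hS : ClosedPos D {r : Fin D.nroots | 1 ≤ v r} := by
    have : {r : Fin D.nroots | 1 ≤ v r} = {r | D.nroots / 2 ≤ r.val ∧ 1 ≤ v r} :=
      Set.ext fun r => ⟨fun h => ⟨hpos r h, h⟩, fun h => h.2⟩
    rw [this]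
    exact closedPos_ge hG hf hv one_pos
  -- the integral positive form
  set w : EuclideanSpace ℝ (Fin D.nroots) := rootForm D fun i => (k.getD i.val 0 : ℝ) with hw
  have hwE : w ∈ linForms D := ⟨_, rfl⟩
  have hwv : ∀ r : Fin D.nroots, w r = (cartanForm D k r.val : ℝ) := fun r => by
    simp only [hw, rootForm, LinearMap.coe_mk, AddHom.coe_mk, cartanForm, Finset.sum_range, Int.cast_sum,
      Int.cast_mul]
  have hwpos : ∀ r : Fin D.nroots, D.nroots / 2 ≤ r.val ↔ 1 ≤ w r := fun r => by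
    rw [hwv]
    constructor
    · intro h
      have : ((1 : ℤ) : ℝ) ≤ (cartanForm D k r.val : ℝ) := Int.cast_le.2 ((hk r.val r.2).1 h)
      simpa using this
    · intro h
      by_contra hc
      have := (hk r.val r.2).2 (not_le.1 hc)
      have : (cartanForm D k r.val : ℝ) < 0 := by exact_mod_cast this
      linarith
  set T : Set (Fin D.nroots) := {r | D.nroots / 2 ≤ r.val ∧ D.nroots / 2 ≤ (σ r).val} with hT
  have hTc : ClosedPos D T := by
    have : T = {r : Fin D.nroots | D.nroots / 2 ≤ r.val ∧ 1 ≤ moveForm σ w r} :=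
      Set.ext fun r => and_congr_right fun _ => hwpos (σ r)
    rw [this]
    exact closedPos_ge hG hf (moveForm_wl_mem hG l hwE) one_pos
  have hgA : g ∈ Inter hG F l := (mem_Inter hG).2
    ⟨rootGen_le_U hG (fun r hr => hpos r hr) h1, rootGen_le_U hG (fun r hr => hpos r hr) h2⟩
  obtain ⟨t, ht, e⟩ := exists_prodFrom_Inter hG hf hn l hgA
  have hN : D.nroots / 2 + D.nroots / 2 = D.nroots := by have := hf.1; omega
  have hgen : g ∈ rootGen hG F {r | D.nroots / 2 ≤ r.val ∧ D.nroots / 2 ≤ (σ⁻¹ r).val} := by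
    rw [e]
    refine prodFrom_mem_of hG hN.le fun r hr1 hr2 hne => ?_
    obtain ⟨hr, hr', hp⟩ := ht r hne
    exact xe_mem_rootGen hG (S := {r | D.nroots / 2 ≤ r.val ∧ D.nroots / 2 ≤ (σ⁻¹ r).val})
      (r := (⟨r, hr⟩ : Fin D.nroots)) ⟨hr', hp⟩ (t r)
  have hy : ((data hG F).nw l)⁻¹ * g * (data hG F).nw l ∈ rootGen hG F T := by
    have := conj_mem_rootGen hG (RootBN.Data.acts_nw ax l).inv (T := T)
      (fun r hr => ⟨hr.2, by
        rw [show σ (((data hG F).wl l)⁻¹ r) = r from Equiv.apply_symm_apply _ r]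
        exact hr.1⟩) hgen
    rwa [inv_inv] at this
  have hy2 := rootGen_inter hG hf hS hTc h2 hy
  set S'' : Set (Fin D.nroots) := {r | D.nroots / 2 ≤ r.val ∧ 1 ≤ v (σ⁻¹ r)} with hS''
  have hS''c : ClosedPos D S'' := by
    have := closedPos_ge hG hf (moveForm_wl_mem hG (F := F) l.reverse hv) one_pos
    rwa [RootBN.Data.wl_reverse ax] at this
  have hg2 : g ∈ rootGen hG F S'' := by
    have := conj_mem_rootGen hG (RootBN.Data.acts_nw ax l) (T := S'')
      (fun r hr => ⟨hr.2.2, by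
        rw [show σ⁻¹ ((data hG F).wl l r) = r from Equiv.symm_apply_apply _ r]
        exact hr.1⟩) hy2
    simpa [mul_assoc] using this
  exact rootGen_mono hG (T := {r | 1 ≤ v r ∧ 1 ≤ v (((data hG F).wl l)⁻¹ r)}) (fun r hr => ⟨hr.1, hr.2.2⟩) (rootGen_inter hG hf hS hS''c h1 hg2)

include hf hM in
/-- **Borel–Tits.** -/
theorem borel_tits [Fintype F] (p : ℕ) [Fact p.Prime] [CharP F p] (hn : NegTri D) {k : List ℤ}
    (hk : PosForm D k) {R : Subgroup (GL D.Idx F)} (hRG : R ≤ D.group F) (hR : IsPGroup p R) (hne : R ≠ ⊥) :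
    ∃ g ∈ D.group F, ∃ J : Set ℕ, (∃ i, i < D.rank ∧ i ∉ J) ∧
      Subgroup.normalizer (R : Set (GL D.Idx F)) ⊓ D.group F ≤
        (D.parabolicSubgroup F J).map (MulAut.conj g).toMonoidHom ∧
      R ≤ (D.unipotentRadical F J).map (MulAut.conj g).toMonoidHom := by
  classical
  have ax := axioms (F := F) hG hf
  have hN : D.nroots / 2 + D.nroots / 2 = D.nroots := by have := hf.1; omega
  -- a first feasible pair
  obtain ⟨P, hP⟩ := ChevSylow.exists_sylow p hG hf (F := F)
  have hR' : IsPGroup p (R.subgroupOf (D.group F)) :=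
    hR.of_equiv (Subgroup.subgroupOfEquivOfLe hRG).symm
  obtain ⟨Q, hQ⟩ := hR'.exists_le_sylow
  obtain ⟨c, hc⟩ := MulAction.exists_smul_eq ↥(D.group F) Q P
  have hconj : ∀ x (hx : x ∈ R), (c : GL D.Idx F) * x * (c : GL D.Idx F)⁻¹ ∈ D.posUnipotent F := by
    intro x hx
    have h1 := Subgroup.smul_mem_pointwise_smul (⟨x, hRG hx⟩ : ↥(D.group F)) (MulAut.conj c)
      (Q : Subgroup ↥(D.group F)) (hQ (Subgroup.mem_subgroupOf.2 hx))
    have h2 : MulAut.conj c • (⟨x, hRG hx⟩ : ↥(D.group F)) ∈ (P : Subgroup ↥(D.group F)) := by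
      rw [← hc, Sylow.coe_subgroup_smul]
      exact h1
    rw [hP, Subgroup.mem_subgroupOf] at h2
    simpa using h2
  set w : EuclideanSpace ℝ (Fin D.nroots) := rootForm D fun i => (k.getD i.val 0 : ℝ) with hw
  have hw0 : Feasible hG R ((c⁻¹ : ↥(D.group F)) : GL D.Idx F) w := by
    intro x hx
    have h1 : ((c⁻¹ : ↥(D.group F)) : GL D.Idx F)⁻¹ * x * ((c⁻¹ : ↥(D.group F)) : GL D.Idx F) =
        (c : GL D.Idx F) * x * (c : GL D.Idx F)⁻¹ := by simp
    rw [h1]
    refine (show D.posUnipotent F ≤ rootGen hG F {r | 1 ≤ w r} from ?_) (hconj x hx)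
    rw [← Uge_eq_U hG hf, Uge, Subgroup.closure_le]
    rintro _ ⟨r, t, hr, hkr, rfl⟩
    refine xe_mem_rootGen hG (r := (⟨r, hr⟩ : Fin D.nroots)) ?_ t
    show 1 ≤ w ⟨r, hr⟩
    have h2 : (1 : ℤ) ≤ cartanForm D k r := (hk r hr).1 hkr
    have h3 : ((cartanForm D k r : ℤ) : ℝ) = w ⟨r, hr⟩ := by
      simp only [hw, rootForm, LinearMap.coe_mk, AddHom.coe_mk, cartanForm, Finset.sum_range, Int.cast_sum,
        Int.cast_mul]
    rw [← h3]
    have : ((1 : ℤ) : ℝ) ≤ (cartanForm D k r : ℝ) := Int.cast_le.2 h2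
    simpa using this
  -- a shortest one
  set X : Set (EuclideanSpace ℝ (Fin D.nroots)) :=
    {v | v ∈ linForms D ∧ ∃ g : ↥(D.group F), Feasible hG R g v} with hX
  have hXeq : X = ⋃ q ∈ {q : ↥(D.group F) × Set (Fin D.nroots) |
      ∀ x ∈ R, (q.1 : GL D.Idx F)⁻¹ * x * q.1 ∈ rootGen hG F q.2},
      {v | v ∈ linForms D ∧ ∀ r ∈ q.2, 1 ≤ v r} := by
    ext v
    simp only [hX, Set.mem_iUnion, Set.mem_ofPred_eq]
    constructor
    · rintro ⟨hv, g, hg⟩
      exact ⟨(g, {r | 1 ≤ v r}), hg, hv, fun r hr => hr⟩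
    · rintro ⟨⟨g, S⟩, hg, hv, hS⟩
      exact ⟨hv, g, fun x hx => rootGen_mono hG hS (hg x hx)⟩
  have hclosed : IsClosed X := by
    rw [hXeq]
    refine Set.Finite.isClosed_biUnion (Set.toFinite _) fun q _ => ?_
    refine IsClosed.inter (Submodule.closed_of_finiteDimensional _) ?_
    show IsClosed {v : EuclideanSpace ℝ (Fin D.nroots) | ∀ r ∈ q.2, 1 ≤ v r}
    simp only [Set.ofPred_forall]
    exact isClosed_biInter fun r _ => isClosed_le continuous_const (PiLp.continuous_apply 2 _ r)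
  have hwX : w ∈ X := ⟨⟨_, rfl⟩, c⁻¹, hw0⟩
  obtain ⟨v0, hv0, hmin⟩ := ((isCompact_closedBall (0 : EuclideanSpace ℝ (Fin D.nroots)) ‖w‖).inter_right
    hclosed).exists_isMinOn ⟨w, by simp, hwX⟩ continuous_norm.continuousOn
  have hshort : ∀ u ∈ X, ‖v0‖ ≤ ‖u‖ := fun u hu => by
    by_cases h : u ∈ Metric.closedBall (0 : EuclideanSpace ℝ (Fin D.nroots)) ‖w‖
    · exact hmin ⟨h, hu⟩
    · have h1 := hv0.1
      simp only [Metric.mem_closedBall, dist_zero_right] at h h1
      linarith [not_le.1 h]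
  obtain ⟨hv0E, g1, hg1⟩ := hv0.2
  -- make it dominant
  obtain ⟨l0, hd⟩ := exists_dominant (F := F) hG hf hv0E
  set v := moveForm ((data hG F).wl l0) v0 with hv
  have hvE : v ∈ linForms D := moveForm_wl_mem hG l0 hv0E
  have hnG : (data hG F).nw l0 ∈ D.group F := by
    rw [← data_grp hG]; exact RootBN.Data.N_le_grp ax (RootBN.Data.nw_mem_N l0)
  set g0 : GL D.Idx F := (g1 : GL D.Idx F) * (data hG F).nw l0 with hg0
  have hg0G : g0 ∈ D.group F := Subgroup.mul_mem _ g1.2 hnG
  have hfeas : Feasible hG R g0 v := by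
    intro x hx
    have h1 := conj_mem_rootGen hG (RootBN.Data.acts_nw ax l0).inv (T := {r | 1 ≤ v r})
      (fun r (hr : 1 ≤ v0 r) => by
        show 1 ≤ v (((data hG F).wl l0)⁻¹ r)
        rwa [hv, moveForm_apply, show (data hG F).wl l0 (((data hG F).wl l0)⁻¹ r) = r from
          Equiv.apply_symm_apply _ r]) (hg1 x hx)
    rw [inv_inv] at h1
    simpa [hg0, mul_assoc] using h1
  have hnormv : ‖v‖ = ‖v0‖ := norm_moveForm _ _
  have hpos : ∀ r : Fin D.nroots, 1 ≤ v r → D.nroots / 2 ≤ r.val := fun r =>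
    (dominant_sign hG hf hM hvE hd r).2
  set J : Set ℕ := {i | ∃ hi : i < D.rank, v ⟨D.simple i, hG.simple_lt hi⟩ = 0} with hJ
  refine ⟨g0, hg0G, J, ?_, ?_, ?_⟩
  · -- proper
    by_contra hall
    push Not at hall
    have hzero : ∀ r : Fin D.nroots, v r = 0 := by
      intro r
      obtain ⟨m, hm, -, e⟩ := exists_coroot_sum hM hvE hG r
      rw [Finset.sum_eq_zero fun i _ => by
        obtain ⟨hi, h0⟩ := hall i.val i.2
        rw [h0, mul_zero]] at e
      exact (mul_eq_zero.1 e).resolve_left (Nat.cast_ne_zero.2 (by omega))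
    refine hne ((Subgroup.eq_bot_iff_forall _).2 fun x hx => ?_)
    have h1 := hfeas x hx
    have h2 : rootGen hG F {r | 1 ≤ v r} ≤ (⊥ : Subgroup (GL D.Idx F)) := by
      rw [rootGen, Subgroup.closure_le]
      rintro _ ⟨r, (hr : 1 ≤ v r), t, rfl⟩
      rw [hzero r] at hr
      exact absurd hr (by norm_num)
    have h3 : x = g0 * 1 * g0⁻¹ := by
      rw [← Subgroup.mem_bot.1 (h2 h1)]; group
    simpa using h3
  · rintro x ⟨hxN, hxG⟩
    rw [Subgroup.mem_map_equiv, MulAut.conj_symm_apply]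
    set y := g0⁻¹ * x * g0 with hy
    have hyG : y ∈ (data hG F).grp := by
      rw [data_grp hG]
      exact Subgroup.mul_mem _ (Subgroup.mul_mem _ (Subgroup.inv_mem _ hg0G) hxG) hg0G
    obtain ⟨b, hb, l, u, hu, e⟩ := RootBN.Data.exists_normal_form ax hyG
    have huB : u ∈ (data hG F).B := RootBN.Data.U_le_B (RootBN.Data.Um_le_U _ hu)
    rw [e]
    refine Subgroup.mul_mem _ (Subgroup.mul_mem _ (Subgroup.mem_sup_left ((data_B hG hf).le hb)) ?_)
      (Subgroup.mem_sup_left ((data_B hG hf).le huB))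
    set σ := (data hG F).wl l with hσ
    set v' := moveForm σ⁻¹ v with hv'
    have hv'E : v' ∈ linForms D := by
      rw [hv', hσ, ← RootBN.Data.wl_reverse ax]
      exact moveForm_wl_mem hG _ hvE
    set ν : EuclideanSpace ℝ (Fin D.nroots) := (1 / 2 : ℝ) • (v + v') with hν
    have hνX : ν ∈ X := by
      have hbG : b ∈ D.group F := borel_le_group hG hf ((data_B hG hf).le hb)
      refine ⟨Submodule.smul_mem _ _ (Submodule.add_mem _ hvE hv'E),
        ⟨g0 * b, Subgroup.mul_mem _ hg0G hbG⟩, fun z hz => ?_⟩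
      have h1 : b⁻¹ * (g0⁻¹ * z * g0) * b ∈ rootGen hG F {r | 1 ≤ v r} := by
        have := borel_conj_rootGen hG hf hM hvE hd (Subgroup.inv_mem _ hb) (hfeas z hz)
        rwa [inv_inv] at this
      have hz' : x⁻¹ * z * x ∈ R := (Subgroup.mem_set_normalizer_iff''.1 hxN z).1 hz
      have h2 : ((data hG F).nw l)⁻¹ * (b⁻¹ * (g0⁻¹ * z * g0) * b) * (data hG F).nw l ∈
          rootGen hG F {r | 1 ≤ v r} := by
        have h3 := borel_conj_rootGen hG hf hM hvE hd huB (hfeas _ hz')
        have h4 : g0⁻¹ * (x⁻¹ * z * x) * g0 = y⁻¹ * (g0⁻¹ * z * g0) * y := by rw [hy]; group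
        rw [h4, e] at h3
        simpa [mul_assoc] using h3
      have h5 := rootGen_inter_conj hG hf hvE hpos hn hk l h1 h2
      have h6 : ((g0 * b : GL D.Idx F))⁻¹ * z * (g0 * b) = b⁻¹ * (g0⁻¹ * z * g0) * b := by group
      show (g0 * b)⁻¹ * z * (g0 * b) ∈ _
      rw [h6]
      refine rootGen_mono hG (fun r hr => ?_) h5
      have a1 : 1 ≤ v r := hr.1
      have a2 : 1 ≤ v' r := hr.2
      show 1 ≤ ν r
      simp only [hν, PiLp.smul_apply, PiLp.add_apply, smul_eq_mul]
      linarith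
    have h7 := hshort ν hνX
    have h8 : ‖v'‖ = ‖v0‖ := by rw [hv', norm_moveForm, hnormv]
    have h9 : v = v' := by
      have hpar := parallelogram_law_with_norm ℝ v v'
      rw [hν, norm_smul, Real.norm_of_nonneg (by norm_num : (0 : ℝ) ≤ 1 / 2)] at h7
      rw [hnormv, h8] at hpar
      have h10 : 2 * ‖v0‖ ≤ ‖v + v'‖ := by linarith
      have h11 : ‖v - v'‖ * ‖v - v'‖ ≤ 0 := by nlinarith [norm_nonneg v0]
      exact sub_eq_zero.1 (norm_eq_zero.1 (by nlinarith [norm_nonneg (v - v')]))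
    refine nw_mem_parabolic hG hf hM hvE hd l (PiLp.ext fun r => ?_)
    rw [moveForm_apply]
    have e1 : v (σ r) = v (σ⁻¹ (σ r)) := congrArg (fun z : EuclideanSpace ℝ (Fin D.nroots) => z (σ r)) h9
    rw [show σ⁻¹ (σ r) = r from Equiv.symm_apply_apply _ r] at e1
    exact e1
  · intro x hx
    rw [Subgroup.mem_map_equiv, MulAut.conj_symm_apply]
    refine (show rootGen hG F {r | 1 ≤ v r} ≤ D.unipotentRadical F J from ?_) (hfeas x hx)
    rw [rootGen, Subgroup.closure_le]
    rintro _ ⟨r, (hr : 1 ≤ v r), t, rfl⟩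
    refine Subgroup.subset_closure ⟨r.val, t, (pos_iff hf r.2).2 (hpos r hr), ?_, rfl⟩
    rintro ⟨-, hin⟩
    obtain ⟨m, hm, -, e⟩ := exists_coroot_sum hM hvE hG r
    rw [Finset.sum_eq_zero fun i _ => by
      by_cases hi : i.val ∈ J
      · obtain ⟨h1, h0⟩ := hi
        rw [h0, mul_zero]
      · rw [hin i.val i.2 hi, Int.cast_zero, zero_mul, zero_mul]] at e
    have := (mul_eq_zero.1 e).resolve_left (Nat.cast_ne_zero.2 (by omega))
    rw [this] at hr
    exact absurd hr (by norm_num)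

end Cfsg.Agent.Chev.BNSetup
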