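/-
Standard parabolic subgroups of a Chevalley group: the radical as the group of a coweight, and its centraliser.
-/
import Cfsg.Agent.Lib.Chev.BorelTits
import Cfsg.Agent.Lib.Chev.FieldAutFixed

set_option autoImplicit false

namespace Cfsg.Agent.Chev.BNSetup

open Cfsg.Lie
open Cfsg.Agent.RootBN (Data)

variable {F : Type*} [Field F] {D : ChevalleyDatum}

/-- Scaled fundamental coweights, and a root chain for every pair of nodes. -/
def ParaFact (D : ChevalleyDatum) (d : ℕ) (B : List (List ℤ)) : Prop :=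
  1 ≤ d ∧
    (∀ k < D.rank, ∀ j < D.rank,
      ((List.range D.rank).map fun i => (B.getD k []).getD i 0 * D.cartan i (D.simple j)).sum =
        if k = j then (d : ℤ) else 0) ∧
    ∀ j < D.rank, ∀ k < D.rank, j ≠ k → ∃ r < D.nroots, D.nroots / 2 ≤ r ∧
      (D.coroot.getD r #[]).getD k 0 ≠ 0 ∧ (D.chainRoot (D.simple j) r 1).isSome = true

instance decidableParaFact (D : ChevalleyDatum) (d : ℕ) (B : List (List ℤ)) : Decidable (ParaFact D d B) :=
  inferInstanceAs (Decidable (_ ∧ _))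

variable (hG : Good D)
include hG

theorem exists_chainRoot_simple {j r : ℕ} (hj : j < D.rank) (hr : r < D.nroots)
    (h : (D.chainRoot (D.simple j) r 1).isSome = true) :
    ∃ r' : Fin D.nroots, ∀ i < D.rank, D.cartan i r'.val = D.cartan i r + D.cartan i (D.simple j) := by
  obtain ⟨k, hk⟩ := Option.isSome_iff_exists.1 h
  simp only [ChevalleyDatum.chainRoot, Option.map_eq_some_iff] at hk
  obtain ⟨q, hq, rfl⟩ := hk
  have hlt : q.1 < D.nroots := by
    obtain ⟨c, hV⟩ := hG
    rw [hV.ent_eq (by rw [hV.p_eq hj]; exact hV.p_lt hj)] at hq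
    exact hV.ent_lt (by rw [hV.p_eq hj]; exact hV.p_lt hj) (List.mem_of_getElem? hq)
  refine ⟨⟨q.1, hlt⟩, fun i hi => ?_⟩
  rw [hG.cartan_chain (hG.simple_lt hj) hq hi hr]
  push_cast
  ring

variable {tabs simps : List ℕ} (hf : Facts D tabs simps)
include hf

theorem commutator_xe_mem_Uge {r : ℕ} (hr : r < D.nroots) (hr' : D.nroots / 2 ≤ r) (a : F) {u : GL D.Idx F}
    (hu : u ∈ D.posUnipotent F) : u * xe hG r a * u⁻¹ * (xe hG r a)⁻¹ ∈ Uge hG F (r + 1) := by
  set g := xe hG r a with hg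
  have hk1 : D.nroots / 2 ≤ r + 1 := Nat.le_succ_of_le hr'
  have hgen : ∀ k (t : F), k < D.nroots → D.nroots / 2 ≤ k →
      xe hG k t * g * (xe hG k t)⁻¹ * g⁻¹ ∈ Uge hG F (r + 1) := by
    intro k t hk hk'
    by_cases hkr : k = r
    · subst hkr
      rw [hg, xe_add hG hk, xe_inv hG hk, xe_add hG hk, xe_inv hG hk, xe_add hG hk,
        show t + a + -t + -a = 0 by ring, xe_zero hG hk]
      exact Subgroup.one_mem _
    rcases Nat.lt_or_ge r k with hlt | hge
    · have h1 := xe_mem_Uge hG hk hlt t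
      have h2 := xe_conj_Uge hG hf hk1 hr hr' a (Subgroup.inv_mem _ h1)
      have := Subgroup.mul_mem _ h1 h2
      simpa [hg, mul_assoc] using this
    have hne : r ≠ D.neg k := by rw [neg_eq hf hk]; have := hf.1; omega
    have h := hG.comm_formula hk hr (Ne.symm hkr) hne (-t) a
    have hw : ∀ wd : List (ℕ × F), (∀ l ∈ wd, l.1 < D.nroots ∧ r + 1 ≤ l.1) →
        ∃ z : GL D.Idx F, z ∈ Uge hG F (r + 1) ∧ (z : Matrix D.Idx D.Idx F) = D.wordMat F wd := by
      intro wd
      induction wd with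
      | nil => intro _; exact ⟨1, Subgroup.one_mem _, by simp [ChevalleyDatum.wordMat]⟩
      | cons l wd ih =>
        intro hl
        obtain ⟨z, hz, he⟩ := ih fun x hx => hl x (List.mem_cons_of_mem _ hx)
        obtain ⟨h1, h2⟩ := hl l List.mem_cons_self
        exact ⟨xe hG l.1 l.2 * z, Subgroup.mul_mem _ (xe_mem_Uge hG h1 h2 _) hz, by
          simp [ChevalleyDatum.wordMat, coe_xe, he]⟩
    obtain ⟨z, hz, hze⟩ := hw (D.commWord F k r (-t) a) (fun l hl => by
      simp only [ChevalleyDatum.commWord, List.mem_map] at hl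
      obtain ⟨x, hx, rfl⟩ := hl
      obtain ⟨h1, -, h3⟩ := commTerms_pos hG hf hk hr hk' hr' hx
      exact ⟨h1, h3⟩)
    have e : g * (xe hG k t)⁻¹ = (xe hG k t)⁻¹ * g * z := by
      rw [hg, xe_inv hG hk]
      exact Units.ext (by simp [coe_xe, h, hze])
    have e2 : xe hG k t * g * (xe hG k t)⁻¹ * g⁻¹ = g * z * g⁻¹ := by
      rw [mul_assoc (xe hG k t) g, e]; group
    rw [e2, hg]
    exact xe_conj_Uge hG hf hk1 hr hr' a hz
  rw [← Uge_eq_U hG hf] at hu
  induction hu using Subgroup.closure_induction_left with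
  | one => simp
  | mul_left x hx z _ ih =>
    obtain ⟨k, t, hk, hk', rfl⟩ := hx
    have := Subgroup.mul_mem _ (xe_conj_Uge hG hf hk1 hk hk' t ih) (hgen k t hk hk')
    simpa [mul_assoc] using this
  | inv_mul_cancel x hx z _ ih =>
    obtain ⟨k, t, hk, hk', rfl⟩ := hx
    rw [xe_inv hG hk]
    have := Subgroup.mul_mem _ (xe_conj_Uge hG hf hk1 hk hk' (-t) ih) (hgen k (-t) hk hk')
    simpa [mul_assoc] using this

/-- A torus element whose conjugate of a root element is a `U`-conjugate commutes with it. -/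
theorem commute_of_conj_eq {h v : GL D.Idx F} (hh : h ∈ D.diagonalSubgroup F) (hv : v ∈ D.posUnipotent F)
    {r : ℕ} (hr : r < D.nroots) (hr' : D.nroots / 2 ≤ r)
    (e : v * (h * xe hG r 1 * h⁻¹) * v⁻¹ = xe hG r 1) : h * xe hG r 1 = xe hG r 1 * h := by
  obtain ⟨t, ht⟩ := (mem_rootSubgroup hG hr).1
    (normalisesAll_H hG hh r hr (xe hG r 1) ((mem_rootSubgroup hG hr).2 ⟨1, rfl⟩))
  have h1 := commutator_xe_mem_Uge hG hf hr hr' t hv
  rw [← ht, e, ht, xe_inv hG hr, xe_add hG hr] at h1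
  have h2 := Uge_xe_eq_zero hG hf hr hr' h1
  rw [← sub_eq_add_neg, sub_eq_zero] at h2
  rw [← h2, mul_inv_eq_iff_eq_mul] at ht
  exact ht

variable {M : List ℕ} (hM : CorootFact D M) {d : ℕ} {B : List (List ℤ)} (hB : ParaFact D d B)
include hM hB

open Classical in
/-- The radical of a standard parabolic subgroup is the group of a dominant coweight. -/
theorem exists_radical_form (J : Set ℕ) :
    ∃ v ∈ linForms D, IsDominant hG v ∧ (∀ j : Fin D.rank, j.val ∈ J → v ⟨D.simple j.val, hG.simple_lt j.2⟩ = 0) ∧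
      (∀ r : Fin D.nroots, 1 ≤ v r ↔ D.IsPosRoot r.val ∧ ¬ D.InRootSub J r.val) ∧
      D.unipotentRadical F J = rootGen hG F {r | 1 ≤ v r} := by
  set c : Fin D.rank → ℝ := fun i =>
    3 * ∑ k : Fin D.rank, if k.val ∈ J then 0 else (((B.getD k.val []).getD i.val 0 : ℤ) : ℝ) with hc
  set v := rootForm D c with hv
  have hvE : v ∈ linForms D := ⟨c, rfl⟩
  have hval : ∀ j : Fin D.rank, v ⟨D.simple j.val, hG.simple_lt j.2⟩ =
      if j.val ∈ J then 0 else 3 * (d : ℝ) := by
    intro j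
    show (∑ i : Fin D.rank, c i * (D.cartan i.val (D.simple j.val) : ℝ)) = _
    simp only [hc]
    rw [Finset.sum_congr rfl fun i _ => by rw [mul_assoc, Finset.sum_mul], ← Finset.mul_sum, Finset.sum_comm]
    have hrow : ∀ k : Fin D.rank, ∑ i : Fin D.rank,
        (if k.val ∈ J then (0 : ℝ) else (((B.getD k.val []).getD i.val 0 : ℤ) : ℝ)) *
          (D.cartan i.val (D.simple j.val) : ℝ) =
        if k.val ∈ J then 0 else if k = j then (d : ℝ) else 0 := by
      intro k
      by_cases hk : k.val ∈ J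
      · simp [hk]
      · simp only [hk, if_false]
        have h := congrArg (Int.cast : ℤ → ℝ) (hB.2.1 k.val k.2 j.val j.2)
        rw [list_range_sum, Finset.sum_range (f := fun i => (B.getD k.val []).getD i 0 * D.cartan i (D.simple j.val))] at h
        push_cast at h
        rw [h]
        simp [Fin.ext_iff]
    rw [Finset.sum_congr rfl fun k _ => hrow k, Finset.sum_eq_single j (fun k _ hk => by simp [hk])
      (fun h => absurd (Finset.mem_univ j) h)]
    by_cases hj : j.val ∈ J <;> simp [hj]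
  have hd : IsDominant hG v := fun j => by
    rw [hval]
    split_ifs <;> positivity
  have hiff : ∀ r : Fin D.nroots, 1 ≤ v r ↔ D.IsPosRoot r.val ∧ ¬ D.InRootSub J r.val := by
    intro r
    obtain ⟨m, hm, hm3, e⟩ := exists_coroot_sum hM hvE hG r
    constructor
    · intro h
      refine ⟨(pos_iff hf r.2).2 ((dominant_sign hG hf hM hvE hd r).2 h), fun hin => ?_⟩
      rw [Finset.sum_eq_zero fun k _ => by
        by_cases hk : k.val ∈ J
        · rw [hval, if_pos hk, mul_zero]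
        · rw [hin.2 k.val k.2 hk, Int.cast_zero, zero_mul, zero_mul]] at e
      have := (mul_eq_zero.1 e).resolve_left (Nat.cast_ne_zero.2 (by omega))
      rw [this] at h
      exact absurd h (by norm_num)
    · rintro ⟨hpos, hnin⟩
      have hnn : ∀ k : Fin D.rank, 0 ≤ (D.coroot.getD r.val #[]).getD k.val 0 := by
        intro k
        have hk : k.val < (D.coroot.getD r.val #[]).size := by rw [(hf.2.2.1 r.val r.2).2.2.2.2]; exact k.2
        rw [Array.getD_eq_getD_getElem?, Array.getElem?_eq_getElem hk]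
        exact hpos.2 _ (Array.mem_toList_iff.2 (Array.getElem_mem hk))
      obtain ⟨k, hk, hkJ, hk0⟩ : ∃ k, ∃ _ : k < D.rank, k ∉ J ∧ (D.coroot.getD r.val #[]).getD k 0 ≠ 0 := by
        by_contra hno
        push Not at hno
        exact hnin ⟨r.2, fun i hi hiJ => hno i hi hiJ⟩
      have hle : (3 : ℝ) ≤ (m : ℝ) * v r := by
        rw [e]
        refine le_trans ?_ (Finset.single_le_sum (s := Finset.univ) (a := (⟨k, hk⟩ : Fin D.rank))
          (fun i _ => mul_nonneg (mul_nonneg (Int.cast_nonneg (hnn i)) (Nat.cast_nonneg _)) (hd i))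
          (Finset.mem_univ _))
        rw [hval, if_neg hkJ]
        have h1 : (1 : ℝ) ≤ (((D.coroot.getD r.val #[]).getD k 0 : ℤ) : ℝ) := by
          have h0 := hnn ⟨k, hk⟩
          have : ((1 : ℤ) : ℝ) ≤ (((D.coroot.getD r.val #[]).getD k 0 : ℤ) : ℝ) :=
            Int.cast_le.2 (by simp only at h0; omega)
          simpa using this
        have h2 : (1 : ℝ) ≤ (M.getD k 0 : ℝ) := by exact_mod_cast hM.1 k hk
        have h3 : (1 : ℝ) ≤ (d : ℝ) := by exact_mod_cast hB.1
        have h12 : (1 : ℝ) ≤ (((D.coroot.getD r.val #[]).getD k 0 : ℤ) : ℝ) * (M.getD k 0 : ℝ) :=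
          one_le_mul_of_one_le_of_one_le h1 h2
        show (3 : ℝ) ≤ (((D.coroot.getD r.val #[]).getD k 0 : ℤ) : ℝ) * (M.getD k 0 : ℝ) * (3 * (d : ℝ))
        nlinarith
      have hm' : (m : ℝ) ≤ 3 := by exact_mod_cast hm3
      by_contra hlt
      rw [not_le] at hlt
      have hm0 : (1 : ℝ) ≤ m := by exact_mod_cast hm
      nlinarith
  refine ⟨v, hvE, hd, fun j hj => by rw [hval, if_pos hj], hiff, ?_⟩
  refine le_antisymm ?_ ?_
  · rw [ChevalleyDatum.unipotentRadical, Subgroup.closure_le]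
    rintro g ⟨r, t, hr, hnin, hg⟩
    obtain rfl : g = xe hG r t := eq_xe hG hg
    exact xe_mem_rootGen hG (S := {r | 1 ≤ v r}) (r := (⟨r, hr.1⟩ : Fin D.nroots))
      ((hiff _).2 ⟨hr, hnin⟩) t
  · rw [rootGen, Subgroup.closure_le]
    rintro _ ⟨r, hr, t, rfl⟩
    exact Subgroup.subset_closure ⟨r.val, t, ((hiff r).1 hr).1, ((hiff r).1 hr).2, rfl⟩

/-- The parabolic subgroup normalises its radical. -/
theorem parabolic_le_normalizer_radical [Finite F] (J : Set ℕ) :
    D.parabolicSubgroup F J ≤ Subgroup.normalizer (D.unipotentRadical F J : Set (GL D.Idx F)) := by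
  obtain ⟨v, hvE, hd, hJ0, -, hrad⟩ := exists_radical_form (F := F) hG hf hM hB J
  rw [hrad]
  set K := rootGen hG F {r : Fin D.nroots | 1 ≤ v r} with hK
  refine sup_le ?_ ?_
  · intro b hb
    rw [← data_B hG hf] at hb
    refine Subgroup.mem_normalizer_iff.2 fun g => ⟨borel_conj_rootGen hG hf hM hvE hd hb, fun hg => ?_⟩
    have := borel_conj_rootGen hG hf hM hvE hd (Subgroup.inv_mem _ hb) hg
    simpa [mul_assoc] using this
  · rw [Subgroup.closure_le]
    rintro g ⟨j, hjJ, hj, hg⟩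
    obtain rfl : g = (data hG F).nn ⟨j, hj⟩ := Units.ext (hg.trans (coe_ne' hG (D.simple j) 1).symm)
    set i : Fin D.rank := ⟨j, hj⟩ with hi
    have ax := axioms (F := F) hG hf
    have hpres : ∀ r ∈ {r : Fin D.nroots | 1 ≤ v r}, (data hG F).refl i r ∈ {r : Fin D.nroots | 1 ≤ v r} := by
      intro r hr
      show 1 ≤ v _
      rw [linForms_affine hvE (a := (data hG F).refl i r) (b := r) (d := ⟨D.simple i.val, hG.simple_lt i.2⟩)
        (s := 1) (t := -D.cartan i.val r.val) (fun k hk => by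
          rw [data_refl, hG.cartan_reflectRoot i.2 hk r.2]; ring), hJ0 i hjJ]
      simpa using hr
    refine Subgroup.mem_normalizer_iff.2 fun g =>
      ⟨conj_mem_rootGen hG (RootBN.Data.acts_nn ax i) hpres, fun hg => ?_⟩
    have h := conj_mem_rootGen hG (RootBN.Data.acts_nn ax i).inv (T := {r : Fin D.nroots | 1 ≤ v r})
      (fun r hr => by rw [RootBN.Data.refl_inv ax]; exact hpres r hr) hg
    simpa [mul_assoc] using h

variable [Fintype F]

/-- The centraliser of the radical of a proper parabolic subgroup lies in `U`. -/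
theorem centraliser_radical_le {k : List ℤ} (hk : PosForm D k) {J : Set ℕ} (hJ : ∃ i, i < D.rank ∧ i ∉ J)
    {x : GL D.Idx F} (hx : x ∈ D.group F) (hc : ∀ g ∈ D.unipotentRadical F J, x * g = g * x) :
    x ∈ D.posUnipotent F := by
  have ax := axioms (F := F) hG hf
  obtain ⟨k0, hk0, hk0J⟩ := hJ
  obtain ⟨v, hvE, hd, hJ0, hiff, hrad⟩ := exists_radical_form (F := F) hG hf hM hB J
  set S : Set (Fin D.nroots) := {r | 1 ≤ v r} with hS
  have hSpos : ∀ r ∈ S, D.nroots / 2 ≤ r.val := fun r hr => (pos_iff hf r.2).1 ((hiff r).1 hr).1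
  have hsimpS : ∀ j : Fin D.rank, j.val ∉ J → (⟨D.simple j.val, hG.simple_lt j.2⟩ : Fin D.nroots) ∈ S := by
    intro j hj
    refine (hiff _).2 ⟨(pos_iff hf (hG.simple_lt j.2)).2 (hf.2.2.2.2.1 j.val j.2).2.1, fun hin => ?_⟩
    have h0 := hin.2 j.val j.2 hj
    have h1 : (D.coroot.getD (D.simple j.val) #[]).getD j.val 0 = 1 := by
      obtain ⟨c, hV⟩ := hG
      rw [hV.p_eq j.2, hV.crt_eq (hV.p_lt j.2) j.val, (hV.base'.2 j.val j.2).2.2 j.val j.2, if_pos rfl]
    rw [h1] at h0
    exact one_ne_zero h0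
  -- each node of `J` is the difference of two roots of the radical
  have hdiff : ∀ j : Fin D.rank, j.val ∈ J → ∃ r ∈ S, ∃ r' ∈ S, ∀ i < D.rank,
      D.cartan i r'.val = D.cartan i r.val + D.cartan i (D.simple j.val) := by
    intro j hj
    obtain ⟨r, hr, hrpos, hcoef, hsome⟩ := hB.2.2 j.val j.2 k0 hk0 (fun e => hk0J (e ▸ hj))
    obtain ⟨r', hr'⟩ := exists_chainRoot_simple hG j.2 hr hsome
    have hrS : (⟨r, hr⟩ : Fin D.nroots) ∈ S :=
      (hiff _).2 ⟨(pos_iff hf hr).2 hrpos, fun hin => hcoef (hin.2 k0 hk0 hk0J)⟩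
    refine ⟨⟨r, hr⟩, hrS, r', ?_, hr'⟩
    show 1 ≤ v r'
    rw [linForms_affine hvE (a := r') (b := ⟨r, hr⟩) (d := ⟨D.simple j.val, hG.simple_lt j.2⟩) (s := 1) (t := 1)
      (fun i hi => by rw [hr' i hi]; ring), hJ0 j hj]
    simpa [hS] using hrS
  obtain ⟨b, hb, l, u, hu, rfl⟩ :=
    RootBN.Data.exists_normal_form ax (by rwa [data_grp hG] : x ∈ (data hG F).grp)
  have huB : u ∈ (data hG F).B := RootBN.Data.U_le_B (RootBN.Data.Um_le_U _ hu)
  have hBK : ∀ z ∈ (data hG F).B, ∀ g ∈ rootGen hG F S, z * g * z⁻¹ ∈ rootGen hG F S :=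
    fun z hz g hg => borel_conj_rootGen hG hf hM hvE hd hz hg
  rw [hrad] at hc
  -- the Weyl element fixes the roots of the radical
  have hfix : ∀ r ∈ S, ((data hG F).wl l)⁻¹ r = r := by
    intro r hr
    set g : GL D.Idx F := xe hG r.val 1 with hg
    have hgX : g ∈ (data hG F).X r := (mem_rootSubgroup hG r.2).2 ⟨1, rfl⟩
    have hgK : g ∈ rootGen hG F S := xe_mem_rootGen hG hr 1
    have e : (u * b) * g * (u * b)⁻¹ = ((data hG F).nw l)⁻¹ * g * (data hG F).nw l := by
      have h1 := hc _ (hBK b hb g hgK)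
      calc (u * b) * g * (u * b)⁻¹
          = ((data hG F).nw l)⁻¹ * b⁻¹ * (b * (data hG F).nw l * u * (b * g * b⁻¹)) * u⁻¹ := by group
        _ = _ := by rw [h1]; group
    have hm := ((RootBN.Data.acts_nw ax l).inv r g).2 hgX
    rw [inv_inv] at hm
    set r' := ((data hG F).wl l)⁻¹ r with hr'
    have hub : u * b ∈ (data hG F).B := Subgroup.mul_mem _ huB hb
    have hmB : ((data hG F).nw l)⁻¹ * g * (data hG F).nw l ∈ (data hG F).B := by
      rw [← e]
      exact Subgroup.mul_mem _ (Subgroup.mul_mem _ hub (RootBN.Data.U_le_B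
        (RootBN.Data.X_le_U (D := data hG F) (r := r) (hSpos r hr) hgX))) (Subgroup.inv_mem _ hub)
    obtain ⟨t, ht⟩ := (mem_rootSubgroup hG r'.2).1 hm
    have ht0 : t ≠ 0 := by
      rintro rfl
      rw [xe_zero hG r'.2] at ht
      have h1 : g = (data hG F).nw l * 1 * ((data hG F).nw l)⁻¹ := by rw [← ht]; group
      exact xe_ne_one hG hf r.2 one_ne_zero (by simpa [hg] using h1)
    have hpos' : D.nroots / 2 ≤ r'.val := by
      by_contra hneg
      have h6 := ax.neg_not_mem r' hneg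
      rw [Subgroup.eq_bot_iff_forall] at h6
      exact xe_ne_one hG hf r'.2 ht0 (ht ▸ h6 _ ⟨hm, hmB⟩)
    refine Fin.ext (Lead.unique hG (g := xe hG r'.val t) (Lead_xe hG hf r'.2 hpos' ht0) ?_)
    rw [← ht, ← e]
    exact Lead_conj hG hf hub (Lead_xe hG hf r.2 (hSpos r hr) one_ne_zero)
  -- hence it is trivial
  have hwl : (data hG F).wl l = 1 := by
    set w : EuclideanSpace ℝ (Fin D.nroots) := rootForm D fun i => (k.getD i.val 0 : ℝ) with hw
    have hwE : w ∈ linForms D := ⟨_, rfl⟩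
    have hwv : ∀ r : Fin D.nroots, w r = (cartanForm D k r.val : ℝ) := fun r => by
      simp only [hw, rootForm, LinearMap.coe_mk, AddHom.coe_mk, cartanForm, Finset.sum_range, Int.cast_sum,
        Int.cast_mul]
    set z := moveForm ((data hG F).wl l)⁻¹ w - w with hz
    have hzE : z ∈ linForms D := by
      rw [hz, ← RootBN.Data.wl_reverse ax]
      exact Submodule.sub_mem _ (moveForm_wl_mem hG _ hwE) hwE
    have hzS : ∀ r ∈ S, z r = 0 := fun r hr => by
      show w (((data hG F).wl l)⁻¹ r) - w r = 0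
      rw [hfix r hr, sub_self]
    refine wl_eq_one_of_keep hG hf fun j => ?_
    have hz0 : z ⟨D.simple j.val, hG.simple_lt j.2⟩ = 0 := by
      by_cases hj : j.val ∈ J
      · obtain ⟨r, hr, r', hr', e⟩ := hdiff j hj
        have h1 := linForms_affine hzE (a := r') (b := r) (d := ⟨D.simple j.val, hG.simple_lt j.2⟩) (s := 1)
          (t := 1) (fun i hi => by rw [e i hi]; ring)
        rw [hzS r hr, hzS r' hr'] at h1
        simpa using h1.symm
      · exact hzS _ (hsimpS j hj)
    refine ⟨hG.simple_lt j.2, (hf.2.2.2.2.1 j.val j.2).2.1, ?_⟩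
    by_contra hneg
    have h1 : w (((data hG F).wl l)⁻¹ ⟨D.simple j.val, hG.simple_lt j.2⟩) = w ⟨D.simple j.val, hG.simple_lt j.2⟩ :=
      sub_eq_zero.1 hz0
    rw [hwv, hwv, Int.cast_inj] at h1
    have h2 := (hk _ (Fin.is_lt (((data hG F).wl l)⁻¹ ⟨D.simple j.val, hG.simple_lt j.2⟩))).2 (not_le.1 hneg)
    have h3 := (hk _ (hG.simple_lt j.2)).1 (hf.2.2.2.2.1 j.val j.2).2.1
    dsimp only at h1
    omega
  have hnH : (data hG F).nw l ∈ (data hG F).H :=
    RootBN.Data.mem_H_of_pos_preserving ax (RootBN.Data.nw_mem_N l) (RootBN.Data.acts_nw ax l)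
      fun r hr => by rwa [hwl]
  have hxB : b * (data hG F).nw l * u ∈ D.borelSubgroup F := (data_B hG hf).le
    (Subgroup.mul_mem _ (Subgroup.mul_mem _ hb (RootBN.Data.H_le_B hnH)) huB)
  obtain ⟨v0, hv0, h, hh, e⟩ := borel_decomp hG hf hxB
  rw [e] at hc ⊢
  suffices h1 : h = 1 by rw [h1, mul_one]; exact hv0
  obtain ⟨τ, hτ⟩ := diagonal_eq_prod hG hh
  set χ : ℕ → Fˣ := fun s => ∏ j ∈ Finset.range D.rank, τ j ^ D.cartan j s with hχ
  have hχc : ∀ s, ((χ s : Fˣ) : F) = ∏ j ∈ Finset.range D.rank, ((τ j ^ D.cartan j s : Fˣ) : F) :=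
    fun s => map_prod (Units.coeHom F) _ _
  have hχS : ∀ r ∈ S, χ r.val = 1 := by
    intro r hr
    have hcomm := commute_of_conj_eq hG hf hh hv0 r.2 (hSpos r hr) (by
      have := hc _ (xe_mem_rootGen hG hr (1 : F))
      calc v0 * (h * xe hG r.val 1 * h⁻¹) * v0⁻¹ = v0 * h * xe hG r.val 1 * (v0 * h)⁻¹ := by group
        _ = _ := by rw [this, mul_inv_cancel_right])
    obtain ⟨j, hj⟩ := exists_coroot_ne_zero (F := F) hf r.2
    have hnr := hG.neg_lt r.2
    have e2 := Matrix.ext_iff.2 (show (h : Matrix D.Idx D.Idx F) * (xe hG r.val 1 : GL D.Idx F) =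
        (xe hG r.val 1 : GL D.Idx F) * (h : Matrix D.Idx D.Idx F) by
      rw [← Units.val_mul, ← Units.val_mul, hcomm]) (Sum.inl j) (Sum.inr ⟨_, hnr⟩)
    rw [coe_xe, hτ, hdiag, Matrix.diagonal_mul, Matrix.mul_diagonal, x_entry_inl r.2 hnr,
      if_neg (hG.neg_ne r.2), if_pos rfl, Sum.elim_inl, Sum.elim_inr, ← hχc, one_mul, mul_one] at e2
    have h1 : χ (D.neg r.val) = 1 := Units.ext (mul_left_cancel₀ hj ((mul_one _).trans e2)).symm
    simp only [hχ] at h1 ⊢
    rw [Finset.prod_congr rfl fun j hj => by rw [cartan_neg hG (Finset.mem_range.1 hj) r.2, zpow_neg],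
      Finset.prod_inv_distrib, inv_eq_one] at h1
    exact h1
  have key : ∀ j < D.rank, χ (D.simple j) = 1 := by
    intro j hj
    by_cases hjJ : j ∈ J
    · obtain ⟨r, hr, r', hr', e2⟩ := hdiff ⟨j, hj⟩ hjJ
      have h1 : χ r'.val = χ r.val * χ (D.simple j) := by
        simp only [hχ]
        rw [← Finset.prod_mul_distrib]
        exact Finset.prod_congr rfl fun i hi => by rw [e2 i (Finset.mem_range.1 hi), zpow_add]
      rw [hχS r hr, hχS r' hr', one_mul] at h1
      exact h1.symm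
    · exact hχS _ (hsimpS ⟨j, hj⟩ hjJ)
  refine Units.ext ?_
  rw [Units.val_one, hτ, ← hdiag_one D]
  refine hdiag_congr D fun s hs => ?_
  rw [← hχc]
  suffices χ s = 1 by rw [this, Units.val_one]
  refine hG.root_induction (P := fun s => χ s = 1) key (fun i hi r hr ih => ?_) hs
  show ∏ j ∈ Finset.range D.rank, τ j ^ D.cartan j (D.reflectRoot i r) = 1
  rw [Finset.prod_congr rfl fun j hj => by
    rw [hG.cartan_reflectRoot hi (Finset.mem_range.1 hj) hr, zpow_sub, mul_comm (D.cartan i r), zpow_mul],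
    Finset.prod_mul_distrib, Finset.prod_inv_distrib, Finset.prod_zpow]
  rw [show (∏ j ∈ Finset.range D.rank, τ j ^ D.cartan j r) = 1 from ih,
    show (∏ j ∈ Finset.range D.rank, τ j ^ D.cartan j (D.simple i)) = 1 from key i hi, one_zpow, inv_one, mul_one]

end Cfsg.Agent.Chev.BNSetup
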