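/-
Checked certificates for the seven types: a positive form and the lengths of the fundamental roots.
-/
import Cfsg.Agent.Lib.Chev.RootProducts

set_option autoImplicit false

namespace Cfsg.Agent.Chev.BNSetup

open Cfsg.Lie

theorem posForm_chevG2 : PosForm chevG2 [6, 10] := by decide +kernel
theorem posForm_chevB2 : PosForm chevB2 [3, 4] := by decide +kernel
theorem posForm_chevD4 : PosForm chevD4 [6, 10, 6, 6] := by decide +kernel
theorem posForm_chevF4 : PosForm chevF4 [16, 30, 42, 22] := by decide +kernel
theorem posForm_chevE6 : PosForm chevE6 [16, 22, 30, 42, 30, 16] := by decide +kernel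
theorem posForm_chevE7 : PosForm chevE7 [34, 49, 66, 96, 75, 52, 27] := by decide +kernel
theorem posForm_chevE8 : PosForm chevE8 [92, 136, 182, 270, 220, 168, 114, 58] := by decide +kernel

theorem corootFact_chevG2 : CorootFact chevG2 [3, 1] := by decide +kernel
theorem corootFact_chevB2 : CorootFact chevB2 [2, 1] := by decide +kernel
theorem corootFact_chevD4 : CorootFact chevD4 [1, 1, 1, 1] := by decide +kernel
theorem corootFact_chevF4 : CorootFact chevF4 [2, 2, 1, 1] := by decide +kernel
theorem corootFact_chevE6 : CorootFact chevE6 [1, 1, 1, 1, 1, 1] := by decide +kernel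
theorem corootFact_chevE7 : CorootFact chevE7 [1, 1, 1, 1, 1, 1, 1] := by decide +kernel
theorem corootFact_chevE8 : CorootFact chevE8 [1, 1, 1, 1, 1, 1, 1, 1] := by decide +kernel

theorem exists_rootCerts {D : ChevalleyDatum}
    (hD : D ∈ [chevG2, chevB2, chevD4, chevF4, chevE6, chevE7, chevE8]) :
    ∃ k M, PosForm D k ∧ CorootFact D M := by
  simp only [List.mem_cons, List.not_mem_nil, or_false] at hD
  rcases hD with rfl | rfl | rfl | rfl | rfl | rfl | rfl
  exacts [⟨_, _, posForm_chevG2, corootFact_chevG2⟩, ⟨_, _, posForm_chevB2, corootFact_chevB2⟩,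
    ⟨_, _, posForm_chevD4, corootFact_chevD4⟩, ⟨_, _, posForm_chevF4, corootFact_chevF4⟩,
    ⟨_, _, posForm_chevE6, corootFact_chevE6⟩, ⟨_, _, posForm_chevE7, corootFact_chevE7⟩,
    ⟨_, _, posForm_chevE8, corootFact_chevE8⟩]

end Cfsg.Agent.Chev.BNSetup
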