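/-
Checked coweight certificates for the parabolic subgroups of the seven types.
-/
import Cfsg.Agent.Lib.Chev.Parabolic
import Cfsg.Agent.Lib.Chev.RootCerts

set_option autoImplicit false

namespace Cfsg.Agent.Chev.BNSetup

open Cfsg.Lie

theorem paraFact_chevG2 : ParaFact chevG2 1 [[2, 3], [1, 2]] := by decide +kernel
theorem paraFact_chevB2 : ParaFact chevB2 2 [[2, 2], [1, 2]] := by decide +kernel
theorem paraFact_chevD4 : ParaFact chevD4 2 [[2, 2, 1, 1], [2, 4, 2, 2], [1, 2, 2, 1], [1, 2, 1, 2]] := by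
  decide +kernel
theorem paraFact_chevF4 : ParaFact chevF4 1 [[2, 3, 4, 2], [3, 6, 8, 4], [2, 4, 6, 3], [1, 2, 3, 2]] := by
  decide +kernel
theorem paraFact_chevE6 : ParaFact chevE6 3 [[4, 3, 5, 6, 4, 2], [3, 6, 6, 9, 6, 3], [5, 6, 10, 12, 8, 4],
    [6, 9, 12, 18, 12, 6], [4, 6, 8, 12, 10, 5], [2, 3, 4, 6, 5, 4]] := by decide +kernel
theorem paraFact_chevE7 : ParaFact chevE7 2 [[4, 4, 6, 8, 6, 4, 2], [4, 7, 8, 12, 9, 6, 3],
    [6, 8, 12, 16, 12, 8, 4], [8, 12, 16, 24, 18, 12, 6], [6, 9, 12, 18, 15, 10, 5], [4, 6, 8, 12, 10, 8, 4],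
    [2, 3, 4, 6, 5, 4, 3]] := by decide +kernel
theorem paraFact_chevE8 : ParaFact chevE8 1 [[4, 5, 7, 10, 8, 6, 4, 2], [5, 8, 10, 15, 12, 9, 6, 3],
    [7, 10, 14, 20, 16, 12, 8, 4], [10, 15, 20, 30, 24, 18, 12, 6], [8, 12, 16, 24, 20, 15, 10, 5],
    [6, 9, 12, 18, 15, 12, 8, 4], [4, 6, 8, 12, 10, 8, 6, 3], [2, 3, 4, 6, 5, 4, 3, 2]] := by decide +kernel

theorem exists_paraFact {D : ChevalleyDatum}
    (hD : D ∈ [chevG2, chevB2, chevD4, chevF4, chevE6, chevE7, chevE8]) : ∃ d B, ParaFact D d B := by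
  simp only [List.mem_cons, List.not_mem_nil, or_false] at hD
  rcases hD with rfl | rfl | rfl | rfl | rfl | rfl | rfl
  exacts [⟨_, _, paraFact_chevG2⟩, ⟨_, _, paraFact_chevB2⟩, ⟨_, _, paraFact_chevD4⟩, ⟨_, _, paraFact_chevF4⟩,
    ⟨_, _, paraFact_chevE6⟩, ⟨_, _, paraFact_chevE7⟩, ⟨_, _, paraFact_chevE8⟩]

end Cfsg.Agent.Chev.BNSetup
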