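/-
Generated certificate for the tables of Def_ChevB2: data only.
-/
import Cfsg.Agent.Lib.Chev.Cert

set_option autoImplicit false

namespace Cfsg.Agent.Chev.B2

def chainRow0 : ℕ × List ℕ := (0x1b000000015000000000000000000000000000000000000000000000, [5, 6])

def chainRow1 : ℕ × List ℕ := (0x1283300000000000000002200000681d00000000000000000e000000000000000000, [2, 4, 5, 7])

def chainRow2 : ℕ × List ℕ := (0x1583d00000002a00000000000000000000000581500000000000000000a000000000, [1, 3, 6, 7])

def chainRow3 : ℕ × List ℕ := (0x35000000000000000000000000000000000013000000000000000000, [2, 6])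

def chainRow4 : ℕ × List ℕ := (0x3d00000000000000000000000000000000001b000000000, [1, 5])

def chainRow5 : ℕ × List ℕ := (0x4600000000000002183b000000000000000000000000026000011813, [0, 1, 4, 6])

def chainRow6 : ℕ × List ℕ := (0x4200000000000002283300000002e00000000000001681d, [0, 2, 3, 5])

def chainRow7 : ℕ × List ℕ := (0x3b000000035000000000, [1, 2])

def chainT : Tab (ℕ × List ℕ) := (.node 4 (.node 2 (.node 1 (.leaf chainRow0) (.leaf chainRow1)) (.node 1 (.leaf chainRow2) (.leaf chainRow3))) (.node 2 (.node 1 (.leaf chainRow4) (.leaf chainRow5)) (.node 1 (.leaf chainRow6) (.leaf chainRow7))))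

def rep0 : Rep where
  root := 6
  bases := [6, 7, 5, 3, 1]
  tree := [(0, 7), (0, 5), (0, 3)]

def rep1 : Rep where
  root := 7
  bases := [6, 7, 4, 2, 0]
  tree := [(1, 6), (1, 4), (1, 2)]

/-- The certificate for type B2. -/
def cert : Cert where
  rank := 2
  nroots := 8
  simpleP := 0x405
  negP := 0x1020304050607
  corootP := 0x9090a09080909080708080706070707
  cartanP := 0x809070a060907080a080a060a060806
  reflP := 0x7050603040102000406020700050103
  etaP := 0x5aff
  chainT := chainT
  stree := [(0, 5), (1, 5), (0, 4), (1, 4), (1, 2), (0, 3)]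
  reps := [rep0, rep1]
  rtree := [(1, 6), (0, 7), (0, 5), (1, 4), (1, 2), (0, 3)]

end Cfsg.Agent.Chev.B2
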