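/-
Generated certificate for the tables of Def_ChevG2: data only.
-/
import Cfsg.Agent.Lib.Chev.Cert

set_option autoImplicit false

namespace Cfsg.Agent.Chev.G2

def chainRow0 : ℕ × List ℕ := (0x3300000002300000001d000000000000000015000000000000000000000000000000000000000000000000000000, [6, 8, 9, 10])

def chainRow1 : ℕ × List ℕ := (0x3b00000000000000002b00000000000000001d00000000000000000d000000000000000000000000000000000000000000000, [5, 7, 9, 11])

def chainRow2 : ℕ × List ℕ := (0x4c1584b00341284300000000000000b82e00000482200000000000000000000000001700000000f000000000000000000000000000, [3, 4, 7, 8, 10, 11])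

def chainRow3 : ℕ × List ℕ := (0xcc2285500000000000001884600000000000000003100340d82d00000000000000781a000000000000000009000000000000000000, [2, 4, 6, 7, 9, 11])

def chainRow4 : ℕ × List ℕ := (0xf42585500001f84a000000039000000000000000000004c0e82500000000000000881e000000011000000000000000000, [2, 3, 5, 8, 9, 10])

def chainRow5 : ℕ × List ℕ := (0x5d00000000000000000000000004500000000000000000000000000000000002300000000000000000000000000b000000000, [1, 4, 8, 11])

def chainRow6 : ℕ × List ℕ := (0x6500000000000000000000000004d00000000000000000000000000000000002b000000000000000000000000013, [0, 3, 7, 10])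

def chainRow7 : ℕ × List ℕ := (0x5f00002c85200000000001742a84b00000000000000000000000003700001b82600cc1181b000000000, [1, 2, 3, 6, 8, 9])

def chainRow8 : ℕ × List ℕ := (0x67000000000000033856000000000018c2984300000003f00000000000001c82a00000000000f41681b, [0, 2, 4, 5, 7, 9])

def chainRow9 : ℕ × List ℕ := (0x6100000005900000000000000000000003084e00002f842000000000018c2682d017421825, [0, 1, 3, 4, 7, 8])

def chainRow10 : ℕ × List ℕ := (0x63000000000000000053000000000000000045000000000000000035, [0, 2, 4, 6])

def chainRow11 : ℕ × List ℕ := (0x5b00000000000000005300000004d00000003d000000000, [1, 2, 3, 5])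

def chainT : Tab (ℕ × List ℕ) := (.node 6 (.node 3 (.node 1 (.leaf chainRow0) (.node 1 (.leaf chainRow1) (.leaf chainRow2))) (.node 1 (.leaf chainRow3) (.node 1 (.leaf chainRow4) (.leaf chainRow5)))) (.node 3 (.node 1 (.leaf chainRow6) (.node 1 (.leaf chainRow7) (.leaf chainRow8))) (.node 1 (.leaf chainRow9) (.node 1 (.leaf chainRow10) (.leaf chainRow11)))))

def rep0 : Rep where
  root := 9
  bases := [9, 8, 11, 6, 4, 1, 2]
  tree := [(1, 8), (1, 11), (1, 6), (1, 4), (1, 1)]

def rep1 : Rep where
  root := 11
  bases := [9, 11, 10, 7, 5, 0, 3]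
  tree := [(0, 9), (0, 10), (0, 7), (0, 5), (0, 3)]

/-- The certificate for type G2. -/
def cert : Cert where
  rank := 2
  nroots := 12
  simpleP := 0x607
  negP := 0x102030405060708090a0b
  corootP := 0xa0909090b0a0b0908090908070808070507050607070607
  cartanP := 0x9070809070a060907080907080b09070a050b0609070508
  reflP := 0xa0b090708050603040200010b060809040a010702030500
  etaP := 0x969696
  chainT := chainT
  stree := [(0, 7), (1, 7), (0, 6), (1, 6), (1, 4), (0, 8), (1, 10), (0, 5), (0, 3), (1, 1)]
  reps := [rep0, rep1]
  rtree := [(0, 9), (1, 11), (1, 8), (0, 10), (0, 7), (1, 6), (1, 4), (0, 5), (0, 3), (1, 1)]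

end Cfsg.Agent.Chev.G2
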