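/-
Kernel checks of the certificate for the tables of Def_ChevG2.
-/
import Cfsg.Prelude.Def_ChevG2
import Cfsg.Agent.Lib.Chev.DataG2

set_option autoImplicit false

namespace Cfsg.Agent.Chev.G2

open Cfsg.Lie

theorem tie_ok : cert.chkTie chevG2 = true := by decide +kernel

theorem chkBase_ok : cert.chkBase = true := by decide +kernel

theorem chkWeight_ok : cert.chkWeight = true := by decide +kernel

theorem chkTrees_ok : cert.chkTrees = true := by decide +kernel

theorem chkComm_ok : cert.chkComm = true := by decide +kernel

theorem chkRefl_ok0 : cert.chkRefl 0 = true := by decide +kernel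

theorem chkRefl_ok1 : cert.chkRefl 1 = true := by decide +kernel

theorem chkChain_ok0 : cert.chkChain 0 = true := by decide +kernel

theorem chkChain_ok1 : cert.chkChain 1 = true := by decide +kernel

theorem chkN_ok0 : cert.chkN 0 = true := by decide +kernel

theorem chkN_ok1 : cert.chkN 1 = true := by decide +kernel

theorem chkAdd_ok0 : cert.chkAdd 0 = true := by decide +kernel

theorem chkAdd_ok1 : cert.chkAdd 1 = true := by decide +kernel

theorem chkLong_ok0 : cert.chkLong 0 = true := by decide +kernel

theorem chkLong_ok1 : cert.chkLong 1 = true := by decide +kernel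

theorem valid : Valid chevG2 cert where
  tie := tie_ok
  base := chkBase_ok
  weight := chkWeight_ok
  trees := chkTrees_ok
  comm := chkComm_ok
  refl := fun i hi => match i, hi with
    | 0, _ => chkRefl_ok0
    | 1, _ => chkRefl_ok1
    | j + 2, h => absurd h (Nat.not_lt.mpr (Nat.le_add_left 2 j))
  chain := fun i hi => match i, hi with
    | 0, _ => chkChain_ok0
    | 1, _ => chkChain_ok1
    | j + 2, h => absurd h (Nat.not_lt.mpr (Nat.le_add_left 2 j))
  long := Or.inr <| fun i hi => match i, hi with
    | 0, _ => chkLong_ok0
    | 1, _ => chkLong_ok1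
    | j + 2, h => absurd h (Nat.not_lt.mpr (Nat.le_add_left 2 j))
  nMon := fun i hi => match i, hi with
    | 0, _ => chkN_ok0
    | 1, _ => chkN_ok1
    | j + 2, h => absurd h (Nat.not_lt.mpr (Nat.le_add_left 2 j))
  add := fun i hi => match i, hi with
    | 0, _ => chkAdd_ok0
    | 1, _ => chkAdd_ok1
    | j + 2, h => absurd h (Nat.not_lt.mpr (Nat.le_add_left 2 j))

theorem good : Good chevG2 := ⟨cert, valid⟩

end Cfsg.Agent.Chev.G2
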