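/-
The seven tabulated data are certified.
-/
import Cfsg.Agent.Lib.Chev.Relations
import Cfsg.Agent.Lib.Chev.CheckG2
import Cfsg.Agent.Lib.Chev.CheckB2
import Cfsg.Agent.Lib.Chev.CheckD4
import Cfsg.Agent.Lib.Chev.CheckF4
import Cfsg.Agent.Lib.Chev.CheckE6
import Cfsg.Agent.Lib.Chev.CheckE7
import Cfsg.Agent.Lib.Chev.CheckE8

set_option autoImplicit false

namespace Cfsg.Agent.Chev

open Cfsg.Lie

theorem good_of_mem {D : ChevalleyDatum} (hD : D ∈ [chevG2, chevB2, chevD4, chevF4, chevE6, chevE7, chevE8]) :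
    Good D := by
  simp only [List.mem_cons, List.not_mem_nil, or_false] at hD
  rcases hD with rfl | rfl | rfl | rfl | rfl | rfl | rfl
  exacts [G2.good, B2.good, D4.good, F4.good, E6.good, E7.good, E8.good]

end Cfsg.Agent.Chev
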