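/-
Root elements of a certified Chevalley datum as elements of the general linear group, with their relations.
-/
import Cfsg.Agent.Lib.Chev.Relations
import Cfsg.Prelude.Def_Steinberg

set_option autoImplicit false

namespace Cfsg.Agent.Chev

open Cfsg.Lie Matrix

/-- x_r(t) as an element of GL (1 where the matrix is not invertible). -/
noncomputable def xg (D : ChevalleyDatum) (F : Type*) [Field F] (r : ℕ) (t : F) : GL D.Idx F :=
  open Classical in if h : IsUnit (D.x F r t) then h.unit else 1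

/-- A word in root elements as an element of GL. -/
noncomputable def wordG (D : ChevalleyDatum) (F : Type*) [Field F] (w : List (ℕ × F)) : GL D.Idx F :=
  (w.map fun p => xg D F p.1 p.2).prod

/-- n_r(t) as an element of GL. -/
noncomputable def nG (D : ChevalleyDatum) (F : Type*) [Field F] (r : ℕ) (t : F) : GL D.Idx F :=
  wordG D F (D.nWord r t)

/-- h_r(t) as an element of GL. -/
noncomputable def hG (D : ChevalleyDatum) (F : Type*) [Field F] (r : ℕ) (t : F) : GL D.Idx F :=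
  wordG D F (D.hWord r t)

variable {F : Type*} [Field F] {D : ChevalleyDatum}

theorem x_of_le {r : ℕ} (h : D.nroots ≤ r) (t : F) : D.x F r t = 1 :=
  dif_neg (Nat.not_lt.2 h)

theorem wordG_append (w w' : List (ℕ × F)) : wordG D F (w ++ w') = wordG D F w * wordG D F w' := by
  simp [wordG]

theorem nG_eq (r : ℕ) (t : F) : nG D F r t = xg D F r t * xg D F (D.neg r) (-t⁻¹) * xg D F r t := by
  simp [nG, wordG, ChevalleyDatum.nWord, mul_assoc]

theorem hG_eq (r : ℕ) (t : F) : hG D F r t = nG D F r t * nG D F r (-1) := by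
  simp [hG, nG, ChevalleyDatum.hWord, wordG_append]

namespace Good

variable (hD : Good D)
include hD

theorem isUnit_x (r : ℕ) (t : F) : IsUnit (D.x F r t) := by
  by_cases hr : r < D.nroots
  · refine ⟨⟨D.x F r t, D.x F r (-t), ?_, ?_⟩, rfl⟩
    · rw [hD.x_add hr, add_neg_cancel, hD.x_zero hr]
    · rw [hD.x_add hr, neg_add_cancel, hD.x_zero hr]
  · rw [x_of_le (Nat.le_of_not_lt hr)]; exact isUnit_one

theorem coe_xg (r : ℕ) (t : F) : ((xg D F r t : GL D.Idx F) : Matrix D.Idx D.Idx F) = D.x F r t := by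
  rw [xg, dif_pos (hD.isUnit_x r t)]; rfl

theorem coe_wordG (w : List (ℕ × F)) : ((wordG D F w : GL D.Idx F) : Matrix D.Idx D.Idx F) = D.wordMat F w := by
  induction w with
  | nil => simp [wordG, ChevalleyDatum.wordMat]
  | cons p w ih =>
    simp only [wordG, ChevalleyDatum.wordMat, List.map_cons, List.prod_cons, Units.val_mul] at ih ⊢
    rw [hD.coe_xg, ih]

theorem coe_nG (r : ℕ) (t : F) : ((nG D F r t : GL D.Idx F) : Matrix D.Idx D.Idx F) = D.nMat F r t :=
  hD.coe_wordG _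

theorem coe_hG (r : ℕ) (t : F) : ((hG D F r t : GL D.Idx F) : Matrix D.Idx D.Idx F) = D.hMat F r t :=
  hD.coe_wordG _

theorem eq_xg {g : GL D.Idx F} {r : ℕ} {t : F} (h : (g : Matrix D.Idx D.Idx F) = D.x F r t) : g = xg D F r t :=
  Units.ext (h.trans (hD.coe_xg r t).symm)

theorem xg_zero (r : ℕ) : xg D F r 0 = 1 := by
  refine Units.ext ?_
  rw [hD.coe_xg, Units.val_one]
  by_cases hr : r < D.nroots
  · exact hD.x_zero hr
  · exact x_of_le (Nat.le_of_not_lt hr) 0

theorem xg_add (r : ℕ) (t u : F) : xg D F r t * xg D F r u = xg D F r (t + u) := by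
  refine Units.ext ?_
  rw [Units.val_mul, hD.coe_xg, hD.coe_xg, hD.coe_xg]
  by_cases hr : r < D.nroots
  · exact hD.x_add hr t u
  · simp [x_of_le (Nat.le_of_not_lt hr)]

theorem xg_inv (r : ℕ) (t : F) : (xg D F r t)⁻¹ = xg D F r (-t) :=
  inv_eq_of_mul_eq_one_right (by rw [hD.xg_add, add_neg_cancel, hD.xg_zero])

theorem xg_mem_rootSubgroup (r : ℕ) (t : F) : xg D F r t ∈ D.rootSubgroup F r :=
  Subgroup.subset_closure ⟨t, hD.coe_xg r t⟩

theorem mem_rootSubgroup_iff {r : ℕ} {g : GL D.Idx F} :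
    g ∈ D.rootSubgroup F r ↔ ∃ t : F, g = xg D F r t := by
  refine ⟨fun hg => ?_, ?_⟩
  · unfold ChevalleyDatum.rootSubgroup at hg
    induction hg using Subgroup.closure_induction with
    | mem x hx => obtain ⟨t, ht⟩ := hx; exact ⟨t, hD.eq_xg ht⟩
    | one => exact ⟨0, (hD.xg_zero r).symm⟩
    | mul a b _ _ ha hb => obtain ⟨s, rfl⟩ := ha; obtain ⟨t, rfl⟩ := hb; exact ⟨s + t, hD.xg_add r s t⟩
    | inv a _ ha => obtain ⟨s, rfl⟩ := ha; exact ⟨-s, hD.xg_inv r s⟩
  · rintro ⟨t, rfl⟩; exact hD.xg_mem_rootSubgroup r t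

theorem xg_mem_group (r : ℕ) (t : F) : xg D F r t ∈ D.group F := by
  by_cases hr : r < D.nroots
  · refine Subgroup.subset_closure ⟨⟨r, hr⟩, t, ?_⟩
    rw [hD.coe_xg, ChevalleyDatum.x, dif_pos hr]
  · have : xg D F r t = 1 := Units.ext (by rw [hD.coe_xg, x_of_le (Nat.le_of_not_lt hr), Units.val_one])
    rw [this]; exact one_mem _

theorem wordG_mem_group (w : List (ℕ × F)) : wordG D F w ∈ D.group F := by
  refine list_prod_mem fun x hx => ?_
  obtain ⟨p, -, rfl⟩ := List.mem_map.1 hx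
  exact hD.xg_mem_group _ _

theorem nG_mem_group (r : ℕ) (t : F) : nG D F r t ∈ D.group F := hD.wordG_mem_group _

theorem hG_mem_group (r : ℕ) (t : F) : hG D F r t ∈ D.group F := hD.wordG_mem_group _

theorem group_eq_closure : D.group F = Subgroup.closure {g | ∃ r < D.nroots, ∃ t : F, g = xg D F r t} := by
  unfold ChevalleyDatum.group
  congr 1
  ext g
  constructor
  · rintro ⟨r, t, h⟩
    refine ⟨r, r.2, t, hD.eq_xg ?_⟩
    rw [h, ChevalleyDatum.x, dif_pos r.2]
  · rintro ⟨r, hr, t, rfl⟩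
    exact ⟨⟨r, hr⟩, t, by rw [hD.coe_xg, ChevalleyDatum.x, dif_pos hr]⟩

/-- Chevalley's commutator formula in GL. -/
theorem xg_comm {r s : ℕ} (hr : r < D.nroots) (hs : s < D.nroots) (h1 : s ≠ r) (h2 : s ≠ D.neg r) (t u : F) :
    xg D F s u * xg D F r t = xg D F r t * xg D F s u * wordG D F (D.commWord F r s t u) := by
  refine Units.ext ?_
  simp only [Units.val_mul, hD.coe_xg, hD.coe_wordG]
  exact hD.comm_formula hr hs h1 h2 t u

theorem xg_commutator {r s : ℕ} (hr : r < D.nroots) (hs : s < D.nroots) (h1 : s ≠ r) (h2 : s ≠ D.neg r) (t u : F) :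
    (xg D F s u)⁻¹ * (xg D F r t)⁻¹ * xg D F s u * xg D F r t = wordG D F (D.commWord F r s t u) := by
  rw [mul_assoc _ (xg D F s u) (xg D F r t), hD.xg_comm hr hs h1 h2]
  group

theorem nG_mul_nG {r : ℕ} (hr : r < D.nroots) {a b : F} (ha : a ≠ 0) (hb : b ≠ 0) :
    ((nG D F r a * nG D F r b : GL D.Idx F) : Matrix D.Idx D.Idx F) =
      hdiag D (fun s => (-(a / b)) ^ D.pairing r s) := by
  rw [Units.val_mul, hD.coe_nG, hD.coe_nG, hD.nMat_mul_nMat hr ha hb]

theorem nG_inv {r : ℕ} (hr : r < D.nroots) {a : F} (ha : a ≠ 0) : (nG D F r a)⁻¹ = nG D F r (-a) := by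
  refine inv_eq_of_mul_eq_one_right (Units.ext ?_)
  rw [hD.nG_mul_nG hr ha (neg_ne_zero.2 ha), Units.val_one, ← hdiag_one D]
  exact hdiag_congr D fun s _ => by rw [div_neg, div_self ha, _root_.neg_neg, _root_.one_zpow]

theorem coe_hG_eq {r : ℕ} (hr : r < D.nroots) {t : F} (ht : t ≠ 0) :
    ((hG D F r t : GL D.Idx F) : Matrix D.Idx D.Idx F) = hdiag D (fun s => t ^ D.pairing r s) := by
  rw [hD.coe_hG, hD.hMat_eq hr ht]

theorem coe_hG_simple {i : ℕ} (hi : i < D.rank) {t : F} (ht : t ≠ 0) :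
    ((hG D F (D.simple i) t : GL D.Idx F) : Matrix D.Idx D.Idx F) = hdiag D (fun s => t ^ D.cartan i s) := by
  rw [hD.coe_hG, hD.hMat_simple_eq hi ht]

theorem hG_mul {r : ℕ} (hr : r < D.nroots) {t u : F} (ht : t ≠ 0) (hu : u ≠ 0) :
    hG D F r t * hG D F r u = hG D F r (t * u) := by
  refine Units.ext ?_
  rw [Units.val_mul, hD.coe_hG_eq hr ht, hD.coe_hG_eq hr hu, hD.coe_hG_eq hr (mul_ne_zero ht hu), hdiag_mul]
  exact hdiag_congr D fun s _ => (mul_zpow t u _).symm

theorem hG_comm {r r' : ℕ} (hr : r < D.nroots) (hr' : r' < D.nroots) {t u : F} (ht : t ≠ 0) (hu : u ≠ 0) :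
    hG D F r t * hG D F r' u = hG D F r' u * hG D F r t := by
  refine Units.ext ?_
  rw [Units.val_mul, Units.val_mul, hD.coe_hG_eq hr ht, hD.coe_hG_eq hr' hu, hdiag_mul, hdiag_mul]
  exact hdiag_congr D fun s _ => mul_comm _ _

/-- h_r(t) = ∏ h_{p_i}(t^{c_i}) with the coroot coefficients c_i. -/
theorem hG_eq_prod {r : ℕ} (hr : r < D.nroots) {t : F} (ht : t ≠ 0) :
    hG D F r t = ((List.range D.rank).map fun i =>
      hG D F (D.simple i) (t ^ (D.coroot.getD r #[]).getD i 0)).prod := by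
  have key : ∀ L : List ℕ, (∀ i ∈ L, i < D.rank) →
      (((L.map fun i => hG D F (D.simple i) (t ^ (D.coroot.getD r #[]).getD i 0)).prod : GL D.Idx F) :
        Matrix D.Idx D.Idx F) =
        hdiag D (fun s => t ^ (L.map fun i => (D.coroot.getD r #[]).getD i 0 * D.cartan i s).sum) := by
    intro L hL
    induction L with
    | nil => simp [hdiag_one]
    | cons i L ih =>
      rw [List.map_cons, List.prod_cons, Units.val_mul, ih fun j hj => hL j (List.mem_cons_of_mem _ hj),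
        hD.coe_hG_simple (hL i List.mem_cons_self) (zpow_ne_zero _ ht), hdiag_mul]
      refine hdiag_congr D fun s _ => ?_
      rw [List.map_cons, List.sum_cons, zpow_add₀ ht, _root_.zpow_mul]
  refine Units.ext ?_
  rw [key _ fun i hi => List.mem_range.1 hi, hD.coe_hG_eq hr ht]
  rfl

theorem hG_mul_xg {i : ℕ} (hi : i < D.rank) {s : ℕ} (hs : s < D.nroots) {a : F} (ha : a ≠ 0) (t : F) :
    hG D F (D.simple i) a * xg D F s t = xg D F s (a ^ D.cartan i s * t) * hG D F (D.simple i) a := by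
  refine Units.ext ?_
  simp only [Units.val_mul, hD.coe_hG, hD.coe_xg]
  exact hD.hMat_mul_x hi hs ha t

/-- n_p x_s(t) = x_{w_p(s)}(±t) n_p in GL, with one sign function for each node. -/
theorem exists_sign_xg {i : ℕ} (hi : i < D.rank) :
    ∃ η : ℕ → F, (∀ s < D.nroots, η s * η s = 1 ∧ η (D.neg s) = η s) ∧
      ∀ s < D.nroots, ∀ t : F, nG D F (D.simple i) 1 * xg D F s t =
        xg D F (D.reflectRoot i s) (η s * t) * nG D F (D.simple i) 1 := by
  obtain ⟨η, h1, -, -, h4, -, -, h7⟩ := hD.exists_sign (F := F) hi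
  refine ⟨fun s => (η s : F), fun s hs => ?_, fun s hs t => Units.ext ?_⟩
  · have h2 : η s * η s = 1 := by rcases h1 s hs with h | h <;> rw [h] <;> rfl
    refine ⟨by rw [← Int.cast_mul, h2, Int.cast_one], congrArg _ ?_⟩
    calc η (D.neg s) = η s * η s * η (D.neg s) := by rw [h2, one_mul]
      _ = η s := by rw [mul_assoc, (h4 s hs).2, mul_one]
  · simp only [Units.val_mul, hD.coe_nG, hD.coe_xg]
    exact h7 s hs t

/-- n_p h_r(t) = h_{w_p(r)}(t) n_p. -/
theorem nG_mul_hG {i : ℕ} (hi : i < D.rank) {r : ℕ} (hr : r < D.nroots) {t : F} (ht : t ≠ 0) :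
    nG D F (D.simple i) 1 * hG D F r t = hG D F (D.reflectRoot i r) t * nG D F (D.simple i) 1 := by
  refine Units.ext ?_
  rw [Units.val_mul, Units.val_mul, hD.coe_nG, hD.coe_hG_eq hr ht, hD.coe_hG_eq (hD.reflectRoot_lt hi hr) ht]
  obtain ⟨c, hV⟩ := hD
  rw [hV.nMat_mul_hdiag hi]
  congr 1
  refine hdiag_congr D fun s hs => ?_
  rw [hV.pair_eq hr (hV.w_lt hi hs), hV.w_eq_reflectRoot hi hr, hV.pair_eq (hV.w_lt hi hr) hs, ← hV.pair_w hi hr (hV.w_lt hi hs), hV.w_w hi hs]

/-- n_p n_r(t) = n_{w_p(r)}(± t) n_p. -/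
theorem exists_nG_mul_nG {i : ℕ} (hi : i < D.rank) {r : ℕ} (hr : r < D.nroots) :
    ∃ e : F, e * e = 1 ∧ ∀ t : F,
      nG D F (D.simple i) 1 * nG D F r t = nG D F (D.reflectRoot i r) (e * t) * nG D F (D.simple i) 1 := by
  obtain ⟨c, hV⟩ := id hD
  refine ⟨(c.η i r : F), hV.eta_cast_sq hi hr, fun t => Units.ext ?_⟩
  simp only [Units.val_mul, hD.coe_nG]
  rw [hV.nMat_conj_nMat hi hr, hV.w_eq_reflectRoot hi hr]

theorem nG_simple_sq {i : ℕ} (hi : i < D.rank) :
    nG D F (D.simple i) 1 * nG D F (D.simple i) 1 = hG D F (D.simple i) (-1) := by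
  refine Units.ext ?_
  rw [hD.nG_mul_nG (hD.simple_lt hi) one_ne_zero one_ne_zero,
    hD.coe_hG_eq (hD.simple_lt hi) (neg_ne_zero.2 one_ne_zero)]
  simp

theorem steinberg_relation {r : ℕ} {t₁ t₂ : F} :
    wordG D F [(r, t₁)] * wordG D F [(r, t₂)] = wordG D F [(r, t₁ + t₂)] := by
  simp [wordG, hD.xg_add]

/-- The map from the group presented by Steinberg's relations onto the Chevalley group. -/
theorem exists_steinberg_hom :
    ∃ θ : D.SteinbergGroup F →* ↥(D.group F), Function.Surjective θ ∧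
      ∀ (r : ℕ) (t : F), r < D.nroots → ((θ (D.stGen F r t) : GL D.Idx F) : Matrix D.Idx D.Idx F) = D.x F r t := by
  let f : Fin D.nroots × F → ↥(D.group F) := fun p => ⟨xg D F p.1.val p.2, hD.xg_mem_group _ _⟩
  have hX : ∀ r < D.nroots, ∀ t : F, ((FreeGroup.lift f (D.stX r t) : ↥(D.group F)) : GL D.Idx F) = xg D F r t := by
    intro r hr t; simp [ChevalleyDatum.stX, hr, f]
  have hW : ∀ w : List (ℕ × F), (∀ p ∈ w, p.1 < D.nroots) →
      ((FreeGroup.lift f (D.stWord w) : ↥(D.group F)) : GL D.Idx F) = wordG D F w := by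
    intro w hw
    induction w with
    | nil => simp [ChevalleyDatum.stWord, wordG]
    | cons p w ih =>
      simp only [ChevalleyDatum.stWord, wordG, List.map_cons, List.prod_cons, map_mul, Subgroup.coe_mul] at ih ⊢
      rw [hX _ (hw p List.mem_cons_self), ih fun q hq => hw q (List.mem_cons_of_mem _ hq)]
  have hH : ∀ r < D.nroots, ∀ t : F, ((FreeGroup.lift f (D.stH r t) : ↥(D.group F)) : GL D.Idx F) = hG D F r t :=
    fun r hr t => hW _ (by simp [ChevalleyDatum.hWord, ChevalleyDatum.nWord, hr, hD.neg_lt hr])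
  have hrels : ∀ g ∈ D.steinbergRels F, FreeGroup.lift f g = 1 := by
    intro g hg
    apply Subtype.ext
    rcases hg with (⟨r, t₁, t₂, hr, rfl⟩ | ⟨r, s, t, u, hr, hs, h1, h2, rfl⟩) | ⟨r, t₁, t₂, hr, h1, h2, rfl⟩
    · simp only [map_mul, map_inv, Subgroup.coe_mul, Subgroup.coe_inv, hX r hr, hD.xg_add, mul_inv_cancel,
        Subgroup.coe_one]
    · have hw : ∀ p ∈ D.commWord F r s t u, p.1 < D.nroots := by
        intro p hp
        obtain ⟨x, hx, rfl⟩ := List.mem_map.1 hp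
        exact hD.commTerms_lt hr hs hx
      simp only [map_mul, map_inv, Subgroup.coe_mul, Subgroup.coe_inv, hX r hr, hX s hs, hW _ hw,
        hD.xg_commutator hr hs h1 h2, mul_inv_cancel, Subgroup.coe_one]
    · simp only [map_mul, map_inv, Subgroup.coe_mul, Subgroup.coe_inv, hH r hr, hD.hG_mul hr h1 h2, mul_inv_cancel,
        Subgroup.coe_one]
  refine ⟨PresentedGroup.toGroup hrels, ?_, ?_⟩
  · have hle : D.group F ≤ (PresentedGroup.toGroup hrels).range.map (D.group F).subtype := by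
      conv_lhs => rw [hD.group_eq_closure]
      rw [Subgroup.closure_le]
      rintro x ⟨r, hr, t, rfl⟩
      exact ⟨_, ⟨PresentedGroup.of (⟨r, hr⟩, t), rfl⟩, by simp [f]⟩
    rintro ⟨g, hg⟩
    obtain ⟨y, ⟨a, rfl⟩, hy⟩ := hle hg
    exact ⟨a, Subtype.ext hy⟩
  · intro r t hr
    have : PresentedGroup.toGroup hrels (D.stGen F r t) = FreeGroup.lift f (D.stX r t) := rfl
    rw [this, hX r hr, hD.coe_xg]

end Good

end Cfsg.Agent.Chev
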