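import Cfsg.Agent.Lib.Chev.TwistGroup
import Cfsg.Agent.Lib.Chev.Elements

/-!
# Perfectness and simplicity criteria for twisted Chevalley groups: elements in the derived subgroup
-/

set_option autoImplicit false

namespace Cfsg.Agent.Chev.BNSetup

open Cfsg.Lie
open Cfsg.Agent.RootBN (evWord look)

variable {F : Type*} [Field F] {D : ChevalleyDatum} (hG : Good D)

include hG in
theorem xg_eq_xe (r : ℕ) (t : F) : Chev.xg D F r t = xe hG r t :=
  Units.ext ((hG.coe_xg r t).trans (coe_xe hG r t).symm)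

theorem he_conj_xe {i : ℕ} (hi : i < D.rank) {s : ℕ} (hs : s < D.nroots) {a : F} (ha : a ≠ 0) (t : F) :
    he hG (D.simple i) a * xe hG s t = xe hG s (a ^ D.cartan i s * t) * he hG (D.simple i) a := by
  have h := hG.hG_mul_xg hi hs ha t
  rwa [xg_eq_xe hG, xg_eq_xe hG,
    show Chev.hG D F (D.simple i) a = he hG (D.simple i) a from
      Units.ext ((hG.coe_hG _ a).trans (coe_he hG _ a).symm)] at h

variable {G : GraphTab} {O : OrbTab} {no nj : ℕ} [NeZero no] [NeZero nj]
  {tabs simps : List ℕ} (hO : O.OK no nj D G tabs simps) (φ : F ≃+* F)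
  (hf : Facts D tabs simps) (hn : NegTri D) (hcol : ∃ c, Valid D c ∧ G.colsOK D c = true)
include hG hf

/-- Along a word, root elements go to root elements up to a sign. -/
theorem nw_conj_xe_sign (d : List (Fin D.rank)) (s : Fin D.nroots) :
    ∃ e : F, (e = 1 ∨ e = -1) ∧ ∀ t : F, (data hG F).nw d * xe hG s.val t * ((data hG F).nw d)⁻¹ =
      xe hG ((data hG F).wl d s).val (e * t) := by
  induction d with
  | nil => exact ⟨1, Or.inl rfl, fun t => by simp⟩
  | cons i d ih =>
    obtain ⟨e, he, h⟩ := ih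
    obtain ⟨e', he', h', -⟩ := exists_conj hG (F := F) i.2 ((data hG F).wl d s).2
    refine ⟨e' * e, ?_, fun t => ?_⟩
    · rcases mul_self_eq_one_iff.1 he' with rfl | rfl <;> rcases he with rfl | rfl <;> simp
    · have h1 := h' (e * t)
      rw [← h t] at h1
      rw [RootBN.Data.nw_cons, RootBN.Data.wl_cons, Equiv.Perm.mul_apply, mul_assoc e' e t]
      refine Eq.trans ?_ (h1.trans ?_)
      · rw [show (data hG F).nn i = ne' hG (D.simple i.val) 1 from rfl]
        group
      · congr 2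

include hO hn hcol

/-- The derived subgroup of the twisted group inside the general linear group. -/
def derivedGt : Subgroup (GL D.Idx F) :=
  have _ := hf
  have _ := hn
  have _ := hcol
  ⁅(twist hG hO φ).Gt, (twist hG hO φ).Gt⁆

theorem derivedGt_le : derivedGt hG hO φ hf hn hcol ≤ (twist hG hO φ).Gt :=
  Subgroup.commutator_le.2 fun a ha b hb => Subgroup.mul_mem _ (Subgroup.mul_mem _
    (Subgroup.mul_mem _ ha hb) (Subgroup.inv_mem _ ha)) (Subgroup.inv_mem _ hb)

theorem conj_mem_derivedGt {g x : GL D.Idx F} (hg : g ∈ (twist hG hO φ).Gt)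
    (hx : x ∈ derivedGt hG hO φ hf hn hcol) : g * x * g⁻¹ ∈ derivedGt hG hO φ hf hn hcol := by
  have h1 : g * x * g⁻¹ = (g * x * g⁻¹ * x⁻¹) * x := by group
  rw [h1]
  exact Subgroup.mul_mem _
    (Subgroup.commutator_mem_commutator hg (derivedGt_le hG hO φ hf hn hcol hx)) hx

/-- The twisted group is perfect once the fixed parts of the simple orbits are derived. -/
theorem commutator_Gt_eq_top
    (h : ∀ j, ∀ a, Compat G φ (O.Jl nj j) a → pv hG D.simple (O.Jl nj j) a ∈ derivedGt hG hO φ hf hn hcol) :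
    commutator ↥(twist hG hO φ).Gt = ⊤ := by
  have hT := twist_axioms hG hO φ hf hn hcol
  have hle : (twist hG hO φ).Gt ≤ derivedGt hG hO φ hf hn hcol := by
    refine Gt_le hG hO φ hf hn hcol fun j a ha => ⟨h j a ha, ?_⟩
    have hy := (mem_X'_opp_iff hG hO φ hf hn hcol j).2 ⟨a, ha, rfl⟩
    have h1 := RootBN.Twist.conj_X' hT (j := j) hy
    have e : (twist hG hO φ).refl' j ((twist hG hO φ).opp' (O.simpF no nj j)) = O.simpF no nj j := by
      have := RootBN.Twist.refl'_refl' hT j ((twist hG hO φ).simp' j)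
      rwa [RootBN.Twist.refl'_simp' hT] at this
    rw [e] at h1
    obtain ⟨b, hb, e2⟩ := (mem_X'_simp_iff hG hO φ hf hn hcol j).1 h1
    have h2 := conj_mem_derivedGt hG hO φ hf hn hcol (Subgroup.inv_mem _ (hT.nn'_mem j)) (e2.symm ▸ h j b hb)
    simpa [mul_assoc] using h2
  have e : (commutator ↥(twist hG hO φ).Gt).map (twist hG hO φ).Gt.subtype =
      derivedGt hG hO φ hf hn hcol := by
    rw [commutator_def, Subgroup.map_commutator, ← MonoidHom.range_eq_map, Subgroup.range_subtype]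
    rfl
  rw [eq_top_iff]
  intro x _
  have hx : (x : GL D.Idx F) ∈ (commutator ↥(twist hG hO φ).Gt).map (twist hG hO φ).Gt.subtype :=
    e.symm ▸ hle x.2
  obtain ⟨y, hy, hxy⟩ := hx
  exact (Subtype.ext hxy : y = x) ▸ hy

/-- The torus criterion, in the own orbit. -/
theorem pv_mem_derived_of_sq (j : Fin nj) {b : ℕ → F} (hb : Compat G φ (O.Jl nj j) b)
    (h0 : ∀ k ∈ O.Jl nj j, b k ≠ 0 ∧ b k * b k ≠ 1)
    (hcart : ∀ k ∈ O.Jl nj j, ∀ m ∈ O.Jl nj j, D.cartan k (D.simple m) = if k = m then 2 else 0)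
    (hh : ((O.Jl nj j).map fun k => he hG (D.simple k) (b k)).prod ∈ (twist hG hO φ).Gt)
    {a : ℕ → F} (ha : Compat G φ (O.Jl nj j) a) :
    pv hG D.simple (O.Jl nj j) a ∈ derivedGt hG hO φ hf hn hcol := by
  classical
  have hS := hO.2.2.1 j
  set J := O.Jl nj j with hJ
  let u : ℕ → F := fun k => a k / (b k * b k - 1)
  have hu : Compat G φ J u := fun k hk => by
    simp only [u, ha k hk, hb k hk, map_div₀, map_sub, map_mul, map_one]
  set h := (J.map fun k => he hG (D.simple k) (b k)).prod with hh'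
  have hscal : ∀ m ∈ J, ∀ L : List ℕ, (∀ k ∈ L, k ∈ J) → L.Nodup → ∀ t : F,
      (L.map fun k => he hG (D.simple k) (b k)).prod * xe hG (D.simple m) t =
        xe hG (D.simple m) ((if m ∈ L then b m * b m else 1) * t) *
          (L.map fun k => he hG (D.simple k) (b k)).prod := by
    intro m hm L
    induction L with
    | nil => intro _ _ t; simp
    | cons k L ih =>
      intro hL hnd t
      rw [List.nodup_cons] at hnd
      have hk := hL k List.mem_cons_self
      rw [List.map_cons, List.prod_cons, mul_assoc,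
        ih (fun x hx => hL x (List.mem_cons_of_mem _ hx)) hnd.2 t, ← mul_assoc,
        he_conj_xe hG (hS.1.1 k hk) (hG.simple_lt (hS.1.1 m hm)) (h0 k hk).1, hcart k hk m hm, mul_assoc]
      congr 2
      by_cases hkm : k = m
      · subst hkm
        rw [if_pos rfl, if_neg hnd.1, if_pos List.mem_cons_self, one_mul, zpow_two]
      · rw [if_neg hkm, zpow_zero, one_mul]
        by_cases hmL : m ∈ L
        · rw [if_pos hmL, if_pos (List.mem_cons_of_mem _ hmL)]
        · rw [if_neg hmL, if_neg (fun h => (List.mem_cons.1 h).elim (fun e => hkm e.symm) hmL)]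
  have key : ∀ L : List ℕ, (∀ k ∈ L, k ∈ J) →
      h * pv hG D.simple L u = pv hG D.simple L (fun k => b k * b k * u k) * h := by
    intro L
    induction L with
    | nil => intro _; simp [pv]
    | cons m L ih =>
      intro hL
      have hm := hL m List.mem_cons_self
      simp only [pv, List.map_cons, List.prod_cons] at ih ⊢
      rw [← mul_assoc, hh', hscal m hm J (fun _ hk => hk) hS.1.2.1, if_pos hm, ← hh', mul_assoc,
        ih (fun x hx => hL x (List.mem_cons_of_mem _ hx)), ← mul_assoc]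
  have hp := (pv_mem_Gt hG hO φ hf hn hcol j hu).1
  have h2 : h * pv hG D.simple J u * h⁻¹ * (pv hG D.simple J u)⁻¹ ∈ derivedGt hG hO φ hf hn hcol :=
    Subgroup.commutator_mem_commutator hh hp
  rw [key J fun _ hk => hk, mul_inv_cancel_right, pv_inv hG (Or.inl rfl) hS.1, pv_mul hG (Or.inl rfl) hS.1]
    at h2
  have e : pv hG D.simple J a = pv hG D.simple J fun k => b k * b k * u k + -u k := by
    refine congrArg List.prod (List.map_congr_left fun k hk => ?_)
    have hne : b k * b k - 1 ≠ 0 := sub_ne_zero.2 (h0 k hk).2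
    simp only [u]
    congr 1
    rw [← sub_eq_add_neg, ← sub_one_mul, mul_div_cancel₀ _ hne]
  rwa [e]

/-- Root elements with fixed parameter of a root reached from a singleton orbit. -/
theorem xe_mem_Gt_of_reach (j : Fin nj) {k : ℕ} (hJ : O.Jl nj j = [k]) (hpi : G.pi.getD k 0 = k)
    (l : List (Fin nj)) {r : ℕ} (hr : evWord tabs (O.flatN nj l) (simps.getD k 0) = r) :
    ∃ e : F, (e = 1 ∨ e = -1) ∧ ∃ g ∈ (twist hG hO φ).Gt,
      (∀ t : F, g * xe hG (D.simple k) t * g⁻¹ = xe hG r (e * t)) ∧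
      ∀ t : F, φ t = t → xe hG r t ∈ (twist hG hO φ).Gt := by
  have hT := twist_axioms hG hO φ hf hn hcol
  have hk : k < D.rank := (hO.2.2.1 j).1.1 k (by rw [hJ]; exact List.mem_cons_self)
  obtain ⟨e, he, h⟩ := nw_conj_xe_sign (F := F) hG hf ((twist hG hO φ).flat l) ⟨D.simple k, hG.simple_lt hk⟩
  have hg : (data hG F).nw ((twist hG hO φ).flat l) ∈ (twist hG hO φ).Gt :=
    RootBN.Twist.flat_mem_Gt hT l
  have hr' : ((data hG F).wl ((twist hG hO φ).flat l) ⟨D.simple k, hG.simple_lt hk⟩).val = r := by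
    rw [wl_val hG hf, flat_val hG hO φ, show ((⟨D.simple k, hG.simple_lt hk⟩ : Fin D.nroots) : ℕ) = D.simple k
      from rfl, (hf.2.2.2.2.1 k hk).1]
    exact hr
  rw [hr'] at h
  refine ⟨e, he, _, hg, h, fun t ht => ?_⟩
  have hc : Compat G φ (O.Jl nj j) fun _ => e * t := by
    intro x hx
    rcases he with rfl | rfl <;> simp [ht]
  have hp := (pv_mem_Gt hG hO φ hf hn hcol j hc).1
  rw [pv, hJ, List.map_singleton, List.prod_singleton] at hp
  have := Subgroup.mul_mem _ (Subgroup.mul_mem _ hg hp) (Subgroup.inv_mem _ hg)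
  rw [h, ← mul_assoc, show e * e = 1 by rcases he with rfl | rfl <;> simp, one_mul] at this
  exact this

/-- The commutator criterion for a singleton orbit. -/
theorem pv_mem_derived_of_pair (j : Fin nj) {k : ℕ} (hJ : O.Jl nj j = [k]) (hpi : G.pi.getD k 0 = k)
    (l : List (Fin nj)) {r : ℕ} (hr : evWord tabs (O.flatN nj l) (simps.getD k 0) = r)
    (jβ : Fin nj) {kβ : ℕ} (hJβ : O.Jl nj jβ = [kβ]) (hpiβ : G.pi.getD kβ 0 = kβ)
    (lβ : List (Fin nj)) {β : ℕ} (hβ : evWord tabs (O.flatN nj lβ) (simps.getD kβ 0) = β)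
    (jγ : Fin nj) {kγ : ℕ} (hJγ : O.Jl nj jγ = [kγ]) (hpiγ : G.pi.getD kγ 0 = kγ)
    (lγ : List (Fin nj)) {γ : ℕ} (hγ : evWord tabs (O.flatN nj lγ) (simps.getD kγ 0) = γ)
    (hlt : β < D.nroots ∧ γ < D.nroots ∧ γ ≠ β ∧ γ ≠ D.neg β)
    (hterms : (D.commTerms β γ).map (fun x => (x.1, x.2.1 * x.2.1, x.2.2.2)) = [(r, 1, 1)])
    {a : ℕ → F} (ha : Compat G φ (O.Jl nj j) a) :
    pv hG D.simple (O.Jl nj j) a ∈ derivedGt hG hO φ hf hn hcol := by
  obtain ⟨e, he, g, hg, hconj, -⟩ := xe_mem_Gt_of_reach hG hO φ hf hn hcol j hJ hpi l hr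
  obtain ⟨-, -, -, -, -, hβ'⟩ := xe_mem_Gt_of_reach hG hO φ hf hn hcol jβ hJβ hpiβ lβ hβ
  obtain ⟨-, -, -, -, -, hγ'⟩ := xe_mem_Gt_of_reach hG hO φ hf hn hcol jγ hJγ hpiγ lγ hγ
  obtain ⟨⟨r', C, p, q⟩, hx, hval⟩ := List.map_eq_singleton_iff.1 hterms
  simp only [Prod.mk.injEq] at hval
  obtain ⟨rfl, hC, rfl⟩ := hval
  have hC' : (C : F) * C = 1 := by rw [← Int.cast_mul, hC, Int.cast_one]
  set c : F := (C : F) * (-1) ^ p with hc
  have hcc : c * c = 1 := by
    rw [hc, mul_mul_mul_comm, hC', ← mul_pow, neg_one_mul, neg_neg, one_pow, one_mul]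
  have hφc : φ c = c := by
    rcases mul_self_eq_one_iff.1 hcc with h | h <;> rw [h]
    · exact map_one φ
    · rw [map_neg, map_one]
  have hφa : φ (a k) = a k := by
    have := ha k (by rw [hJ]; exact List.mem_cons_self)
    rw [hpi] at this
    exact this.symm
  set u : F := c * (e * a k) with hu
  have hφu : φ u = u := by
    rcases he with rfl | rfl <;> simp [hu, hφc, hφa]
  have h1 : wordG D F (D.commWord F β γ 1 u) ∈ derivedGt hG hO φ hf hn hcol := by
    rw [← hG.xg_commutator hlt.1 hlt.2.1 hlt.2.2.1 hlt.2.2.2 1 u, xg_eq_xe hG, xg_eq_xe hG]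
    have := Subgroup.commutator_mem_commutator (Subgroup.inv_mem _ (hγ' u hφu))
      (Subgroup.inv_mem _ (hβ' 1 (map_one φ)))
    rwa [commutatorElement_def, inv_inv, inv_inv] at this
  rw [wordG, ChevalleyDatum.commWord, hx, List.map_singleton, List.map_singleton, List.prod_singleton,
    xg_eq_xe hG, pow_one, ← hc, hu, ← mul_assoc, hcc, one_mul, ← hconj] at h1
  have h2 := conj_mem_derivedGt hG hO φ hf hn hcol (Subgroup.inv_mem _ hg) h1
  simp only [mul_assoc, inv_mul_cancel_left, inv_inv, inv_mul_cancel, mul_one] at h2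
  rw [pv, hJ, List.map_singleton, List.prod_singleton]
  exact h2

end Cfsg.Agent.Chev.BNSetup
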