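import Mathlib
import Cfsg.Agent.Lib.Field.Fixed

/-!
# The `q`-th power automorphism of a field with `q ^ e` elements
-/

set_option autoImplicit false

namespace Cfsg.Agent.Chev

variable {K : Type*} [Field K] [Fintype K] {q e : ℕ}

/-- The `q`-th power map as a field automorphism, and its order. -/
theorem exists_qpow_equiv (hq : IsPrimePow q) (hK : Fintype.card K = q ^ e) (he : 0 < e) :
    ∃ φ : K ≃+* K, (∀ x, φ x = x ^ q) ∧ orderOf φ = e ∧ (∀ x, φ^[e] x = x) ∧
      Nat.card {x : K // φ x = x} = q := by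
  obtain ⟨p, k, hp, hk, rfl⟩ := hq
  rw [← Nat.prime_iff] at hp
  have := Fact.mk hp
  have : CharP K p := charP_of_card_eq_prime_pow (hK.trans (pow_mul p k e).symm)
  set φ := iterateFrobeniusEquiv K p k with hφdef
  have hφ : ∀ x, φ x = x ^ p ^ k := iterateFrobeniusEquiv_def K p k
  have hit : ∀ (i : ℕ) (x : K), φ^[i] x = x ^ (p ^ k) ^ i := by
    intro i x
    induction i with
    | zero => simp
    | succ i ih => rw [Function.iterate_succ_apply', ih, hφ, ← pow_mul, ← pow_succ]
  have hpow : ∀ i : ℕ, ∀ x : K, (φ ^ i) x = φ^[i] x := by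
    intro i
    induction i with
    | zero => intro x; rfl
    | succ i ih => intro x; rw [pow_succ', Function.iterate_succ_apply', ← ih]; rfl
  have hlast : ∀ x, φ^[e] x = x := fun x => by rw [hit, ← hK, FiniteField.pow_card]
  have hord : orderOf φ = e := by
    rw [orderOf_eq_iff he]
    refine ⟨RingEquiv.ext fun x => (hpow e x).trans (hlast x), fun i hi hi0 h => ?_⟩
    have hQ : 1 < p ^ k := Nat.one_lt_pow hk.ne' hp.one_lt
    have h1 : (Fintype.card K - 1) ∣ (p ^ k) ^ i - 1 := by
      refine (FiniteField.forall_pow_eq_one_iff K _).1 fun u => ?_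
      have h2 : (u : K) ^ (p ^ k) ^ i = u := by rw [← hit, ← hpow, h]; rfl
      have h3 : u ^ (p ^ k) ^ i = u := Units.ext (by rw [Units.val_pow_eq_pow_val, h2])
      have h4 : 1 ≤ (p ^ k) ^ i := Nat.one_le_pow _ _ (by omega)
      rw [← Nat.sub_add_cancel h4, pow_succ, mul_eq_right] at h3
      exact h3
    have h5 : (p ^ k) ^ i < (p ^ k) ^ e := Nat.pow_lt_pow_right hQ hi
    have h6 : 1 < (p ^ k) ^ i := Nat.one_lt_pow hi0.ne' hQ
    have := Nat.le_of_dvd (by omega) h1
    omega
  refine ⟨φ, hφ, hord, hlast, ?_⟩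
  have h := FieldExt.card_fixedField_pow φ
  rw [hord, hK] at h
  rw [← Nat.pow_left_injective he.ne' h]
  exact Nat.card_congr (Equiv.subtypeEquivRight fun x => FieldExt.mem_fixedField.symm)

end Cfsg.Agent.Chev
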