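import Cfsg.Agent.Lib.Chev.TwistCert
import Cfsg.Agent.Lib.Chev.BNStruct

/-!
# The twisted group: generators, `U`, the core of `B`
-/

set_option autoImplicit false

namespace Cfsg.Agent.Chev.BNSetup

open Cfsg.Lie

variable {D : ChevalleyDatum} (hG : Good D) {G : GraphTab} {O : OrbTab} {no nj : ℕ} [NeZero no] [NeZero nj]
  {tabs simps : List ℕ} (hO : O.OK no nj D G tabs simps) {F : Type*} [Field F] (φ : F ≃+* F)
  (hf : Facts D tabs simps) (hn : NegTri D) (hcol : ∃ c, Valid D c ∧ G.colsOK D c = true)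
include hf hn hcol

/-- The twisted group is generated by the fixed elements of the simple orbits and their opposites. -/
theorem Gt_le {K : Subgroup (GL D.Idx F)}
    (hK : ∀ j, ∀ a, Compat G φ (O.Jl nj j) a → pv hG D.simple (O.Jl nj j) a ∈ K ∧
      pv hG (fun k => D.neg (D.simple k)) (O.Jl nj j) a ∈ K) :
    (twist hG hO φ).Gt ≤ K := by
  have hT := twist_axioms hG hO φ hf hn hcol
  have ax := RootBN.Twist.data_axioms hT
  have hn' : ∀ j, (twist hG hO φ).nn' j ∈ K := by
    intro j
    have hS := hO.2.2.1 j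
    have hp := (hK j (fun _ => 1) fun k _ => (map_one φ).symm).1
    have hq := (hK j (fun _ => -1) fun k _ => (by rw [map_neg, map_one] : (-1 : F) = φ (-1))).2
    have := Subgroup.mul_mem _ (Subgroup.mul_mem _ hp hq) hp
    rw [pv, pv, ← prod_map_mul_comm _ _ _ hS.1.2.1 (fun a ha b hb hne => xe_commute hG hS.1 ha hb hne
        (by simp) (by simp) _ _),
      ← prod_map_mul_comm _ _ _ hS.1.2.1 (fun a ha b hb hne => (xe_commute hG hS.1 ha hb hne
        (by simp) (by simp) _ _).mul_left (xe_commute hG hS.1 ha hb hne (by simp) (by simp) _ _))] at this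
    rw [nn'_eq hG hO φ]
    simp only [ne', inv_one]
    exact this
  refine iSup_le fun o y hy => ?_
  obtain ⟨l, j, rfl⟩ := ax.reach o
  have h1 : ((twist hG hO φ).data.nw l)⁻¹ * y * (twist hG hO φ).data.nw l ∈
      (twist hG hO φ).X' (O.simpF no nj j) := by
    apply ((RootBN.Data.acts_nw ax l) (O.simpF no nj j) _).1
    simp only [mul_assoc, mul_inv_cancel_left, mul_inv_cancel, mul_one]
    exact hy
  obtain ⟨a, ha, e⟩ := (mem_X'_simp_iff hG hO φ hf hn hcol j).1 h1
  have h2 : (twist hG hO φ).data.nw l ∈ K := Subgroup.list_prod_mem _ fun x hx => by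
    obtain ⟨i, -, rfl⟩ := List.mem_map.1 hx
    exact hn' i
  have h3 := K.mul_mem (K.mul_mem h2 (e.symm ▸ (hK j a ha).1)) (K.inv_mem h2)
  simpa [mul_assoc] using h3

theorem pv_mem_Gt (j : Fin nj) {a : ℕ → F} (ha : Compat G φ (O.Jl nj j) a) :
    pv hG D.simple (O.Jl nj j) a ∈ (twist hG hO φ).Gt ∧
      pv hG (fun k => D.neg (D.simple k)) (O.Jl nj j) a ∈ (twist hG hO φ).Gt :=
  ⟨RootBN.Twist.X'_le_Gt _ ((mem_X'_simp_iff hG hO φ hf hn hcol j).2 ⟨a, ha, rfl⟩),
    RootBN.Twist.X'_le_Gt _ ((mem_X'_opp_iff hG hO φ hf hn hcol j).2 ⟨a, ha, rfl⟩)⟩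

include hO in
omit hf hn hcol in
theorem compat_getElem (j : Fin nj) {a : ℕ → F} (ha : Compat G φ (O.Jl nj j) a) :
    ∀ (m : ℕ) (hm : m < (O.Jl nj j).length),
      a ((O.Jl nj j)[m]) = φ^[m] (a ((O.Jl nj j)[0]'(by omega))) := by
  have hrot := (hO.2.2.1 j).2.2.1
  intro m
  induction m with
  | zero => intro _; rfl
  | succ m ih =>
    intro hm
    have h1 : ((O.Jl nj j).map fun k => G.pi.getD k 0)[m]'(by rw [List.length_map]; omega) =
        ((O.Jl nj j).rotate 1)[m]'(by rw [List.length_rotate]; omega) := by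
      simp only [hrot]
    rw [List.getElem_map, List.getElem_rotate] at h1
    simp only [Nat.mod_eq_of_lt hm] at h1
    rw [← h1, ha _ (List.getElem_mem _), ih (by omega), Function.iterate_succ_apply']

/-- The order of the root subgroup of a simple orbit. -/
theorem card_X'_simp (j : Fin nj) {n : ℕ} (hlen : (O.Jl nj j).length = n) :
    Nat.card ((twist hG hO φ).X' (O.simpF no nj j)) = Nat.card {t : F // φ^[n] t = t} := by
  classical
  have hS := hO.2.2.1 j
  have hrot := hS.2.2.1
  have hpos : 0 < (O.Jl nj j).length := List.length_pos_of_ne_nil hS.2.1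
  let ext : F → ℕ → F := fun t k => φ^[(O.Jl nj j).idxOf k] t
  have hcompat : ∀ t, φ^[n] t = t → Compat G φ (O.Jl nj j) (ext t) := by
    intro t ht k hk
    obtain ⟨m, hm, rfl⟩ := List.mem_iff_getElem.1 hk
    have h1 : ((O.Jl nj j).map fun k => G.pi.getD k 0)[m]'(by rw [List.length_map]; omega) =
        ((O.Jl nj j).rotate 1)[m]'(by rw [List.length_rotate]; omega) := by
      simp only [hrot]
    rw [List.getElem_map, List.getElem_rotate] at h1
    simp only [ext, h1, hS.1.2.1.idxOf_getElem]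
    rw [← Function.iterate_succ_apply' φ]
    by_cases hm' : m + 1 < (O.Jl nj j).length
    · rw [Nat.mod_eq_of_lt hm']
    · have he : m + 1 = n := by omega
      rw [show (m + 1) % (O.Jl nj j).length = 0 by rw [show m + 1 = (O.Jl nj j).length by omega, Nat.mod_self],
        show m.succ = n from he, Function.iterate_zero_apply, ht]
  symm
  refine Nat.card_congr (Equiv.ofBijective (fun t : {t : F // φ^[n] t = t} =>
    (⟨pv hG D.simple (O.Jl nj j) (ext t.1), (mem_X'_simp_iff hG hO φ hf hn hcol j).2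
      ⟨_, hcompat t.1 t.2, rfl⟩⟩ : (twist hG hO φ).X' (O.simpF no nj j))) ⟨?_, ?_⟩)
  · intro t u e
    have := pv_inj hG hf hn (Or.inl rfl) hS.1 (congrArg Subtype.val e) (List.getElem_mem hpos)
    simp only [ext, hS.1.2.1.idxOf_getElem, Function.iterate_zero_apply] at this
    exact Subtype.ext this
  · rintro ⟨y, hy⟩
    obtain ⟨a, ha, rfl⟩ := (mem_X'_simp_iff hG hO φ hf hn hcol j).1 hy
    have hc := compat_getElem hO φ j ha
    have ht : φ^[n] (a ((O.Jl nj j)[0]'hpos)) = a ((O.Jl nj j)[0]'hpos) := by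
      have hl : (O.Jl nj j).length - 1 < (O.Jl nj j).length := by omega
      have h1 : ((O.Jl nj j).map fun k => G.pi.getD k 0)[(O.Jl nj j).length - 1]'(by
          rw [List.length_map]; omega) =
          ((O.Jl nj j).rotate 1)[(O.Jl nj j).length - 1]'(by rw [List.length_rotate]; omega) := by
        simp only [hrot]
      rw [List.getElem_map, List.getElem_rotate] at h1
      simp only [show (O.Jl nj j).length - 1 + 1 = (O.Jl nj j).length by omega, Nat.mod_self] at h1
      conv_rhs => rw [← h1, ha _ (List.getElem_mem _), hc _ hl, ← Function.iterate_succ_apply' φ]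
      rw [show ((O.Jl nj j).length - 1).succ = n by omega]
    refine ⟨⟨_, ht⟩, Subtype.ext (congrArg List.prod (List.map_congr_left fun k hk => ?_))⟩
    obtain ⟨m, hm, rfl⟩ := List.mem_iff_getElem.1 hk
    simp only [ext, hS.1.2.1.idxOf_getElem]
    rw [hc m hm]

theorem card_X' (o : Fin no) :
    Nat.card ((twist hG hO φ).X' o) =
      Nat.card ((twist hG hO φ).X' (O.simpF no nj (O.reachF no nj o).2)) := by
  have hT := twist_axioms hG hO φ hf hn hcol
  have ax := RootBN.Twist.data_axioms hT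
  have e : (twist hG hO φ).data.wl (O.reachF no nj o).1 (O.simpF no nj (O.reachF no nj o).2) = o := by
    conv_rhs => rw [← (hO.2.2.2.2 o).1]
    induction (O.reachF no nj o).1 with
    | nil => rfl
    | cons i l ih => rw [RootBN.Data.wl_cons, Equiv.Perm.mul_apply, List.foldr_cons, ih]; rfl
  set l := (O.reachF no nj o).1
  symm
  refine Nat.card_congr (Equiv.subtypeEquiv (MulAut.conj ((twist hG hO φ).data.nw l)).toEquiv fun y => ?_)
  have h := (RootBN.Data.acts_nw ax l) (O.simpF no nj (O.reachF no nj o).2) y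
  rw [e] at h
  exact h.symm

/-- The order of `U`. -/
theorem card_U_inf {q : ℕ}
    (hcard : ∀ j, Nat.card ((twist hG hO φ).X' (O.simpF no nj j)) = q ^ (O.Jl nj j).length) (j : Fin nj) :
    Nat.card ↥(D.posUnipotent F ⊓ (twist hG hO φ).Gt) =
      q ^ (((O.rootsF no nj (j :: O.covF nj j)).map fun o => (O.Jl nj (O.reachF no nj o).2).length).sum) := by
  have hT := twist_axioms hG hO φ hf hn hcol
  haveI : Nonempty (Fin nj) := ⟨j⟩
  have hS := hO.2.2.1 j
  have hR : (twist hG hO φ).Longest (j :: O.covF nj j) := by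
    refine ⟨(reduced_iff hG hO φ _).2 hS.2.2.2.2.2.2.2.2.2.1, fun r hr => not_le.2 ?_⟩
    rw [wl_val hG hf, flat_val hG hO φ]
    exact hS.2.2.2.2.2.2.2.2.2.2 r.val r.2 hr
  rw [← data_U hG hf, RootBN.Twist.inf_Gt_U hT, RootBN.Twist.card_U' hT hR, roots_eq hG hO φ]
  induction O.rootsF no nj (j :: O.covF nj j) with
  | nil => simp
  | cons o l ih =>
    rw [List.map_cons, List.prod_cons, List.map_cons, List.sum_cons, pow_add, ih,
      card_X' hG hO φ hf hn hcol, hcard]

/-- `B` in the twisted group has trivial core. -/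
theorem normalCore_eq_bot (hall : ∀ k < D.rank, ∃ j : Fin nj, k ∈ O.Jl nj j) :
    ((D.borelSubgroup F ⊓ (twist hG hO φ).Gt).subgroupOf (twist hG hO φ).Gt).normalCore = ⊥ := by
  have hT := twist_axioms hG hO φ hf hn hcol
  haveI : Nonempty (Fin nj) := ⟨0⟩
  rw [← data_B hG hf, Subgroup.eq_bot_iff_forall]
  intro c hc
  obtain ⟨hH, hcen⟩ := RootBN.Twist.core_mem hT hc
  apply Subtype.ext
  refine eq_one_of_centralizes hG hf hH ?_
  have hsimp : ∀ j, ∀ k ∈ O.Jl nj j, ∀ r ∈ [D.simple k, D.neg (D.simple k)],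
      (c : GL D.Idx F) * xe hG r (1 : F) = xe hG r (1 : F) * c := by
    intro j k hk r hr
    have hS := hO.2.2.1 j
    simp only [List.mem_cons, List.not_mem_nil, or_false] at hr
    obtain ⟨f, hside, rfl, hmem⟩ : ∃ f, IsSide D f ∧ r = f k ∧ ∃ o,
        pv hG f (O.Jl nj j) (fun _ => (1 : F)) ∈ (twist hG hO φ).X' o := by
      rcases hr with rfl | rfl
      · exact ⟨D.simple, Or.inl rfl, rfl, _, (mem_X'_simp_iff hG hO φ hf hn hcol j).2
          ⟨_, fun k _ => (map_one φ).symm, rfl⟩⟩
      · exact ⟨fun k => D.neg (D.simple k), Or.inr rfl, rfl, _, (mem_X'_opp_iff hG hO φ hf hn hcol j).2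
          ⟨_, fun k _ => (map_one φ).symm, rfl⟩⟩
    obtain ⟨o, hm⟩ := hmem
    have h1 := hcen o _ hm
    have hnorm : ∀ k ∈ O.Jl nj j, ∃ u : F,
        (c : GL D.Idx F) * xe hG (f k) (1 : F) * (c : GL D.Idx F)⁻¹ = xe hG (f k) u := fun k hk =>
      (mem_rootSubgroup hG (hside.lt hG (hS.1.1 k hk))).1 (normalisesAll_H hG hH _ (hside.lt hG (hS.1.1 k hk))
        _ ((mem_rootSubgroup hG (hside.lt hG (hS.1.1 k hk))).2 ⟨1, rfl⟩))
    choose u hu using hnorm
    classical
    let b : ℕ → F := fun k => if h : k ∈ O.Jl nj j then u k h else 0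
    have h2 : pv hG f (O.Jl nj j) b = pv hG f (O.Jl nj j) fun _ => 1 := by
      rw [← mul_inv_eq_iff_eq_mul.2 h1]
      show ((O.Jl nj j).map fun k => xe hG (f k) (b k)).prod = _
      rw [← MulAut.conj_apply, pv, map_list_prod, List.map_map]
      refine congrArg List.prod (List.map_congr_left fun k hk => ?_)
      simp only [Function.comp_apply, MulAut.conj_apply, hu k hk, b, dif_pos hk]
    have h3 := pv_inj hG hf hn hside hS.1 h2 hk
    simp only [b, dif_pos hk] at h3
    rw [← mul_inv_eq_iff_eq_mul, hu k hk, h3]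
  have hn1 : ∀ k < D.rank, (c : GL D.Idx F) * ne' hG (D.simple k) (1 : F) = ne' hG (D.simple k) (1 : F) * c := by
    intro k hk
    obtain ⟨j, hj⟩ := hall k hk
    have hx : Commute (c : GL D.Idx F) (xe hG (D.simple k) 1) := hsimp j k hj _ (by simp)
    have hy : Commute (c : GL D.Idx F) (xe hG (D.neg (D.simple k)) (-(1 : F)⁻¹)) := by
      rw [inv_one, ← xe_inv hG (hG.neg_lt (hG.simple_lt hk))]
      exact (show Commute (c : GL D.Idx F) (xe hG (D.neg (D.simple k)) 1) from
        hsimp j k hj _ (by simp)).inv_right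
    exact ((hx.mul_right hy).mul_right hx)
  intro r hr
  refine And.right (hG.root_induction (P := fun r => r < D.nroots ∧
    (c : GL D.Idx F) * xe hG r (1 : F) = xe hG r (1 : F) * c) ?_ ?_ hr)
  · intro i hi
    obtain ⟨j, hj⟩ := hall i hi
    exact ⟨hG.simple_lt hi, hsimp j i hj _ (by simp)⟩
  · rintro i hi s - ⟨hs, h⟩
    refine ⟨hG.reflectRoot_lt hi hs, ?_⟩
    obtain ⟨e, he, hx, -⟩ := exists_conj hG (F := F) hi hs
    have h' : Commute (c : GL D.Idx F) (xe hG s e) := by
      rcases mul_self_eq_one_iff.1 he with rfl | rfl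
      · exact h
      · rw [← xe_inv hG hs]
        exact (show Commute (c : GL D.Idx F) (xe hG s 1) from h).inv_right
    have h1 : xe hG (D.reflectRoot i s) 1 =
        ne' hG (D.simple i) 1 * xe hG s e * (ne' hG (D.simple i) 1)⁻¹ := by rw [hx, he]
    have hn2 : Commute (c : GL D.Idx F) (ne' hG (D.simple i) 1) := hn1 i hi
    rw [h1]
    exact ((hn2.mul_right h').mul_right hn2.inv_right)

/-- The (B, N)-pair of the twisted group. -/
theorem exists_bnPair_Gt :
    ∃ P : Cfsg.BNPair ↥(twist hG hO φ).Gt,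
      P.B = (D.borelSubgroup F ⊓ (twist hG hO φ).Gt).subgroupOf (twist hG hO φ).Gt ∧
      P.N = (D.monomialSubgroup F ⊓ (twist hG hO φ).Gt).subgroupOf (twist hG hO φ).Gt := by
  obtain ⟨P, h1, h2⟩ := RootBN.Twist.exists_bnPair (twist_axioms hG hO φ hf hn hcol)
  refine ⟨P, ?_, ?_⟩
  · rw [h1, data_B hG hf]
  · rw [h2, data_N hG hf]

end Cfsg.Agent.Chev.BNSetup
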