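import Cfsg.Agent.Lib.Chev.TwistD4
import Cfsg.Agent.Lib.Chev.TwistGroup
import Cfsg.Agent.Lib.Chev.TwistFrob
import Cfsg.Prelude.Def_LieTwisted

/-!
# `³D₄(q)` as the twist of `D₄`
-/

set_option autoImplicit false

namespace Cfsg.Agent.Chev.BNSetup

open Cfsg.Lie

variable {K : Type*} [Field K]

/-- The twist for `³D₄`. -/
noncomputable def tw3D4 (φ : K ≃+* K) : RootBN.Twist (data D4.good K) (Fin 12) (Fin 2) :=
  twist D4.good orbD4_ok φ

theorem tw3D4_axioms (φ : K ≃+* K) : (tw3D4 φ).Axioms :=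
  twist_axioms D4.good orbD4_ok φ facts_chevD4 negTri_chevD4 graphD4_cols

theorem Gt_eq_twistedD4 {q : ℕ} {φ : K ≃+* K} (hφ : ∀ x, φ x = x ^ q) (hcube : ∀ x, φ (φ (φ x)) = x) :
    (tw3D4 φ).Gt = twistedD4 K q := by
  have hG := D4.good
  have hx : ∀ (w : List (ℕ × K)) (g : GL chevD4.Idx K), (g : Matrix chevD4.Idx chevD4.Idx K) = chevD4.wordMat K w →
      g = (w.map fun p => xe hG p.1 p.2).prod := by
    intro w g hg
    refine Units.ext (hg.trans ?_)
    clear hg
    induction w with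
    | nil => rfl
    | cons p w ih => simp [ChevalleyDatum.wordMat, coe_xe] at ih ⊢; rw [ih]
  have hgen : ∀ w ∈ d4Words K q, (w.map fun p => xe hG p.1 p.2).prod ∈ twistedD4 K q := by
    intro w hw
    refine Subgroup.subset_closure ⟨w, hw, ?_⟩
    clear hw
    induction w with
    | nil => rfl
    | cons p w ih => simp [ChevalleyDatum.wordMat, coe_xe] at ih ⊢; rw [ih]
  refine le_antisymm (Gt_le hG orbD4_ok φ facts_chevD4 negTri_chevD4 graphD4_cols ?_) ?_
  · intro j a ha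
    fin_cases j
    · have h1 : φ (a 1) = a 1 := (ha 1 (by decide)).symm
      rw [hφ] at h1
      exact ⟨hgen [(d4p2, a 1)] (Or.inl ⟨a 1, h1, d4p2, by simp, rfl⟩),
        hgen [(d4m2, a 1)] (Or.inl ⟨a 1, h1, d4m2, by simp, rfl⟩)⟩
    · have h2 : a 2 = a 0 ^ q := by rw [← hφ]; exact ha 0 (by decide)
      have h3 : a 3 = a 0 ^ (q ^ 2) := by
        rw [sq, pow_mul, ← h2, ← hφ]; exact ha 2 (by decide)
      have hp := hgen [(d4p1, a 0), (d4p3, a 0 ^ q), (d4p4, a 0 ^ (q ^ 2))]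
        (Or.inr ⟨a 0, (d4p1, d4p3, d4p4), by simp, rfl⟩)
      have hm := hgen [(d4m1, a 0), (d4m3, a 0 ^ q), (d4m4, a 0 ^ (q ^ 2))]
        (Or.inr ⟨a 0, (d4m1, d4m3, d4m4), by simp, rfl⟩)
      rw [← h2, ← h3] at hp hm
      exact ⟨hp, hm⟩
  · show Subgroup.closure _ ≤ _
    rw [Subgroup.closure_le]
    rintro g ⟨w, hw, hg⟩
    rw [hx w g hg]
    rcases hw with ⟨t, ht, r, hr, rfl⟩ | ⟨t, rs, hrs, rfl⟩
    · have h := pv_mem_Gt hG orbD4_ok φ facts_chevD4 negTri_chevD4 graphD4_cols 0 (a := fun _ => t)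
        fun k _ => (hφ t ▸ ht).symm
      simp only [List.mem_cons, List.not_mem_nil, or_false] at hr
      rcases hr with rfl | rfl
      exacts [h.1, h.2]
    · have h := pv_mem_Gt hG orbD4_ok φ facts_chevD4 negTri_chevD4 graphD4_cols 1
        (a := fun k => if k = 0 then t else if k = 2 then φ t else φ (φ t)) (by
          intro k hk
          rw [show orbD4.Jl 2 1 = [0, 2, 3] from rfl] at hk
          simp only [List.mem_cons, List.not_mem_nil, or_false] at hk
          rcases hk with rfl | rfl | rfl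
          · rfl
          · rfl
          · exact (hcube t).symm)
      have e2 : φ t = t ^ q := hφ t
      have e3 : φ (φ t) = t ^ (q ^ 2) := by rw [hφ, hφ, ← pow_mul, sq]
      rw [← e2, ← e3]
      simp only [List.mem_cons, List.not_mem_nil, or_false] at hrs
      rcases hrs with rfl | rfl
      exacts [h.1, h.2]

theorem exists_frob3 [Fintype K] {q : ℕ} (hq : IsPrimePow q) (hK : Fintype.card K = q ^ 3) :
    ∃ φ : K ≃+* K, (∀ x, φ x = x ^ q) ∧ (tw3D4 φ).Gt = twistedD4 K q ∧ (∀ x, φ (φ (φ x)) = x) ∧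
      Nat.card {x : K // φ x = x} = q := by
  obtain ⟨φ, hφ, -, hit, hcard⟩ := exists_qpow_equiv hq hK (by norm_num : 0 < 3)
  exact ⟨φ, hφ, Gt_eq_twistedD4 hφ hit, hit, hcard⟩

theorem card_X'_D4 [Fintype K] {q : ℕ} (hK : Fintype.card K = q ^ 3) {φ : K ≃+* K}
    (hcube : ∀ x, φ (φ (φ x)) = x) (hcard : Nat.card {x : K // φ x = x} = q) (j : Fin 2) :
    Nat.card ((tw3D4 φ).X' (orbD4.simpF 12 2 j)) = q ^ (orbD4.Jl 2 j).length := by
  fin_cases j
  · refine (card_X'_simp D4.good orbD4_ok φ facts_chevD4 negTri_chevD4 graphD4_cols 0 (n := 1) rfl).trans ?_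
    show _ = q ^ 1
    rw [pow_one]
    exact hcard
  · refine (card_X'_simp D4.good orbD4_ok φ facts_chevD4 negTri_chevD4 graphD4_cols 1 (n := 3) rfl).trans ?_
    show _ = q ^ 3
    rw [← hK, ← Nat.card_eq_fintype_card]
    exact Nat.card_congr (Equiv.subtypeUnivEquiv hcube)

end Cfsg.Agent.Chev.BNSetup
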