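/-
Criteria for root subgroups to lie in the derived subgroup, and perfectness of a Chevalley group.
-/
import Cfsg.Agent.Lib.Chev.Elements

set_option autoImplicit false

namespace Cfsg.Agent.Chev

open Cfsg.Lie

variable (D : ChevalleyDatum) (F : Type*) [Field F]

/-- The derived subgroup, inside GL. -/
def derived : Subgroup (GL D.Idx F) := ⁅D.group F, D.group F⁆

variable {D} {F}

theorem commutator_mem_derived {a b : GL D.Idx F} (ha : a ∈ D.group F) (hb : b ∈ D.group F) :
    a * b * a⁻¹ * b⁻¹ ∈ derived D F :=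
  Subgroup.commutator_mem_commutator ha hb

theorem commutator_eq_top_of_le_derived (h : D.group F ≤ derived D F) : commutator ↥(D.group F) = ⊤ := by
  have e : (commutator ↥(D.group F)).map (D.group F).subtype = derived D F := by
    rw [commutator_def, Subgroup.map_commutator, ← MonoidHom.range_eq_map, Subgroup.range_subtype]
    rfl
  rw [eq_top_iff]
  intro x _
  have hx : (x : GL D.Idx F) ∈ (commutator ↥(D.group F)).map (D.group F).subtype := e.symm ▸ h x.2
  obtain ⟨y, hy, hxy⟩ := hx
  exact (Subtype.ext hxy : y = x) ▸ hy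

namespace Good

variable (hD : Good D)
include hD

theorem conj_mem_derived {g x : GL D.Idx F} (hg : g ∈ D.group F) (hx : x ∈ derived D F) :
    g * x * g⁻¹ ∈ derived D F := by
  have h2 : x ∈ D.group F := (Subgroup.commutator_le.2 fun a ha b hb =>
    (D.group F).mul_mem ((D.group F).mul_mem ((D.group F).mul_mem ha hb) ((D.group F).inv_mem ha))
      ((D.group F).inv_mem hb)) hx
  have : g * x * g⁻¹ = (g * x * g⁻¹ * x⁻¹) * x := by group
  rw [this]
  exact (derived D F).mul_mem (commutator_mem_derived hg h2) hx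

/-- Reflections carry root subgroups in the derived subgroup to such. -/
theorem derived_reflect {i s : ℕ} (hi : i < D.rank) (hs : s < D.nroots)
    (h : ∀ t : F, xg D F s t ∈ derived D F) (t : F) : xg D F (D.reflectRoot i s) t ∈ derived D F := by
  obtain ⟨η, h1, h2⟩ := hD.exists_sign_xg (F := F) hi
  have e := h2 s hs (η s * t)
  rw [← mul_assoc, (h1 s hs).1, one_mul] at e
  have := hD.conj_mem_derived (hD.nG_mem_group (D.simple i) 1) (h (η s * t))
  rwa [e, mul_inv_cancel_right] at this

/-- The torus criterion: some Cartan integer A_{p_i, s} gives a^A ≠ 1. -/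
theorem derived_of_torus {i s : ℕ} (hi : i < D.rank) (hs : s < D.nroots) {a : F} (ha : a ≠ 0)
    (ha1 : a ^ D.cartan i s ≠ 1) (t : F) : xg D F s t ∈ derived D F := by
  set u := t / (a ^ D.cartan i s - 1) with hu
  have e := hD.hG_mul_xg hi hs ha u
  have h := commutator_mem_derived (hD.hG_mem_group (D.simple i) a) (hD.xg_mem_group s u)
  rw [e, mul_inv_cancel_right, hD.xg_inv, hD.xg_add] at h
  have ht : a ^ D.cartan i s * u + -u = t := by
    have hne : a ^ D.cartan i s - 1 ≠ 0 := sub_ne_zero.2 ha1
    rw [hu]; field_simp; ring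
  rwa [ht] at h

/-- The commutator criterion: the terms of the pair (r, s) apart from (k, ±1, a, 1) are known. -/
theorem derived_of_pair {r s k a : ℕ} {C : ℤ} (hr : r < D.nroots) (hs : s < D.nroots) (h1 : s ≠ r)
    (h2 : s ≠ D.neg r) (hC : C = 1 ∨ C = -1) {pre : List (ℕ × ℤ × ℕ × ℕ)}
    (hterms : D.commTerms r s = pre ++ [(k, C, a, 1)]) (hpre : ∀ x ∈ pre, ∀ v : F, xg D F x.1 v ∈ derived D F)
    (v : F) : xg D F k v ∈ derived D F := by
  set u : F := (C : F) * (-1) ^ a * v with hu
  have e := hD.xg_commutator hr hs h1 h2 (1 : F) u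
  have hmem : wordG D F (D.commWord F r s 1 u) ∈ derived D F := by
    rw [← e]
    have := commutator_mem_derived ((D.group F).inv_mem (hD.xg_mem_group s u))
      ((D.group F).inv_mem (hD.xg_mem_group r (1 : F)))
    rwa [inv_inv, inv_inv] at this
  have hval : (C : F) * (-1) ^ a * u ^ 1 = v := by
    rw [hu, pow_one, show (C : F) * (-1) ^ a * ((C : F) * (-1) ^ a * v) = ((C : F) * C) * ((-1) ^ a * (-1) ^ a) * v by ring,
      ← mul_pow, neg_one_mul, _root_.neg_neg, one_pow]
    rcases hC with rfl | rfl <;> simp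
  simp only [ChevalleyDatum.commWord, hterms, List.map_append, List.map_cons, List.map_nil, wordG_append, hval] at hmem
  have hp : wordG D F (pre.map fun c => (c.1, (c.2.1 : F) * (-1) ^ c.2.2.1 * u ^ c.2.2.2)) ∈ derived D F := by
    refine list_prod_mem fun x hx => ?_
    obtain ⟨p, hp, rfl⟩ := List.mem_map.1 hx
    obtain ⟨y, hy, rfl⟩ := List.mem_map.1 hp
    exact hpre y hy _
  rw [(derived D F).mul_mem_cancel_left hp] at hmem
  simpa [wordG] using hmem

/-- The group is perfect once the fundamental root subgroups lie in the derived subgroup. -/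
theorem commutator_eq_top (h : ∀ i < D.rank, ∀ t : F, xg D F (D.simple i) t ∈ derived D F) :
    commutator ↥(D.group F) = ⊤ := by
  refine commutator_eq_top_of_le_derived ?_
  rw [hD.group_eq_closure, Subgroup.closure_le]
  rintro g ⟨r, hr, t, rfl⟩
  exact hD.root_induction (P := fun r => ∀ t : F, xg D F r t ∈ derived D F) h
    (fun i hi s hs ih => hD.derived_reflect hi hs ih) hr t

end Good

end Cfsg.Agent.Chev
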