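/-
Perfectness of the seven Chevalley groups, from table witnesses.
-/
import Cfsg.Agent.Lib.Chev.Perfect
import Cfsg.Prelude.Def_ChevG2
import Cfsg.Prelude.Def_ChevB2
import Cfsg.Prelude.Def_ChevD4
import Cfsg.Prelude.Def_ChevF4
import Cfsg.Prelude.Def_ChevE6
import Cfsg.Prelude.Def_ChevE7
import Cfsg.Prelude.Def_ChevE8

set_option autoImplicit false

namespace Cfsg.Agent.Chev

open Cfsg.Lie

/-- The root `k` is the only term of the commutator formula of the pair `p`, with coefficient ±1. -/
def SinglePair (D : ChevalleyDatum) (k : ℕ) (p : ℕ × ℕ) : Prop :=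
  p.1 < D.nroots ∧ p.2 < D.nroots ∧ p.2 ≠ p.1 ∧ p.2 ≠ D.neg p.1 ∧
    (D.commTerms p.1 p.2 = [(k, (1 : ℤ), 1, 1)] ∨ D.commTerms p.1 p.2 = [(k, (-1 : ℤ), 1, 1)])

instance decidableSinglePair (D : ChevalleyDatum) (k : ℕ) (p : ℕ × ℕ) : Decidable (SinglePair D k p) :=
  inferInstanceAs (Decidable (_ ∧ _))

/-- Each fundamental root is such a term, with the given witnesses. -/
def SinglePairs (D : ChevalleyDatum) (L : List (ℕ × ℕ)) : Prop :=
  ∀ i < D.rank, SinglePair D (D.simple i) (L.getD i (0, 0))

instance decidableSinglePairs (D : ChevalleyDatum) (L : List (ℕ × ℕ)) : Decidable (SinglePairs D L) :=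
  inferInstanceAs (Decidable (∀ _, _ → _))

theorem singlePairs_D4 : SinglePairs chevD4 [(6, 22), (1, 23), (3, 22), (2, 22)] := by decide +kernel
theorem singlePairs_F4 : SinglePairs chevF4 [(7, 44), (8, 40), (2, 46), (1, 47)] := by decide +kernel
theorem singlePairs_E6 : SinglePairs chevE6 [(16, 66), (1, 71), (5, 69), (2, 70), (3, 69), (4, 68)] := by
  decide +kernel
theorem singlePairs_E7 : SinglePairs chevE7
    [(1, 125), (7, 122), (2, 124), (3, 123), (4, 122), (5, 121), (6, 120)] := by decide +kernel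
theorem singlePairs_E8 : SinglePairs chevE8
    [(14, 233), (7, 234), (6, 234), (5, 235), (4, 236), (3, 237), (2, 238), (1, 239)] := by decide +kernel

variable {D : ChevalleyDatum} {F : Type*} [Field F]

theorem perfect_of_singlePairs (hD : Good D) {L : List (ℕ × ℕ)} (h : SinglePairs D L) :
    commutator ↥(D.group F) = ⊤ := by
  refine hD.commutator_eq_top fun i hi t => ?_
  obtain ⟨h1, h2, h3, h4, h5⟩ := h i hi
  rcases h5 with h5 | h5
  · exact hD.derived_of_pair h1 h2 h3 h4 (Or.inl rfl) (pre := []) h5 (by simp) t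
  · exact hD.derived_of_pair h1 h2 h3 h4 (Or.inr rfl) (pre := []) h5 (by simp) t

theorem zpow_neg_one_ne_one {a : F} (h1 : a ≠ 1) : a ^ (-1 : ℤ) ≠ 1 := by
  simpa using h1

theorem perfect_G2 (hD : Good chevG2) (hF : ∃ a : F, a ≠ 0 ∧ a ≠ 1) :
    commutator ↥(chevG2.group F) = ⊤ := by
  obtain ⟨a, ha, ha1⟩ := hF
  refine hD.commutator_eq_top fun i hi t => ?_
  change i < 2 at hi
  interval_cases i
  · refine hD.derived_of_torus (i := 1) (s := chevG2.simple 0) (by decide) (by decide) ha ?_ t
    rw [show chevG2.cartan 1 (chevG2.simple 0) = -1 by decide +kernel]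
    exact zpow_neg_one_ne_one ha1
  · have h : chevG2.commTerms 1 11 = [(chevG2.simple 1, 1, 1, 1)] ∨
        chevG2.commTerms 1 11 = [(chevG2.simple 1, -1, 1, 1)] := by decide +kernel
    rcases h with h | h
    · exact hD.derived_of_pair (by decide) (by decide) (by decide) (by decide +kernel) (Or.inl rfl) (pre := []) h
        (by simp) t
    · exact hD.derived_of_pair (by decide) (by decide) (by decide) (by decide +kernel) (Or.inr rfl) (pre := []) h
        (by simp) t

theorem perfect_B2 (hD : Good chevB2) (hF : ∃ a : F, a ≠ 0 ∧ a ≠ 1) :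
    commutator ↥(chevB2.group F) = ⊤ := by
  obtain ⟨a, ha, ha1⟩ := hF
  have h6 : ∀ v : F, xg chevB2 F 6 v ∈ derived chevB2 F := fun v =>
    hD.derived_of_torus (i := 1) (s := 6) (by decide) (by decide) ha
      (by rw [show chevB2.cartan 1 6 = 1 by decide +kernel, zpow_one]; exact ha1) v
  refine hD.commutator_eq_top fun i hi t => ?_
  change i < 2 at hi
  interval_cases i
  · refine hD.derived_of_torus (i := 1) (s := chevB2.simple 0) (by decide) (by decide) ha ?_ t
    rw [show chevB2.cartan 1 (chevB2.simple 0) = -1 by decide +kernel]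
    exact zpow_neg_one_ne_one ha1
  · refine hD.derived_of_pair (r := 2) (s := 7) (C := -1) (a := 2) (pre := [(6, 1, 1, 1)]) (by decide) (by decide)
      (by decide) (by decide +kernel) (Or.inr rfl) (by decide +kernel) ?_ t
    intro x hx v
    rw [List.mem_singleton] at hx
    subst hx
    exact h6 v

/-- The seven groups are perfect, G2 and B2 over fields with more than two elements. -/
theorem perfect_of_mem (hG : Good D) (hD : D ∈ [chevG2, chevB2, chevD4, chevF4, chevE6, chevE7, chevE8])
    (h2 : D = chevG2 ∨ D = chevB2 → ∃ a : F, a ≠ 0 ∧ a ≠ 1) : commutator ↥(D.group F) = ⊤ := by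
  simp only [List.mem_cons, List.not_mem_nil, or_false] at hD
  rcases hD with rfl | rfl | rfl | rfl | rfl | rfl | rfl
  · exact perfect_G2 hG (h2 (Or.inl rfl))
  · exact perfect_B2 hG (h2 (Or.inr rfl))
  · exact perfect_of_singlePairs hG singlePairs_D4
  · exact perfect_of_singlePairs hG singlePairs_F4
  · exact perfect_of_singlePairs hG singlePairs_E6
  · exact perfect_of_singlePairs hG singlePairs_E7
  · exact perfect_of_singlePairs hG singlePairs_E8

end Cfsg.Agent.Chev
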