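/-
Product formulas for the Poincaré sums of the seven Weyl groups.
-/
import Cfsg.Agent.Lib.Chev.WeylCheck

set_option autoImplicit false

namespace Cfsg.Agent.Chev.WeylTab

open Cfsg.Agent.RootBN

theorem sum_pow_length (x : ℤ) (L : List (List ℕ)) (ls : List ℕ) (h : L.map List.length = ls) :
    (L.map fun d => x ^ d.length).sum = (ls.map fun a => x ^ a).sum := by
  subst h
  rw [List.map_map]
  rfl

theorem cast_sum_pow (q : ℕ) (L : List (List ℕ)) :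
    (((L.map fun d => q ^ d.length).sum : ℕ) : ℤ) = (L.map fun d => (q : ℤ) ^ d.length).sum := by
  induction L with
  | nil => simp
  | cons a L ih => simp [ih]

theorem levelG21_poly (x : ℤ) :
    (levelG21.reps.map fun d => x ^ d.length).sum * (x - 1) * ((1 : ℤ)) = ((x : ℤ) ^ 2 - 1) := by
  rw [sum_pow_length x _ [0, 1] (by decide +kernel)]
  simp only [List.map_cons, List.map_nil, List.sum_cons, List.sum_nil]
  ring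

theorem levelG22_poly (x : ℤ) :
    (levelG22.reps.map fun d => x ^ d.length).sum * (x - 1) * (((x : ℤ) ^ 2 - 1)) = ((x : ℤ) ^ 2 - 1) * ((x : ℤ) ^ 6 - 1) := by
  rw [sum_pow_length x _ [0, 1, 2, 3, 4, 5] (by decide +kernel)]
  simp only [List.map_cons, List.map_nil, List.sum_cons, List.sum_nil]
  ring

theorem poincare_G2 (q : ℕ) (hq : 1 ≤ q) :
    (q - 1) ^ 2 * levelsPoly q levelsG2 = (q ^ 2 - 1) * (q ^ 6 - 1) := by
  zify [hq, (Nat.one_le_pow 2 q hq), (Nat.one_le_pow 6 q hq)]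
  rw [← levelG22_poly (q : ℤ)]
  rw [← levelG21_poly (q : ℤ)]
  simp only [levelsPoly, levelsG2, Nat.cast_mul, Nat.cast_one, cast_sum_pow]
  ring

theorem levelB21_poly (x : ℤ) :
    (levelB21.reps.map fun d => x ^ d.length).sum * (x - 1) * ((1 : ℤ)) = ((x : ℤ) ^ 2 - 1) := by
  rw [sum_pow_length x _ [0, 1] (by decide +kernel)]
  simp only [List.map_cons, List.map_nil, List.sum_cons, List.sum_nil]
  ring

theorem levelB22_poly (x : ℤ) :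
    (levelB22.reps.map fun d => x ^ d.length).sum * (x - 1) * (((x : ℤ) ^ 2 - 1)) = ((x : ℤ) ^ 2 - 1) * ((x : ℤ) ^ 4 - 1) := by
  rw [sum_pow_length x _ [0, 1, 2, 3] (by decide +kernel)]
  simp only [List.map_cons, List.map_nil, List.sum_cons, List.sum_nil]
  ring

theorem poincare_B2 (q : ℕ) (hq : 1 ≤ q) :
    (q - 1) ^ 2 * levelsPoly q levelsB2 = (q ^ 2 - 1) * (q ^ 4 - 1) := by
  zify [hq, (Nat.one_le_pow 2 q hq), (Nat.one_le_pow 4 q hq)]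
  rw [← levelB22_poly (q : ℤ)]
  rw [← levelB21_poly (q : ℤ)]
  simp only [levelsPoly, levelsB2, Nat.cast_mul, Nat.cast_one, cast_sum_pow]
  ring

theorem levelD41_poly (x : ℤ) :
    (levelD41.reps.map fun d => x ^ d.length).sum * (x - 1) * ((1 : ℤ)) = ((x : ℤ) ^ 2 - 1) := by
  rw [sum_pow_length x _ [0, 1] (by decide +kernel)]
  simp only [List.map_cons, List.map_nil, List.sum_cons, List.sum_nil]
  ring

theorem levelD42_poly (x : ℤ) :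
    (levelD42.reps.map fun d => x ^ d.length).sum * (x - 1) * (((x : ℤ) ^ 2 - 1)) = ((x : ℤ) ^ 2 - 1) * ((x : ℤ) ^ 3 - 1) := by
  rw [sum_pow_length x _ [0, 1, 2] (by decide +kernel)]
  simp only [List.map_cons, List.map_nil, List.sum_cons, List.sum_nil]
  ring

theorem levelD43_poly (x : ℤ) :
    (levelD43.reps.map fun d => x ^ d.length).sum * (x - 1) * (((x : ℤ) ^ 2 - 1) * ((x : ℤ) ^ 3 - 1)) = ((x : ℤ) ^ 2 - 1) * ((x : ℤ) ^ 3 - 1) * ((x : ℤ) ^ 4 - 1) := by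
  rw [sum_pow_length x _ [0, 1, 2, 3] (by decide +kernel)]
  simp only [List.map_cons, List.map_nil, List.sum_cons, List.sum_nil]
  ring

theorem levelD44_poly (x : ℤ) :
    (levelD44.reps.map fun d => x ^ d.length).sum * (x - 1) * (((x : ℤ) ^ 2 - 1) * ((x : ℤ) ^ 3 - 1) * ((x : ℤ) ^ 4 - 1)) = ((x : ℤ) ^ 2 - 1) * ((x : ℤ) ^ 4 - 1) * ((x : ℤ) ^ 4 - 1) * ((x : ℤ) ^ 6 - 1) := by
  rw [sum_pow_length x _ [0, 1, 2, 3, 3, 4, 5, 6] (by decide +kernel)]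
  simp only [List.map_cons, List.map_nil, List.sum_cons, List.sum_nil]
  ring

theorem poincare_D4 (q : ℕ) (hq : 1 ≤ q) :
    (q - 1) ^ 4 * levelsPoly q levelsD4 = (q ^ 2 - 1) * (q ^ 4 - 1) * (q ^ 4 - 1) * (q ^ 6 - 1) := by
  zify [hq, (Nat.one_le_pow 2 q hq), (Nat.one_le_pow 4 q hq), (Nat.one_le_pow 6 q hq)]
  rw [← levelD44_poly (q : ℤ)]
  rw [← levelD43_poly (q : ℤ)]
  rw [← levelD42_poly (q : ℤ)]
  rw [← levelD41_poly (q : ℤ)]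
  simp only [levelsPoly, levelsD4, Nat.cast_mul, Nat.cast_one, cast_sum_pow]
  ring

theorem levelF41_poly (x : ℤ) :
    (levelF41.reps.map fun d => x ^ d.length).sum * (x - 1) * ((1 : ℤ)) = ((x : ℤ) ^ 2 - 1) := by
  rw [sum_pow_length x _ [0, 1] (by decide +kernel)]
  simp only [List.map_cons, List.map_nil, List.sum_cons, List.sum_nil]
  ring

theorem levelF42_poly (x : ℤ) :
    (levelF42.reps.map fun d => x ^ d.length).sum * (x - 1) * (((x : ℤ) ^ 2 - 1)) = ((x : ℤ) ^ 2 - 1) * ((x : ℤ) ^ 3 - 1) := by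
  rw [sum_pow_length x _ [0, 1, 2] (by decide +kernel)]
  simp only [List.map_cons, List.map_nil, List.sum_cons, List.sum_nil]
  ring

theorem levelF43_poly (x : ℤ) :
    (levelF43.reps.map fun d => x ^ d.length).sum * (x - 1) * (((x : ℤ) ^ 2 - 1) * ((x : ℤ) ^ 3 - 1)) = ((x : ℤ) ^ 2 - 1) * ((x : ℤ) ^ 4 - 1) * ((x : ℤ) ^ 6 - 1) := by
  rw [sum_pow_length x _ [0, 1, 2, 3, 3, 4, 5, 6] (by decide +kernel)]
  simp only [List.map_cons, List.map_nil, List.sum_cons, List.sum_nil]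
  ring

theorem levelF44_poly (x : ℤ) :
    (levelF44.reps.map fun d => x ^ d.length).sum * (x - 1) * (((x : ℤ) ^ 2 - 1) * ((x : ℤ) ^ 4 - 1) * ((x : ℤ) ^ 6 - 1)) = ((x : ℤ) ^ 2 - 1) * ((x : ℤ) ^ 6 - 1) * ((x : ℤ) ^ 8 - 1) * ((x : ℤ) ^ 12 - 1) := by
  rw [sum_pow_length x _ [0, 1, 2, 3, 4, 4, 5, 5, 6, 6, 7, 7, 8, 8, 9, 9, 10, 10, 11, 11, 12, 13, 14, 15] (by decide +kernel)]
  simp only [List.map_cons, List.map_nil, List.sum_cons, List.sum_nil]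
  ring

theorem poincare_F4 (q : ℕ) (hq : 1 ≤ q) :
    (q - 1) ^ 4 * levelsPoly q levelsF4 = (q ^ 2 - 1) * (q ^ 6 - 1) * (q ^ 8 - 1) * (q ^ 12 - 1) := by
  zify [hq, (Nat.one_le_pow 12 q hq), (Nat.one_le_pow 2 q hq), (Nat.one_le_pow 6 q hq), (Nat.one_le_pow 8 q hq)]
  rw [← levelF44_poly (q : ℤ)]
  rw [← levelF43_poly (q : ℤ)]
  rw [← levelF42_poly (q : ℤ)]
  rw [← levelF41_poly (q : ℤ)]
  simp only [levelsPoly, levelsF4, Nat.cast_mul, Nat.cast_one, cast_sum_pow]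
  ring

theorem levelE61_poly (x : ℤ) :
    (levelE61.reps.map fun d => x ^ d.length).sum * (x - 1) * ((1 : ℤ)) = ((x : ℤ) ^ 2 - 1) := by
  rw [sum_pow_length x _ [0, 1] (by decide +kernel)]
  simp only [List.map_cons, List.map_nil, List.sum_cons, List.sum_nil]
  ring

theorem levelE62_poly (x : ℤ) :
    (levelE62.reps.map fun d => x ^ d.length).sum * (x - 1) * (((x : ℤ) ^ 2 - 1)) = ((x : ℤ) ^ 2 - 1) * ((x : ℤ) ^ 2 - 1) := by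
  rw [sum_pow_length x _ [0, 1] (by decide +kernel)]
  simp only [List.map_cons, List.map_nil, List.sum_cons, List.sum_nil]
  ring

theorem levelE63_poly (x : ℤ) :
    (levelE63.reps.map fun d => x ^ d.length).sum * (x - 1) * (((x : ℤ) ^ 2 - 1) * ((x : ℤ) ^ 2 - 1)) = ((x : ℤ) ^ 2 - 1) * ((x : ℤ) ^ 2 - 1) * ((x : ℤ) ^ 3 - 1) := by
  rw [sum_pow_length x _ [0, 1, 2] (by decide +kernel)]
  simp only [List.map_cons, List.map_nil, List.sum_cons, List.sum_nil]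
  ring

theorem levelE64_poly (x : ℤ) :
    (levelE64.reps.map fun d => x ^ d.length).sum * (x - 1) * (((x : ℤ) ^ 2 - 1) * ((x : ℤ) ^ 2 - 1) * ((x : ℤ) ^ 3 - 1)) = ((x : ℤ) ^ 2 - 1) * ((x : ℤ) ^ 3 - 1) * ((x : ℤ) ^ 4 - 1) * ((x : ℤ) ^ 5 - 1) := by
  rw [sum_pow_length x _ [0, 1, 2, 2, 3, 3, 4, 4, 5, 6] (by decide +kernel)]
  simp only [List.map_cons, List.map_nil, List.sum_cons, List.sum_nil]
  ring

theorem levelE65_poly (x : ℤ) :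
    (levelE65.reps.map fun d => x ^ d.length).sum * (x - 1) * (((x : ℤ) ^ 2 - 1) * ((x : ℤ) ^ 3 - 1) * ((x : ℤ) ^ 4 - 1) * ((x : ℤ) ^ 5 - 1)) = ((x : ℤ) ^ 2 - 1) * ((x : ℤ) ^ 4 - 1) * ((x : ℤ) ^ 5 - 1) * ((x : ℤ) ^ 6 - 1) * ((x : ℤ) ^ 8 - 1) := by
  rw [sum_pow_length x _ [0, 1, 2, 3, 3, 4, 4, 5, 5, 6, 6, 7, 7, 8, 9, 10] (by decide +kernel)]
  simp only [List.map_cons, List.map_nil, List.sum_cons, List.sum_nil]
  ring

theorem levelE66_poly (x : ℤ) :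
    (levelE66.reps.map fun d => x ^ d.length).sum * (x - 1) * (((x : ℤ) ^ 2 - 1) * ((x : ℤ) ^ 4 - 1) * ((x : ℤ) ^ 5 - 1) * ((x : ℤ) ^ 6 - 1) * ((x : ℤ) ^ 8 - 1)) = ((x : ℤ) ^ 2 - 1) * ((x : ℤ) ^ 5 - 1) * ((x : ℤ) ^ 6 - 1) * ((x : ℤ) ^ 8 - 1) * ((x : ℤ) ^ 9 - 1) * ((x : ℤ) ^ 12 - 1) := by
  rw [sum_pow_length x _ [0, 1, 2, 3, 4, 4, 5, 5, 6, 6, 7, 7, 8, 8, 8, 9, 9, 10, 10, 11, 11, 12, 12, 13, 14, 15, 16] (by decide +kernel)]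
  simp only [List.map_cons, List.map_nil, List.sum_cons, List.sum_nil]
  ring

theorem poincare_E6 (q : ℕ) (hq : 1 ≤ q) :
    (q - 1) ^ 6 * levelsPoly q levelsE6 = (q ^ 2 - 1) * (q ^ 5 - 1) * (q ^ 6 - 1) * (q ^ 8 - 1) * (q ^ 9 - 1) * (q ^ 12 - 1) := by
  zify [hq, (Nat.one_le_pow 12 q hq), (Nat.one_le_pow 2 q hq), (Nat.one_le_pow 5 q hq), (Nat.one_le_pow 6 q hq), (Nat.one_le_pow 8 q hq), (Nat.one_le_pow 9 q hq)]
  rw [← levelE66_poly (q : ℤ)]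
  rw [← levelE65_poly (q : ℤ)]
  rw [← levelE64_poly (q : ℤ)]
  rw [← levelE63_poly (q : ℤ)]
  rw [← levelE62_poly (q : ℤ)]
  rw [← levelE61_poly (q : ℤ)]
  simp only [levelsPoly, levelsE6, Nat.cast_mul, Nat.cast_one, cast_sum_pow]
  ring

theorem levelE71_poly (x : ℤ) :
    (levelE71.reps.map fun d => x ^ d.length).sum * (x - 1) * ((1 : ℤ)) = ((x : ℤ) ^ 2 - 1) := by
  rw [sum_pow_length x _ [0, 1] (by decide +kernel)]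
  simp only [List.map_cons, List.map_nil, List.sum_cons, List.sum_nil]
  ring

theorem levelE72_poly (x : ℤ) :
    (levelE72.reps.map fun d => x ^ d.length).sum * (x - 1) * (((x : ℤ) ^ 2 - 1)) = ((x : ℤ) ^ 2 - 1) * ((x : ℤ) ^ 2 - 1) := by
  rw [sum_pow_length x _ [0, 1] (by decide +kernel)]
  simp only [List.map_cons, List.map_nil, List.sum_cons, List.sum_nil]
  ring

theorem levelE73_poly (x : ℤ) :
    (levelE73.reps.map fun d => x ^ d.length).sum * (x - 1) * (((x : ℤ) ^ 2 - 1) * ((x : ℤ) ^ 2 - 1)) = ((x : ℤ) ^ 2 - 1) * ((x : ℤ) ^ 2 - 1) * ((x : ℤ) ^ 3 - 1) := by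
  rw [sum_pow_length x _ [0, 1, 2] (by decide +kernel)]
  simp only [List.map_cons, List.map_nil, List.sum_cons, List.sum_nil]
  ring

theorem levelE74_poly (x : ℤ) :
    (levelE74.reps.map fun d => x ^ d.length).sum * (x - 1) * (((x : ℤ) ^ 2 - 1) * ((x : ℤ) ^ 2 - 1) * ((x : ℤ) ^ 3 - 1)) = ((x : ℤ) ^ 2 - 1) * ((x : ℤ) ^ 3 - 1) * ((x : ℤ) ^ 4 - 1) * ((x : ℤ) ^ 5 - 1) := by
  rw [sum_pow_length x _ [0, 1, 2, 2, 3, 3, 4, 4, 5, 6] (by decide +kernel)]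
  simp only [List.map_cons, List.map_nil, List.sum_cons, List.sum_nil]
  ring

theorem levelE75_poly (x : ℤ) :
    (levelE75.reps.map fun d => x ^ d.length).sum * (x - 1) * (((x : ℤ) ^ 2 - 1) * ((x : ℤ) ^ 3 - 1) * ((x : ℤ) ^ 4 - 1) * ((x : ℤ) ^ 5 - 1)) = ((x : ℤ) ^ 2 - 1) * ((x : ℤ) ^ 4 - 1) * ((x : ℤ) ^ 5 - 1) * ((x : ℤ) ^ 6 - 1) * ((x : ℤ) ^ 8 - 1) := by
  rw [sum_pow_length x _ [0, 1, 2, 3, 3, 4, 4, 5, 5, 6, 6, 7, 7, 8, 9, 10] (by decide +kernel)]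
  simp only [List.map_cons, List.map_nil, List.sum_cons, List.sum_nil]
  ring

theorem levelE76_poly (x : ℤ) :
    (levelE76.reps.map fun d => x ^ d.length).sum * (x - 1) * (((x : ℤ) ^ 2 - 1) * ((x : ℤ) ^ 4 - 1) * ((x : ℤ) ^ 5 - 1) * ((x : ℤ) ^ 6 - 1) * ((x : ℤ) ^ 8 - 1)) = ((x : ℤ) ^ 2 - 1) * ((x : ℤ) ^ 5 - 1) * ((x : ℤ) ^ 6 - 1) * ((x : ℤ) ^ 8 - 1) * ((x : ℤ) ^ 9 - 1) * ((x : ℤ) ^ 12 - 1) := by
  rw [sum_pow_length x _ [0, 1, 2, 3, 4, 4, 5, 5, 6, 6, 7, 7, 8, 8, 8, 9, 9, 10, 10, 11, 11, 12, 12, 13, 14, 15, 16] (by decide +kernel)]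
  simp only [List.map_cons, List.map_nil, List.sum_cons, List.sum_nil]
  ring

theorem levelE77_poly (x : ℤ) :
    (levelE77.reps.map fun d => x ^ d.length).sum * (x - 1) * (((x : ℤ) ^ 2 - 1) * ((x : ℤ) ^ 5 - 1) * ((x : ℤ) ^ 6 - 1) * ((x : ℤ) ^ 8 - 1) * ((x : ℤ) ^ 9 - 1) * ((x : ℤ) ^ 12 - 1)) = ((x : ℤ) ^ 2 - 1) * ((x : ℤ) ^ 6 - 1) * ((x : ℤ) ^ 8 - 1) * ((x : ℤ) ^ 10 - 1) * ((x : ℤ) ^ 12 - 1) * ((x : ℤ) ^ 14 - 1) * ((x : ℤ) ^ 18 - 1) := by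
  rw [sum_pow_length x _ [0, 1, 2, 3, 4, 5, 5, 6, 6, 7, 7, 8, 8, 9, 9, 9, 10, 10, 10, 11, 11, 11, 12, 12, 12, 13, 13, 13, 14, 14, 14, 15, 15, 15, 16, 16, 16, 17, 17, 17, 18, 18, 18, 19, 19, 20, 20, 21, 21, 22, 22, 23, 24, 25, 26, 27] (by decide +kernel)]
  simp only [List.map_cons, List.map_nil, List.sum_cons, List.sum_nil]
  ring

theorem poincare_E7 (q : ℕ) (hq : 1 ≤ q) :
    (q - 1) ^ 7 * levelsPoly q levelsE7 = (q ^ 2 - 1) * (q ^ 6 - 1) * (q ^ 8 - 1) * (q ^ 10 - 1) * (q ^ 12 - 1) * (q ^ 14 - 1) * (q ^ 18 - 1) := by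
  zify [hq, (Nat.one_le_pow 10 q hq), (Nat.one_le_pow 12 q hq), (Nat.one_le_pow 14 q hq), (Nat.one_le_pow 18 q hq), (Nat.one_le_pow 2 q hq), (Nat.one_le_pow 6 q hq), (Nat.one_le_pow 8 q hq)]
  rw [← levelE77_poly (q : ℤ)]
  rw [← levelE76_poly (q : ℤ)]
  rw [← levelE75_poly (q : ℤ)]
  rw [← levelE74_poly (q : ℤ)]
  rw [← levelE73_poly (q : ℤ)]
  rw [← levelE72_poly (q : ℤ)]
  rw [← levelE71_poly (q : ℤ)]
  simp only [levelsPoly, levelsE7, Nat.cast_mul, Nat.cast_one, cast_sum_pow]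
  ring

theorem levelE81_poly (x : ℤ) :
    (levelE81.reps.map fun d => x ^ d.length).sum * (x - 1) * ((1 : ℤ)) = ((x : ℤ) ^ 2 - 1) := by
  rw [sum_pow_length x _ [0, 1] (by decide +kernel)]
  simp only [List.map_cons, List.map_nil, List.sum_cons, List.sum_nil]
  ring

theorem levelE82_poly (x : ℤ) :
    (levelE82.reps.map fun d => x ^ d.length).sum * (x - 1) * (((x : ℤ) ^ 2 - 1)) = ((x : ℤ) ^ 2 - 1) * ((x : ℤ) ^ 2 - 1) := by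
  rw [sum_pow_length x _ [0, 1] (by decide +kernel)]
  simp only [List.map_cons, List.map_nil, List.sum_cons, List.sum_nil]
  ring

theorem levelE83_poly (x : ℤ) :
    (levelE83.reps.map fun d => x ^ d.length).sum * (x - 1) * (((x : ℤ) ^ 2 - 1) * ((x : ℤ) ^ 2 - 1)) = ((x : ℤ) ^ 2 - 1) * ((x : ℤ) ^ 2 - 1) * ((x : ℤ) ^ 3 - 1) := by
  rw [sum_pow_length x _ [0, 1, 2] (by decide +kernel)]
  simp only [List.map_cons, List.map_nil, List.sum_cons, List.sum_nil]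
  ring

theorem levelE84_poly (x : ℤ) :
    (levelE84.reps.map fun d => x ^ d.length).sum * (x - 1) * (((x : ℤ) ^ 2 - 1) * ((x : ℤ) ^ 2 - 1) * ((x : ℤ) ^ 3 - 1)) = ((x : ℤ) ^ 2 - 1) * ((x : ℤ) ^ 3 - 1) * ((x : ℤ) ^ 4 - 1) * ((x : ℤ) ^ 5 - 1) := by
  rw [sum_pow_length x _ [0, 1, 2, 2, 3, 3, 4, 4, 5, 6] (by decide +kernel)]
  simp only [List.map_cons, List.map_nil, List.sum_cons, List.sum_nil]
  ring

theorem levelE85_poly (x : ℤ) :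
    (levelE85.reps.map fun d => x ^ d.length).sum * (x - 1) * (((x : ℤ) ^ 2 - 1) * ((x : ℤ) ^ 3 - 1) * ((x : ℤ) ^ 4 - 1) * ((x : ℤ) ^ 5 - 1)) = ((x : ℤ) ^ 2 - 1) * ((x : ℤ) ^ 4 - 1) * ((x : ℤ) ^ 5 - 1) * ((x : ℤ) ^ 6 - 1) * ((x : ℤ) ^ 8 - 1) := by
  rw [sum_pow_length x _ [0, 1, 2, 3, 3, 4, 4, 5, 5, 6, 6, 7, 7, 8, 9, 10] (by decide +kernel)]
  simp only [List.map_cons, List.map_nil, List.sum_cons, List.sum_nil]
  ring

theorem levelE86_poly (x : ℤ) :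
    (levelE86.reps.map fun d => x ^ d.length).sum * (x - 1) * (((x : ℤ) ^ 2 - 1) * ((x : ℤ) ^ 4 - 1) * ((x : ℤ) ^ 5 - 1) * ((x : ℤ) ^ 6 - 1) * ((x : ℤ) ^ 8 - 1)) = ((x : ℤ) ^ 2 - 1) * ((x : ℤ) ^ 5 - 1) * ((x : ℤ) ^ 6 - 1) * ((x : ℤ) ^ 8 - 1) * ((x : ℤ) ^ 9 - 1) * ((x : ℤ) ^ 12 - 1) := by
  rw [sum_pow_length x _ [0, 1, 2, 3, 4, 4, 5, 5, 6, 6, 7, 7, 8, 8, 8, 9, 9, 10, 10, 11, 11, 12, 12, 13, 14, 15, 16] (by decide +kernel)]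
  simp only [List.map_cons, List.map_nil, List.sum_cons, List.sum_nil]
  ring

theorem levelE87_poly (x : ℤ) :
    (levelE87.reps.map fun d => x ^ d.length).sum * (x - 1) * (((x : ℤ) ^ 2 - 1) * ((x : ℤ) ^ 5 - 1) * ((x : ℤ) ^ 6 - 1) * ((x : ℤ) ^ 8 - 1) * ((x : ℤ) ^ 9 - 1) * ((x : ℤ) ^ 12 - 1)) = ((x : ℤ) ^ 2 - 1) * ((x : ℤ) ^ 6 - 1) * ((x : ℤ) ^ 8 - 1) * ((x : ℤ) ^ 10 - 1) * ((x : ℤ) ^ 12 - 1) * ((x : ℤ) ^ 14 - 1) * ((x : ℤ) ^ 18 - 1) := by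
  rw [sum_pow_length x _ [0, 1, 2, 3, 4, 5, 5, 6, 6, 7, 7, 8, 8, 9, 9, 9, 10, 10, 10, 11, 11, 11, 12, 12, 12, 13, 13, 13, 14, 14, 14, 15, 15, 15, 16, 16, 16, 17, 17, 17, 18, 18, 18, 19, 19, 20, 20, 21, 21, 22, 22, 23, 24, 25, 26, 27] (by decide +kernel)]
  simp only [List.map_cons, List.map_nil, List.sum_cons, List.sum_nil]
  ring

set_option maxRecDepth 4000 in
theorem levelE88_poly (x : ℤ) :
    (levelE88.reps.map fun d => x ^ d.length).sum * (x - 1) * (((x : ℤ) ^ 2 - 1) * ((x : ℤ) ^ 6 - 1) * ((x : ℤ) ^ 8 - 1) * ((x : ℤ) ^ 10 - 1) * ((x : ℤ) ^ 12 - 1) * ((x : ℤ) ^ 14 - 1) * ((x : ℤ) ^ 18 - 1)) = ((x : ℤ) ^ 2 - 1) * ((x : ℤ) ^ 8 - 1) * ((x : ℤ) ^ 12 - 1) * ((x : ℤ) ^ 14 - 1) * ((x : ℤ) ^ 18 - 1) * ((x : ℤ) ^ 20 - 1) * ((x : ℤ) ^ 24 - 1) * ((x : ℤ) ^ 30 - 1) := by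
  rw [sum_pow_length x _ [0, 1, 2, 3, 4, 5, 6, 6, 7, 7, 8, 8, 9, 9, 10, 10, 10, 11, 11, 11, 12, 12, 12, 12, 13, 13, 13, 13, 14, 14, 14, 14, 15, 15, 15, 15, 16, 16, 16, 16, 16, 17, 17, 17, 17, 17, 18, 18, 18, 18, 18, 18, 19, 19, 19, 19, 19, 19, 20, 20, 20, 20, 20, 20, 21, 21, 21, 21, 21, 21, 22, 22, 22, 22, 22, 22, 22, 23, 23, 23, 23, 23, 23, 23, 24, 24, 24, 24, 24, 24, 24, 25, 25, 25, 25, 25, 25, 25, 26, 26, 26, 26, 26, 26, 26, 27, 27, 27, 27, 27, 27, 27, 28, 28, 28, 28, 28, 28, 28, 28, 29, 29, 29, 29, 29, 29, 29, 29, 30, 30, 30, 30, 30, 30, 30, 31, 31, 31, 31, 31, 31, 31, 32, 32, 32, 32, 32, 32, 32, 33, 33, 33, 33, 33, 33, 33, 34, 34, 34, 34, 34, 34, 34, 35, 35, 35, 35, 35, 35, 35, 36, 36, 36, 36, 36, 36, 37, 37, 37, 37, 37, 37, 38, 38, 38, 38, 38, 38, 39, 39, 39, 39, 39, 39, 40, 40, 40, 40, 40, 41, 41, 41, 41, 41, 42, 42, 42, 42, 43,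 43, 43, 43, 44, 44, 44, 44, 45, 45, 45, 45, 46, 46, 46, 47, 47, 47, 48, 48, 49, 49, 50, 50, 51, 51, 52, 53, 54, 55, 56, 57] (by decide +kernel)]
  simp only [List.map_cons, List.map_nil, List.sum_cons, List.sum_nil]
  ring

theorem poincare_E8 (q : ℕ) (hq : 1 ≤ q) :
    (q - 1) ^ 8 * levelsPoly q levelsE8 = (q ^ 2 - 1) * (q ^ 8 - 1) * (q ^ 12 - 1) * (q ^ 14 - 1) * (q ^ 18 - 1) * (q ^ 20 - 1) * (q ^ 24 - 1) * (q ^ 30 - 1) := by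
  zify [hq, (Nat.one_le_pow 12 q hq), (Nat.one_le_pow 14 q hq), (Nat.one_le_pow 18 q hq), (Nat.one_le_pow 2 q hq), (Nat.one_le_pow 20 q hq), (Nat.one_le_pow 24 q hq), (Nat.one_le_pow 30 q hq), (Nat.one_le_pow 8 q hq)]
  rw [← levelE88_poly (q : ℤ)]
  rw [← levelE87_poly (q : ℤ)]
  rw [← levelE86_poly (q : ℤ)]
  rw [← levelE85_poly (q : ℤ)]
  rw [← levelE84_poly (q : ℤ)]
  rw [← levelE83_poly (q : ℤ)]
  rw [← levelE82_poly (q : ℤ)]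
  rw [← levelE81_poly (q : ℤ)]
  simp only [levelsPoly, levelsE8, Nat.cast_mul, Nat.cast_one, cast_sum_pow]
  ring

end Cfsg.Agent.Chev.WeylTab
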