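/-
Tits' criterion applied to a Chevalley group.
-/
import Cfsg.Agent.Lib.Chev.BNCore
import Cfsg.Agent.S0319

set_option autoImplicit false

namespace Cfsg.Agent.Chev.BNSetup

open Cfsg.Lie

/-- The Dynkin graph is connected: every node but `0` has a non-commuting neighbour of smaller height. -/
def Connected (D : ChevalleyDatum) (ord : List ℕ) : Prop :=
  ∀ i < D.rank, i ≠ 0 → ∃ j < D.rank, ord.getD j 0 < ord.getD i 0 ∧
    D.reflectRoot i (D.reflectRoot j (D.simple j)) ≠ D.reflectRoot j (D.reflectRoot i (D.simple j))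

instance decidableConnected (D : ChevalleyDatum) (ord : List ℕ) : Decidable (Connected D ord) :=
  inferInstanceAs (Decidable (∀ _, _ → _))

theorem connected_chevG2 : Connected chevG2 [0, 1] := by decide +kernel
theorem connected_chevB2 : Connected chevB2 [0, 1] := by decide +kernel
theorem connected_chevD4 : Connected chevD4 [0, 1, 2, 2] := by decide +kernel
theorem connected_chevF4 : Connected chevF4 [0, 1, 2, 3] := by decide +kernel
theorem connected_chevE6 : Connected chevE6 [0, 3, 1, 2, 3, 4] := by decide +kernel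
theorem connected_chevE7 : Connected chevE7 [0, 3, 1, 2, 3, 4, 5] := by decide +kernel
theorem connected_chevE8 : Connected chevE8 [0, 3, 1, 2, 3, 4, 5, 6] := by decide +kernel

theorem connected_of_mem {D : ChevalleyDatum}
    (hD : D ∈ [chevG2, chevB2, chevD4, chevF4, chevE6, chevE7, chevE8]) : ∃ ord, Connected D ord := by
  simp only [List.mem_cons, List.not_mem_nil, or_false] at hD
  rcases hD with rfl | rfl | rfl | rfl | rfl | rfl | rfl
  exacts [⟨_, connected_chevG2⟩, ⟨_, connected_chevB2⟩, ⟨_, connected_chevD4⟩, ⟨_, connected_chevF4⟩,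
    ⟨_, connected_chevE6⟩, ⟨_, connected_chevE7⟩, ⟨_, connected_chevE8⟩]

variable {F : Type*} [Field F] {D : ChevalleyDatum}

theorem exists_crossing {ord : List ℕ} (hc : Connected D ord) (q : Fin D.rank → Prop)
    {a b : Fin D.rank} (ha : q a) (hb : ¬ q b) :
    ∃ i j : Fin D.rank, q i ∧ ¬ q j ∧
      D.reflectRoot i (D.reflectRoot j (D.simple i)) ≠ D.reflectRoot j (D.reflectRoot i (D.simple i)) ∨
      q i ∧ ¬ q j ∧
      D.reflectRoot i (D.reflectRoot j (D.simple j)) ≠ D.reflectRoot j (D.reflectRoot i (D.simple j)) := by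
  by_contra hno
  push_neg at hno
  have key : ∀ n, ∀ i : Fin D.rank, ord.getD i.val 0 = n → (q i ↔ q ⟨0, a.pos⟩) := by
    intro n
    induction n using Nat.strong_induction_on with
    | _ n ih =>
      intro i hi
      by_cases h0 : i.val = 0
      · rw [show i = ⟨0, a.pos⟩ from Fin.ext h0]
      obtain ⟨j, hj, hlt, hne⟩ := hc i.val i.2 h0
      rw [← ih _ (hi ▸ hlt) ⟨j, hj⟩ rfl]
      constructor
      · intro hqi
        by_contra hqj
        exact hne ((hno i ⟨j, hj⟩).2 hqi hqj)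
      · intro hqj
        by_contra hqi
        exact hne ((hno ⟨j, hj⟩ i).1 hqj hqi).symm
  exact hb (((key _ b rfl).trans (key _ a rfl).symm).2 ha)

theorem isSimpleGroup_group (hG : Good D) {tabs simps : List ℕ} (hf : Facts D tabs simps) (hn : NegTri D)
    {w0 : List ℕ} (hw : IsLongest D tabs w0) {ord : List ℕ} (hc : Connected D ord)
    (hperf : commutator ↥(D.group F) = ⊤) :
    IsSimpleGroup ↥(D.group F) ∧ ¬ IsMulCommutative ↥(D.group F) := by
  have h0 : 0 < D.nroots := lt_of_le_of_lt (Nat.zero_le _) (hG.simple_lt (hf.2.1.1 : 0 < D.rank))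
  haveI : Nontrivial ↥(D.group F) :=
    ⟨⟨⟨xe hG 0 1, xe_mem_group hG h0 1⟩, 1, fun e => xe_ne_one hG hf h0 (one_ne_zero (α := F))
      (congrArg Subtype.val e)⟩⟩
  obtain ⟨P, hB, hN, hS⟩ := exists_bnPair (F := F) hG hf
  have ax := axioms (F := F) hG hf
  refine ⟨Cfsg.Agent.S0319.result P ?_ ?_ hperf (by rw [hB]; exact normalCore_borel hG hf hn hw), ?_⟩
  · intro J hJ hJne hJc
    have hmem : ∀ i : Fin D.rank, (⟨(data hG F).nn i, monomial_le_group hG hf
        ((data_N hG hf).le (RootBN.Data.nn_mem_N i))⟩ : D.group F) ∈ P.S := by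
      intro i
      rw [hS]
      exact ⟨i.val, i.2, coe_ne' hG _ _⟩
    have hrep : ∀ g ∈ P.S, ∃ i : Fin D.rank, (g : GL D.Idx F) = (data hG F).nn i := by
      intro g hg
      rw [hS] at hg
      obtain ⟨i, hi, e⟩ := hg
      exact ⟨⟨i, hi⟩, Units.ext (e.trans (coe_ne' hG (D.simple i) 1).symm)⟩
    obtain ⟨g₁, hg₁⟩ := hJne
    obtain ⟨g₂, hg₂, hg₂'⟩ := hJc
    obtain ⟨a, hga⟩ := hrep g₁ (hJ hg₁)
    obtain ⟨b, hgb⟩ := hrep g₂ hg₂
    let q : Fin D.rank → Prop := fun i => ∃ g ∈ J, (g : GL D.Idx F) = (data hG F).nn i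
    have hqb : ¬ q b := by
      rintro ⟨g, hg, e⟩
      exact hg₂' ((Subtype.ext (e.trans hgb.symm) : g = g₂) ▸ hg)
    obtain ⟨i, j, hij⟩ := exists_crossing hc q ⟨g₁, hg₁, hga⟩ hqb
    obtain ⟨hqi, hqj, r, hr⟩ : q i ∧ ¬ q j ∧ ∃ r : Fin D.nroots,
        D.reflectRoot i (D.reflectRoot j r.val) ≠ D.reflectRoot j (D.reflectRoot i r.val) := by
      rcases hij with ⟨h1, h2, h3⟩ | ⟨h1, h2, h3⟩
      · exact ⟨h1, h2, ⟨_, hG.simple_lt i.2⟩, h3⟩
      · exact ⟨h1, h2, ⟨_, hG.simple_lt j.2⟩, h3⟩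
    obtain ⟨s, hsJ, hs⟩ := hqi
    refine ⟨s, hsJ, _, ⟨hmem j, fun h => hqj ⟨_, h, rfl⟩⟩, fun hB' => ?_⟩
    rw [hB, Subgroup.mem_subgroupOf] at hB'
    simp only [Subgroup.coe_mul, Subgroup.coe_inv, hs] at hB'
    have hH : (data hG F).nn i * (data hG F).nn j * ((data hG F).nn i)⁻¹ * ((data hG F).nn j)⁻¹ ∈
        (data hG F).H := by
      refine (borel_inf_monomial (F := F) hG hf).le ⟨hB', (data_N hG hf).le ?_⟩
      exact Subgroup.mul_mem _ (Subgroup.mul_mem _ (Subgroup.mul_mem _ (RootBN.Data.nn_mem_N i)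
        (RootBN.Data.nn_mem_N j)) (Subgroup.inv_mem _ (RootBN.Data.nn_mem_N i)))
        (Subgroup.inv_mem _ (RootBN.Data.nn_mem_N j))
    have e := RootBN.Data.acts_unique ax ((((RootBN.Data.acts_nn ax i).mul (RootBN.Data.acts_nn ax j)).mul
      (RootBN.Data.acts_nn ax i).inv).mul (RootBN.Data.acts_nn ax j).inv) (RootBN.Data.acts_H ax hH)
    rw [mul_inv_eq_one, mul_inv_eq_iff_eq_mul] at e
    exact hr (congrArg (fun σ : Equiv.Perm (Fin D.nroots) => (σ r).val) e)
  · rw [hB]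
    haveI := isSolvable_borel (F := F) hG hf
    exact Group.isSolvable_of_surjective (f := (Subgroup.subgroupOfEquivOfLe (borel_le_group (F := F) hG hf)).symm.toMonoidHom)
      (MulEquiv.surjective _)
  · intro hcomm
    have : commutator ↥(D.group F) = ⊥ := (commutator_eq_bot_iff_center_eq_top _).2 (eq_top_iff.2 fun x _ =>
      Subgroup.mem_center_iff.2 fun y => hcomm.is_comm.comm y x)
    exact (bot_ne_top : (⊥ : Subgroup ↥(D.group F)) ≠ ⊤) (this.symm.trans hperf)

end Cfsg.Agent.Chev.BNSetup
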