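/-
The homomorphism from SL₂(F) onto ⟨X_r, X_{-r}⟩ for every root of a certified datum, from a criterion for
pairs of groups satisfying the relations of SL₂.
-/
import Cfsg.Agent.Lib.Chev.Elements

set_option autoImplicit false

namespace Cfsg.Agent.Chev

open Cfsg.Lie Matrix
open scoped MatrixGroups

/-- The relations of SL₂ between a root group `X`, a torus `H` and an element `N`. -/
structure SL2Rels {M : Type*} [Group M] {F : Type*} [Field F] (X : F → M) (H : F → M) (N : M) : Prop where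
  add : ∀ s t, X s * X t = X (s + t)
  hmul : ∀ a b, a ≠ 0 → b ≠ 0 → H a * H b = H (a * b)
  conj : ∀ a t, a ≠ 0 → H a * X t = X (a * a * t) * H a
  nH : ∀ a, a ≠ 0 → N * H a = H a⁻¹ * N
  nn : N * N = H (-1)
  flip : ∀ u, u ≠ 0 → N * X u⁻¹ * N⁻¹ = X (-u) * H u * N * X (-u)

section rels

variable {M : Type*} [Group M] {F : Type*} [Field F] {X H : F → M} {N : M}

/-- An element in Bruhat normal form. -/
def IsNormalForm (X H : F → M) (N : M) (g : M) : Prop :=
  (∃ α a, a ≠ 0 ∧ g = X α * H a) ∨ ∃ α s β, s ≠ 0 ∧ g = X α * H s * N * X β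

theorem SL2Rels.h_one (h : SL2Rels X H N) : H 1 = 1 :=
  mul_left_cancel (a := H 1) (by rw [h.hmul 1 1 one_ne_zero one_ne_zero, mul_one, mul_one])

theorem SL2Rels.x_zero (h : SL2Rels X H N) : X 0 = 1 :=
  mul_left_cancel (a := X 0) (by rw [h.add, add_zero, mul_one])

theorem SL2Rels.normalForm (h : SL2Rels X H N) {g : M} (hg : g ∈ Subgroup.closure (Set.range X ∪ {N})) :
    IsNormalForm X H N g := by
  have hx : ∀ t, ∀ g, IsNormalForm X H N g → IsNormalForm X H N (X t * g) := by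
    rintro t g (⟨α, a, ha, rfl⟩ | ⟨α, s, β, hs, rfl⟩)
    · exact Or.inl ⟨t + α, a, ha, by rw [← mul_assoc, h.add]⟩
    · exact Or.inr ⟨t + α, s, β, hs, by simp only [← mul_assoc, h.add]⟩
  have hn : ∀ g, IsNormalForm X H N g → IsNormalForm X H N (N * g) := by
    rintro g (⟨α, a, ha, rfl⟩ | ⟨α, s, β, hs, rfl⟩)
    · refine Or.inr ⟨0, a⁻¹, α * (a * a)⁻¹, inv_ne_zero ha, ?_⟩
      have e : X α * H a = H a * X (α * (a * a)⁻¹) := by
        rw [h.conj a _ ha]; congr 2; field_simp
      rw [h.x_zero, one_mul, e, ← mul_assoc, h.nH a ha]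
    · by_cases hα : α = 0
      · subst hα
        have hne : s⁻¹ * -1 ≠ 0 := mul_ne_zero (inv_ne_zero hs) (neg_ne_zero.2 one_ne_zero)
        refine Or.inl ⟨(s⁻¹ * -1) * (s⁻¹ * -1) * β, s⁻¹ * -1, hne, ?_⟩
        rw [h.x_zero, one_mul, ← h.conj _ β hne, ← h.hmul _ _ (inv_ne_zero hs) (neg_ne_zero.2 one_ne_zero), ← h.nn,
          ← mul_assoc N, ← mul_assoc N, h.nH s hs]
        simp only [mul_assoc]
      · set u := α⁻¹ with hu
        have hu0 : u ≠ 0 := inv_ne_zero hα
        have hs' : -s⁻¹ ≠ 0 := neg_ne_zero.2 (inv_ne_zero hs)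
        refine Or.inr ⟨-u, u * -s, s * s * -u + β, mul_ne_zero hu0 (neg_ne_zero.2 hs), ?_⟩
        have e1 : N * X α = X (-u) * H u * N * X (-u) * N := by
          rw [← h.flip u hu0, hu, inv_inv, inv_mul_cancel_right]
        have e2 : N * H s * N = H (-s⁻¹) := by
          rw [h.nH s hs, mul_assoc, h.nn, h.hmul _ _ (inv_ne_zero hs) (neg_ne_zero.2 one_ne_zero), mul_neg_one]
        have e3 : X (-u) * H (-s⁻¹) = H (-s⁻¹) * X (s * s * -u) := by
          rw [h.conj _ _ hs']; congr 2; field_simp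
        have e4 : N * H (-s⁻¹) = H (-s) * N := by rw [h.nH _ hs', inv_neg, inv_inv]
        calc N * (X α * H s * N * X β) = (N * X α) * H s * N * X β := by simp only [mul_assoc]
          _ = X (-u) * H u * N * (X (-u) * (N * H s * N)) * X β := by rw [e1]; simp only [mul_assoc]
          _ = X (-u) * H u * (N * H (-s⁻¹)) * X (s * s * -u) * X β := by rw [e2, e3]; simp only [mul_assoc]
          _ = X (-u) * (H u * H (-s)) * N * (X (s * s * -u) * X β) := by rw [e4]; simp only [mul_assoc]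
          _ = _ := by rw [h.hmul _ _ hu0 (neg_ne_zero.2 hs), h.add]
  induction hg using Subgroup.closure_induction_left with
  | one => exact Or.inl ⟨0, 1, one_ne_zero, by rw [h.x_zero, h.h_one, one_mul]⟩
  | mul_left x hx' y _ ih =>
    rcases hx' with ⟨t, rfl⟩ | hN
    · exact hx t y ih
    · rw [Set.mem_singleton_iff.1 hN]; exact hn y ih
  | inv_mul_cancel x hx' y _ ih =>
    rcases hx' with ⟨t, rfl⟩ | hN
    · rw [show (X t)⁻¹ = X (-t) from inv_eq_of_mul_eq_one_right (by rw [h.add, add_neg_cancel, h.x_zero])]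
      exact hx _ y ih
    · rw [Set.mem_singleton_iff.1 hN]
      have h4 : N * (N * (N * N)) = 1 := by
        rw [← mul_assoc N N, h.nn, h.hmul _ _ (neg_ne_zero.2 one_ne_zero) (neg_ne_zero.2 one_ne_zero), neg_mul_neg,
          one_mul, h.h_one]
      rw [inv_eq_of_mul_eq_one_right h4, mul_assoc, mul_assoc]
      exact hn _ (hn _ (hn y ih))

end rels

section concrete

variable {F : Type*} [Field F]

/-- The upper unitriangular element of SL₂. -/
def upperSL (t : F) : SL(2, F) := ⟨!![1, t; 0, 1], by simp [Matrix.det_fin_two]⟩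

/-- The lower unitriangular element of SL₂. -/
def lowerSL (t : F) : SL(2, F) := ⟨!![1, 0; t, 1], by simp [Matrix.det_fin_two]⟩

/-- The diagonal element of SL₂ (1 for the parameter 0). -/
noncomputable def torusSL (a : F) : SL(2, F) :=
  open Classical in if ha : a = 0 then 1 else ⟨!![a, 0; 0, a⁻¹], by simp [Matrix.det_fin_two, ha]⟩

/-- The element (0 1; -1 0) of SL₂. -/
def flipSL : SL(2, F) := ⟨!![0, 1; -1, 0], by simp [Matrix.det_fin_two]⟩

theorem coe_torusSL {a : F} (ha : a ≠ 0) : (torusSL a : Matrix (Fin 2) (Fin 2) F) = !![a, 0; 0, a⁻¹] := by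
  have h : torusSL a = (⟨!![a, 0; 0, a⁻¹], by simp [Matrix.det_fin_two, ha]⟩ : SL(2, F)) := dif_neg ha
  rw [h]

theorem coe_upperSL (t : F) : (upperSL t : Matrix (Fin 2) (Fin 2) F) = !![1, t; 0, 1] := by rfl

theorem coe_lowerSL (t : F) : (lowerSL t : Matrix (Fin 2) (Fin 2) F) = !![1, 0; t, 1] := by rfl

theorem coe_flipSL : ((flipSL : SL(2, F)) : Matrix (Fin 2) (Fin 2) F) = !![0, 1; -1, 0] := by rfl

theorem sl2Rels_SL : SL2Rels (upperSL (F := F)) torusSL flipSL := by
  refine ⟨fun s t => ?_, fun a b ha hb => ?_, fun a t ha => ?_, fun a ha => ?_, ?_, fun u hu => ?_⟩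
  · apply Subtype.ext; ext i j; fin_cases i <;> fin_cases j <;>
      simp [coe_upperSL, Matrix.SpecialLinearGroup.coe_mul, Matrix.mul_apply, Fin.sum_univ_two, add_comm]
  · apply Subtype.ext
    rw [Matrix.SpecialLinearGroup.coe_mul, coe_torusSL ha, coe_torusSL hb, coe_torusSL (mul_ne_zero ha hb)]
    ext i j; fin_cases i <;> fin_cases j <;> simp [Matrix.mul_apply, Fin.sum_univ_two, mul_comm]
  · apply Subtype.ext
    rw [Matrix.SpecialLinearGroup.coe_mul, Matrix.SpecialLinearGroup.coe_mul, coe_torusSL ha]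
    ext i j; fin_cases i <;> fin_cases j <;> simp [coe_upperSL, Matrix.mul_apply, Fin.sum_univ_two]
    field_simp
  · apply Subtype.ext
    rw [Matrix.SpecialLinearGroup.coe_mul, Matrix.SpecialLinearGroup.coe_mul, coe_torusSL ha,
      coe_torusSL (inv_ne_zero ha)]
    ext i j; fin_cases i <;> fin_cases j <;> simp [coe_flipSL, Matrix.mul_apply, Fin.sum_univ_two]
  · apply Subtype.ext
    rw [Matrix.SpecialLinearGroup.coe_mul, coe_torusSL (neg_ne_zero.2 one_ne_zero)]
    ext i j; fin_cases i <;> fin_cases j <;> simp [coe_flipSL, Matrix.mul_apply, Fin.sum_univ_two, inv_neg]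
  · rw [mul_inv_eq_iff_eq_mul]
    apply Subtype.ext
    simp only [Matrix.SpecialLinearGroup.coe_mul, coe_torusSL hu]
    ext i j; fin_cases i <;> fin_cases j <;>
      simp [coe_upperSL, coe_flipSL, Matrix.mul_apply, Fin.sum_univ_two, hu]

theorem eq_upper_torus_lower (g : SL(2, F)) : g ∈ Subgroup.closure (Set.range (upperSL (F := F)) ∪ {flipSL}) := by
  set K := Subgroup.closure (Set.range (upperSL (F := F)) ∪ {flipSL}) with hK
  have hX : ∀ t : F, upperSL t ∈ K := fun t => Subgroup.subset_closure (Or.inl ⟨t, rfl⟩)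
  have hN : (flipSL : SL(2, F)) ∈ K := Subgroup.subset_closure (Or.inr rfl)
  have h := sl2Rels_SL (F := F)
  have hH : ∀ s : F, s ≠ 0 → torusSL s ∈ K := by
    intro s hs
    have e := h.flip s hs
    have : torusSL s = (upperSL (-s))⁻¹ * (flipSL * upperSL s⁻¹ * flipSL⁻¹) * (upperSL (-s))⁻¹ * flipSL⁻¹ := by
      rw [e]; group
    rw [this]
    exact K.mul_mem (K.mul_mem (K.mul_mem (K.inv_mem (hX _)) (K.mul_mem (K.mul_mem hN (hX _)) (K.inv_mem hN)))
      (K.inv_mem (hX _))) (K.inv_mem hN)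
  have hdet : g 0 0 * g 1 1 - g 0 1 * g 1 0 = 1 := by
    have h2 := g.2
    rw [Matrix.det_fin_two] at h2
    exact h2
  by_cases hc : g 1 0 = 0
  · rw [hc, mul_zero, sub_zero] at hdet
    have ha : g 0 0 ≠ 0 := left_ne_zero_of_mul_eq_one hdet
    have : g = torusSL (g 0 0) * upperSL (g 0 1 / g 0 0) := by
      apply Subtype.ext
      rw [Matrix.SpecialLinearGroup.coe_mul, coe_torusSL ha]
      ext i j; fin_cases i <;> fin_cases j <;>
        simp [coe_upperSL, Matrix.mul_apply, Fin.sum_univ_two, hc, mul_div_cancel₀ _ ha, eq_inv_of_mul_eq_one_right hdet]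
    rw [this]
    exact K.mul_mem (hH _ ha) (hX _)
  · have hs : -(g 1 0)⁻¹ ≠ 0 := neg_ne_zero.2 (inv_ne_zero hc)
    have : g = upperSL (g 0 0 / g 1 0) * torusSL (-(g 1 0)⁻¹) * flipSL * upperSL (g 1 1 / g 1 0) := by
      apply Subtype.ext
      simp only [Matrix.SpecialLinearGroup.coe_mul, coe_torusSL hs]
      ext i j; fin_cases i <;> fin_cases j <;>
        simp [coe_upperSL, coe_flipSL, Matrix.mul_apply, Fin.sum_univ_two] <;> field_simp <;> linear_combination -hdet
    rw [this]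
    exact K.mul_mem (K.mul_mem (K.mul_mem (hX _) (hH _ hs)) hN) (hX _)

/-- A group with the relations of SL₂ receives a homomorphism from SL₂. -/
theorem SL2Rels.exists_hom {M : Type*} [Group M] {X H : F → M} {N : M} (h : SL2Rels X H N) :
    ∃ φ : SL(2, F) →* M, (∀ t, φ (upperSL t) = X t) ∧ φ flipSL = N := by
  set P : F → SL(2, F) × M := fun t => (upperSL t, X t) with hP
  set Q : F → SL(2, F) × M := fun a => (torusSL a, H a) with hQ
  set R : SL(2, F) × M := (flipSL, N) with hR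
  have s := sl2Rels_SL (F := F)
  have hp : SL2Rels P Q R := by
    refine ⟨fun a b => ?_, fun a b ha hb => ?_, fun a t ha => ?_, fun a ha => ?_, ?_, fun u hu => ?_⟩ <;>
      simp only [hP, hQ, hR, Prod.mk_mul_mk, Prod.inv_mk, Prod.mk.injEq]
    · exact ⟨s.add a b, h.add a b⟩
    · exact ⟨s.hmul a b ha hb, h.hmul a b ha hb⟩
    · exact ⟨s.conj a t ha, h.conj a t ha⟩
    · exact ⟨s.nH a ha, h.nH a ha⟩
    · exact ⟨s.nn, h.nn⟩
    · exact ⟨s.flip u hu, h.flip u hu⟩
  set Γ := Subgroup.closure (Set.range P ∪ {R}) with hΓ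
  have hsurj : ∀ g : SL(2, F), ∃ m, (g, m) ∈ Γ := by
    intro g
    have hle : Subgroup.closure (Set.range (upperSL (F := F)) ∪ {flipSL}) ≤ Γ.map (MonoidHom.fst _ _) := by
      rw [Subgroup.closure_le]
      rintro _ (⟨t, rfl⟩ | rfl)
      · exact ⟨P t, Subgroup.subset_closure (Or.inl ⟨t, rfl⟩), rfl⟩
      · exact ⟨R, Subgroup.subset_closure (Or.inr rfl), rfl⟩
    obtain ⟨⟨g', m⟩, hm, rfl⟩ := hle (eq_upper_torus_lower g)
    exact ⟨m, hm⟩
  have hfun : ∀ x ∈ Γ, x.1 = 1 → x.2 = 1 := by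
    intro x hx h1
    rcases hp.normalForm hx with ⟨α, a, ha, rfl⟩ | ⟨α, a, β, ha, rfl⟩
    · simp only [hP, hQ, Prod.mk_mul_mk] at h1 ⊢
      have h1' := congrArg Subtype.val h1
      rw [Matrix.SpecialLinearGroup.coe_mul, coe_torusSL ha] at h1'
      have e00 := congrFun (congrFun h1' 0) 0
      have e01 := congrFun (congrFun h1' 0) 1
      simp [coe_upperSL, Matrix.mul_apply, Fin.sum_univ_two] at e00 e01
      subst e00
      rw [e01.resolve_right one_ne_zero, h.x_zero, h.h_one, one_mul]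
    · exfalso
      simp only [hP, hQ, hR, Prod.mk_mul_mk] at h1
      have h1' := congrArg Subtype.val h1
      simp only [Matrix.SpecialLinearGroup.coe_mul, coe_torusSL ha] at h1'
      have e10 := congrFun (congrFun h1' 1) 0
      simp [coe_upperSL, coe_flipSL, Matrix.mul_apply, Fin.sum_univ_two, ha] at e10
  choose φ hφ using hsurj
  have huniq : ∀ g m, (g, m) ∈ Γ → φ g = m := by
    intro g m hm
    have := hfun _ (Γ.mul_mem (Γ.inv_mem hm) (hφ g)) (by simp)
    exact (inv_mul_eq_one.1 this).symm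
  exact ⟨{ toFun := φ, map_one' := huniq 1 1 Γ.one_mem,
           map_mul' := fun g g' => huniq _ _ (Γ.mul_mem (hφ g) (hφ g')) },
    fun t => huniq _ _ (Subgroup.subset_closure (Or.inl ⟨t, rfl⟩)),
    huniq _ _ (Subgroup.subset_closure (Or.inr rfl))⟩

theorem lowerSL_eq (t : F) : lowerSL t = flipSL * upperSL (-t) * flipSL⁻¹ := by
  rw [eq_mul_inv_iff_mul_eq]
  apply Subtype.ext
  simp only [Matrix.SpecialLinearGroup.coe_mul]
  ext i j; fin_cases i <;> fin_cases j <;> simp [coe_lowerSL, coe_upperSL, coe_flipSL, Matrix.mul_apply, Fin.sum_univ_two]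

end concrete

namespace Good

variable {F : Type*} [Field F] {D : ChevalleyDatum} (hD : Good D)
include hD

/-- The homomorphism SL₂ → ⟨X_r, X_{-r}⟩. -/
theorem exists_sl2_hom {r : ℕ} (hr : r < D.nroots) :
    ∃ φ : SL(2, F) →* GL D.Idx F, (∀ t, φ (upperSL t) = xg D F r t) ∧
      ∀ t, φ (lowerSL t) = xg D F (D.neg r) t := by
  refine hD.root_induction (P := fun r => ∃ φ : SL(2, F) →* GL D.Idx F, (∀ t, φ (upperSL t) = xg D F r t) ∧
      ∀ t, φ (lowerSL t) = xg D F (D.neg r) t) (fun i hi => ?_) (fun i hi s hs ih => ?_) hr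
  · set p := D.simple i with hp
    have hpl := hD.simple_lt hi
    obtain ⟨η, h1, h2, h3, -, -, -, h7⟩ := hD.exists_sign (F := F) hi
    have hxn : ∀ t : F, nG D F p 1 * xg D F p t * (nG D F p 1)⁻¹ = xg D F (D.neg p) (-t) := by
      intro t
      rw [mul_inv_eq_iff_eq_mul]
      refine Units.ext ?_
      simp only [Units.val_mul, hD.coe_nG, hD.coe_xg]
      simp only [hp]
      rw [h7 _ hpl t, h2, show D.reflectRoot i (D.simple i) = D.neg (D.simple i) by
        simp [ChevalleyDatum.reflectRoot]]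
      simp
    have hu : ∀ u : F, u ≠ 0 → hG D F p u * nG D F p 1 = nG D F p u := by
      intro u hu
      rw [hG_eq, mul_assoc]
      have : nG D F p (-1) * nG D F p 1 = 1 := by
        rw [← hD.nG_inv hpl (one_ne_zero (α := F)), inv_mul_cancel]
      rw [this, mul_one]
    have hrel : SL2Rels (xg D F p) (hG D F p) (nG D F p 1) := by
      refine ⟨fun s t => hD.xg_add p s t, fun a b ha hb => hD.hG_mul hpl ha hb, fun a t ha => ?_, fun a ha => ?_,
        hD.nG_simple_sq hi, fun u hu0 => ?_⟩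
      · rw [hD.hG_mul_xg hi hpl ha, hD.cartan_simple hi]
        congr 2
        rw [zpow_two]
      · rw [hD.nG_mul_hG hi hpl ha]
        congr 1
        refine Units.ext ?_
        rw [hD.coe_hG_eq (hD.reflectRoot_lt hi hpl) ha, hD.coe_hG_simple hi (inv_ne_zero ha)]
        refine hdiag_congr D fun s hs => ?_
        obtain ⟨c, hV⟩ := hD
        have hps := hV.p_lt hi
        rw [hV.w_eq_reflectRoot hi (hV.p_eq hi ▸ hps), hV.pair_eq (hV.w_lt hi (hV.p_eq hi ▸ hps)) hs, hV.p_eq hi,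
          ← hV.pair_w hi (hV.w_lt hi hps) hs, hV.w_w hi hps, hV.A_eq hi hs, _root_.inv_zpow', ← hV.A_w_self hi hs]
        congr 1
        rw [← hV.pair_eq hps (hV.w_lt hi hs), ← hV.p_eq hi, Good.pairing_simple ⟨c, hV⟩ hi (hV.w_lt hi hs),
          hV.A_eq hi (hV.w_lt hi hs)]
      · rw [hxn, mul_assoc (xg D F p (-u)), hu u hu0, nG_eq, ← mul_assoc, ← mul_assoc, hD.xg_add, neg_add_cancel,
          hD.xg_zero, one_mul, mul_assoc, hD.xg_add, add_neg_cancel, hD.xg_zero, mul_one]
    obtain ⟨φ, hφ1, hφ2⟩ := hrel.exists_hom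
    refine ⟨φ, hφ1, fun t => ?_⟩
    rw [lowerSL_eq, map_mul, map_mul, map_inv, hφ1, hφ2, hxn, _root_.neg_neg]
  · obtain ⟨φ, h1, h2⟩ := ih
    obtain ⟨η, hη, hx⟩ := hD.exists_sign_xg (F := F) hi
    have hns := hD.neg_lt hs
    have he : η s ≠ 0 := left_ne_zero_of_mul_eq_one (hη s hs).1
    have hinv : (η s)⁻¹ = η s := inv_eq_of_mul_eq_one_right (hη s hs).1
    obtain ⟨D2, hD2⟩ : ∃ D2 : Matrix (Fin 2) (Fin 2) F, D2 = !![1, 0; 0, η s] := ⟨_, rfl⟩
    have hDD : D2 * D2 = 1 := by
      rw [hD2]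
      ext i j; fin_cases i <;> fin_cases j <;> simp [Matrix.mul_apply, Fin.sum_univ_two, (hη s hs).1]
    have hdet : ∀ g : SL(2, F), (D2 * (g : Matrix (Fin 2) (Fin 2) F) * D2).det = 1 := fun g => by
      rw [Matrix.det_mul, Matrix.det_mul, g.2, mul_one, ← Matrix.det_mul, hDD, Matrix.det_one]
    let d : SL(2, F) →* SL(2, F) :=
      { toFun := fun g => ⟨D2 * (g : Matrix (Fin 2) (Fin 2) F) * D2, hdet g⟩
        map_one' := Subtype.ext (by simp [hDD])
        map_mul' := fun g g' => Subtype.ext (by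
          show D2 * ((g * g' : SL(2, F)) : Matrix (Fin 2) (Fin 2) F) * D2 = (D2 * (g : Matrix _ _ F) * D2) * (D2 * (g' : Matrix _ _ F) * D2)
          rw [Matrix.SpecialLinearGroup.coe_mul]
          simp only [mul_assoc]
          rw [← mul_assoc D2 D2, hDD, one_mul]) }
    refine ⟨((MulAut.conj (nG D F (D.simple i) 1)).toMonoidHom.comp φ).comp d, fun t => ?_, fun t => ?_⟩
    · have : d (upperSL t) = upperSL (η s * t) := by
        apply Subtype.ext; show D2 * _ * D2 = _; rw [hD2]; ext i j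
        fin_cases i <;> fin_cases j <;> simp [coe_upperSL, Matrix.mul_apply, Fin.sum_univ_two, (hη s hs).1, mul_comm t]
      simp only [MonoidHom.comp_apply, this, h1, MulEquiv.coe_toMonoidHom, MulAut.conj_apply]
      rw [hx s hs, mul_inv_cancel_right, ← mul_assoc, (hη s hs).1, one_mul]
    · have : d (lowerSL t) = lowerSL (η s * t) := by
        apply Subtype.ext; show D2 * _ * D2 = _; rw [hD2]; ext i j
        fin_cases i <;> fin_cases j <;> simp [coe_lowerSL, Matrix.mul_apply, Fin.sum_univ_two, (hη s hs).1, mul_comm t]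
      simp only [MonoidHom.comp_apply, this, h2, MulEquiv.coe_toMonoidHom, MulAut.conj_apply]
      rw [hx _ hns, mul_inv_cancel_right, hD.reflectRoot_neg hi hs, (hη s hs).2, ← mul_assoc, (hη s hs).1, one_mul]

theorem range_sl2_hom {r : ℕ} {φ : SL(2, F) →* GL D.Idx F} (h1 : ∀ t, φ (upperSL t) = xg D F r t)
    (h2 : ∀ t, φ (lowerSL t) = xg D F (D.neg r) t) :
    φ.range = D.rootSubgroup F r ⊔ D.rootSubgroup F (D.neg r) := by
  refine le_antisymm ?_ (sup_le ?_ ?_)
  · rintro x ⟨g, rfl⟩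
    have h0 := eq_upper_torus_lower g
    have hle : Subgroup.closure (Set.range (upperSL (F := F)) ∪ {flipSL}) ≤
        (D.rootSubgroup F r ⊔ D.rootSubgroup F (D.neg r)).comap φ := by
      rw [Subgroup.closure_le]
      rintro _ (⟨t, rfl⟩ | rfl)
      · simp only [Subgroup.coe_comap, Set.mem_preimage, h1]
        exact Subgroup.mem_sup_left (hD.xg_mem_rootSubgroup r t)
      · have : (flipSL : SL(2, F)) = upperSL 1 * lowerSL (-1) * upperSL 1 := by
          apply Subtype.ext
          simp only [Matrix.SpecialLinearGroup.coe_mul]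
          ext i j; fin_cases i <;> fin_cases j <;> simp [coe_lowerSL, coe_upperSL, coe_flipSL, Matrix.mul_apply, Fin.sum_univ_two]
        simp only [Subgroup.coe_comap, Set.mem_preimage, this, map_mul, h1, h2]
        exact Subgroup.mul_mem _ (Subgroup.mul_mem _ (Subgroup.mem_sup_left (hD.xg_mem_rootSubgroup r 1))
          (Subgroup.mem_sup_right (hD.xg_mem_rootSubgroup _ _))) (Subgroup.mem_sup_left (hD.xg_mem_rootSubgroup r 1))
    exact hle h0
  · intro x hx; obtain ⟨t, rfl⟩ := hD.mem_rootSubgroup_iff.1 hx; exact ⟨_, h1 t⟩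
  · intro x hx; obtain ⟨t, rfl⟩ := hD.mem_rootSubgroup_iff.1 hx; exact ⟨_, h2 t⟩

end Good

end Cfsg.Agent.Chev
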