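/-
Automorphisms of Chevalley groups sending fundamental root subgroups to fundamental root subgroups: the
parameter maps are field automorphisms.
-/
import Cfsg.Agent.Lib.Chev.FieldAutFixed
import Cfsg.Agent.Lib.Chev.SL2
import Cfsg.Agent.S2157
import Cfsg.Agent.Lib.RootBN.AutBorel
import Mathlib.FieldTheory.Finite.Basic

set_option autoImplicit false

namespace Cfsg.Agent.Chev.BNSetup

open Cfsg.Lie
open scoped MatrixGroups

variable {F : Type*} [Field F] {D : ChevalleyDatum} (hG : Good D)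
include hG

theorem xe_eq_xg (r : ℕ) (t : F) : xe hG r t = xg D F r t := Units.ext (hG.coe_xg r t).symm

/-- The root element as an element of the group. -/
def xG (r : ℕ) (t : F) : ↥(D.group F) :=
  ⟨xe hG r t, by rw [xe_eq_xg]; exact hG.xg_mem_group r t⟩

theorem coe_xG (r : ℕ) (t : F) : ((xG hG r t : ↥(D.group F)) : GL D.Idx F) = xe hG r t := rfl

theorem eq_xG {g : ↥(D.group F)} {r : ℕ} {t : F}
    (h : ((g : GL D.Idx F) : Matrix D.Idx D.Idx F) = D.x F r t) : g = xG hG r t :=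
  Subtype.ext (eq_xe hG h)

theorem xG_add {r : ℕ} (hr : r < D.nroots) (t u : F) : xG hG r t * xG hG r u = xG hG r (t + u) :=
  Subtype.ext (xe_add hG hr t u)

theorem hom_ext_xG {M : Type*} [Monoid M] {φ ψ : ↥(D.group F) →* M}
    (h : ∀ r < D.nroots, ∀ t : F, φ (xG hG r t) = ψ (xG hG r t)) : φ = ψ := by
  ext ⟨y, hy⟩
  have key : ∀ y, ∀ hy : y ∈ Subgroup.closure {g | ∃ r < D.nroots, ∃ t : F, g = xe hG r t},
      φ ⟨y, (group_eq_closure_xe hG F).ge hy⟩ = ψ ⟨y, (group_eq_closure_xe hG F).ge hy⟩ := by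
    intro y hy
    induction hy using Subgroup.closure_induction_left with
    | one => rw [show (⟨1, _⟩ : ↥(D.group F)) = 1 from rfl, map_one, map_one]
    | mul_left x hx z hz ih =>
      obtain ⟨r, hr, t, rfl⟩ := hx
      rw [show (⟨xe hG r t * z, _⟩ : ↥(D.group F)) = xG hG r t * ⟨z, (group_eq_closure_xe hG F).ge hz⟩ from rfl,
        map_mul, map_mul, h r hr t, ih]
    | inv_mul_cancel x hx z hz ih =>
      obtain ⟨r, hr, t, rfl⟩ := hx
      rw [show (⟨(xe hG r t)⁻¹ * z, _⟩ : ↥(D.group F)) = xG hG r (-t) * ⟨z, (group_eq_closure_xe hG F).ge hz⟩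
        from Subtype.ext (congrArg (· * z) (xe_inv hG hr t)), map_mul, map_mul, h r hr _, ih]
  exact key y ((group_eq_closure_xe hG F).le hy)

/-- The automorphism `θ` carries `x_r(t)` to `x_{r'}(f t)`. -/
def Sends (θ : ↥(D.group F) ≃* ↥(D.group F)) (r r' : ℕ) (f : F → F) : Prop :=
  ∀ t, θ (xG hG r t) = xG hG r' (f t)

/-- The monomial element of a root inside the group. -/
def nGrp (r : ℕ) (t : F) : ↥(D.group F) :=
  xG hG r t * xG hG (D.neg r) (-t⁻¹) * xG hG r t

theorem coe_nGrp (r : ℕ) (t : F) : ((nGrp hG r t : ↥(D.group F)) : GL D.Idx F) = ne' hG r t := rfl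

variable {tabs simps : List ℕ} (hf : Facts D tabs simps)
include hf

theorem xe_not_mem_root {r s : ℕ} (hr : r < D.nroots) (hs : s < D.nroots) (hrs : r ≠ s) {t : F} (ht : t ≠ 0) :
    xe hG r t ∉ D.rootSubgroup F s := by
  intro h
  obtain ⟨u, hu⟩ := (mem_rootSubgroup hG hs).1 h
  by_cases hu0 : u = 0
  · exact xe_ne_one hG hf hr ht (by rw [hu, hu0, xe_zero hG hs])
  · exact absurd hu (xe_ne hG hf hr hs hrs ht u)

omit hf in
/-- Conjugation by a monomial element of a root on its root subgroup. -/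
theorem ne'_conj_self {r : ℕ} (hr : r < D.nroots) {t : F} (ht : t ≠ 0) (s : F) :
    ne' hG r t * xe hG r s * (ne' hG r t)⁻¹ = xe hG (D.neg r) (-(s / t ^ 2)) := by
  obtain ⟨φ, h1, h2⟩ := hG.exists_sl2_hom (F := F) hr
  have e : upperSL t * lowerSL (-t⁻¹) * upperSL t * upperSL s =
      lowerSL (-(s / t ^ 2)) * (upperSL t * lowerSL (-t⁻¹) * upperSL t) := by
    apply Subtype.ext
    simp only [Matrix.SpecialLinearGroup.coe_mul, coe_upperSL, coe_lowerSL]
    ext i j
    fin_cases i <;> fin_cases j <;> simp [Matrix.mul_apply, Fin.sum_univ_two, ht] <;> field_simp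
  have e' := congrArg φ e
  simp only [map_mul, h1, h2, ← xe_eq_xg hG] at e'
  rw [ne', e', mul_inv_cancel_right]

/-- If `x(a) y(b) x(a)` moves a root element into the opposite root subgroup then `a b = -1`. -/
theorem mul_eq_neg_one_of_conj_mem {r : ℕ} (hr : r < D.nroots) {a b s : F} (hs : s ≠ 0)
    (h : xe hG r a * xe hG (D.neg r) b * xe hG r a * xe hG r s *
      (xe hG r a * xe hG (D.neg r) b * xe hG r a)⁻¹ ∈ D.rootSubgroup F (D.neg r)) : a * b = -1 := by
  by_contra hne
  set α := 1 + a * b with hα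
  have hα0 : α ≠ 0 := fun h0 => hne (eq_neg_of_add_eq_zero_right h0)
  obtain ⟨φ, h1, h2⟩ := hG.exists_sl2_hom (F := F) hr
  have e : upperSL a * lowerSL b * upperSL a * upperSL s =
      lowerSL (b / α) * upperSL (α * α * s) * lowerSL (-(b / α)) * (upperSL a * lowerSL b * upperSL a) := by
    apply Subtype.ext
    simp only [Matrix.SpecialLinearGroup.coe_mul, coe_upperSL, coe_lowerSL]
    ext i j
    fin_cases i <;> fin_cases j <;> simp [Matrix.mul_apply, Fin.sum_univ_two] <;> field_simp <;>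
      rw [hα] <;> ring
  have e' := congrArg φ e
  simp only [map_mul, h1, h2, ← xe_eq_xg hG] at e'
  rw [e', mul_inv_cancel_right] at h
  have hn := hG.neg_lt hr
  have hy : ∀ c : F, xe hG (D.neg r) c ∈ D.rootSubgroup F (D.neg r) := fun c =>
    (mem_rootSubgroup hG hn).2 ⟨c, rfl⟩
  rw [Subgroup.mul_mem_cancel_right _ (hy _), Subgroup.mul_mem_cancel_left _ (hy _)] at h
  exact xe_not_mem_root hG hf hr hn (fun e => hG.neg_ne hr e.symm)
    (mul_ne_zero (mul_ne_zero hα0 hα0) hs) h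

/-- Opposite root elements do not commute. -/
theorem not_commute_opp {r : ℕ} (hr : r < D.nroots) {a b : F} (ha : a ≠ 0) (hb : b ≠ 0) :
    ¬ Commute (xe hG r a) (xe hG (D.neg r) b) := by
  intro hc
  set t := -b⁻¹ with ht
  have ht0 : t ≠ 0 := neg_ne_zero.2 (inv_ne_zero hb)
  have e := ne'_conj_self hG hr ht0 a
  have hb' : -t⁻¹ = b := by rw [ht, inv_neg, inv_inv, neg_neg]
  have hcom : Commute (ne' hG r t) (xe hG r a) := by
    rw [ne', hb']
    have h1 : Commute (xe hG r t) (xe hG r a) := by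
      show _ * _ = _ * _
      rw [xe_add hG hr, xe_add hG hr, add_comm]
    exact (h1.mul_left hc.symm).mul_left h1
  rw [hcom.eq, mul_inv_cancel_right] at e
  exact xe_ne hG hf hr (hG.neg_lt hr) (fun e => hG.neg_ne hr e.symm) ha _ e

theorem exists_sends [Finite F] {θ : ↥(D.group F) ≃* ↥(D.group F)} {r r' : ℕ} (hr : r < D.nroots)
    (hr' : r' < D.nroots) (h : RootBN.mapG θ (D.rootSubgroup F r) = D.rootSubgroup F r') :
    ∃ f : F → F, Sends hG θ r r' f ∧ (∀ t u, f (t + u) = f t + f u) ∧ Function.Bijective f := by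
  have hex : ∀ t, ∃ u, θ (xG hG r t) = xG hG r' u := fun t => by
    have h1 : ((θ (xG hG r t) : ↥(D.group F)) : GL D.Idx F) ∈ D.rootSubgroup F r' :=
      h.le ((RootBN.mem_mapG θ).2 ((mem_rootSubgroup hG hr).2 ⟨t, rfl⟩))
    obtain ⟨u, hu⟩ := (mem_rootSubgroup hG hr').1 h1
    exact ⟨u, Subtype.ext hu⟩
  choose f hf' using hex
  have hadd : ∀ t u, f (t + u) = f t + f u := fun t u => by
    apply xe_inj hG hf hr'
    rw [← xe_add hG hr', ← coe_xG hG, ← coe_xG hG, ← coe_xG hG, ← hf', ← hf', ← hf', ← xG_add hG hr, map_mul,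
      Subgroup.coe_mul]
  refine ⟨f, hf', hadd, Finite.injective_iff_bijective.1 fun t u e => ?_⟩
  apply xe_inj hG hf hr
  rw [← coe_xG hG, ← coe_xG hG, θ.injective ((hf' t).trans (by rw [e, ← hf']))]

omit hf in
theorem Sends.map_ne {θ : ↥(D.group F) ≃* ↥(D.group F)} {r r' : ℕ} {f g : F → F}
    (hp : Sends hG θ r r' f) (hm : Sends hG θ (D.neg r) (D.neg r') g) (t : F) :
    ((θ (nGrp hG r t) : ↥(D.group F)) : GL D.Idx F) =
      xe hG r' (f t) * xe hG (D.neg r') (g (-t⁻¹)) * xe hG r' (f t) := by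
  rw [nGrp, map_mul, map_mul, hp, hm]
  rfl

/-- The two parameter maps of a pair of opposite roots are one field automorphism, after scaling. -/
theorem sends_rigid [Finite F] {θ : ↥(D.group F) ≃* ↥(D.group F)} {r r' : ℕ} (hr : r < D.nroots)
    (hr' : r' < D.nroots) {f g : F → F} (hp : Sends hG θ r r' f) (hm : Sends hG θ (D.neg r) (D.neg r') g)
    (hfb : Function.Bijective f) (hadd : ∀ t u, f (t + u) = f t + f u)
    (hgadd : ∀ t u, g (t + u) = g t + g u) (h1 : f 1 = 1) :
    ∃ σ : F ≃+* F, (∀ t, f t = σ t) ∧ ∀ t, g t = σ t := by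
  have hf0 : f 0 = 0 := by have := hadd 0 0; rwa [add_zero, left_eq_add] at this
  have hg0 : g 0 = 0 := by have := hgadd 0 0; rwa [add_zero, left_eq_add] at this
  have hne : ∀ t, t ≠ 0 → f t ≠ 0 := fun t ht h => ht (hfb.1 (h.trans hf0.symm))
  have hfneg : ∀ t, f (-t) = -f t := fun t =>
    eq_neg_of_add_eq_zero_left (by rw [← hadd, neg_add_cancel, hf0])
  have hgneg : ∀ t, g (-t) = -g t := fun t =>
    eq_neg_of_add_eq_zero_left (by rw [← hgadd, neg_add_cancel, hg0])
  have hconj : ∀ t, t ≠ 0 → ∀ s,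
      xe hG r' (f t) * xe hG (D.neg r') (g (-t⁻¹)) * xe hG r' (f t) * xe hG r' (f s) *
        (xe hG r' (f t) * xe hG (D.neg r') (g (-t⁻¹)) * xe hG r' (f t))⁻¹ =
        xe hG (D.neg r') (g (-(s / t ^ 2))) := by
    intro t ht s
    rw [← Sends.map_ne hG hp hm, ← coe_xG hG r', ← hp, ← coe_xG hG (D.neg r'), ← hm]
    have e : nGrp hG r t * xG hG r s * (nGrp hG r t)⁻¹ = xG hG (D.neg r) (-(s / t ^ 2)) :=
      Subtype.ext (ne'_conj_self hG hr ht s)
    rw [← e]
    simp only [map_mul, map_inv, Subgroup.coe_mul, Subgroup.coe_inv]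
  have hinv : ∀ t, t ≠ 0 → g (-t⁻¹) = -(f t)⁻¹ := by
    intro t ht
    have h2 : f t * g (-t⁻¹) = -1 := mul_eq_neg_one_of_conj_mem hG hf hr' (hne 1 one_ne_zero)
      (by rw [hconj t ht 1]; exact (mem_rootSubgroup hG (hG.neg_lt hr')).2 ⟨_, rfl⟩)
    rw [← mul_right_inj' (hne t ht), h2, mul_neg, mul_inv_cancel₀ (hne t ht)]
  have hquad : ∀ t, t ≠ 0 → ∀ s, g (-(s / t ^ 2)) = -(f s / f t ^ 2) := by
    intro t ht s
    apply xe_inj hG hf (hG.neg_lt hr')
    rw [← hconj t ht s, hinv t ht, ← ne'_conj_self hG hr' (hne t ht) (f s)]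
    rfl
  have hgf : ∀ s, g s = f s := fun s => by
    have h2 := hquad 1 one_ne_zero (-s)
    rwa [one_pow, div_one, neg_neg, h1, one_pow, div_one, hfneg, neg_neg] at h2
  have hinv' : ∀ t, f t⁻¹ = (f t)⁻¹ := fun t => by
    by_cases ht : t = 0
    · rw [ht, inv_zero, hf0, inv_zero]
    · have h2 := hinv t ht
      rwa [hgneg, hgf, neg_inj] at h2
  have hsq : ∀ s t, f (s * t ^ 2) = f s * f t ^ 2 := fun s t => by
    by_cases ht : t = 0
    · simp [ht, hf0]
    · have h2 := hquad t⁻¹ (inv_ne_zero ht) s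
      rwa [inv_pow, div_inv_eq_mul, hgneg, hgf, hinv', inv_pow, div_inv_eq_mul, neg_inj] at h2
  have hmul : ∀ s t, f (s * t) = f s * f t := by
    intro s t
    by_cases hchar : ringChar F = 2
    · have : CharP F 2 := hchar ▸ ringChar.charP F
      obtain ⟨z, rfl⟩ := FiniteField.isSquare_of_char_two hchar t
      rw [← pow_two, hsq]
      congr 1
      have := hsq 1 z
      rwa [one_mul, h1, one_mul, eq_comm] at this
    · have h2 : (2 : F) ≠ 0 := Ring.two_ne_zero hchar
      have e := hsq s (t + 1)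
      rw [show s * (t + 1) ^ 2 = s * t ^ 2 + (s * t + s * t) + s by ring, hadd, hadd, hadd, hsq, hadd, h1] at e
      exact mul_left_cancel₀ h2 (by linear_combination e)
  refine ⟨RingEquiv.ofBijective
    ({ toFun := f, map_one' := h1, map_mul' := hmul, map_zero' := hf0, map_add' := hadd } : F →+* F) hfb,
    fun t => rfl, fun t => hgf t⟩

omit hf in
/-- The monomial elements of a root whose pair is moved by a field automorphism. -/
theorem sends_nGrp {θ : ↥(D.group F) ≃* ↥(D.group F)} {r r' : ℕ} {σ : F ≃+* F}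
    (hp : Sends hG θ r r' σ) (hm : Sends hG θ (D.neg r) (D.neg r') σ) (t : F) :
    θ (nGrp hG r t) = nGrp hG r' (σ t) := by
  rw [nGrp, nGrp, map_mul, map_mul, hp, hm, map_neg, map_inv₀]

omit hf in
/-- The torus of one fundamental root acting on another gives a relation between their field automorphisms. -/
theorem torus_relation {θ : ↥(D.group F) ≃* ↥(D.group F)} {i j i' j' : ℕ} (hi : i < D.rank) (hj : j < D.rank)
    (hi' : i' < D.rank) (hj' : j' < D.rank) {σ τ : F ≃+* F}
    (hp : Sends hG θ (D.simple i) (D.simple i') σ) (hp' : Sends hG θ (D.simple j) (D.simple j') τ)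
    (hm' : Sends hG θ (D.neg (D.simple j)) (D.neg (D.simple j')) τ)
    (hinj : ∀ {a b : F}, xe hG (D.simple i') a = xe hG (D.simple i') b → a = b) {a : F} (ha : a ≠ 0) :
    σ a ^ D.cartan j (D.simple i) = τ a ^ D.cartan j' (D.simple i') := by
  have key : ∀ k < D.rank, ∀ l < D.rank, ∀ b : F, b ≠ 0 → ∀ u : F,
      nGrp hG (D.simple k) b * nGrp hG (D.simple k) (-1) * xG hG (D.simple l) u *
        (nGrp hG (D.simple k) b * nGrp hG (D.simple k) (-1))⁻¹ =
      xG hG (D.simple l) (b ^ D.cartan k (D.simple l) * u) := by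
    intro k hk l hl b hb u
    rw [mul_inv_eq_iff_eq_mul]
    refine Subtype.ext (Units.ext ?_)
    simp only [Subgroup.coe_mul, coe_xG, coe_nGrp, Units.val_mul, coe_xe, ← mul_assoc]
    rw [mul_assoc (D.x F (D.simple l) _), ← Units.val_mul, ← he, coe_he]
    exact hG.hMat_mul_x hk (hG.simple_lt hl) hb u
  have e := congrArg θ (key j hj i hi a ha 1)
  simp only [map_mul, map_inv, sends_nGrp hG hp' hm', hp _, map_one, map_neg] at e
  rw [key j' hj' i' hi' (τ a) (fun h => ha (τ.injective (h.trans (map_zero τ).symm))) 1] at e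
  have := hinj (congrArg Subtype.val e)
  rw [mul_one, mul_one, map_zpow₀] at this
  exact this.symm

end Cfsg.Agent.Chev.BNSetup
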