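/-
Normal form of an automorphism of a Chevalley group over a finite field: inner times diagonal times an
automorphism acting on the fundamental root elements through field automorphisms and a node permutation.
-/
import Cfsg.Agent.Lib.Chev.AutRigid
import Cfsg.Agent.Lib.Chev.BNCore
import Cfsg.Agent.Lib.Chev.Sylow
import Cfsg.Agent.Lib.Chev.Longest
import Cfsg.Agent.Lib.Chev.BNStruct
import Cfsg.Agent.Lib.Chev.Parabolic
import Cfsg.Agent.Lib.Chev.Seven
import Cfsg.Agent.Lib.Chev.WeaklyClosed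

set_option autoImplicit false

namespace Cfsg.Agent.Chev.BNSetup

open Cfsg.Lie
open Cfsg.Agent.RootBN (Data)

variable {F : Type*} [Field F] {D : ChevalleyDatum}

/-! ### Characters with prescribed values on the fundamental roots -/

/-- A scaled coefficient of a root at a fundamental root, read off the Cartan integers. -/
def coefNum (D : ChevalleyDatum) (B : List (List ℤ)) (k r : ℕ) : ℤ :=
  ((List.range D.rank).map fun i => (B.getD k []).getD i 0 * D.cartan i r).sum

/-- The scaled coefficients are divisible by the scale and odd under negation. -/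
def CoefFact (D : ChevalleyDatum) (d : ℕ) (B : List (List ℤ)) : Prop :=
  1 ≤ d ∧ (∀ k < D.rank, ∀ j < D.rank, coefNum D B k (D.simple j) = if k = j then (d : ℤ) else 0) ∧
    ∀ r < D.nroots, ∀ k < D.rank,
      coefNum D B k r % (d : ℤ) = 0 ∧ coefNum D B k (D.neg r) = -coefNum D B k r

instance decidableCoefFact (D : ChevalleyDatum) (d : ℕ) (B : List (List ℤ)) : Decidable (CoefFact D d B) :=
  inferInstanceAs (Decidable (_ ∧ _))

/-- The character taking the value `c k` at the `k`-th fundamental root. -/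
def coefChar (D : ChevalleyDatum) (d : ℕ) (B : List (List ℤ)) (c : Fin D.rank → Fˣ) (r : ℕ) : Fˣ :=
  ∏ k : Fin D.rank, c k ^ (coefNum D B k r / (d : ℤ))

theorem coefChar_simple {d : ℕ} {B : List (List ℤ)} (hC : CoefFact D d B) (c : Fin D.rank → Fˣ)
    (j : Fin D.rank) : coefChar D d B c (D.simple j) = c j := by
  rw [coefChar, Finset.prod_eq_single j]
  · rw [hC.2.1 j j.2 j j.2, if_pos rfl, Int.ediv_self (by exact_mod_cast (by have := hC.1; omega)), zpow_one]
  · intro k _ hk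
    rw [hC.2.1 k k.2 j j.2, if_neg (fun h => hk (Fin.ext h)), Int.zero_ediv, zpow_zero]
  · simp

theorem isRootCharacter_coefChar (hG : Good D) {d : ℕ} {B : List (List ℤ)} (hC : CoefFact D d B)
    (c : Fin D.rank → Fˣ) : D.IsRootCharacter (coefChar D d B c) := by
  refine ⟨fun r hr => ?_, fun r s k hr hs hk => ?_⟩
  · rw [coefChar, coefChar, ← Finset.prod_inv_distrib]
    refine Finset.prod_congr rfl fun l _ => ?_
    obtain ⟨hdvd, hneg⟩ := hC.2.2 r hr l l.2
    rw [hneg, Int.neg_ediv_of_dvd (Int.dvd_of_emod_eq_zero hdvd), zpow_neg]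
  · simp only [ChevalleyDatum.chainRoot, Option.map_eq_some_iff] at hk
    obtain ⟨q, hq, rfl⟩ := hk
    rw [coefChar, coefChar, coefChar, ← Finset.prod_mul_distrib]
    refine Finset.prod_congr rfl fun l _ => ?_
    have e : coefNum D B l q.1 = coefNum D B l r + coefNum D B l s := by
      simp only [coefNum]
      rw [← List.sum_map_add]
      refine congrArg List.sum (List.map_congr_left fun i hi => ?_)
      rw [hG.cartan_chain hr hq (List.mem_range.1 hi) hs]
      push_cast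
      ring
    rw [e, Int.add_ediv_of_dvd_left (Int.dvd_of_emod_eq_zero (hC.2.2 r hr l l.2).1), zpow_add]

/-! ### Diagonal automorphisms -/

theorem isRootCharacter_inv {χ : ℕ → Fˣ} (hχ : D.IsRootCharacter χ) :
    D.IsRootCharacter (fun r => (χ r)⁻¹) :=
  ⟨fun r hr => by show (χ (D.neg r))⁻¹ = ((χ r)⁻¹)⁻¹; rw [hχ.1 r hr],
    fun r s k hr hs hk => by show (χ k)⁻¹ = (χ r)⁻¹ * (χ s)⁻¹; rw [hχ.2 r s k hr hs hk, mul_inv]⟩

theorem exists_diagAut (hD : D ∈ [chevG2, chevB2, chevD4, chevF4, chevE6, chevE7, chevE8]) (hG : Good D)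
    {χ : ℕ → Fˣ} (hχ : D.IsRootCharacter χ) :
    ∃ d : ↥(D.group F) ≃* ↥(D.group F), D.IsDiagonalAut d ∧
      ∀ r < D.nroots, ∀ t : F, d (xG hG r t) = xG hG r ((χ r : F) * t) := by
  classical
  have hmul : ∀ ψ : ℕ → Fˣ, D.charDiag F ψ * D.charDiag F (fun r => (ψ r)⁻¹) = 1 := fun ψ => by
    simp only [ChevalleyDatum.charDiag, Matrix.diagonal_mul_diagonal, ← Matrix.diagonal_one]
    congr 1
    funext a
    rcases a with i | s <;> simp
  let u : GL D.Idx F := ⟨D.charDiag F χ, D.charDiag F (fun r => (χ r)⁻¹), hmul χ,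
    by simpa only [inv_inv] using hmul (fun r => (χ r)⁻¹)⟩
  have hu : ∀ r < D.nroots, ∀ t : F, u * xe hG r t * u⁻¹ = xe hG r ((χ r : F) * t) := fun r hr t =>
    Units.ext (S2157.result D hD χ hχ r hr t)
  have hu' : ∀ r < D.nroots, ∀ t : F, u⁻¹ * xe hG r t * u = xe hG r ((((χ r)⁻¹ : Fˣ) : F) * t) := fun r hr t => by
    have h := hu r hr ((((χ r)⁻¹ : Fˣ) : F) * t)
    rw [← mul_assoc, ← Units.val_mul, mul_inv_cancel, Units.val_one, one_mul] at h
    rw [← h]; group
  have key : ∀ v : GL D.Idx F, (∀ r < D.nroots, ∀ t : F, ∃ t', v * xe hG r t * v⁻¹ = xe hG r t') →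
      ∀ g ∈ D.group F, v * g * v⁻¹ ∈ D.group F := by
    intro v hv g hg
    refine (show D.group F ≤ (D.group F).comap (MulAut.conj v).toMonoidHom from ?_) hg
    conv_lhs => rw [group_eq_closure_xe hG F]
    rw [Subgroup.closure_le]
    rintro _ ⟨r, hr, t, rfl⟩
    obtain ⟨t', ht'⟩ := hv r hr t
    show v * xe hG r t * v⁻¹ ∈ D.group F
    rw [ht']
    exact xe_mem_group hG hr t'
  have k1 := key u fun r hr t => ⟨_, hu r hr t⟩
  have k2 := key u⁻¹ fun r hr t => ⟨_, by rw [inv_inv]; exact hu' r hr t⟩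
  let d : ↥(D.group F) ≃* ↥(D.group F) :=
    { toFun := fun g => ⟨u * g * u⁻¹, k1 g g.2⟩
      invFun := fun g => ⟨u⁻¹ * g * u⁻¹⁻¹, k2 g g.2⟩
      left_inv := fun g => Subtype.ext (by simp [mul_assoc])
      right_inv := fun g => Subtype.ext (by simp [mul_assoc])
      map_mul' := fun g g' => Subtype.ext (by simp [mul_assoc]) }
  exact ⟨d, ⟨χ, hχ, fun g => rfl⟩, fun r hr t => Subtype.ext (hu r hr t)⟩

/-! ### Commutation of fundamental root elements -/

/-- Commutator words of pairs of fundamental roots and their negatives. -/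
def NodeComm (D : ChevalleyDatum) : Prop :=
  ∀ i < D.rank, ∀ j < D.rank, i ≠ j →
    D.commTerms (D.simple i) (D.neg (D.simple j)) = [] ∧
    D.neg (D.simple j) ≠ D.simple i ∧ D.neg (D.simple j) ≠ D.neg (D.simple i) ∧
    D.simple j ≠ D.simple i ∧ D.simple j ≠ D.neg (D.simple i) ∧
    (D.bonds i j = 0 → D.commTerms (D.simple i) (D.simple j) = []) ∧
    (D.bonds i j ≠ 0 → ∃ x ∈ (D.commTerms (D.simple i) (D.simple j)).take 1,
      x.2.1.natAbs = 1 ∧ D.nroots / 2 ≤ x.1 ∧ x.1 < D.nroots ∧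
        ∀ y ∈ (D.commTerms (D.simple i) (D.simple j)).tail, x.1 < y.1)

set_option synthInstance.maxSize 1000 in
set_option synthInstance.maxHeartbeats 200000 in
instance decidableNodeComm (D : ChevalleyDatum) : Decidable (NodeComm D) :=
  inferInstanceAs (Decidable (∀ _, _ → _))

variable (hG : Good D) {tabs simps : List ℕ} (hf : Facts D tabs simps)
include hG hf

theorem commute_iff_bonds (hN : NodeComm D) {i j : ℕ} (hi : i < D.rank) (hj : j < D.rank) (hij : i ≠ j) :
    Commute (xe hG (D.simple i) (1 : F)) (xe hG (D.simple j) 1) ↔ D.bonds i j = 0 := by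
  obtain ⟨-, -, -, hne, hne', h0, h1⟩ := hN i hi j hj hij
  have e := comm_eq_termsProd hG (hG.simple_lt hi) (hG.simple_lt hj) hne hne' (-1 : F) 1
  rw [neg_neg] at e
  constructor
  · intro hc
    by_contra hb
    obtain ⟨x, hx, hx1, hx2, hx3, hrest⟩ := h1 hb
    obtain ⟨rest, hrest'⟩ : ∃ rest, D.commTerms (D.simple i) (D.simple j) = x :: rest := by
      generalize D.commTerms (D.simple i) (D.simple j) = w at hx
      cases w with
      | nil => simp at hx
      | cons a l => exact ⟨l, by simp at hx; rw [hx]⟩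
    rw [mul_assoc _ (xe hG (D.simple i) 1)⁻¹, hc.inv_left.eq] at e
    simp only [inv_mul_cancel_left, inv_mul_cancel] at e
    rw [hrest', termsProd] at e
    rw [hrest', List.tail_cons] at hrest
    have hmem : termsProd hG F (-1 : F) 1 rest ∈ Uge hG F (x.1 + 1) := by
      have hlt : ∀ y ∈ rest, y.1 < D.nroots := fun y hy =>
        hG.commTerms_lt (hG.simple_lt hi) (hG.simple_lt hj) (by rw [hrest']; exact List.mem_cons_of_mem _ hy)
      clear hrest' e
      induction rest with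
      | nil => exact Subgroup.one_mem _
      | cons y l ih =>
        exact Subgroup.mul_mem _ (xe_mem_Uge hG (hlt y List.mem_cons_self) (hrest y List.mem_cons_self) _)
          (ih (fun z hz => hrest z (List.mem_cons_of_mem _ hz)) fun z hz => hlt z (List.mem_cons_of_mem _ hz))
    have hx0 : xe hG x.1 ((x.2.1 : F) * (-1) ^ x.2.2.1 * 1 ^ x.2.2.2) ∈ Uge hG F (x.1 + 1) := by
      rw [eq_inv_of_mul_eq_one_left e.symm]
      exact Subgroup.inv_mem _ hmem
    have h := Uge_xe_eq_zero hG hf hx3 hx2 hx0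
    rw [one_pow, mul_one, mul_eq_zero] at h
    rcases h with h | h
    · rcases Int.natAbs_eq_iff.1 hx1 with h' | h' <;> rw [h'] at h <;> simp at h
    · exact pow_ne_zero _ (neg_ne_zero.2 one_ne_zero) h
  · intro hb
    rw [h0 hb, termsProd, mul_assoc, mul_assoc, inv_mul_eq_one] at e
    rw [eq_inv_mul_iff_mul_eq] at e
    exact e

/-- The automorphism acts on the fundamental root elements and their negatives by `ρ` and field automorphisms. -/
def IsNodeAut (θ : ↥(D.group F) ≃* ↥(D.group F)) (ρ : Equiv.Perm (Fin D.rank)) (s : Fin D.rank → F ≃+* F) :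
    Prop :=
  ∀ i : Fin D.rank, Sends hG θ (D.simple i) (D.simple (ρ i)) (s i) ∧
    Sends hG θ (D.neg (D.simple i)) (D.neg (D.simple (ρ i))) (s i)

theorem IsNodeAut.bonds_eq_zero_iff {θ : ↥(D.group F) ≃* ↥(D.group F)} {ρ : Equiv.Perm (Fin D.rank)}
    {s : Fin D.rank → F ≃+* F} (hθ : IsNodeAut hG θ ρ s) (hN : NodeComm D) {i j : Fin D.rank} (hij : i ≠ j) :
    D.bonds (ρ i) (ρ j) = 0 ↔ D.bonds i j = 0 := by
  have e : ∀ k : Fin D.rank, ((θ (xG hG (D.simple k) 1) : ↥(D.group F)) : GL D.Idx F) = xe hG (D.simple (ρ k)) 1 := fun k => by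
    rw [(hθ k).1, map_one, coe_xG]
  rw [← commute_iff_bonds (F := F) hG hf hN i.2 j.2 (fun h => hij (Fin.ext h)),
    ← commute_iff_bonds (F := F) hG hf hN (ρ i).2 (ρ j).2 (fun h => hij (ρ.injective (Fin.ext h))), ← e, ← e,
    ← coe_xG hG, ← coe_xG hG]
  set a : ↥(D.group F) := xG hG (D.simple i) 1 with ha
  set b : ↥(D.group F) := xG hG (D.simple j) 1 with hb
  constructor
  · intro h
    have h1 : θ a * θ b = θ b * θ a := Subtype.ext h.eq
    rw [← map_mul, ← map_mul] at h1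
    exact congrArg Subtype.val (θ.injective h1)
  · intro h
    have h1 : a * b = b * a := Subtype.ext h.eq
    exact congrArg Subtype.val (show θ a * θ b = θ b * θ a by rw [← map_mul, ← map_mul, h1])

theorem IsNodeAut.torus {θ : ↥(D.group F) ≃* ↥(D.group F)} {ρ : Equiv.Perm (Fin D.rank)}
    {s : Fin D.rank → F ≃+* F} (hθ : IsNodeAut hG θ ρ s) (i j : Fin D.rank) {a : F} (ha : a ≠ 0) :
    s i a ^ D.cartan j (D.simple i) = s j a ^ D.cartan (ρ j) (D.simple (ρ i)) :=
  torus_relation hG i.2 j.2 (ρ i).2 (ρ j).2 (hθ i).1 (hθ j).1 (hθ j).2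
    (fun h => xe_inj hG hf (hG.simple_lt (ρ i).2) h) ha

theorem exists_nodeAut [Finite F] (hD : D ∈ [chevG2, chevB2, chevD4, chevF4, chevE6, chevE7, chevE8])
    {w0 : List ℕ} (hw : IsLongest D tabs w0) (hn : NegTri D) {dd : ℕ} {Bc : List (List ℤ)} (hC : CoefFact D dd Bc)
    (hN : NodeComm D) (θ : ↥(D.group F) ≃* ↥(D.group F)) :
    ∃ (x : ↥(D.group F)) (d θ' : ↥(D.group F) ≃* ↥(D.group F)) (ρ : Equiv.Perm (Fin D.rank))
      (s : Fin D.rank → F ≃+* F), D.IsDiagonalAut d ∧ (∀ y, θ y = x * d (θ' y) * x⁻¹) ∧ IsNodeAut hG θ' ρ s := by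
  classical
  have := Fintype.ofFinite F
  obtain ⟨p, hp⟩ := CharP.exists F
  have hpp : p.Prime := (CharP.char_is_prime_or_zero F p).resolve_right (CharP.char_ne_zero_of_finite F p)
  have := Fact.mk hpp
  obtain ⟨fq, -, hfq⟩ := FiniteField.card F p
  have ax := axioms (F := F) hG hf
  obtain ⟨l₀, hl₀⟩ := exists_longest (F := F) hG hf hw
  have hq : ∀ i, Nat.card ((data hG F).X ((data hG F).simp i)) = p ^ (fq : ℕ) := fun i => by
    rw [← hfq, ← Nat.card_eq_fintype_card]
    exact ChevSylow.card_rootSubgroup hG hf (hG.simple_lt i.2)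
  have hUp : IsPGroup p (data hG F).U := by
    rw [data_U hG hf]
    exact ChevSylow.isPGroup_posUnipotent p hG hf
  have hVB : (data hG F).B ⊓ RootBN.Data.Uop (data hG F) l₀ = ⊥ := by
    rw [eq_bot_iff, data_B hG hf, ← borel_inf_V hG hf hn]
    refine inf_le_inf le_rfl ?_
    rw [RootBN.Data.Uop, Subgroup.map_le_iff_le_comap]
    refine iSup₂_le fun r hr y hy => ?_
    obtain ⟨t, ht⟩ := (mem_rootSubgroup hG ((data hG F).wl l₀ r).2).1
      (((RootBN.Data.acts_nw ax l₀) r y).2 hy)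
    exact Subgroup.subset_closure ⟨_, t, ((hf.2.2.1 _ ((data hG F).wl l₀ r).2).2.2.1).2
      (not_le.1 fun h => (hl₀ r).1 h hr), congrArg Units.val ht⟩
  -- fix U
  obtain ⟨P, hP⟩ := ChevSylow.exists_sylow p hG hf (F := F)
  obtain ⟨g, hg⟩ := MulAction.exists_smul_eq ↥(D.group F) (P.mapSurjective θ.surjective (f := θ.toMonoidHom)) P
  have hgU : ∀ y : ↥(D.group F), (y : GL D.Idx F) ∈ D.posUnipotent F ↔
      ((g * θ y * g⁻¹ : ↥(D.group F)) : GL D.Idx F) ∈ D.posUnipotent F := by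
    intro y
    rw [← Subgroup.mem_subgroupOf (H := D.posUnipotent F), ← Subgroup.mem_subgroupOf (H := D.posUnipotent F),
      ← hP]
    conv_rhs => rw [← hg]
    constructor
    · intro h
      exact Subgroup.smul_mem_pointwise_smul (θ y) (MulAut.conj g)
        ((P.mapSurjective θ.surjective (f := θ.toMonoidHom) : Sylow p ↥(D.group F)) : Subgroup ↥(D.group F))
        ⟨y, h, rfl⟩
    · rintro ⟨z, ⟨w, hw, rfl⟩, e⟩
      have : θ w = θ y :=
        mul_left_cancel (mul_right_cancel (show g * θ w * g⁻¹ = g * θ y * g⁻¹ from e))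
      exact θ.injective this ▸ hw
  let θ₁ : ↥(D.group F) ≃* ↥(D.group F) := θ.trans (MulAut.conj g)
  have hθ₁ : ∀ y, θ₁ y = g * θ y * g⁻¹ := fun y => rfl
  have hU1 : RootBN.mapG θ₁ (data hG F).U = (data hG F).U := by
    rw [data_U hG hf]
    ext z
    constructor
    · intro hz
      obtain ⟨y, hy, rfl⟩ := RootBN.exists_of_mem_mapG θ₁ hz
      exact (hgU y).1 hy
    · intro hz
      have hzG := ChevSylow.posUnipotent_le_group hG hf hz
      obtain ⟨y, hy⟩ := θ₁.surjective ⟨z, hzG⟩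
      have e : ((θ₁ y : ↥(D.group F)) : GL D.Idx F) = z := congrArg Subtype.val hy
      rw [← e, RootBN.mem_mapG θ₁]
      exact (hgU y).2 (by rw [← hθ₁ y, e]; exact hz)
  -- fix the opposite of U
  set n : ↥(D.group F) := ⟨(data hG F).nw l₀, by
    rw [← data_grp hG]; exact RootBN.Data.N_le_grp ax (RootBN.Data.nw_mem_N l₀)⟩ with hndef
  have hUG : (data hG F).U ≤ D.group F := by
    rw [data_U hG hf]; exact ChevSylow.posUnipotent_le_group hG hf
  have hV1 : RootBN.mapG θ₁ (RootBN.Data.Uop (data hG F) l₀) =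
      (data hG F).U.map (MulAut.conj ((θ₁ n : ↥(D.group F)) : GL D.Idx F)).toMonoidHom := by
    conv_rhs => rw [← hU1]
    rw [← RootBN.mapG_conj θ₁ n, inf_eq_left.2 hUG]
    rfl
  obtain ⟨u, hu, huV⟩ := RootBN.Data.exists_conj_eq_Uop ax hl₀ (g := ((θ₁ n : ↥(D.group F)) : GL D.Idx F))
    (by rw [data_grp hG]; exact (θ₁ n).2) (by
      rw [← hV1]
      conv_lhs => rw [← hU1]
      rw [← RootBN.mapG_inf, eq_bot_iff.2 ((inf_le_inf_right _ RootBN.Data.U_le_B).trans hVB.le),
        RootBN.mapG_bot])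
  set uG : ↥(D.group F) := ⟨u, hUG hu⟩ with huG
  let θ₂ : ↥(D.group F) ≃* ↥(D.group F) := θ₁.trans (MulAut.conj uG⁻¹)
  have hθ₂ : ∀ y, θ₂ y = uG⁻¹ * θ₁ y * uG := fun y => by simp [θ₂]
  have hconj2 : ∀ K, RootBN.mapG θ₂ K = (RootBN.mapG θ₁ K).map (MulAut.conj u⁻¹).toMonoidHom := by
    intro K
    ext z
    constructor
    · intro hz
      obtain ⟨y, hy, rfl⟩ := RootBN.exists_of_mem_mapG θ₂ hz
      exact ⟨_, (RootBN.mem_mapG θ₁).2 hy, by simp [hθ₂, huG]⟩
    · rintro ⟨w, hw, rfl⟩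
      obtain ⟨y, hy, rfl⟩ := RootBN.exists_of_mem_mapG θ₁ hw
      have : ((θ₂ y : ↥(D.group F)) : GL D.Idx F) ∈ RootBN.mapG θ₂ K := (RootBN.mem_mapG θ₂).2 hy
      simpa [hθ₂, huG] using this
  have hU2 : RootBN.mapG θ₂ (data hG F).U = (data hG F).U := by
    rw [hconj2, hU1]
    exact RootBN.Data.B_conj_U ax ((data hG F).B.inv_mem (RootBN.Data.U_le_B hu))
  have hV2 : RootBN.mapG θ₂ (RootBN.Data.Uop (data hG F) l₀) = RootBN.Data.Uop (data hG F) l₀ := by
    rw [hconj2, hV1, huV, Subgroup.map_map]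
    convert Subgroup.map_id _
    ext y
    simp [mul_assoc]
  obtain ⟨ρ, σ, hρ, hσ⟩ := RootBN.Data.exists_node_perm ax hl₀ hpp hq hUp hVB (data_grp hG) θ₂ hU2 hV2
  have hf1 : ∀ i : Fin D.rank, ∃ f : F → F, Sends hG θ₂ (D.simple i) (D.simple (ρ i)) f ∧
      (∀ t u, f (t + u) = f t + f u) ∧ Function.Bijective f := fun i =>
    exists_sends hG hf (hG.simple_lt i.2) (hG.simple_lt (ρ i).2) (hρ i)
  have hg1 : ∀ i : Fin D.rank, ∃ f : F → F, Sends hG θ₂ (D.neg (D.simple i)) (D.neg (D.simple (σ i))) f ∧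
      (∀ t u, f (t + u) = f t + f u) ∧ Function.Bijective f := fun i =>
    exists_sends hG hf (hG.neg_lt (hG.simple_lt i.2)) (hG.neg_lt (hG.simple_lt (σ i).2)) (hσ i)
  choose f hfs hfadd hfb using hf1
  choose f' hfs' hfadd' hfb' using hg1
  have hne : ∀ (f : F → F), (∀ t u, f (t + u) = f t + f u) → Function.Bijective f → f 1 ≠ 0 := by
    intro f hadd hb h
    have h0 : f 0 = 0 := by have := hadd 0 0; rwa [add_zero, left_eq_add] at this
    exact one_ne_zero (hb.1 (h.trans h0.symm))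
  -- the two permutations agree
  have hρσ : ∀ j, σ j = ρ j := by
    intro j
    by_contra hne'
    set i := ρ⁻¹ (σ j) with hi
    have hρi : ρ i = σ j := ρ.apply_symm_apply _
    have hij : i ≠ j := fun h => hne' (by rw [← hρi, h])
    obtain ⟨h0, h3, h4, -⟩ := hN i i.2 j j.2 fun h => hij (Fin.ext h)
    have hc : Commute (xG hG (D.simple i) (1 : F)) (xG hG (D.neg (D.simple j)) 1) := by
      have e := comm_eq_termsProd hG (hG.simple_lt i.2) (hG.neg_lt (hG.simple_lt j.2)) h3 h4 (-1 : F) 1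
      rw [neg_neg, h0, termsProd, mul_assoc, mul_assoc, inv_mul_eq_one, eq_inv_mul_iff_mul_eq] at e
      exact Subtype.ext e
    have hc' := hc.map θ₂.toMonoidHom
    simp only [MulEquiv.coe_toMonoidHom, hfs i _, hfs' j _, hρi] at hc'
    exact not_commute_opp hG hf (hG.simple_lt (σ j).2) (hne _ (hfadd i) (hfb i)) (hne _ (hfadd' j) (hfb' j))
      (congrArg Subtype.val hc'.eq)
  -- the diagonal part
  let c : Fin D.rank → Fˣ := fun k => Units.mk0 (f (ρ⁻¹ k) 1) (hne _ (hfadd _) (hfb _))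
  obtain ⟨d, hd, hdx⟩ := exists_diagAut hD hG (isRootCharacter_coefChar (F := F) hG hC c)
  have hχ : ∀ i : Fin D.rank, (coefChar D dd Bc c (D.simple (ρ i)) : F) = f i 1 := fun i => by
    rw [coefChar_simple hC c]
    show f (ρ⁻¹ (ρ i)) 1 = f i 1
    rw [show ρ⁻¹ (ρ i) = i from ρ.symm_apply_apply i]
  have hχneg : ∀ i : Fin D.rank, ((coefChar D dd Bc c (D.neg (D.simple (ρ i))) : Fˣ) : F) = (f i 1)⁻¹ := fun i => by
    rw [(isRootCharacter_coefChar (F := F) hG hC c).1 _ (hG.simple_lt (ρ i).2), Units.val_inv_eq_inv_val, hχ]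
  set θ₃ : ↥(D.group F) ≃* ↥(D.group F) := θ₂.trans d.symm with hθ₃
  have hpos : ∀ i : Fin D.rank, Sends hG θ₃ (D.simple i) (D.simple (ρ i)) (fun t => f i t / f i 1) := fun i t => by
    rw [hθ₃, MulEquiv.trans_apply, hfs i t, MulEquiv.symm_apply_eq, hdx _ (hG.simple_lt (ρ i).2), hχ,
      mul_div_cancel₀ _ (hne _ (hfadd i) (hfb i))]
  have hneg : ∀ i : Fin D.rank, Sends hG θ₃ (D.neg (D.simple i)) (D.neg (D.simple (ρ i))) (fun t => f' i t * f i 1) := fun i t => by
    rw [hθ₃, MulEquiv.trans_apply, hfs' i t, hρσ, MulEquiv.symm_apply_eq,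
      hdx _ (hG.neg_lt (hG.simple_lt (ρ i).2)), hχneg]
    congr 1
    field_simp [hne _ (hfadd i) (hfb i)]
  have hrig : ∀ i : Fin D.rank, ∃ s : F ≃+* F, (∀ t, f i t / f i 1 = s t) ∧ ∀ t, f' i t * f i 1 = s t := fun i =>
    sends_rigid hG hf (hG.simple_lt i.2) (hG.simple_lt (ρ i).2) (hpos i) (hneg i)
      (by
        refine ⟨fun a b h => (hfb i).1 ((div_left_inj' (hne _ (hfadd i) (hfb i))).1 h), fun z => ?_⟩
        obtain ⟨a, ha⟩ := (hfb i).2 (z * f i 1)
        exact ⟨a, by simp only [ha, mul_div_cancel_right₀ _ (hne _ (hfadd i) (hfb i))]⟩)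
      (fun a b => by simp only [hfadd i, add_div])
      (fun a b => by simp only [hfadd' i, add_mul])
      (div_self (hne _ (hfadd i) (hfb i)))
  choose s hs hs' using hrig
  refine ⟨g⁻¹ * uG, d, θ₃, ρ, s, hd, fun y => ?_, fun i => ⟨fun t => ?_, fun t => ?_⟩⟩
  · rw [hθ₃, MulEquiv.trans_apply, MulEquiv.apply_symm_apply, hθ₂, hθ₁]
    group
  · rw [hpos i t, ← hs i t]
  · rw [hneg i t, ← hs' i t]

end Cfsg.Agent.Chev.BNSetup
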