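/-
The node permutation of an automorphism is a symmetry of the diagram and the field automorphisms at the
nodes come from one field automorphism.
-/
import Cfsg.Agent.Lib.Chev.AutNormalForm
import Cfsg.Agent.Lib.Chev.ParaCerts
import Cfsg.Agent.S1080

set_option autoImplicit false

namespace Cfsg.Agent.Chev.BNSetup

open Cfsg.Lie

theorem coefFact_chevG2 : CoefFact chevG2 1 [[2, 3], [1, 2]] := by decide +kernel
theorem coefFact_chevB2 : CoefFact chevB2 2 [[2, 2], [1, 2]] := by decide +kernel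
theorem coefFact_chevD4 : CoefFact chevD4 2 [[2, 2, 1, 1], [2, 4, 2, 2], [1, 2, 2, 1], [1, 2, 1, 2]] := by
  decide +kernel
theorem coefFact_chevF4 : CoefFact chevF4 1 [[2, 3, 4, 2], [3, 6, 8, 4], [2, 4, 6, 3], [1, 2, 3, 2]] := by
  decide +kernel
theorem coefFact_chevE6 : CoefFact chevE6 3 [[4, 3, 5, 6, 4, 2], [3, 6, 6, 9, 6, 3], [5, 6, 10, 12, 8, 4],
    [6, 9, 12, 18, 12, 6], [4, 6, 8, 12, 10, 5], [2, 3, 4, 6, 5, 4]] := by decide +kernel
theorem coefFact_chevE7 : CoefFact chevE7 2 [[4, 4, 6, 8, 6, 4, 2], [4, 7, 8, 12, 9, 6, 3],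
    [6, 8, 12, 16, 12, 8, 4], [8, 12, 16, 24, 18, 12, 6], [6, 9, 12, 18, 15, 10, 5], [4, 6, 8, 12, 10, 8, 4],
    [2, 3, 4, 6, 5, 4, 3]] := by decide +kernel
theorem coefFact_chevE8 : CoefFact chevE8 1 [[4, 5, 7, 10, 8, 6, 4, 2], [5, 8, 10, 15, 12, 9, 6, 3],
    [7, 10, 14, 20, 16, 12, 8, 4], [10, 15, 20, 30, 24, 18, 12, 6], [8, 12, 16, 24, 20, 15, 10, 5],
    [6, 9, 12, 18, 15, 12, 8, 4], [4, 6, 8, 12, 10, 8, 6, 3], [2, 3, 4, 6, 5, 4, 3, 2]] := by decide +kernel

theorem nodeComm_chevG2 : NodeComm chevG2 := by decide +kernel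
theorem nodeComm_chevB2 : NodeComm chevB2 := by decide +kernel
theorem nodeComm_chevD4 : NodeComm chevD4 := by decide +kernel
theorem nodeComm_chevF4 : NodeComm chevF4 := by decide +kernel
theorem nodeComm_chevE6 : NodeComm chevE6 := by decide +kernel
theorem nodeComm_chevE7 : NodeComm chevE7 := by decide +kernel
theorem nodeComm_chevE8 : NodeComm chevE8 := by decide +kernel

theorem exists_autCerts {D : ChevalleyDatum}
    (hD : D ∈ [chevG2, chevB2, chevD4, chevF4, chevE6, chevE7, chevE8]) :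
    ∃ d B, CoefFact D d B ∧ NodeComm D := by
  simp only [List.mem_cons, List.not_mem_nil, or_false] at hD
  rcases hD with rfl | rfl | rfl | rfl | rfl | rfl | rfl
  exacts [⟨_, _, coefFact_chevG2, nodeComm_chevG2⟩, ⟨_, _, coefFact_chevB2, nodeComm_chevB2⟩,
    ⟨_, _, coefFact_chevD4, nodeComm_chevD4⟩, ⟨_, _, coefFact_chevF4, nodeComm_chevF4⟩,
    ⟨_, _, coefFact_chevE6, nodeComm_chevE6⟩, ⟨_, _, coefFact_chevE7, nodeComm_chevE7⟩,
    ⟨_, _, coefFact_chevE8, nodeComm_chevE8⟩]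

/-- All bonds are simple and no root counts as long. -/
def SimplyLaced (D : ChevalleyDatum) : Prop :=
  (∀ i < D.rank, ∀ j < D.rank, i ≠ j → (D.bonds i j = 0 ∨ D.bonds i j = 1) ∧
    (D.bonds i j ≠ 0 → D.cartan j (D.simple i) = -1)) ∧
    ∀ i < D.rank, D.isLong (D.simple i) = false

instance decidableSimplyLaced (D : ChevalleyDatum) : Decidable (SimplyLaced D) :=
  inferInstanceAs (Decidable (_ ∧ _))

/-- Every node but the first is joined to an earlier one by an edge that has a simple direction. -/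
def TreeOrd (D : ChevalleyDatum) (ord : List ℕ) : Prop :=
  ∀ i < D.rank, i ≠ 0 → ∃ j < D.rank, ord.getD j 0 < ord.getD i 0 ∧ i ≠ j ∧ D.bonds i j ≠ 0 ∧
    (D.cartan j (D.simple i) = -1 ∨ D.cartan i (D.simple j) = -1)

instance decidableTreeOrd (D : ChevalleyDatum) (ord : List ℕ) : Decidable (TreeOrd D ord) :=
  inferInstanceAs (Decidable (∀ _, _ → _))

theorem simplyLaced_chevD4 : SimplyLaced chevD4 := by decide +kernel
theorem simplyLaced_chevE6 : SimplyLaced chevE6 := by decide +kernel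
theorem simplyLaced_chevE7 : SimplyLaced chevE7 := by decide +kernel
theorem simplyLaced_chevE8 : SimplyLaced chevE8 := by decide +kernel

theorem treeOrd_chevG2 : TreeOrd chevG2 [0, 1] := by decide +kernel
theorem treeOrd_chevB2 : TreeOrd chevB2 [0, 1] := by decide +kernel
theorem treeOrd_chevD4 : TreeOrd chevD4 [0, 1, 2, 2] := by decide +kernel
theorem treeOrd_chevF4 : TreeOrd chevF4 [0, 1, 2, 3] := by decide +kernel
theorem treeOrd_chevE6 : TreeOrd chevE6 [0, 3, 1, 2, 3, 4] := by decide +kernel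
theorem treeOrd_chevE7 : TreeOrd chevE7 [0, 3, 1, 2, 3, 4, 5] := by decide +kernel
theorem treeOrd_chevE8 : TreeOrd chevE8 [0, 3, 1, 2, 3, 4, 5, 6] := by decide +kernel

/-- The numbers of the types with two root lengths: short nodes first. -/
theorem b2_numbers : chevB2.rank = 2 ∧ chevB2.isLong (chevB2.simple 0) = false ∧
    chevB2.isLong (chevB2.simple 1) = true ∧ chevB2.cartan 1 (chevB2.simple 0) = -1 ∧
    chevB2.cartan 0 (chevB2.simple 1) = -2 := by decide +kernel

theorem g2_aut_numbers : chevG2.rank = 2 ∧ chevG2.isLong (chevG2.simple 0) = false ∧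
    chevG2.isLong (chevG2.simple 1) = true ∧ chevG2.cartan 1 (chevG2.simple 0) = -1 ∧
    chevG2.cartan 0 (chevG2.simple 1) = -3 ∧ chevG2.nroots = 12 ∧ chevG2.simple 0 = 7 ∧ chevG2.simple 1 = 6 ∧
    chevG2.reflectRoot 1 7 = 8 ∧ chevG2.reflectRoot 0 8 = 9 ∧ chevG2.reflectRoot 0 6 = 10 ∧
    chevG2.reflectRoot 1 10 = 11 ∧ chevG2.commTerms 9 7 = [(10, -3, 1, 1)] ∧ chevG2.commTerms 11 6 = [] ∧
    chevG2.neg 9 ≠ 7 ∧ chevG2.neg 11 ≠ 6 := by decide +kernel

theorem f4_numbers : chevF4.rank = 4 ∧ chevF4.isLong (chevF4.simple 0) = false ∧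
    chevF4.isLong (chevF4.simple 1) = false ∧ chevF4.isLong (chevF4.simple 2) = true ∧
    chevF4.isLong (chevF4.simple 3) = true ∧ chevF4.cartan 1 (chevF4.simple 0) = -1 ∧
    chevF4.cartan 2 (chevF4.simple 3) = -1 ∧ chevF4.cartan 3 (chevF4.simple 2) = -1 ∧
    chevF4.cartan 2 (chevF4.simple 1) = -1 ∧ chevF4.cartan 1 (chevF4.simple 2) = -2 := by decide +kernel

theorem f4_perms : ∀ f : Fin chevF4.rank → Fin chevF4.rank, Function.Injective f →
    (∀ i j, i ≠ j → (chevF4.bonds (f i) (f j) = 0 ↔ chevF4.bonds i j = 0)) →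
    (∀ i, (f i).val = i.val) ∨ ∀ i, (f i).val = 3 - i.val := by decide +kernel

theorem f4_bonds : ∀ i < 4, ∀ j < 4, i ≠ j → chevF4.bonds (3 - i) (3 - j) = chevF4.bonds i j := by
  decide +kernel

theorem g2_bonds : ∀ i < 2, ∀ j < 2, i ≠ j → chevG2.bonds (1 - i) (1 - j) = chevG2.bonds i j := by
  decide +kernel

theorem b2_bonds : ∀ i < 2, ∀ j < 2, i ≠ j → chevB2.bonds (1 - i) (1 - j) = chevB2.bonds i j := by
  decide +kernel

theorem two_perms (n : ℕ) (hn : n = 2) (f : Fin n → Fin n) (hf : Function.Injective f) :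
    (∀ i, (f i).val = i.val) ∨ ∀ i, (f i).val = 1 - i.val := by
  subst hn
  revert hf; revert f
  decide

theorem graphExp_eq (D : ChevalleyDatum) (c i j : ℕ) {a b : Bool} (hi : D.isLong (D.simple i) = a)
    (hj : D.isLong (D.simple j) = b) : D.graphExp c i j = if b && !a then c else 1 := by
  rw [ChevalleyDatum.graphExp, hi, hj]

section

variable {F : Type*} [Field F] {D : ChevalleyDatum} (hG : Good D) {tabs simps : List ℕ} (hf : Facts D tabs simps)
include hG hf

variable {θ : ↥(D.group F) ≃* ↥(D.group F)} {ρ : Equiv.Perm (Fin D.rank)} {s : Fin D.rank → F ≃+* F}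
  (hθ : IsNodeAut hG θ ρ s)
include hθ

theorem IsNodeAut.eq_of_simple_edge {i j : Fin D.rank} (h : D.cartan j (D.simple i) = -1)
    (h' : D.cartan (ρ j) (D.simple (ρ i)) = -1) (t : F) : s i t = s j t := by
  by_cases ht : t = 0
  · rw [ht, map_zero, map_zero]
  · have e := IsNodeAut.torus hG hf hθ i j ht
    rw [h, h', zpow_neg_one, zpow_neg_one, inv_inj] at e
    exact e

theorem IsNodeAut.eq_pow_of_edge {i j : Fin D.rank} {c : ℕ} (h : D.cartan j (D.simple i) = -1)
    (h' : D.cartan (ρ j) (D.simple (ρ i)) = -(c : ℤ)) (hc : c ≠ 0) (t : F) : s i t = s j t ^ c := by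
  by_cases ht : t = 0
  · rw [ht, map_zero, map_zero, zero_pow hc]
  · have e := IsNodeAut.torus hG hf hθ i j ht
    rw [h, h', zpow_neg_one, zpow_neg, zpow_natCast, inv_inj] at e
    exact e

theorem IsNodeAut.all_eq {ord : List ℕ} (hT : TreeOrd D ord)
    (hedge : ∀ i j : Fin D.rank, i ≠ j → D.bonds i j ≠ 0 → D.cartan j (D.simple i) = -1 →
      D.cartan (ρ j) (D.simple (ρ i)) = -1) (h0 : 0 < D.rank) (i : Fin D.rank) (t : F) :
    s i t = s ⟨0, h0⟩ t := by
  suffices key : ∀ n, ∀ i : Fin D.rank, ord.getD i 0 = n → s i t = s ⟨0, h0⟩ t from key _ i rfl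
  intro n
  induction n using Nat.strong_induction_on with
  | _ n ih =>
    intro i hin
    by_cases hi : i.val = 0
    · rw [show i = ⟨0, h0⟩ from Fin.ext hi]
    obtain ⟨j, hj, hlt, hij, hb, hc⟩ := hT i i.2 hi
    have hij' : i ≠ (⟨j, hj⟩ : Fin D.rank) := fun h => hij (congrArg Fin.val h)
    rw [← ih _ (hin ▸ hlt) ⟨j, hj⟩ rfl]
    rcases hc with hc | hc
    · exact IsNodeAut.eq_of_simple_edge hG hf hθ hc (hedge i ⟨j, hj⟩ hij' hb hc) t
    · have hb' : D.bonds j i ≠ 0 := by rwa [ChevalleyDatum.bonds, mul_comm]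
      exact (IsNodeAut.eq_of_simple_edge hG hf hθ hc (hedge ⟨j, hj⟩ i hij'.symm hb' hc) t).symm

theorem IsNodeAut.field_graph_simplyLaced (hN : NodeComm D) (hS : SimplyLaced D) {ord : List ℕ}
    (hT : TreeOrd D ord) (h0 : 0 < D.rank) :
    D.IsDiagramSymmetry ρ ∧ ∃ σ : F ≃+* F, ∀ i t, s i t = σ t ^ D.graphExp (ringChar F) i (ρ i) := by
  have hz := fun (i j : Fin D.rank) (h : i ≠ j) => IsNodeAut.bonds_eq_zero_iff hG hf hθ hN h
  refine ⟨fun i j hij => ?_, s ⟨0, h0⟩, fun i t => ?_⟩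
  · have h1 := (hS.1 i i.2 j j.2 fun h => hij (Fin.ext h)).1
    have h2 := (hS.1 (ρ i) (ρ i).2 (ρ j) (ρ j).2 fun h => hij (ρ.injective (Fin.ext h))).1
    have := hz i j hij
    omega
  · rw [graphExp_eq D _ _ _ (hS.2 i i.2) (hS.2 (ρ i) (ρ i).2)]
    simp only [Bool.false_and, Bool.false_eq_true, if_false, pow_one]
    refine IsNodeAut.all_eq hG hf hθ hT (fun i j hij hb _ => ?_) h0 i t
    exact (hS.1 (ρ i) (ρ i).2 (ρ j) (ρ j).2 fun h => hij (ρ.injective (Fin.ext h))).2
      (fun h => hb ((hz i j hij).1 h))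

theorem IsNodeAut.field_graph_one {ord : List ℕ} (hT : TreeOrd D ord) (h0 : 0 < D.rank)
    (hρ : ∀ i, (ρ i).val = i.val) :
    D.IsDiagramSymmetry ρ ∧ ∃ σ : F ≃+* F, ∀ i t, s i t = σ t ^ D.graphExp (ringChar F) i (ρ i) := by
  refine ⟨fun i j _ => by rw [hρ, hρ], s ⟨0, h0⟩, fun i t => ?_⟩
  have e : D.graphExp (ringChar F) i (ρ i) = 1 := by
    rw [hρ, ChevalleyDatum.graphExp]
    cases D.isLong (D.simple i.val) <;> rfl
  rw [e, pow_one]
  exact IsNodeAut.all_eq hG hf hθ hT (fun i j _ _ h => by rw [hρ, hρ]; exact h) h0 i t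

end

variable {F : Type*} [Field F]

theorem ringChar_eq_two (h : (2 : F) = 0) : ringChar F = 2 := by
  have := CharTwo.of_one_ne_zero_of_two_eq_zero one_ne_zero h
  exact ringChar.eq F 2

theorem g2_char_three (hG : Good chevG2) {tabs simps : List ℕ} (hf : Facts chevG2 tabs simps)
    {θ : ↥(chevG2.group F) ≃* ↥(chevG2.group F)} {ρ : Equiv.Perm (Fin chevG2.rank)}
    {s : Fin chevG2.rank → F ≃+* F} (hθ : IsNodeAut hG θ ρ s) (hρ : ∀ i, (ρ i).val = 1 - i.val) :
    ringChar F = 3 := by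
  obtain ⟨hR, -, -, -, -, hN, h0, h1, r8, r9, r10, r11, c97, c116, n97, n116⟩ := g2_aut_numbers
  have i0 : 0 < chevG2.rank := by omega
  have i1 : 1 < chevG2.rank := by omega
  have hn : ∀ i : Fin chevG2.rank,
      θ (nGrp hG (chevG2.simple i) 1) = nGrp hG (chevG2.simple (1 - i.val)) 1 := fun i => by
    rw [sends_nGrp hG (hθ i).1 (hθ i).2, map_one, hρ]
  obtain ⟨e8, he8, x78, -⟩ := exists_conj hG (F := F) i1 (show 7 < chevG2.nroots by omega)
  obtain ⟨e9, he9, x89, -⟩ := exists_conj hG (F := F) i0 (show 8 < chevG2.nroots by omega)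
  obtain ⟨e10, he10, x610, -⟩ := exists_conj hG (F := F) i0 (show 6 < chevG2.nroots by omega)
  obtain ⟨e11, he11, x1011, -⟩ := exists_conj hG (F := F) i1 (show 10 < chevG2.nroots by omega)
  set a := nGrp hG (F := F) (chevG2.simple 0) 1 with ha
  set b := nGrp hG (F := F) (chevG2.simple 1) 1 with hb
  have h9 : a * (b * xG hG 7 1 * b⁻¹) * a⁻¹ = xG hG 9 (e9 * (e8 * 1)) := Subtype.ext (by
    simp only [Subgroup.coe_mul, Subgroup.coe_inv, coe_xG, ha, hb, coe_nGrp]
    rw [x78, r8, x89, r9])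
  have h11 : b * (a * xG hG 6 1 * a⁻¹) * b⁻¹ = xG hG 11 (e11 * (e10 * 1)) := Subtype.ext (by
    simp only [Subgroup.coe_mul, Subgroup.coe_inv, coe_xG, ha, hb, coe_nGrp]
    rw [x610, r10, x1011, r11])
  have hθa : θ a = b := hn ⟨0, i0⟩
  have hθb : θ b = a := hn ⟨1, i1⟩
  have hθ7 : θ (xG hG 7 1) = xG hG 6 1 := by
    have := (hθ ⟨0, i0⟩).1 1
    rw [map_one, hρ] at this
    simpa [h0, h1] using this
  have himg : θ (xG hG 9 (e9 * (e8 * 1))) = xG hG 11 (e11 * (e10 * 1)) := by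
    rw [← h9, ← h11]
    simp only [map_mul, map_inv, hθa, hθb, hθ7]
  have hcomm : xG hG 7 1 * xG hG 9 (e9 * (e8 * 1)) = xG hG 9 (e9 * (e8 * 1)) * xG hG 7 1 := by
    apply θ.injective
    rw [map_mul, map_mul, hθ7, himg]
    refine Subtype.ext ?_
    have e := comm_eq_termsProd hG (b := 11) (s := 6) (by omega) (by omega) (by omega) n116.symm
      (-(e11 * (e10 * 1)) : F) 1
    rw [neg_neg, c116, termsProd, mul_assoc, mul_assoc, inv_mul_eq_one, eq_inv_mul_iff_mul_eq] at e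
    simp only [Subgroup.coe_mul, coe_xG]
    exact e.symm
  have e := comm_eq_termsProd hG (b := 9) (s := 7) (by omega) (by omega) (by omega) n97.symm
    (-(e9 * (e8 * 1)) : F) 1
  rw [neg_neg, c97, mul_assoc _ (xe hG 7 (1 : F)), show xe hG 7 (1 : F) * xe hG 9 (e9 * (e8 * 1)) =
    xe hG 9 (e9 * (e8 * 1)) * xe hG 7 1 from congrArg Subtype.val hcomm] at e
  simp only [mul_assoc, inv_mul_cancel_left, inv_mul_cancel, termsProd, mul_one] at e
  have h3 : ((-3 : ℤ) : F) * (-(e9 * e8)) ^ 1 * 1 ^ 1 = 0 := by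
    have := xe_inj hG hf (show 10 < chevG2.nroots by omega) (t := ((-3 : ℤ) : F) * (-(e9 * e8)) ^ 1 * 1 ^ 1) (u := 0)
      (by rw [xe_zero hG (show 10 < chevG2.nroots by omega)]; simpa [mul_comm, mul_left_comm] using e.symm)
    exact this
  have hne : e9 * e8 ≠ 0 := mul_ne_zero (left_ne_zero_of_mul_eq_one he9) (left_ne_zero_of_mul_eq_one he8)
  have h3' : (3 : F) = 0 := by
    simp only [pow_one, mul_one, Int.cast_neg, Int.cast_ofNat, mul_eq_zero, neg_eq_zero] at h3
    rcases h3 with h | h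
    · exact h
    · exact absurd (mul_eq_zero.2 h) hne
  have hdvd : ringChar F ∣ 3 := (ringChar.spec F 3).1 (by exact_mod_cast h3')
  rcases (Nat.dvd_prime Nat.prime_three).1 hdvd with h | h
  · exact absurd h CharP.ringChar_ne_one
  · exact h

/-- The full statement for the node automorphisms of the seven types. -/
theorem field_graph {D : ChevalleyDatum} (hD : D ∈ [chevG2, chevB2, chevD4, chevF4, chevE6, chevE7, chevE8])
    (hG : Good D) {tabs simps : List ℕ} (hf : Facts D tabs simps) {θ : ↥(D.group F) ≃* ↥(D.group F)}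
    {ρ : Equiv.Perm (Fin D.rank)} {s : Fin D.rank → F ≃+* F} (hθ : IsNodeAut hG θ ρ s) :
    D.IsDiagramSymmetry ρ ∧ ∃ σ : F ≃+* F, ∀ i t, s i t = σ t ^ D.graphExp (ringChar F) i (ρ i) := by
  simp only [List.mem_cons, List.not_mem_nil, or_false] at hD
  rcases hD with rfl | rfl | rfl | rfl | rfl | rfl | rfl
  · obtain ⟨hR, l0, l1, c10, c01, -⟩ := g2_aut_numbers
    rcases two_perms _ hR ρ ρ.injective with hρ | hρ
    · exact IsNodeAut.field_graph_one hG hf hθ treeOrd_chevG2 (by omega) hρ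
    · have hc := g2_char_three hG hf hθ hρ
      refine ⟨fun i j hij => ?_, s ⟨1, by omega⟩, fun i t => ?_⟩
      · rw [hρ, hρ]
        exact g2_bonds i (by omega) j (by omega) fun h => hij (Fin.ext h)
      · rw [hρ, hc]
        have hi : i.val = 0 ∨ i.val = 1 := by omega
        rcases hi with hi | hi
        · rw [hi, graphExp_eq chevG2 3 0 (1 - 0) l0 l1]
          refine IsNodeAut.eq_pow_of_edge hG hf hθ (by rw [hi]; exact c10) ?_ (by norm_num) t
          rw [hρ, hρ, hi]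
          exact c01
        · rw [hi, graphExp_eq chevG2 3 1 (1 - 1) l1 l0]
          simp [show i = (⟨1, by omega⟩ : Fin chevG2.rank) from Fin.ext hi]
  · obtain ⟨hR, l0, l1, c10, c01⟩ := b2_numbers
    rcases two_perms _ hR ρ ρ.injective with hρ | hρ
    · exact IsNodeAut.field_graph_one hG hf hθ treeOrd_chevB2 (by omega) hρ
    · have hrel : ∀ t, s ⟨0, by omega⟩ t = s ⟨1, by omega⟩ t ^ 2 := fun t =>
        IsNodeAut.eq_pow_of_edge hG hf hθ c10 (by rw [hρ, hρ]; exact c01) (by norm_num) t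
      have h2 : (2 : F) = 0 := by
        have e := hrel (1 + 1)
        rw [map_add, map_add, map_one, map_one] at e
        linear_combination -e
      have hc := ringChar_eq_two h2
      refine ⟨fun i j hij => ?_, s ⟨1, by omega⟩, fun i t => ?_⟩
      · rw [hρ, hρ]
        exact b2_bonds i (by omega) j (by omega) fun h => hij (Fin.ext h)
      · rw [hρ, hc]
        have hi : i.val = 0 ∨ i.val = 1 := by omega
        rcases hi with hi | hi
        · rw [hi, graphExp_eq chevB2 2 0 (1 - 0) l0 l1, show i = (⟨0, by omega⟩ : Fin chevB2.rank) from Fin.ext hi]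
          exact hrel t
        · rw [hi, graphExp_eq chevB2 2 1 (1 - 1) l1 l0]
          simp [show i = (⟨1, by omega⟩ : Fin chevB2.rank) from Fin.ext hi]
  · exact IsNodeAut.field_graph_simplyLaced hG hf hθ nodeComm_chevD4 simplyLaced_chevD4 treeOrd_chevD4
      (by decide +kernel)
  · obtain ⟨hR, l0, l1, l2, l3, c10, c23, c32, c21, c12⟩ := f4_numbers
    rcases f4_perms ρ ρ.injective (fun i j h => IsNodeAut.bonds_eq_zero_iff hG hf hθ nodeComm_chevF4 h) with hρ | hρ
    · exact IsNodeAut.field_graph_one hG hf hθ treeOrd_chevF4 (by omega) hρ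
    · have h01 : ∀ t, s ⟨0, by omega⟩ t = s ⟨1, by omega⟩ t := fun t =>
        IsNodeAut.eq_of_simple_edge hG hf hθ c10 (by rw [hρ, hρ]; exact c23) t
      have h23 : ∀ t, s ⟨2, by omega⟩ t = s ⟨3, by omega⟩ t := fun t =>
        IsNodeAut.eq_of_simple_edge hG hf hθ c32 (by rw [hρ, hρ]; exact (show chevF4.cartan 0 (chevF4.simple 1) = -1 by decide +kernel)) t
      have hrel : ∀ t, s ⟨1, by omega⟩ t = s ⟨2, by omega⟩ t ^ 2 := fun t =>
        IsNodeAut.eq_pow_of_edge hG hf hθ c21 (by rw [hρ, hρ]; exact c12) (by norm_num) t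
      have h2 : (2 : F) = 0 := by
        have e := hrel (1 + 1)
        rw [map_add, map_add, map_one, map_one] at e
        linear_combination -e
      have hc := ringChar_eq_two h2
      refine ⟨fun i j hij => ?_, s ⟨2, by omega⟩, fun i t => ?_⟩
      · rw [hρ, hρ]
        exact f4_bonds i (by omega) j (by omega) fun h => hij (Fin.ext h)
      · rw [hρ, hc]
        have hi : i.val = 0 ∨ i.val = 1 ∨ i.val = 2 ∨ i.val = 3 := by omega
        rcases hi with hi | hi | hi | hi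
        · rw [hi, graphExp_eq chevF4 2 0 (3 - 0) l0 l3, show i = (⟨0, by omega⟩ : Fin chevF4.rank) from Fin.ext hi,
            h01]
          exact hrel t
        · rw [hi, graphExp_eq chevF4 2 1 (3 - 1) l1 l2, show i = (⟨1, by omega⟩ : Fin chevF4.rank) from Fin.ext hi]
          exact hrel t
        · rw [hi, graphExp_eq chevF4 2 2 (3 - 2) l2 l1]
          simp [show i = (⟨2, by omega⟩ : Fin chevF4.rank) from Fin.ext hi]
        · rw [hi, graphExp_eq chevF4 2 3 (3 - 3) l3 l0]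
          simp [show i = (⟨3, by omega⟩ : Fin chevF4.rank) from Fin.ext hi, h23]
  · exact IsNodeAut.field_graph_simplyLaced hG hf hθ nodeComm_chevE6 simplyLaced_chevE6 treeOrd_chevE6
      (by decide +kernel)
  · exact IsNodeAut.field_graph_simplyLaced hG hf hθ nodeComm_chevE7 simplyLaced_chevE7 treeOrd_chevE7
      (by decide +kernel)
  · exact IsNodeAut.field_graph_simplyLaced hG hf hθ nodeComm_chevE8 simplyLaced_chevE8 treeOrd_chevE8
      (by decide +kernel)

end Cfsg.Agent.Chev.BNSetup
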