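/-
The root elements of the fundamental roots and of their negatives generate a Chevalley group.
-/
import Cfsg.Agent.Lib.Chev.Elements

set_option autoImplicit false

namespace Cfsg.Agent.Chev

open Cfsg.Lie

variable {F : Type*} [Field F] {D : ChevalleyDatum}

namespace Good

variable (hD : Good D)
include hD

/-- Generation by fundamental root elements and their negatives. -/
theorem group_le_of_simple {K : Subgroup (GL D.Idx F)}
    (hpos : ∀ i < D.rank, ∀ t : F, xg D F (D.simple i) t ∈ K)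
    (hneg : ∀ i < D.rank, ∀ t : F, xg D F (D.neg (D.simple i)) t ∈ K) : D.group F ≤ K := by
  have hn : ∀ i < D.rank, nG D F (D.simple i) (1 : F) ∈ K := fun i hi => by
    rw [nG_eq]
    exact K.mul_mem (K.mul_mem (hpos i hi _) (hneg i hi _)) (hpos i hi _)
  rw [hD.group_eq_closure, Subgroup.closure_le]
  rintro _ ⟨r, hr, t, rfl⟩
  refine hD.root_induction (P := fun r => ∀ t : F, xg D F r t ∈ K) hpos ?_ hr t
  intro i hi s hs ih t
  obtain ⟨η, hη, hx⟩ := hD.exists_sign_xg (F := F) hi
  have h1 := hx s hs (η s * t)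
  rw [← mul_assoc, (hη s hs).1, one_mul, eq_comm, ← eq_mul_inv_iff_mul_eq] at h1
  rw [h1]
  exact K.mul_mem (K.mul_mem (hn i hi) (ih _)) (K.inv_mem (hn i hi))

/-- The root element inside the group. -/
noncomputable def xgrp (r : ℕ) (t : F) : ↥(D.group F) := ⟨xg D F r t, hD.xg_mem_group r t⟩

theorem coe_xgrp (r : ℕ) (t : F) :
    (((hD.xgrp r t : ↥(D.group F)) : GL D.Idx F) : Matrix D.Idx D.Idx F) = D.x F r t := hD.coe_xg r t

theorem eq_xgrp {g : ↥(D.group F)} {r : ℕ} {t : F}
    (h : ((g : GL D.Idx F) : Matrix D.Idx D.Idx F) = D.x F r t) : g = hD.xgrp r t :=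
  Subtype.ext (hD.eq_xg h)

/-- Homomorphisms agreeing on fundamental root elements and their negatives are equal. -/
theorem hom_ext_simple {H : Type*} [Group H] {f g : ↥(D.group F) →* H}
    (hpos : ∀ i < D.rank, ∀ t : F, f (hD.xgrp (D.simple i) t) = g (hD.xgrp (D.simple i) t))
    (hneg : ∀ i < D.rank, ∀ t : F,
      f (hD.xgrp (D.neg (D.simple i)) t) = g (hD.xgrp (D.neg (D.simple i)) t)) : f = g := by
  have hle := hD.group_le_of_simple (K := (f.eqLocus g).map (D.group F).subtype)
    (fun i hi t => ⟨hD.xgrp (D.simple i) t, hpos i hi t, rfl⟩)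
    fun i hi t => ⟨hD.xgrp (D.neg (D.simple i)) t, hneg i hi t, rfl⟩
  ext y
  obtain ⟨z, hz, hzy⟩ := hle y.2
  rw [← Subtype.ext hzy]
  exact hz

end Good

end Cfsg.Agent.Chev
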