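/-
Outer automorphism groups of the Chevalley groups: diagonal automorphisms modulo inner ones, uniqueness of the
graph and field parts, and the order of `Out`.
-/
import Cfsg.Agent.Lib.Chev.AutGraph
import Cfsg.Agent.Lib.Chev.TorusOrder
import Cfsg.Agent.Lib.Chev.SimpleGen
import Cfsg.Agent.Lib.RootBN.BorelCriterion
import Cfsg.Prelude.Def_KGroupFacts

set_option autoImplicit false

namespace Cfsg.Agent.Chev.BNSetup

open Cfsg.Lie
open Cfsg.Agent.RootBN (Data)

/-! ### The cokernel of the Cartan matrix on the torus -/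

/-- The values at the fundamental roots of the characters coming from the torus of the group. -/
def cartanHom (F : Type*) [Field F] (D : ChevalleyDatum) : (Fin D.rank → Fˣ) →* (Fin D.rank → Fˣ) where
  toFun a j := torusChar D a (D.simple j.val)
  map_one' := funext fun j => torusChar_one _
  map_mul' a b := funext fun j => torusChar_mul a b _

theorem cartanHom_apply {F : Type*} [Field F] {D : ChevalleyDatum} (a : Fin D.rank → Fˣ) (j : Fin D.rank) :
    cartanHom F D a j = torusChar D a (D.simple j.val) := rfl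

/-- An integer certificate: the cokernel of the Cartan matrix is cyclic of order `d`, read off by the weights `w`. -/
def CokerCert (D : ChevalleyDatum) (d : ℕ) (B : List (List ℤ)) (w : List ℤ) (k0 : ℕ) : Prop :=
  (∀ k : Fin D.rank, ∀ j : Fin D.rank,
    ∑ i : Fin D.rank, (B.getD k.val []).getD i.val 0 * D.cartan i.val (D.simple j.val) =
      if k = j then (d : ℤ) else 0) ∧
  (∀ k : Fin D.rank, ∀ i : Fin D.rank,
    ((B.getD k.val []).getD i.val 0 - w.getD k.val 0 * (B.getD k0 []).getD i.val 0) % (d : ℤ) = 0) ∧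
  (∀ i : Fin D.rank, (∑ k : Fin D.rank, w.getD k.val 0 * D.cartan i.val (D.simple k.val)) % (d : ℤ) = 0) ∧
  w.getD k0 0 = 1 ∧ k0 < D.rank ∧ 1 ≤ d

instance decidableCokerCert (D : ChevalleyDatum) (d : ℕ) (B : List (List ℤ)) (w : List ℤ) (k0 : ℕ) :
    Decidable (CokerCert D d B w k0) :=
  inferInstanceAs (Decidable (_ ∧ _))

theorem index_cartanHom {F : Type*} [Field F] [Finite F] {D : ChevalleyDatum} {d : ℕ} {B : List (List ℤ)}
    {w : List ℤ} {k0 : ℕ} (hC : CokerCert D d B w k0) :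
    (cartanHom F D).range.index = Nat.gcd d (Nat.card F - 1) := by
  classical
  obtain ⟨hB, hmod, hw, hw0, hk0, hd⟩ := hC
  let φ : (Fin D.rank → Fˣ) →* Fˣ :=
    { toFun := fun c => ∏ k : Fin D.rank, c k ^ w.getD k.val 0
      map_one' := by simp
      map_mul' := fun a b => by simp [mul_zpow, Finset.prod_mul_distrib] }
  have hφ : ∀ (k : Fin D.rank) (t : Fˣ), φ (Pi.mulSingle k t) = t ^ w.getD k.val 0 := fun k t => by
    show ∏ j : Fin D.rank, (Pi.mulSingle k t : Fin D.rank → Fˣ) j ^ w.getD j.val 0 = _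
    rw [Finset.prod_eq_single k]
    · simp
    · intro j _ hj; simp [Pi.mulSingle_eq_of_ne hj]
    · simp
  have hsurj : Function.Surjective φ := fun t =>
    ⟨Pi.mulSingle ⟨k0, hk0⟩ t, by rw [hφ, hw0, zpow_one]⟩
  have hpow : ∀ (t : Fˣ) (v : Fin D.rank → ℤ) (j : Fin D.rank),
      cartanHom F D (fun i => t ^ v i) j = t ^ ∑ i : Fin D.rank, v i * D.cartan i.val (D.simple j.val) := by
    intro t v j
    rw [cartanHom_apply, torusChar, zpow_finset_sum]
    simp only [zpow_mul]
  have e : (cartanHom F D).range = (powMonoidHom d : Fˣ →* Fˣ).range.comap φ := by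
    apply le_antisymm
    · rintro _ ⟨a, rfl⟩
      rw [Subgroup.mem_comap]
      have h1 : φ (cartanHom F D a) =
          ∏ i : Fin D.rank, a i ^ ∑ k : Fin D.rank, w.getD k.val 0 * D.cartan i.val (D.simple k.val) := by
        show ∏ k : Fin D.rank, (torusChar D a (D.simple k.val)) ^ w.getD k.val 0 = _
        simp only [torusChar, ← Finset.prod_zpow, zpow_finset_sum, ← zpow_mul]
        rw [Finset.prod_comm]
        simp [mul_comm]
      rw [h1]
      refine Subgroup.prod_mem _ fun i _ => ?_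
      obtain ⟨m, hm⟩ := Int.dvd_of_emod_eq_zero (hw i)
      exact ⟨a i ^ m, by rw [powMonoidHom_apply, ← zpow_natCast, ← zpow_mul, hm, mul_comm]⟩
    · intro c hc
      obtain ⟨z, hz⟩ := Subgroup.mem_comap.1 hc
      rw [powMonoidHom_apply] at hz
      have h0 : Pi.mulSingle (⟨k0, hk0⟩ : Fin D.rank) (z ^ d) ∈ (cartanHom F D).range := by
        refine ⟨fun i => z ^ (B.getD k0 []).getD i.val 0, funext fun j => ?_⟩
        rw [hpow, hB ⟨k0, hk0⟩ j]
        by_cases h : (⟨k0, hk0⟩ : Fin D.rank) = j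
        · subst h; simp
        · rw [if_neg h, zpow_zero, Pi.mulSingle_eq_of_ne (Ne.symm h)]
      have h1 : ∀ k : Fin D.rank,
          (Pi.mulSingle k (c k) : Fin D.rank → Fˣ) / Pi.mulSingle (⟨k0, hk0⟩ : Fin D.rank) (c k ^ w.getD k.val 0) ∈
            (cartanHom F D).range := by
        intro k
        choose m hm using fun i => Int.dvd_of_emod_eq_zero (hmod k i)
        refine ⟨fun i => c k ^ m i, funext fun j => ?_⟩
        rw [hpow, Pi.div_apply]
        have hd0 : (d : ℤ) ≠ 0 := by exact_mod_cast (show d ≠ 0 by omega)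
        have hs : ∑ i : Fin D.rank, m i * D.cartan i.val (D.simple j.val) =
            (if k = j then 1 else 0) - w.getD k.val 0 * (if (⟨k0, hk0⟩ : Fin D.rank) = j then 1 else 0) := by
          apply mul_left_cancel₀ hd0
          simp only [Finset.mul_sum, ← mul_assoc, ← hm, sub_mul, Finset.sum_sub_distrib]
          rw [hB k j]
          simp only [mul_assoc, ← Finset.mul_sum]
          rw [hB ⟨k0, hk0⟩ j]
          split_ifs <;> ring
        rw [hs, zpow_sub, div_eq_mul_inv]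
        congr 1
        · by_cases h : k = j
          · subst h; simp
          · rw [if_neg h, zpow_zero, Pi.mulSingle_eq_of_ne (Ne.symm h)]
        · congr 1
          by_cases h : (⟨k0, hk0⟩ : Fin D.rank) = j
          · subst h; simp
          · rw [if_neg h, mul_zero, zpow_zero, Pi.mulSingle_eq_of_ne (Ne.symm h)]
      have hc' : c = (∏ k, (Pi.mulSingle k (c k) : Fin D.rank → Fˣ) / Pi.mulSingle (⟨k0, hk0⟩ : Fin D.rank) (c k ^ w.getD k.val 0)) *
          Pi.mulSingle (⟨k0, hk0⟩ : Fin D.rank) (z ^ d) := by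
        rw [Finset.prod_div_distrib, Finset.univ_prod_mulSingle, hz]
        conv_lhs => rw [← div_mul_cancel c (∏ k, (Pi.mulSingle (⟨k0, hk0⟩ : Fin D.rank) (c k ^ w.getD k.val 0) : Fin D.rank → Fˣ))]
        congr 1
        show _ = (Pi.mulSingle (⟨k0, hk0⟩ : Fin D.rank) (∏ k : Fin D.rank, c k ^ w.getD k.val 0) : Fin D.rank → Fˣ)
        exact (map_prod (MonoidHom.mulSingle (fun _ : Fin D.rank => Fˣ) ⟨k0, hk0⟩) (fun k => c k ^ w.getD k.val 0) Finset.univ).symm
      rw [hc']
      exact Subgroup.mul_mem _ (Subgroup.prod_mem _ fun k _ => h1 k) h0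
  rw [e, Subgroup.index_comap_of_surjective _ hsurj, IsCyclic.index_powMonoidHom_range, Nat.gcd_comm,
    Nat.card_units]

/-! ### Diagonal automorphisms and the torus -/

variable {F : Type*} [Field F] {D : ChevalleyDatum} (hG : Good D)
include hG

theorem cartan_neg_out {j r : ℕ} (hj : j < D.rank) (hr : r < D.nroots) :
    D.cartan j (D.neg r) = -D.cartan j r := by
  obtain ⟨c, hV⟩ := hG
  rw [hV.ng_eq hr, hV.A_eq hj (hV.ng_lt hr), hV.A_eq hj hr]
  exact ((hV.base'.1 r hr).2.2.2.1 j hj).1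

/-- The torus acts on root elements by its characters. -/
theorem torusHom_conj (a : Fin D.rank → Fˣ) : ∀ r < D.nroots, ∀ t : F,
    torusHom F D a * xe hG r t * (torusHom F D a)⁻¹ = xe hG r ((torusChar D a r : F) * t) := by
  rw [← Finset.univ_prod_mulSingle a]
  refine Finset.prod_induction _ (fun c => ∀ r < D.nroots, ∀ t : F,
    torusHom F D c * xe hG r t * (torusHom F D c)⁻¹ = xe hG r ((torusChar D c r : F) * t)) ?_ ?_ ?_
  · intro x y hx hy r hr t
    rw [map_mul, torusChar_mul, Units.val_mul, mul_assoc (torusChar D x r : F), ← hx r hr, ← hy r hr]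
    group
  · intro r hr t
    simp [torusChar_one]
  · intro i _ r hr t
    rw [torusHom_single hG, mul_inv_eq_iff_eq_mul]
    refine Units.ext ?_
    rw [Units.val_mul, Units.val_mul, coe_he, coe_xe, coe_xe, hG.hMat_mul_x i.2 hr (a i).ne_zero]
    congr 2
    rw [torusChar, Finset.prod_eq_single i]
    · simp
    · intro j _ hj; simp [Pi.mulSingle_eq_of_ne hj]
    · simp

theorem torusHom_mem_group (a : Fin D.rank → Fˣ) : torusHom F D a ∈ D.group F := by
  rw [← Finset.univ_prod_mulSingle a]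
  refine Finset.prod_induction _ (fun c => torusHom F D c ∈ D.group F) ?_ ?_ ?_
  · intro x y hx hy; rw [map_mul]; exact Subgroup.mul_mem _ hx hy
  · rw [map_one]; exact Subgroup.one_mem _
  · intro i _
    rw [torusHom_single hG]
    exact Subgroup.mul_mem _ (nGrp hG (D.simple i.val) _).2 (nGrp hG (D.simple i.val) (-1)).2

theorem xgrp_eq_xG (r : ℕ) (t : F) : hG.xgrp r t = xG hG r t :=
  Subtype.ext (xe_eq_xg hG r t).symm

/-- Automorphisms agreeing on fundamental root elements and their negatives are equal. -/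
theorem aut_ext_simple {φ ψ : ↥(D.group F) ≃* ↥(D.group F)}
    (hp : ∀ (i : Fin D.rank) (t : F), φ (xG hG (D.simple i) t) = ψ (xG hG (D.simple i) t))
    (hm : ∀ (i : Fin D.rank) (t : F), φ (xG hG (D.neg (D.simple i)) t) = ψ (xG hG (D.neg (D.simple i)) t)) :
    φ = ψ := by
  have h : φ.toMonoidHom = ψ.toMonoidHom := hG.hom_ext_simple
    (fun i hi t => by rw [xgrp_eq_xG]; exact hp ⟨i, hi⟩ t)
    (fun i hi t => by rw [xgrp_eq_xG]; exact hm ⟨i, hi⟩ t)
  exact MulEquiv.ext fun y => DFunLike.congr_fun h y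

/-- A diagonal automorphism scales root elements by a character. -/
theorem diag_sends (hD : D ∈ [chevG2, chevB2, chevD4, chevF4, chevE6, chevE7, chevE8])
    {d : ↥(D.group F) ≃* ↥(D.group F)} (hd : D.IsDiagonalAut d) :
    ∃ χ : ℕ → Fˣ, D.IsRootCharacter χ ∧ ∀ r < D.nroots, ∀ t : F, d (xG hG r t) = xG hG r ((χ r : F) * t) := by
  obtain ⟨χ, hχ, h⟩ := hd
  refine ⟨χ, hχ, fun r hr t => eq_xG hG ?_⟩
  rw [h, coe_xG, coe_xe]
  exact S2157.result D hD χ hχ r hr t

variable {tabs simps : List ℕ} (hf : Facts D tabs simps)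
include hf

/-- Two automorphisms acting monomially on the fundamental root elements that differ by an inner automorphism
have the same node permutation and differ by a torus element. -/
theorem torus_of_conj {w0 : List ℕ} (hw : IsLongest D tabs w0) (hn : NegTri D) {x : ↥(D.group F)}
    {θ₁ θ₂ : ↥(D.group F) ≃* ↥(D.group F)} {ρ ρ' : Equiv.Perm (Fin D.rank)} {f g f' g' : Fin D.rank → F → F}
    (h1 : ∀ i : Fin D.rank, Sends hG θ₁ (D.simple i) (D.simple (ρ i)) (f i) ∧
      Sends hG θ₁ (D.neg (D.simple i)) (D.neg (D.simple (ρ i))) (g i))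
    (h2 : ∀ i : Fin D.rank, Sends hG θ₂ (D.simple i) (D.simple (ρ' i)) (f' i) ∧
      Sends hG θ₂ (D.neg (D.simple i)) (D.neg (D.simple (ρ' i))) (g' i))
    (he : ∀ i, f i 1 ≠ 0 ∧ g i 1 ≠ 0) (he' : ∀ i, f' i 1 ≠ 0) (hx : ∀ y, θ₂ y = x * θ₁ y * x⁻¹) :
    ρ' = ρ ∧ ∃ a : Fin D.rank → Fˣ, ∀ i t, f' i t = (torusChar D a (D.simple (ρ i).val) : F) * f i t := by
  classical
  have ax := axioms (F := F) hG hf
  obtain ⟨l₀, hl₀⟩ := exists_longest (F := F) hG hf hw
  set P := data hG F with hP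
  choose τ hτ using fun j => Data.exists_simp_of_longest ax hl₀ j
  have hτinj : Function.Injective τ := fun a b hab => ax.simp_inj <| by
    have := (P.wl l₀).injective ((hτ a).trans ((congrArg P.simp hab).trans (hτ b).symm))
    simpa [ax.opp_opp] using congrArg P.opp this
  have hτsurj := (Finite.injective_iff_bijective.1 hτinj).2
  have hsimp : ∀ j, P.wl l₀ (P.simp j) = P.opp (P.simp (τ j)) := fun j => by
    rw [← hτ j, ← Data.wl_opp ax, ax.opp_opp]
  set m := P.nw l₀ with hm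
  have hxe : ∀ (i : Fin D.rank) (t : F), (x : GL D.Idx F) * xe hG (D.simple (ρ i)) (f i t) * (x : GL D.Idx F)⁻¹ =
      xe hG (D.simple (ρ' i)) (f' i t) := fun i t => by
    have h := hx (xG hG (D.simple i) t)
    rw [(h1 i).1 t, (h2 i).1 t] at h
    exact (congrArg Subtype.val h).symm
  have hxe' : ∀ (i : Fin D.rank) (t : F), (x : GL D.Idx F) * xe hG (D.neg (D.simple (ρ i))) (g i t) *
      (x : GL D.Idx F)⁻¹ = xe hG (D.neg (D.simple (ρ' i))) (g' i t) := fun i t => by
    have h := hx (xG hG (D.neg (D.simple i)) t)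
    rw [(h1 i).2 t, (h2 i).2 t] at h
    exact (congrArg Subtype.val h).symm
  have hX : ∀ (i : Fin D.rank) (t : F), xe hG (D.simple i) t ∈ P.X (P.simp i) := fun i t =>
    (mem_rootSubgroup hG (hG.simple_lt i.2)).2 ⟨t, rfl⟩
  have hxB : (x : GL D.Idx F) ∈ P.B := by
    refine Data.mem_B_of_conj_simp ax (by rw [hP, data_grp hG]; exact x.2) fun j => ?_
    obtain ⟨i, rfl⟩ := ρ.surjective j
    refine ⟨_, hX (ρ i) (f i 1), xe_ne_one hG hf (hG.simple_lt (ρ i).2) (he i).1, ?_⟩
    rw [hxe]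
    exact Data.X_simp_le_B ax _ (hX _ _)
  have hgB : m⁻¹ * (x : GL D.Idx F) * m ∈ P.B := by
    refine Data.mem_B_of_conj_simp ax ?_ fun k => ?_
    · exact P.grp.mul_mem (P.grp.mul_mem (P.grp.inv_mem (Data.N_le_grp ax (Data.nw_mem_N l₀)))
        (by rw [hP, data_grp hG]; exact x.2)) (Data.N_le_grp ax (Data.nw_mem_N l₀))
    obtain ⟨i, hi⟩ := ρ.surjective (τ k)
    set y := xe hG (D.neg (D.simple (ρ i))) (g i 1) with hy
    have hyX : y ∈ P.X (P.wl l₀ (P.simp k)) := by
      rw [hsimp, ← hi]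
      exact (mem_rootSubgroup hG (hG.neg_lt (hG.simple_lt (ρ i).2))).2 ⟨_, rfl⟩
    refine ⟨m⁻¹ * y * m, (Data.acts_nw ax l₀ _ _).1 (by simpa [hm, mul_assoc] using hyX), fun h => ?_, ?_⟩
    · refine xe_ne_one hG hf (hG.neg_lt (hG.simple_lt (ρ i).2)) (he i).2 ?_
      calc y = m * (m⁻¹ * y * m) * m⁻¹ := by group
        _ = 1 := by rw [h]; simp
    obtain ⟨k', hk'⟩ := hτsurj (ρ' i)
    have hy'X : xe hG (D.neg (D.simple (ρ' i))) (g' i 1) ∈ P.X (P.wl l₀ (P.simp k')) := by
      rw [hsimp, hk']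
      exact (mem_rootSubgroup hG (hG.neg_lt (hG.simple_lt (ρ' i).2))).2 ⟨_, rfl⟩
    refine Data.X_simp_le_B ax k' ((Data.acts_nw ax l₀ _ _).1 ?_)
    rw [← hxe'] at hy'X
    convert hy'X using 1
    rw [hy, hm]
    group
  have hxH : (x : GL D.Idx F) ∈ D.diagonalSubgroup F := by
    rw [← borel_inf_VH hG hf hn]
    refine ⟨(data_B hG hf).le hxB, ?_⟩
    obtain ⟨u, hu, h, hh, e⟩ := (Data.mem_B_iff ax).1 hgB
    have e' : (x : GL D.Idx F) = m * u * m⁻¹ * (m * h * m⁻¹) := by
      rw [show m * u * m⁻¹ * (m * h * m⁻¹) = m * (u * h) * m⁻¹ by group, ← e]; group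
    rw [e']
    refine Subgroup.mul_mem _ (Subgroup.mem_sup_left ?_)
      (Subgroup.mem_sup_right (Data.N_conj_H ax (Data.nw_mem_N l₀) hh))
    refine (show P.U ≤ (D.negUnipotent F).comap (MulAut.conj m).toMonoidHom from iSup₂_le fun r hr y hy => ?_) hu
    obtain ⟨t, ht⟩ := (mem_rootSubgroup hG (P.wl l₀ r).2).1 (((Data.acts_nw ax l₀) r y).2 hy)
    exact Subgroup.subset_closure ⟨_, t, ((hf.2.2.1 _ (P.wl l₀ r).2).2.2.1).2
      (not_le.1 fun h => (hl₀ r).1 h hr), congrArg Units.val ht⟩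
  obtain ⟨a, ha⟩ := (diagonal_eq_range hG (F := F)).le hxH
  have hxa : ∀ (i : Fin D.rank) (t : F), xe hG (D.simple (ρ' i)) (f' i t) =
      xe hG (D.simple (ρ i)) ((torusChar D a (D.simple (ρ i).val) : F) * f i t) := fun i t => by
    rw [← hxe, ← ha, torusHom_conj hG a _ (hG.simple_lt (ρ i).2)]
  have hρ : ρ' = ρ := by
    refine Equiv.ext fun i => ax.simp_inj (Fin.ext ?_)
    by_contra hne
    exact xe_ne hG hf (hG.simple_lt (ρ' i).2) (hG.simple_lt (ρ i).2) hne (he' i) _ (hxa i 1)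
  subst hρ
  exact ⟨rfl, a, fun i t => xe_inj hG hf (hG.simple_lt (ρ' i).2) (hxa i t)⟩

/-! ### The order of the outer automorphism group -/

omit hf in
/-- The order of the outer automorphism group from the graph automorphisms. -/
theorem card_out [Finite F] (hD : D ∈ [chevG2, chevB2, chevD4, chevF4, chevE6, chevE7, chevE8]) {Γ : Type*}
    (π : Γ → Equiv.Perm (Fin D.rank)) (hπ : Function.Injective π) (gr : Γ → MulAut ↥(D.group F))
    (hgr : ∀ γ (i : Fin D.rank), Sends hG (gr γ) (D.simple i) (D.simple (π γ i))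
        (fun t => t ^ D.graphExp (ringChar F) i (π γ i)) ∧
      Sends hG (gr γ) (D.neg (D.simple i)) (D.neg (D.simple (π γ i)))
        (fun t => t ^ D.graphExp (ringChar F) i (π γ i)))
    (hall : ∀ θ ρ s, IsNodeAut hG (F := F) θ ρ s → ∃ γ, π γ = ρ) (hr : 0 < D.rank) :
    Nat.card (Cfsg.Out ↥(D.group F)) = (cartanHom F D).range.index * (Nat.card Γ * Nat.card (F ≃+* F)) := by
  classical
  obtain ⟨dd, Bc, hC, hN⟩ := exists_autCerts hD
  obtain ⟨tabs, simps, w0, hf, hw⟩ := exists_facts_longest hD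
  have hn := negTri_of_mem hD
  choose dg hdg hdgx using fun c : Fin D.rank → Fˣ =>
    exists_diagAut hD hG (isRootCharacter_coefChar (F := F) hG hC c)
  choose fa hfa using fun σ : F ≃+* F => S1080.result D hD σ
  have hdgp : ∀ c (j : Fin D.rank) (t : F), dg c (xG hG (D.simple j) t) = xG hG (D.simple j) ((c j : F) * t) :=
    fun c j t => by rw [hdgx c _ (hG.simple_lt j.2), coefChar_simple hC]
  have hdgm : ∀ c (j : Fin D.rank) (t : F), dg c (xG hG (D.neg (D.simple j)) t) =
      xG hG (D.neg (D.simple j)) (((c j)⁻¹ : Fˣ) * t) := fun c j t => by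
    rw [hdgx c _ (hG.neg_lt (hG.simple_lt j.2)),
      (isRootCharacter_coefChar (F := F) hG hC c).1 _ (hG.simple_lt j.2), coefChar_simple hC]
  have hfax : ∀ (σ : F ≃+* F) r, r < D.nroots → ∀ t : F, fa σ (xG hG r t) = xG hG r (σ t) := fun σ r hr t =>
    eq_xG hG (hfa σ _ r t hr (coe_xe hG r t))
  set e : Γ → Fin D.rank → ℕ := fun γ i => D.graphExp (ringChar F) i (π γ i) with hedef
  obtain ⟨p, hp⟩ := CharP.exists F
  have hpp : p.Prime := (CharP.char_is_prime_or_zero F p).resolve_right (CharP.char_ne_zero_of_finite F p)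
  have hee : ∀ γ i, e γ i = 1 ∨ e γ i = p := fun γ i => by
    simp only [hedef, ChevalleyDatum.graphExp, ringChar.eq F p]
    split_ifs <;> simp
  set Pf : ((Fin D.rank → Fˣ) ⧸ (cartanHom F D).range) × (Γ × (F ≃+* F)) → MulAut ↥(D.group F) :=
    fun z => dg z.1.out * gr z.2.1 * fa z.2.2 with hPf
  have hsend : ∀ z (i : Fin D.rank),
      Sends hG (Pf z) (D.simple i) (D.simple (π z.2.1 i))
        (fun t => (z.1.out (π z.2.1 i) : F) * z.2.2 t ^ e z.2.1 i) ∧
      Sends hG (Pf z) (D.neg (D.simple i)) (D.neg (D.simple (π z.2.1 i)))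
        (fun t => ((z.1.out (π z.2.1 i))⁻¹ : Fˣ) * z.2.2 t ^ e z.2.1 i) := by
    intro z i
    refine ⟨fun t => ?_, fun t => ?_⟩
    · show dg _ (gr _ (fa _ _)) = _
      rw [hfax _ _ (hG.simple_lt i.2), (hgr _ i).1, hdgp]
    · show dg _ (gr _ (fa _ _)) = _
      rw [hfax _ _ (hG.neg_lt (hG.simple_lt i.2)), (hgr _ i).2, hdgm]
  rw [Subgroup.index, ← Nat.card_prod, ← Nat.card_prod]
  refine (Nat.card_congr (Equiv.ofBijective (fun z => (QuotientGroup.mk (Pf z) : Cfsg.Out ↥(D.group F))) ⟨?_, ?_⟩)).symm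
  · intro z z' h
    obtain ⟨k, hk⟩ := QuotientGroup.eq.1 h
    have hx : ∀ y, Pf z' y = Pf z k * Pf z y * (Pf z k)⁻¹ := fun y => by
      rw [eq_inv_mul_iff_mul_eq] at hk
      rw [← hk]
      show Pf z (k * y * k⁻¹) = _
      simp only [map_mul, map_inv]
    obtain ⟨hρ, a, ha⟩ := torus_of_conj hG hf hw hn (hsend z) (hsend z')
      (fun i => ⟨mul_ne_zero (Units.ne_zero _) (by simp), mul_ne_zero (Units.ne_zero _) (by simp)⟩)
      (fun i => mul_ne_zero (Units.ne_zero _) (by simp)) hx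
    obtain ⟨q, γ, σ⟩ := z
    obtain ⟨q', γ', σ'⟩ := z'
    obtain rfl : γ' = γ := hπ hρ
    simp only at ha
    have hc : ∀ j, q'.out j = cartanHom F D a j * q.out j := fun j => by
      obtain ⟨i, rfl⟩ := (π γ').surjective j
      have := ha i 1
      simp only [map_one, one_pow, mul_one] at this
      exact Units.ext (by rw [Units.val_mul, cartanHom_apply]; exact this)
    have hq : q' = q := by
      rw [← QuotientGroup.out_eq' q, ← QuotientGroup.out_eq' q', QuotientGroup.eq]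
      refine ⟨a⁻¹, funext fun j => ?_⟩
      rw [map_inv, Pi.inv_apply, Pi.mul_apply, Pi.inv_apply, hc j]
      simp [mul_comm]
    subst hq
    have hσ : ∀ t, σ' t = σ t := by
      intro t
      have hi : (0 : ℕ) < D.rank := hr
      have h1 := ha ⟨0, hi⟩ 1
      simp only [map_one, one_pow, mul_one] at h1
      have h2 := ha ⟨0, hi⟩ t
      rw [← mul_assoc, ← h1, mul_right_inj' (Units.ne_zero _)] at h2
      rcases hee γ' ⟨0, hi⟩ with he | he
      · rwa [he, pow_one, pow_one] at h2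
      · rw [he] at h2
        have := Fact.mk hpp
        exact frobenius_inj F p h2
    rw [RingEquiv.ext hσ]
  · intro θq
    obtain ⟨θ, rfl⟩ := QuotientGroup.mk_surjective θq
    obtain ⟨x, d, θ', ρ, s, hd, hθd, hθ'⟩ := exists_nodeAut hG hf hD hw hn hC hN θ
    obtain ⟨hsym, σ, hσ⟩ := field_graph hD hG hf hθ'
    obtain ⟨γ, rfl⟩ := hall θ' ρ s hθ'
    obtain ⟨χ, hχ, hdx⟩ := diag_sends hG hD hd
    set c : Fin D.rank → Fˣ := fun j => χ (D.simple j.val) with hcdef
    obtain ⟨⟨_, a, rfl⟩, ha⟩ := QuotientGroup.mk_out_eq_mul (cartanHom F D).range c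
    refine ⟨⟨(c : (Fin D.rank → Fˣ) ⧸ (cartanHom F D).range), γ, σ⟩, ?_⟩
    have h1 : θ' = gr γ * fa σ := by
      refine aut_ext_simple hG (fun i t => ?_) fun i t => ?_
      · show _ = gr γ (fa σ _)
        rw [hfax _ _ (hG.simple_lt i.2), (hgr γ i).1, (hθ' i).1, hσ]
      · show _ = gr γ (fa σ _)
        rw [hfax _ _ (hG.neg_lt (hG.simple_lt i.2)), (hgr γ i).2, (hθ' i).2, hσ]
    set k : ↥(D.group F) := ⟨torusHom F D a, torusHom_mem_group hG a⟩ with hkdef
    set q : (Fin D.rank → Fˣ) ⧸ (cartanHom F D).range := QuotientGroup.mk c with hqdef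
    have h2 : dg q.out = MulAut.conj k * d := by
      have hkx : ∀ r < D.nroots, ∀ t : F, MulAut.conj k (xG hG r t) = xG hG r ((torusChar D a r : F) * t) :=
        fun r hr t => Subtype.ext (torusHom_conj hG a r hr t)
      have hout : ∀ j, q.out j = c j * torusChar D a (D.simple j.val) := fun j => congrFun ha j
      refine aut_ext_simple hG (fun j t => ?_) fun j t => ?_
      · show _ = MulAut.conj k (d _)
        rw [hdgp, hdx _ (hG.simple_lt j.2), hkx _ (hG.simple_lt j.2), hout, Units.val_mul, hcdef]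
        congr 1
        ring
      · show _ = MulAut.conj k (d _)
        have hneg : torusChar D a (D.neg (D.simple j.val)) = (torusChar D a (D.simple j.val))⁻¹ := by
          rw [torusChar, torusChar, ← Finset.prod_inv_distrib]
          exact Finset.prod_congr rfl fun i _ => by rw [cartan_neg_out hG i.2 (hG.simple_lt j.2), zpow_neg]
        rw [hdgm, hdx _ (hG.neg_lt (hG.simple_lt j.2)), hkx _ (hG.neg_lt (hG.simple_lt j.2)), hout, hneg,
          hχ.1 _ (hG.simple_lt j.2), hcdef, mul_inv, Units.val_mul]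
        congr 1
        ring
    have h3 : θ = MulAut.conj (x * k⁻¹) * Pf ⟨q, γ, σ⟩ := by
      refine MulEquiv.ext fun y => ?_
      rw [hθd, hPf, h1]
      simp only [h2, MulAut.mul_apply, MulAut.conj_apply]
      group
    have hinn : (QuotientGroup.mk (MulAut.conj (x * k⁻¹)) : Cfsg.Out ↥(D.group F)) = 1 :=
      (QuotientGroup.eq_one_iff _).2 (MonoidHom.mem_range.2 ⟨_, rfl⟩)
    show (QuotientGroup.mk (Pf ⟨q, γ, σ⟩) : Cfsg.Out ↥(D.group F)) = QuotientGroup.mk θ
    exact (((congrArg (fun φ : MulAut ↥(D.group F) => (QuotientGroup.mk φ : Cfsg.Out ↥(D.group F))) h3).trans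
      (QuotientGroup.mk_mul _ _ _)).trans ((congrArg (· * _) hinn).trans (one_mul _))).symm

omit hG hf

theorem cokerCert_chevG2 : CokerCert chevG2 1 [[2, 3], [1, 2]] [1] 0 := by decide +kernel
theorem cokerCert_chevF4 : CokerCert chevF4 1 [[2, 3, 4, 2], [3, 6, 8, 4], [2, 4, 6, 3], [1, 2, 3, 2]] [1] 0 := by
  decide +kernel
theorem cokerCert_chevE6 : CokerCert chevE6 3 [[4, 3, 5, 6, 4, 2], [3, 6, 6, 9, 6, 3], [5, 6, 10, 12, 8, 4],
    [6, 9, 12, 18, 12, 6], [4, 6, 8, 12, 10, 5], [2, 3, 4, 6, 5, 4]] [1, 0, 2, 0, 1, 2] 0 := by decide +kernel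
theorem cokerCert_chevE7 : CokerCert chevE7 2 [[4, 4, 6, 8, 6, 4, 2], [4, 7, 8, 12, 9, 6, 3],
    [6, 8, 12, 16, 12, 8, 4], [8, 12, 16, 24, 18, 12, 6], [6, 9, 12, 18, 15, 10, 5], [4, 6, 8, 12, 10, 8, 4],
    [2, 3, 4, 6, 5, 4, 3]] [0, 1, 0, 0, 1, 0, 1] 1 := by decide +kernel
theorem cokerCert_chevE8 : CokerCert chevE8 1 [[4, 5, 7, 10, 8, 6, 4, 2], [5, 8, 10, 15, 12, 9, 6, 3],
    [7, 10, 14, 20, 16, 12, 8, 4], [10, 15, 20, 30, 24, 18, 12, 6], [8, 12, 16, 24, 20, 15, 10, 5],
    [6, 9, 12, 18, 15, 12, 8, 4], [4, 6, 8, 12, 10, 8, 6, 3], [2, 3, 4, 6, 5, 4, 3, 2]] [1] 0 := by decide +kernel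

/-- The trivial node permutation is realised by the identity automorphism. -/
theorem sends_refl {F : Type*} [Field F] {D : ChevalleyDatum} (hG : Good D) (i : Fin D.rank) :
    Sends hG (1 : MulAut ↥(D.group F)) (D.simple i) (D.simple i)
        (fun t => t ^ D.graphExp (ringChar F) i i) ∧
      Sends hG (1 : MulAut ↥(D.group F)) (D.neg (D.simple i)) (D.neg (D.simple i))
        (fun t => t ^ D.graphExp (ringChar F) i i) := by
  have e : D.graphExp (ringChar F) i i = 1 := by
    rw [ChevalleyDatum.graphExp]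
    cases D.isLong (D.simple i.val) <;> rfl
  exact ⟨fun t => by simp [e], fun t => by simp [e]⟩

end Cfsg.Agent.Chev.BNSetup
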