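import Cfsg.Agent.Lib.Chev.FieldAutFixed

/-!
# Graph symmetries of the tabulated data as conjugation by a signed permutation matrix

`graphAut G h φ` is the automorphism of the general linear group that applies `φ` to the entries and then
conjugates by the signed permutation matrix of the symmetry; it sends `x_r(t)` to `x_{ρ r}(± φ t)`, with
sign `+` for the fundamental roots and their negatives.
-/

set_option autoImplicit false

namespace Cfsg.Agent.Chev.BNSetup

open Cfsg.Lie
open scoped Matrix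

/-- A symmetry: nodes, roots, signs. -/
structure GraphTab where
  pi : List ℕ
  rho : List ℕ
  sgn : List ℤ

namespace GraphTab

variable (G : GraphTab) (D : ChevalleyDatum)

/-- The coordinate map. -/
def gIdx (idx : ℕ) : ℕ :=
  if idx < D.rank then G.pi.getD idx 0 else D.rank + G.rho.getD (idx - D.rank) 0

/-- The coordinate signs. -/
def sIdx (idx : ℕ) : ℤ := if idx < D.rank then 1 else G.sgn.getD (idx - D.rank) 1

/-- Image of a column. -/
noncomputable def colL (c : Cert) (r idx : ℕ) : Vect :=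
  (c.col r idx).map fun y => (G.gIdx D y.1, (y.2.1, 0, 0), y.2.2 * G.sIdx D y.1)

/-- Column of the image. -/
noncomputable def colR (c : Cert) (r idx : ℕ) : Vect :=
  (c.col (G.rho.getD r 0) (G.gIdx D idx)).map fun y => (y.1, (y.2.1, 0, 0), G.sIdx D idx * y.2.2)

/-- The combinatorial conditions. -/
def OK (tabs : List ℕ) : Prop :=
  (∀ i < D.rank, G.pi.getD i 0 < D.rank ∧ G.rho.getD (D.simple i) 0 = D.simple (G.pi.getD i 0)) ∧
  (∀ r < D.nroots, G.rho.getD r 0 < D.nroots ∧ G.sgn.getD r 1 * G.sgn.getD r 1 = 1 ∧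
    G.rho.getD (D.nroots - 1 - r) 0 = D.nroots - 1 - G.rho.getD r 0) ∧
  ((List.range (D.rank + D.nroots)).map (G.gIdx D)).Nodup ∧
  ∀ i < D.rank, ∀ r < D.nroots, G.rho.getD (RootBN.look (tabs.getD i 0) r) 0 =
    RootBN.look (tabs.getD (G.pi.getD i 0) 0) (G.rho.getD r 0)

instance decidableOK (tabs : List ℕ) : Decidable (G.OK D tabs) := inferInstanceAs (Decidable (_ ∧ _))

/-- The check on the columns of the fundamental root elements. -/
noncomputable def colsOK (c : Cert) : Bool :=
  allLt c.rank fun i => [c.p i, c.ng (c.p i)].all fun r =>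
    allLt (c.rank + c.nroots) fun idx => vEq (G.colL D c r idx) (G.colR D c r idx)

/-- Everything needed. -/
def Checked (tabs : List ℕ) : Prop := G.OK D tabs ∧ ∃ c, Valid D c ∧ G.colsOK D c = true

variable (F : Type*) [Field F]

/-- The signed permutation matrix. -/
def mat : Matrix D.Idx D.Idx F :=
  Matrix.of fun row col => if idxNat row = G.gIdx D (idxNat col) then (G.sIdx D (idxNat col) : F) else 0

variable {G D F}

theorem gIdx_lt {tabs : List ℕ} (h : G.OK D tabs) {idx : ℕ} (hidx : idx < D.rank + D.nroots) :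
    G.gIdx D idx < D.rank + D.nroots := by
  unfold gIdx
  split_ifs with h1
  · have := (h.1 idx h1).1; omega
  · have := (h.2.1 (idx - D.rank) (by omega)).1; omega

theorem gIdx_inj {tabs : List ℕ} (h : G.OK D tabs) {a b : ℕ} (ha : a < D.rank + D.nroots)
    (hb : b < D.rank + D.nroots) (e : G.gIdx D a = G.gIdx D b) : a = b :=
  List.inj_on_of_nodup_map h.2.2.1 (List.mem_range.2 ha) (List.mem_range.2 hb) e

theorem sIdx_sq {tabs : List ℕ} (h : G.OK D tabs) {idx : ℕ} (hidx : idx < D.rank + D.nroots) :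
    (G.sIdx D idx : F) * (G.sIdx D idx : F) = 1 := by
  unfold sIdx
  split_ifs with h1
  · simp
  · rw [← Int.cast_mul, (h.2.1 (idx - D.rank) (by omega)).2.1, Int.cast_one]

theorem transpose_mul_mat {tabs : List ℕ} (h : G.OK D tabs) : (G.mat D F)ᵀ * G.mat D F = 1 := by
  ext a b
  rw [Matrix.mul_apply]
  obtain ⟨k, hk⟩ := exists_idxNat (gIdx_lt h (idxNat_lt a))
  rw [Finset.sum_eq_single k]
  · simp only [Matrix.transpose_apply, mat, Matrix.of_apply, if_pos hk]
    by_cases hab : a = b
    · subst hab; rw [if_pos hk, sIdx_sq h (idxNat_lt a), Matrix.one_apply_eq]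
    · rw [Matrix.one_apply_ne hab, if_neg, mul_zero]
      rw [hk]
      exact fun e => hab (idxNat_injective (gIdx_inj h (idxNat_lt a) (idxNat_lt b) e))
  · intro k' _ hk'
    simp only [Matrix.transpose_apply, mat, Matrix.of_apply]
    rw [if_neg (fun e => hk' (idxNat_injective (e.trans hk.symm))), zero_mul]
  · simp

/-- The signed permutation matrix as a unit. -/
def unit {tabs : List ℕ} (h : G.OK D tabs) (F : Type*) [Field F] : GL D.Idx F :=
  ⟨G.mat D F, (G.mat D F)ᵀ, mul_eq_one_comm.1 (transpose_mul_mat h), transpose_mul_mat h⟩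

theorem mat_mulVec {tabs : List ℕ} (h : G.OK D tabs) {idx : ℕ} (hidx : idx < D.rank + D.nroots) :
    G.mat D F *ᵥ bvec D F idx = (G.sIdx D idx : F) • bvec D F (G.gIdx D idx) := by
  obtain ⟨k, rfl⟩ := exists_idxNat hidx
  rw [bvec_idxNat, Matrix.mulVec_single]
  funext row
  simp only [MulOpposite.op_one, one_smul, Matrix.col_apply, mat, Matrix.of_apply, Pi.smul_apply, bvec,
    smul_eq_mul, mul_ite, mul_one, mul_zero]

/-- The automorphism: apply `φ`, then conjugate. -/
def aut {tabs : List ℕ} (h : G.OK D tabs) (φ : F ≃+* F) : GL D.Idx F ≃* GL D.Idx F :=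
  (Units.mapEquiv φ.mapMatrix.toMulEquiv).trans (MulAut.conj (unit h F))

theorem aut_apply {tabs : List ℕ} (h : G.OK D tabs) (φ : F ≃+* F) (g : GL D.Idx F) :
    aut h φ g = unit h F * entryMap D (φ : F →+* F) g * (unit h F)⁻¹ := rfl

theorem mat_mul_x {tabs : List ℕ} (h : G.OK D tabs) {c : Cert} (hV : Valid D c) (hc : G.colsOK D c = true)
    {i : ℕ} (hi : i < D.rank) {r : ℕ} (hr : r = c.p i ∨ r = c.ng (c.p i)) (t : F) :
    G.mat D F * D.x F r t = D.x F (G.rho.getD r 0) t * G.mat D F := by
  have hrn : r < D.nroots := by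
    rcases hr with rfl | rfl
    exacts [hV.p_lt hi, hV.ng_lt (hV.p_lt hi)]
  refine ext_bvec fun idx hidx => ?_
  simp only [colsOK, allLt_iff, List.all_eq_true, hV.rank_eq, hV.nroots_eq, List.mem_cons,
    List.not_mem_nil, or_false] at hc
  have hv := vecVal_eq_of_vEq D (t := t) (u := (0 : F)) (v := (0 : F)) (hc i hi r hr idx hidx)
  rw [← Matrix.mulVec_mulVec, ← Matrix.mulVec_mulVec, hV.mulVec_bvec hrn, mat_mulVec h hidx,
    Matrix.mulVec_smul, hV.mulVec_bvec (h.2.1 r hrn).1, colSem, colSem, mulVec_list_sum, list_sum_smul]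
  simp only [vecVal, colL, colR, List.map_map, Function.comp_def, monVal, pow_zero, mul_one] at hv
  refine Eq.trans ?_ (hv.trans ?_)
  · refine congrArg List.sum (List.map_congr_left fun y hy => ?_)
    by_cases hy1 : y.1 < D.rank + D.nroots
    · rw [Matrix.mulVec_smul, mat_mulVec h hy1, smul_smul]
      congr 1
      push_cast
      ring
    · exfalso
      have hA : ∀ z ∈ c.col r idx, z.1 < D.rank + D.nroots := by
        intro z hz
        unfold Cert.col at hz
        simp only [hV.rank_eq, hV.nroots_eq] at hz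
        split_ifs at hz with h1 h2 h3 h4
        · simp only [List.mem_cons, List.not_mem_nil, or_false] at hz
          rcases hz with rfl | rfl <;> dsimp only <;> omega
        · simp only [List.mem_cons, List.not_mem_nil, or_false] at hz
          subst hz; exact hidx
        · simp only [List.cons_append, List.mem_cons, List.mem_append, List.mem_map, List.mem_range,
            List.not_mem_nil, or_false] at hz
          rcases hz with rfl | ⟨j, hj, rfl⟩ | rfl <;> dsimp only <;> omega
        · simp only [List.mem_cons, List.mem_map] at hz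
          rcases hz with rfl | ⟨q, hq, rfl⟩
          · exact hidx
          · have := hV.ent_lt hrn (mem_of_zipIdx hq)
            dsimp only; omega
      exact hy1 (hA y hy)
  · refine congrArg List.sum (List.map_congr_left fun y _ => ?_)
    rw [smul_smul]
    congr 1
    push_cast
    ring

variable {tabs simps : List ℕ}

theorem aut_xe_simple (hG : Good D) (h : G.OK D tabs) (hcol : ∃ c, Valid D c ∧ G.colsOK D c = true)
    (φ : F ≃+* F) {i : ℕ} (hi : i < D.rank) {r : ℕ} (hr : r = D.simple i ∨ r = D.neg (D.simple i)) (t : F) :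
    aut h φ (xe hG r t) = xe hG (G.rho.getD r 0) (φ t) := by
  obtain ⟨c, hV, hc⟩ := hcol
  rw [aut_apply, entryMap_xe hG, mul_inv_eq_iff_eq_mul]
  refine Units.ext ?_
  rw [Units.val_mul, Units.val_mul, coe_xe, coe_xe]
  exact mat_mul_x h hV hc hi (by rwa [hV.p_eq hi, hV.ng_eq (hV.p_lt hi)] at hr) (φ t)

theorem rho_neg {D : ChevalleyDatum} {G : GraphTab} (hf : Facts D tabs simps) (h : G.OK D tabs) {r : ℕ}
    (hr : r < D.nroots) : G.rho.getD (D.neg r) 0 = D.neg (G.rho.getD r 0) := by
  rw [neg_eq hf hr, neg_eq hf (h.2.1 r hr).1, (h.2.1 r hr).2.2]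

theorem aut_ne'_simple (hG : Good D) (hf : Facts D tabs simps) (h : G.OK D tabs)
    (hcol : ∃ c, Valid D c ∧ G.colsOK D c = true) (φ : F ≃+* F) {i : ℕ} (hi : i < D.rank) (t : F) :
    aut h φ (ne' hG (D.simple i) t) = ne' hG (D.simple (G.pi.getD i 0)) (φ t) := by
  simp only [ne', map_mul, aut_xe_simple hG h hcol φ hi (Or.inl rfl),
    aut_xe_simple hG h hcol φ hi (Or.inr rfl), rho_neg hf h (hG.simple_lt hi), (h.1 i hi).2,
    map_neg, map_inv₀]

theorem exists_aut_xe (hG : Good D) (hf : Facts D tabs simps) (h : G.OK D tabs)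
    (hcol : ∃ c, Valid D c ∧ G.colsOK D c = true) (φ : F ≃+* F) {r : ℕ} (hr : r < D.nroots) :
    ∃ e : F, e * e = 1 ∧ ∀ t : F, aut h φ (xe hG r t) = xe hG (G.rho.getD r 0) (e * φ t) := by
  refine And.right (hG.root_induction (P := fun r => r < D.nroots ∧ ∃ e : F, e * e = 1 ∧ ∀ t : F,
    aut h φ (xe hG r t) = xe hG (G.rho.getD r 0) (e * φ t)) ?_ ?_ hr)
  · intro i hi
    exact ⟨hG.simple_lt hi, 1, one_mul 1, fun t => by
      rw [one_mul]; exact aut_xe_simple hG h hcol φ hi (Or.inl rfl) t⟩
  rintro i hi s - ⟨hs, e, he, hx⟩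
  obtain ⟨a, ha, hc, -⟩ := exists_conj hG (F := F) hi hs
  obtain ⟨b, hb, hc', -⟩ := exists_conj hG (F := F) (h.1 i hi).1 (h.2.1 s hs).1
  have hrho : G.rho.getD (D.reflectRoot i s) 0 = D.reflectRoot (G.pi.getD i 0) (G.rho.getD s 0) := by
    rw [((hf.2.2.2.2.1 i hi).2.2.2.1 s hs).1,
      ((hf.2.2.2.2.1 _ (h.1 i hi).1).2.2.2.1 _ (h.2.1 s hs).1).1]
    exact h.2.2.2 i hi s hs
  refine ⟨hG.reflectRoot_lt hi hs, b * e * φ a, ?_, fun t => ?_⟩
  · have hφ : φ a * φ a = 1 := by rw [← map_mul, ha, map_one]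
    linear_combination (b * b * (φ a * φ a)) * he + (φ a * φ a) * hb + hφ
  · have h1 : xe hG (D.reflectRoot i s) t =
        ne' hG (D.simple i) 1 * xe hG s (a * t) * (ne' hG (D.simple i) 1)⁻¹ := by
      rw [hc, ← mul_assoc, ha, one_mul]
    rw [h1, map_mul, map_mul, map_inv, hx, aut_ne'_simple hG hf h hcol φ hi, map_one, hc', hrho, map_mul]
    congr 1
    ring

end GraphTab

end Cfsg.Agent.Chev.BNSetup
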