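/-
Graph symmetries as automorphisms of the Chevalley group.
-/
import Cfsg.Agent.Lib.Chev.GraphSym

set_option autoImplicit false

namespace Cfsg.Agent.Chev.BNSetup

open Cfsg.Lie

variable {D : ChevalleyDatum} {F : Type*} [Field F] {G : GraphTab} {tabs simps : List ℕ}

theorem GraphTab.rho_surj (h : G.OK D tabs) {r : ℕ} (hr : r < D.nroots) :
    ∃ s < D.nroots, G.rho.getD s 0 = r := by
  let f : Fin D.nroots → Fin D.nroots := fun s => ⟨G.rho.getD s 0, (h.2.1 s s.2).1⟩
  have hinj : Function.Injective f := fun a b e => Fin.ext (by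
    have e' : G.rho.getD a 0 = G.rho.getD b 0 := congrArg Fin.val e
    have e2 := GraphTab.gIdx_inj h (a := D.rank + a) (b := D.rank + b) (by omega) (by omega) (by
      simp only [GraphTab.gIdx, if_neg (show ¬ D.rank + (a : ℕ) < D.rank by omega),
        if_neg (show ¬ D.rank + (b : ℕ) < D.rank by omega), Nat.add_sub_cancel_left, e'])
    omega)
  obtain ⟨s, hs⟩ := (Finite.injective_iff_surjective.1 hinj) ⟨r, hr⟩
  exact ⟨s, s.2, congrArg Fin.val hs⟩

theorem GraphTab.map_group (hG : Good D) (hf : Facts D tabs simps) (h : G.OK D tabs)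
    (hcol : ∃ c, Valid D c ∧ G.colsOK D c = true) (φ : F ≃+* F) :
    (D.group F).map (GraphTab.aut h φ).toMonoidHom = D.group F := by
  rw [group_eq_closure_xe hG F, MonoidHom.map_closure]
  refine le_antisymm ((Subgroup.closure_le _).2 ?_) ((Subgroup.closure_le _).2 ?_)
  · rintro _ ⟨_, ⟨r, hr, t, rfl⟩, rfl⟩
    obtain ⟨e, -, he⟩ := GraphTab.exists_aut_xe hG hf h hcol φ hr
    exact Subgroup.subset_closure ⟨_, (h.2.1 r hr).1, _, he t⟩
  · rintro _ ⟨r, hr, t, rfl⟩
    obtain ⟨s, hs, rfl⟩ := GraphTab.rho_surj h hr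
    obtain ⟨e, he1, he⟩ := GraphTab.exists_aut_xe hG hf h hcol φ hs
    refine Subgroup.subset_closure ⟨_, ⟨s, hs, φ.symm (e * t), rfl⟩, ?_⟩
    show GraphTab.aut h φ _ = _
    rw [he, φ.apply_symm_apply, ← mul_assoc, he1, one_mul]

/-- The automorphism of the group. -/
noncomputable def GraphTab.groupAut (hG : Good D) (hf : Facts D tabs simps) (h : G.OK D tabs)
    (hcol : ∃ c, Valid D c ∧ G.colsOK D c = true) (φ : F ≃+* F) : ↥(D.group F) ≃* ↥(D.group F) :=
  ((GraphTab.aut h φ).subgroupMap (D.group F)).trans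
    (MulEquiv.subgroupCongr (GraphTab.map_group hG hf h hcol φ))

theorem GraphTab.coe_groupAut (hG : Good D) (hf : Facts D tabs simps) (h : G.OK D tabs)
    (hcol : ∃ c, Valid D c ∧ G.colsOK D c = true) (φ : F ≃+* F) (g : ↥(D.group F)) :
    ((GraphTab.groupAut hG hf h hcol φ g : ↥(D.group F)) : GL D.Idx F) = GraphTab.aut h φ g := rfl

theorem GraphTab.groupAut_simple (hG : Good D) (hf : Facts D tabs simps) (h : G.OK D tabs)
    (hcol : ∃ c, Valid D c ∧ G.colsOK D c = true) (g : ↥(D.group F)) {i : ℕ} (hi : i < D.rank) (t : F) :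
    (((g : GL D.Idx F) : Matrix D.Idx D.Idx F) = D.x F (D.simple i) t →
      ((GraphTab.groupAut hG hf h hcol (RingEquiv.refl F) g : GL D.Idx F) : Matrix D.Idx D.Idx F) =
        D.x F (D.simple (G.pi.getD i 0)) t) ∧
    (((g : GL D.Idx F) : Matrix D.Idx D.Idx F) = D.x F (D.neg (D.simple i)) t →
      ((GraphTab.groupAut hG hf h hcol (RingEquiv.refl F) g : GL D.Idx F) : Matrix D.Idx D.Idx F) =
        D.x F (D.neg (D.simple (G.pi.getD i 0))) t) := by
  constructor <;> intro hg <;> rw [GraphTab.coe_groupAut, eq_xe hG hg]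
  · rw [GraphTab.aut_xe_simple hG h hcol _ hi (Or.inl rfl), (h.1 i hi).2, coe_xe]
    rfl
  · rw [GraphTab.aut_xe_simple hG h hcol _ hi (Or.inr rfl), GraphTab.rho_neg hf h (hG.simple_lt hi),
      (h.1 i hi).2, coe_xe]
    rfl

end Cfsg.Agent.Chev.BNSetup
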