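import Cfsg.Agent.Lib.Chev.TwistE6
import Cfsg.Agent.Lib.Chev.TwistGroup
import Cfsg.Agent.Lib.Chev.TwistFrob
import Cfsg.Prelude.Def_LieTwisted

/-!
# `²E₆(q)` as the twist of `E₆`
-/

set_option autoImplicit false

namespace Cfsg.Agent.Chev.BNSetup

open Cfsg.Lie

variable {K : Type*} [Field K]

/-- The twist for `²E₆`. -/
noncomputable def tw2E6 (φ : K ≃+* K) : RootBN.Twist (data E6.good K) (Fin 48) (Fin 4) :=
  twist E6.good orbE6_ok φ

theorem tw2E6_axioms (φ : K ≃+* K) : (tw2E6 φ).Axioms :=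
  twist_axioms E6.good orbE6_ok φ facts_chevE6 negTri_chevE6 graphE6_cols

theorem Gt_eq_twistedE6 {q : ℕ} {φ : K ≃+* K} (hφ : ∀ x, φ x = x ^ q) (hinv : ∀ x, φ (φ x) = x) :
    (tw2E6 φ).Gt = twistedE6 K q := by
  have hG := E6.good
  have hx : ∀ (w : List (ℕ × K)) (g : GL chevE6.Idx K), (g : Matrix chevE6.Idx chevE6.Idx K) = chevE6.wordMat K w →
      g = (w.map fun p => xe hG p.1 p.2).prod := by
    intro w g hg
    refine Units.ext (hg.trans ?_)
    clear hg
    induction w with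
    | nil => rfl
    | cons p w ih => simp [ChevalleyDatum.wordMat, coe_xe] at ih ⊢; rw [ih]
  have hgen : ∀ w ∈ e6Words K q, (w.map fun p => xe hG p.1 p.2).prod ∈ twistedE6 K q := by
    intro w hw
    refine Subgroup.subset_closure ⟨w, hw, ?_⟩
    clear hw
    induction w with
    | nil => rfl
    | cons p w ih => simp [ChevalleyDatum.wordMat, coe_xe] at ih ⊢; rw [ih]
  refine le_antisymm (Gt_le hG orbE6_ok φ facts_chevE6 negTri_chevE6 graphE6_cols ?_) ?_
  · intro j a ha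
    fin_cases j
    · have h1 : φ (a 1) = a 1 := (ha 1 (by decide)).symm
      rw [hφ] at h1
      exact ⟨hgen [(e6p2, a 1)] (Or.inl ⟨a 1, h1, e6p2, by simp, rfl⟩),
        hgen [(e6m2, a 1)] (Or.inl ⟨a 1, h1, e6m2, by simp, rfl⟩)⟩
    · have h1 : φ (a 3) = a 3 := (ha 3 (by decide)).symm
      rw [hφ] at h1
      exact ⟨hgen [(e6p4, a 3)] (Or.inl ⟨a 3, h1, e6p4, by simp, rfl⟩),
        hgen [(e6m4, a 3)] (Or.inl ⟨a 3, h1, e6m4, by simp, rfl⟩)⟩
    · have h2 : a 4 = a 2 ^ q := by rw [← hφ]; exact ha 2 (by decide)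
      have hp := hgen [(e6p3, a 2), (e6p5, a 2 ^ q)] (Or.inr ⟨a 2, (e6p3, e6p5), by simp, rfl⟩)
      have hm := hgen [(e6m3, a 2), (e6m5, a 2 ^ q)] (Or.inr ⟨a 2, (e6m3, e6m5), by simp, rfl⟩)
      rw [← h2] at hp hm
      exact ⟨hp, hm⟩
    · have h2 : a 5 = a 0 ^ q := by rw [← hφ]; exact ha 0 (by decide)
      have hp := hgen [(e6p1, a 0), (e6p6, a 0 ^ q)] (Or.inr ⟨a 0, (e6p1, e6p6), by simp, rfl⟩)
      have hm := hgen [(e6m1, a 0), (e6m6, a 0 ^ q)] (Or.inr ⟨a 0, (e6m1, e6m6), by simp, rfl⟩)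
      rw [← h2] at hp hm
      exact ⟨hp, hm⟩
  · show Subgroup.closure _ ≤ _
    rw [Subgroup.closure_le]
    rintro g ⟨w, hw, hg⟩
    rw [hx w g hg]
    rcases hw with ⟨t, ht, r, hr, rfl⟩ | ⟨t, rs, hrs, rfl⟩
    · have h := fun j => pv_mem_Gt hG orbE6_ok φ facts_chevE6 negTri_chevE6 graphE6_cols j (a := fun _ => t)
        fun k _ => (hφ t ▸ ht).symm
      simp only [List.mem_cons, List.not_mem_nil, or_false] at hr
      rcases hr with rfl | rfl | rfl | rfl
      exacts [(h 0).1, (h 0).2, (h 1).1, (h 1).2]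
    · have e2 : φ t = t ^ q := hφ t
      have h2 := pv_mem_Gt hG orbE6_ok φ facts_chevE6 negTri_chevE6 graphE6_cols 2
        (a := fun k => if k = 2 then t else φ t) (by
          intro k hk
          rw [show orbE6.Jl 4 2 = [2, 4] from rfl] at hk
          simp only [List.mem_cons, List.not_mem_nil, or_false] at hk
          rcases hk with rfl | rfl
          · rfl
          · exact (hinv t).symm)
      have h3 := pv_mem_Gt hG orbE6_ok φ facts_chevE6 negTri_chevE6 graphE6_cols 3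
        (a := fun k => if k = 0 then t else φ t) (by
          intro k hk
          rw [show orbE6.Jl 4 3 = [0, 5] from rfl] at hk
          simp only [List.mem_cons, List.not_mem_nil, or_false] at hk
          rcases hk with rfl | rfl
          · rfl
          · exact (hinv t).symm)
      rw [← e2]
      simp only [List.mem_cons, List.not_mem_nil, or_false] at hrs
      rcases hrs with rfl | rfl | rfl | rfl
      exacts [h3.1, h3.2, h2.1, h2.2]

theorem exists_frob2 [Fintype K] {q : ℕ} (hq : IsPrimePow q) (hK : Fintype.card K = q ^ 2) :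
    ∃ φ : K ≃+* K, (∀ x, φ x = x ^ q) ∧ (tw2E6 φ).Gt = twistedE6 K q ∧ (∀ x, φ (φ x) = x) ∧
      Nat.card {x : K // φ x = x} = q := by
  obtain ⟨φ, hφ, -, hit, hcard⟩ := exists_qpow_equiv hq hK (by norm_num : 0 < 2)
  exact ⟨φ, hφ, Gt_eq_twistedE6 hφ hit, hit, hcard⟩

theorem card_X'_E6 [Fintype K] {q : ℕ} (hK : Fintype.card K = q ^ 2) {φ : K ≃+* K}
    (hinv : ∀ x, φ (φ x) = x) (hcard : Nat.card {x : K // φ x = x} = q) (j : Fin 4) :
    Nat.card ((tw2E6 φ).X' (orbE6.simpF 48 4 j)) = q ^ (orbE6.Jl 4 j).length := by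
  have h1 : ∀ j, (orbE6.Jl 4 j).length = 1 →
      Nat.card ((tw2E6 φ).X' (orbE6.simpF 48 4 j)) = q ^ (orbE6.Jl 4 j).length := fun j hj => by
    refine (card_X'_simp E6.good orbE6_ok φ facts_chevE6 negTri_chevE6 graphE6_cols j hj).trans ?_
    rw [hj, pow_one]
    exact hcard
  have h2 : ∀ j, (orbE6.Jl 4 j).length = 2 →
      Nat.card ((tw2E6 φ).X' (orbE6.simpF 48 4 j)) = q ^ (orbE6.Jl 4 j).length := fun j hj => by
    refine (card_X'_simp E6.good orbE6_ok φ facts_chevE6 negTri_chevE6 graphE6_cols j hj).trans ?_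
    rw [hj, ← hK, ← Nat.card_eq_fintype_card]
    exact Nat.card_congr (Equiv.subtypeUnivEquiv hinv)
  fin_cases j
  exacts [h1 _ rfl, h1 _ rfl, h2 _ rfl, h2 _ rfl]

end Cfsg.Agent.Chev.BNSetup
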