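/-
The orders of the outer automorphism groups of the Chevalley groups of type G₂, F₄, E₇ and E₈.
-/
import Cfsg.Agent.Lib.Chev.AutOut
import Cfsg.Agent.Lib.AutPSLOuter.Outer
import Cfsg.Agent.S1098
import Cfsg.Agent.S1099

set_option autoImplicit false

namespace Cfsg.Agent.Chev.BNSetup

open Cfsg.Lie

variable {F : Type*} [Field F] [Fintype F] {p f : ℕ} [Fact p.Prime]

theorem card_fieldAuts (hf : 1 ≤ f) (hF : Fintype.card F = p ^ f) : Nat.card (F ≃+* F) = f := by
  obtain ⟨e⟩ := AutPSLOuter.exists_fieldAut_iso (F := F) hf hF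
  rw [Nat.card_congr e.toEquiv, Nat.card_congr Multiplicative.toAdd, Nat.card_zmod]

theorem one_le_exp (hF : Fintype.card F = p ^ f) : 1 ≤ f := by
  by_contra h
  have := Fintype.one_lt_card (α := F)
  rw [hF, show f = 0 by omega, pow_zero] at this
  omega

theorem exists_root_p [CharP F p] (x : F) : ∃ y : F, y ^ p = x :=
  (Finite.injective_iff_bijective.1 (frobenius_inj F p)).2 x

theorem card_out_trivial {D : ChevalleyDatum} (hG : Good D)
    (hD : D ∈ [chevG2, chevB2, chevD4, chevF4, chevE6, chevE7, chevE8]) (hr : 0 < D.rank)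
    (hall : ∀ θ ρ s, IsNodeAut hG (F := F) θ ρ s → ρ = 1) :
    Nat.card (Cfsg.Out ↥(D.group F)) = (cartanHom F D).range.index * Nat.card (F ≃+* F) := by
  rw [card_out hG hD (fun _ : Unit => (1 : Equiv.Perm (Fin D.rank))) (fun _ _ _ => rfl) (fun _ => 1)
    (fun _ i => sends_refl hG i) (fun θ ρ s h => ⟨(), (hall θ ρ s h).symm⟩) hr]
  simp

theorem card_out_swap {D : ChevalleyDatum} (hG : Good D)
    (hD : D ∈ [chevG2, chevB2, chevD4, chevF4, chevE6, chevE7, chevE8]) (hr : 0 < D.rank)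
    (π : Equiv.Perm (Fin D.rank)) (hπ : π ≠ 1) (g : MulAut ↥(D.group F))
    (hg : ∀ i : Fin D.rank, Sends hG g (D.simple i) (D.simple (π i))
        (fun t => t ^ D.graphExp (ringChar F) i (π i)) ∧
      Sends hG g (D.neg (D.simple i)) (D.neg (D.simple (π i))) (fun t => t ^ D.graphExp (ringChar F) i (π i)))
    (hall : ∀ θ ρ s, IsNodeAut hG (F := F) θ ρ s → ρ = 1 ∨ ρ = π) :
    Nat.card (Cfsg.Out ↥(D.group F)) = (cartanHom F D).range.index * (2 * Nat.card (F ≃+* F)) := by
  rw [card_out hG hD (fun b : Bool => if b then π else 1)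
    (fun a b h => by cases a <;> cases b <;> simp_all)
    (fun b => if b then g else 1)
    (fun b i => by cases b <;> simp only [Bool.false_eq_true, if_false, if_true] <;>
      first | exact hg i | exact sends_refl hG i)
    (fun θ ρ s h => (hall θ ρ s h).elim (fun e => ⟨false, by simp [e]⟩) fun e => ⟨true, by simp [e]⟩) hr]
  simp

theorem card_out_G2 [CharP F p] (hF : Fintype.card F = p ^ f) :
    Nat.card (Cfsg.Out ↥(chevG2.group F)) = if p = 3 then 2 * f else f := by
  have hD : chevG2 ∈ [chevG2, chevB2, chevD4, chevF4, chevE6, chevE7, chevE8] := by simp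
  have hG := good_of_mem hD
  obtain ⟨tabs, simps, w0, hf', -⟩ := exists_facts_longest hD
  obtain ⟨hR, l0, l1, -, -, -, s0, s1, -⟩ := g2_aut_numbers
  have h := card_fieldAuts (one_le_exp hF) hF
  have hrc : ringChar F = p := ringChar.eq F p
  have hidx : (cartanHom F chevG2).range.index = 1 := by
    rw [index_cartanHom cokerCert_chevG2, Nat.gcd_one_left]
  split_ifs with hp
  · subst hp
    obtain ⟨α, hα⟩ := S1099.result (K := F) exists_root_p
    have hα' := fun t => (hα (xG hG g2a t) t).1 (coe_xe hG g2a t)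
    let π : Equiv.Perm (Fin chevG2.rank) := Fin.revPerm
    have hπv : ∀ i : Fin chevG2.rank, (π i).val = 1 - i.val := fun i => by
      show (Fin.rev i).val = _
      rw [Fin.val_rev]
      omega
    rw [card_out_swap hG hD (by omega) π ?_ α ?_ ?_, hidx, h, one_mul]
    · intro e
      have := hπv ⟨0, by omega⟩
      rw [e] at this
      simp at this
    · intro i
      rw [hπv, hrc]
      have hi : i.val = 0 ∨ i.val = 1 := by omega
      have n7 : chevG2.neg 7 = g2ma := by decide +kernel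
      have n6 : chevG2.neg 6 = g2mb := by decide +kernel
      have ha : g2a = 7 := rfl
      have hb : g2b = 6 := rfl
      rcases hi with hi | hi <;> rw [hi]
      · rw [graphExp_eq chevG2 3 0 (1 - 0) l0 l1, show chevG2.simple (1 - 0) = 6 from s1, s0, n7, n6]
        exact ⟨fun t => eq_xG hG ((hα _ t).1 (coe_xe hG _ t)),
          fun t => eq_xG hG ((hα _ t).2.2.1 (coe_xe hG _ t))⟩
      · rw [graphExp_eq chevG2 3 1 (1 - 1) l1 l0, show chevG2.simple (1 - 1) = 7 from s0, s1, n7, n6]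
        simp only [Bool.false_and, Bool.false_eq_true, if_false, pow_one]
        exact ⟨fun t => eq_xG hG ((hα _ t).2.1 (coe_xe hG _ t)),
          fun t => eq_xG hG ((hα _ t).2.2.2 (coe_xe hG _ t))⟩
    · intro θ ρ s hθ
      rcases two_perms _ hR ρ ρ.injective with hρ | hρ
      · exact Or.inl (Equiv.ext fun i => Fin.ext (hρ i))
      · exact Or.inr (Equiv.ext fun i => Fin.ext ((hρ i).trans (hπv i).symm))
  · rw [card_out_trivial hG hD (by omega) ?_, hidx, h, one_mul]
    intro θ ρ s hθ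
    rcases two_perms _ hR ρ ρ.injective with hρ | hρ
    · exact Equiv.ext fun i => Fin.ext (hρ i)
    · exact absurd (hrc.symm.trans (g2_char_three hG hf' hθ hρ)) hp

theorem f4_swap_char_two (hG : Good chevF4) {tabs simps : List ℕ} (hf : Facts chevF4 tabs simps)
    {θ : ↥(chevF4.group F) ≃* ↥(chevF4.group F)} {ρ : Equiv.Perm (Fin chevF4.rank)}
    {s : Fin chevF4.rank → F ≃+* F} (hθ : IsNodeAut hG θ ρ s) (hρ : ∀ i, (ρ i).val = 3 - i.val) :
    ringChar F = 2 := by
  obtain ⟨hR, -, -, -, -, -, -, -, c21, c12⟩ := f4_numbers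
  have hrel : ∀ t, s ⟨1, by omega⟩ t = s ⟨2, by omega⟩ t ^ 2 := fun t =>
    IsNodeAut.eq_pow_of_edge hG hf hθ c21 (by rw [hρ, hρ]; exact c12) (by norm_num) t
  refine ringChar_eq_two ?_
  have e := hrel (1 + 1)
  rw [map_add, map_add, map_one, map_one] at e
  linear_combination -e

theorem card_out_F4 [CharP F p] (hF : Fintype.card F = p ^ f) :
    Nat.card (Cfsg.Out ↥(chevF4.group F)) = Nat.gcd 2 p * f := by
  have hD : chevF4 ∈ [chevG2, chevB2, chevD4, chevF4, chevE6, chevE7, chevE8] := by simp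
  have hG := good_of_mem hD
  obtain ⟨tabs, simps, w0, hf', -⟩ := exists_facts_longest hD
  obtain ⟨hR, l0, l1, l2, l3, -⟩ := f4_numbers
  have h := card_fieldAuts (one_le_exp hF) hF
  have hrc : ringChar F = p := ringChar.eq F p
  have hidx : (cartanHom F chevF4).range.index = 1 := by
    rw [index_cartanHom cokerCert_chevF4, Nat.gcd_one_left]
  have hperm : ∀ θ ρ s, IsNodeAut hG (F := F) θ ρ s →
      (∀ i, (ρ i).val = i.val) ∨ ∀ i, (ρ i).val = 3 - i.val := fun θ ρ s hθ =>
    f4_perms ρ ρ.injective fun i j h => IsNodeAut.bonds_eq_zero_iff hG hf' hθ nodeComm_chevF4 h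
  by_cases hp : p = 2
  · subst hp
    obtain ⟨α, hα⟩ := S1098.result (K := F) exists_root_p (chevF4, [(3, 2), (2, 2), (1, 1), (0, 1)]) (by simp)
    let π : Equiv.Perm (Fin chevF4.rank) := Fin.revPerm
    have hπv : ∀ i : Fin chevF4.rank, (π i).val = 3 - i.val := fun i => by
      show (Fin.rev i).val = _
      rw [Fin.val_rev]
      omega
    rw [card_out_swap hG hD (by omega) π ?_ α ?_ ?_, hidx, h, one_mul, Nat.gcd_self]
    · intro e
      have := hπv ⟨0, by omega⟩
      rw [e] at this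
      simp at this
    · intro i
      have e1 : ∀ i < 4, (([(3, 2), (2, 2), (1, 1), (0, 1)] : List (ℕ × ℕ)).getD i (0, 1)) =
          (3 - i, chevF4.graphExp 2 i (3 - i)) := by decide +kernel
      rw [hπv, hrc]
      have hi : i.val < 4 := by omega
      refine ⟨fun t => eq_xG hG ?_, fun t => eq_xG hG ?_⟩
      · have := (hα (xG hG (chevF4.simple i) t) i t i.2).1 (coe_xe hG _ t)
        rw [e1 i hi] at this
        exact this
      · have := (hα (xG hG (chevF4.neg (chevF4.simple i)) t) i t i.2).2 (coe_xe hG _ t)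
        rw [e1 i hi] at this
        exact this
    · intro θ ρ s hθ
      rcases hperm θ ρ s hθ with hρ | hρ
      · exact Or.inl (Equiv.ext fun i => Fin.ext (hρ i))
      · exact Or.inr (Equiv.ext fun i => Fin.ext ((hρ i).trans (hπv i).symm))
  · rw [card_out_trivial hG hD (by omega) ?_, hidx, h, one_mul,
      (Nat.coprime_primes Nat.prime_two (Fact.out : p.Prime)).2 (Ne.symm hp), one_mul]
    intro θ ρ s hθ
    rcases hperm θ ρ s hθ with hρ | hρ
    · exact Equiv.ext fun i => Fin.ext (hρ i)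
    · exact absurd (hrc.symm.trans (f4_swap_char_two hG hf' hθ hρ)) hp

/-- Two nodes are joined. -/
def Joined (D : ChevalleyDatum) (a b : Fin D.rank) : Prop := a ≠ b ∧ D.bonds a b ≠ 0

instance decidableJoined (D : ChevalleyDatum) (a b : Fin D.rank) : Decidable (Joined D a b) :=
  inferInstanceAs (Decidable (_ ∧ _))

set_option maxRecDepth 20000 in
theorem e7_rigid : ∀ a0 a2 : Fin chevE7.rank, Joined chevE7 a0 a2 → ∀ a3, Joined chevE7 a2 a3 → a3 ≠ a0 →
    ∀ a1, Joined chevE7 a3 a1 → a1 ≠ a2 → ∀ a4, Joined chevE7 a3 a4 → a4 ≠ a2 → a4 ≠ a1 →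
    ∀ a5, Joined chevE7 a4 a5 → a5 ≠ a3 → ∀ a6, Joined chevE7 a5 a6 → a6 ≠ a4 →
    [a0.val, a1.val, a2.val, a3.val, a4.val, a5.val, a6.val] = [0, 1, 2, 3, 4, 5, 6] := by decide +kernel

set_option maxRecDepth 20000 in
theorem e8_rigid : ∀ a0 a2 : Fin chevE8.rank, Joined chevE8 a0 a2 → ∀ a3, Joined chevE8 a2 a3 → a3 ≠ a0 →
    ∀ a1, Joined chevE8 a3 a1 → a1 ≠ a2 → ∀ a4, Joined chevE8 a3 a4 → a4 ≠ a2 → a4 ≠ a1 →
    ∀ a5, Joined chevE8 a4 a5 → a5 ≠ a3 → ∀ a6, Joined chevE8 a5 a6 → a6 ≠ a4 →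
    ∀ a7, Joined chevE8 a6 a7 → a7 ≠ a5 →
    [a0.val, a1.val, a2.val, a3.val, a4.val, a5.val, a6.val, a7.val] = [0, 1, 2, 3, 4, 5, 6, 7] := by
  decide +kernel

theorem card_out_E7 [CharP F p] (hF : Fintype.card F = p ^ f) :
    Nat.card (Cfsg.Out ↥(chevE7.group F)) = Nat.gcd 2 (p ^ f - 1) * f := by
  have hD : chevE7 ∈ [chevG2, chevB2, chevD4, chevF4, chevE6, chevE7, chevE8] := by simp
  have hG := good_of_mem hD
  obtain ⟨tabs, simps, w0, hf', -⟩ := exists_facts_longest hD
  have hR : chevE7.rank = 7 := by decide +kernel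
  rw [card_out_trivial hG hD (by omega) ?_, index_cartanHom cokerCert_chevE7, card_fieldAuts (one_le_exp hF) hF,
    Nat.card_eq_fintype_card, hF]
  intro θ ρ s hθ
  let N : Fin 7 → Fin chevE7.rank := fun i => Fin.cast (show 7 = chevE7.rank by decide +kernel) i
  have hJ : ∀ a b : Fin 7, Joined chevE7 (N a) (N b) → Joined chevE7 (ρ (N a)) (ρ (N b)) := fun a b h =>
    ⟨fun e => h.1 (ρ.injective e), fun e =>
      h.2 ((IsNodeAut.bonds_eq_zero_iff hG hf' hθ nodeComm_chevE7 h.1).1 e)⟩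
  have hne : ∀ a b : Fin 7, a ≠ b → ρ (N a) ≠ ρ (N b) := fun a b h e =>
    h (Fin.cast_injective _ (ρ.injective e))
  have key := e7_rigid (ρ (N 0)) (ρ (N 2)) (hJ 0 2 (by decide +kernel)) (ρ (N 3))
    (hJ 2 3 (by decide +kernel)) (hne 3 0 (by decide)) (ρ (N 1)) (hJ 3 1 (by decide +kernel))
    (hne 1 2 (by decide)) (ρ (N 4)) (hJ 3 4 (by decide +kernel)) (hne 4 2 (by decide)) (hne 4 1 (by decide))
    (ρ (N 5)) (hJ 4 5 (by decide +kernel)) (hne 5 3 (by decide)) (ρ (N 6)) (hJ 5 6 (by decide +kernel))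
    (hne 6 4 (by decide))
  simp only [List.cons.injEq, and_true] at key
  obtain ⟨k0, k1, k2, k3, k4, k5, k6⟩ := key
  refine Equiv.ext fun i => Fin.ext ?_
  obtain ⟨j, rfl⟩ : ∃ j, N j = i := ⟨Fin.cast hR i, by simp [N]⟩
  fin_cases j <;> assumption

theorem card_out_E8 [CharP F p] (hF : Fintype.card F = p ^ f) :
    Nat.card (Cfsg.Out ↥(chevE8.group F)) = f := by
  have hD : chevE8 ∈ [chevG2, chevB2, chevD4, chevF4, chevE6, chevE7, chevE8] := by simp
  have hG := good_of_mem hD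
  obtain ⟨tabs, simps, w0, hf', -⟩ := exists_facts_longest hD
  have hR : chevE8.rank = 8 := by decide +kernel
  rw [card_out_trivial hG hD (by omega) ?_, index_cartanHom cokerCert_chevE8, card_fieldAuts (one_le_exp hF) hF,
    Nat.gcd_one_left, one_mul]
  intro θ ρ s hθ
  let N : Fin 8 → Fin chevE8.rank := fun i => Fin.cast (show 8 = chevE8.rank by decide +kernel) i
  have hJ : ∀ a b : Fin 8, Joined chevE8 (N a) (N b) → Joined chevE8 (ρ (N a)) (ρ (N b)) := fun a b h =>
    ⟨fun e => h.1 (ρ.injective e), fun e =>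
      h.2 ((IsNodeAut.bonds_eq_zero_iff hG hf' hθ nodeComm_chevE8 h.1).1 e)⟩
  have hne : ∀ a b : Fin 8, a ≠ b → ρ (N a) ≠ ρ (N b) := fun a b h e =>
    h (Fin.cast_injective _ (ρ.injective e))
  have key := e8_rigid (ρ (N 0)) (ρ (N 2)) (hJ 0 2 (by decide +kernel)) (ρ (N 3))
    (hJ 2 3 (by decide +kernel)) (hne 3 0 (by decide)) (ρ (N 1)) (hJ 3 1 (by decide +kernel))
    (hne 1 2 (by decide)) (ρ (N 4)) (hJ 3 4 (by decide +kernel)) (hne 4 2 (by decide)) (hne 4 1 (by decide))
    (ρ (N 5)) (hJ 4 5 (by decide +kernel)) (hne 5 3 (by decide)) (ρ (N 6)) (hJ 5 6 (by decide +kernel))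
    (hne 6 4 (by decide)) (ρ (N 7)) (hJ 6 7 (by decide +kernel)) (hne 7 5 (by decide))
  simp only [List.cons.injEq, and_true] at key
  obtain ⟨k0, k1, k2, k3, k4, k5, k6, k7⟩ := key
  refine Equiv.ext fun i => Fin.ext ?_
  obtain ⟨j, rfl⟩ : ∃ j, N j = i := ⟨Fin.cast hR i, by simp [N]⟩
  fin_cases j <;> assumption

end Cfsg.Agent.Chev.BNSetup
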