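import Cfsg.Agent.Lib.Chev.TwistCert
import Cfsg.Agent.Lib.Chev.CheckE6

/-!
# The twist of E6: tables and checks
-/

set_option autoImplicit false

namespace Cfsg.Agent.Chev.BNSetup

open Cfsg.Lie

/-- The symmetry. -/
def graphE6 : GraphTab :=
  ⟨[5, 1, 4, 3, 2, 0], [0, 1, 2, 5, 16, 3, 6, 17, 8, 19, 22, 11, 26, 30, 33, 35, 4, 7, 18, 9, 20, 23, 10, 21, 24, 25, 12, 27, 31, 34, 13, 28, 32, 14, 29, 15, 56, 42, 57, 39, 43, 58, 37, 40, 44, 59, 46, 47, 50, 61, 48, 51, 62, 53, 64, 67, 36, 38, 41, 45, 60, 49, 52, 63, 54, 65, 68, 55, 66, 69, 70, 71], [1, 1, 1, 1, -1, 1, 1, -1, 1, -1, -1, 1, -1, 1, -1, 1, -1, -1, 1, -1, 1, 1, -1, 1, 1, 1, -1, 1, -1, 1, 1, -1, 1, -1, 1, 1, 1, 1, -1, 1, -1, 1, 1, -1, 1, -1, 1, 1, 1, -1, 1, 1, -1, 1, -1, -1, 1, -1, 1, -1, 1, -1, -1,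 1, -1, 1, 1, -1, 1, 1, 1, 1]⟩

/-- The orbits. -/
def orbE6 : OrbTab where
  orb := [0, 1, 2, 3, 4, 3, 5, 6, 7, 8, 9, 10, 11, 12, 13, 14, 4, 6, 15, 8, 16, 17, 9, 17, 18, 19, 11, 20, 21, 22, 12, 21, 23, 13, 22, 14, 24, 25, 26, 27, 28, 29, 25, 28, 30, 31, 32, 33, 34, 35, 34, 36, 37, 38, 39, 40, 24, 26, 29, 31, 41, 35, 37, 42, 39, 43, 44, 40, 44, 45, 46, 47]
  rep := [0, 1, 2, 3, 4, 6, 7, 8, 9, 10, 11, 12, 13, 14, 15, 18, 20, 21, 24, 25, 27, 28, 29, 32, 36, 37, 38, 39, 40, 41, 44, 45, 46, 47, 48, 49, 51, 52, 53, 54, 55, 60, 63, 65, 66, 69, 70, 71]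
  J := [[1], [3], [2, 4], [0, 5]]
  simpo := [32, 27, 25, 24]
  refl := [[1, 0, 2, 3, 4, 5, 6, 10, 11, 12, 7, 8, 9, 13, 14, 15, 20, 21, 23, 32, 16, 17, 22, 18, 24, 25, 26, 33, 34, 35, 36, 37, 19, 27, 28, 29, 30, 31, 38, 39, 40, 42, 41, 43, 44, 45, 47, 46], [0, 2, 1, 3, 4, 7, 8, 5, 6, 9, 10, 11, 13, 12, 14, 16, 15, 17, 19, 18, 20, 22, 21, 27, 24, 28, 29, 23, 25, 26, 30, 31, 33, 32, 34, 35, 38, 39, 36, 37, 40, 41, 43, 42, 44, 46, 45, 47], [0, 1, 5, 3, 6, 2, 4, 7, 9, 8, 10, 12, 11, 14, 13, 15, 18, 17, 16, 19, 23, 21, 25, 20, 26, 22, 24, 30, 28, 31, 27, 29, 32, 36, 34, 37, 33, 35, 38, 40, 39, 41, 42, 45, 44, 43, 46, 47], [0, 1, 2, 4, 3, 15, 6, 16, 8, 17, 20, 11, 21, 22, 24, 5, 7, 9, 18, 19, 10, 12, 13, 23, 14, 26, 25, 27, 29, 28, 41, 31, 32, 33, 35, 34, 42,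 37, 43, 39, 44, 30, 36, 38, 40, 45, 46, 47]]
  reach := [([0, 1, 2, 3, 1, 2, 1, 0], 0), ([1, 2, 3, 1, 2, 1, 0], 0), ([2, 3, 1, 2, 1, 0], 0), ([3, 2, 1, 2, 3, 0, 1, 2], 2), ([2, 1, 2, 3, 0, 1, 2], 2), ([3, 1, 2, 1, 0], 0), ([1, 2, 3, 0, 1, 2], 2), ([3, 2, 1, 0], 0), ([2, 3, 0, 1, 2], 2), ([3, 0, 1, 2], 2), ([3, 2, 1], 1), ([2, 3, 1, 2], 2), ([3, 1, 2], 2), ([3, 2], 2), ([3], 3), ([1, 2, 1, 0], 0), ([2, 1, 0], 0), ([0, 1, 2], 2), ([1, 0], 0), ([0], 0), ([2, 1], 1), ([1, 2], 2), ([2], 2), ([1], 1), ([], 3), ([], 2), ([3], 2), ([], 1), ([1], 2), ([3, 1], 2), ([2], 1), ([2, 3, 1], 2), ([], 0), ([1], 0), ([0, 1], 2), ([3, 0, 1], 2), ([2, 1], 0), ([2, 3, 0, 1], 2), ([1, 2, 1], 0), ([1, 2, 3, 0, 1], 2), ([2, 1, 2, 3, 0, 1], 2), ([3, 2], 1), ([3, 2, 1], 0), ([3,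 1, 2, 1], 0), ([3, 2, 1, 2, 3, 0, 1], 2), ([2, 3, 1, 2, 1], 0), ([1, 2, 3, 1, 2, 1], 0), ([0, 1, 2, 3, 1, 2, 1], 0)]
  cov := [[1, 0, 2, 1, 0, 2, 1, 2, 3, 2, 1, 0, 2, 1, 2, 3, 2, 1, 0, 2, 1, 2, 3], [0, 1, 2, 1, 0, 2, 1, 2, 3, 2, 1, 0, 2, 1, 2, 3, 2, 1, 0, 2, 1, 2, 3], [0, 1, 0, 2, 1, 0, 2, 1, 3, 2, 1, 0, 2, 1, 2, 3, 2, 1, 0, 2, 1, 2, 3], [0, 1, 0, 2, 1, 0, 2, 1, 2, 3, 2, 1, 0, 2, 1, 2, 3, 2, 1, 0, 2, 1, 2]]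

theorem orbE6_ok : orbE6.OK 48 4 chevE6 graphE6 WeylTab.tabsE6 WeylTab.simpsE6 := by decide +kernel

theorem graphE6_cols : ∃ c, Valid chevE6 c ∧ graphE6.colsOK chevE6 c = true :=
  ⟨E6.cert, E6.valid, by decide +kernel⟩

end Cfsg.Agent.Chev.BNSetup
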