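/-
The order of the outer automorphism group of E6.
-/
import Cfsg.Agent.Lib.Chev.AutOutCounts
import Cfsg.Agent.Lib.Chev.GraphAut
import Cfsg.Agent.Lib.Chev.TwistE6

set_option autoImplicit false

namespace Cfsg.Agent.Chev.BNSetup

open Cfsg.Lie

set_option maxRecDepth 20000 in
theorem e6_rigid : ∀ a0 a2 : Fin chevE6.rank, Joined chevE6 a0 a2 → ∀ a3, Joined chevE6 a2 a3 → a3 ≠ a0 →
    ∀ a1, Joined chevE6 a3 a1 → a1 ≠ a2 → ∀ a4, Joined chevE6 a3 a4 → a4 ≠ a2 → a4 ≠ a1 →
    ∀ a5, Joined chevE6 a4 a5 → a5 ≠ a3 →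
    [a0.val, a1.val, a2.val, a3.val, a4.val, a5.val] = [0, 1, 2, 3, 4, 5] ∨
      [a0.val, a1.val, a2.val, a3.val, a4.val, a5.val] = [5, 1, 4, 3, 2, 0] := by decide +kernel

theorem e6_isLong : ∀ i < chevE6.rank, chevE6.isLong (chevE6.simple i) = false := by decide +kernel

theorem graphE6_ok : graphE6.OK chevE6 WeylTab.tabsE6 := by decide +kernel

/-- The involution of the diagram. -/
def piE6 : Equiv.Perm (Fin chevE6.rank) :=
  Function.Involutive.toPerm (fun i => ⟨graphE6.pi.getD i.val 0, (graphE6_ok.1 i.val i.2).1⟩) fun i => Fin.ext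
    ((by decide +kernel : ∀ j < chevE6.rank, graphE6.pi.getD (graphE6.pi.getD j 0) 0 = j) i.val i.2)

theorem piE6_val (i : Fin chevE6.rank) : (piE6 i).val = [5, 1, 4, 3, 2, 0].getD i.val 0 := rfl

variable {F : Type*} [Field F] [Fintype F] {p f : ℕ} [Fact p.Prime]

theorem card_out_E6 [CharP F p] (hF : Fintype.card F = p ^ f) :
    Nat.card (Cfsg.Out ↥(chevE6.group F)) = 2 * Nat.gcd 3 (p ^ f - 1) * f := by
  have hD : chevE6 ∈ [chevG2, chevB2, chevD4, chevF4, chevE6, chevE7, chevE8] := by simp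
  have hG := good_of_mem hD
  obtain ⟨tabs, simps, w0, hf', -⟩ := exists_facts_longest hD
  have hR : chevE6.rank = 6 := by decide +kernel
  have hexp : ∀ i j : Fin chevE6.rank, chevE6.graphExp (ringChar F) i j = 1 := fun i j => by
    rw [ChevalleyDatum.graphExp, e6_isLong j.val j.2]
    rfl
  rw [card_out_swap hG hD (by omega) piE6 ?_
    (GraphTab.groupAut hG facts_chevE6 graphE6_ok graphE6_cols (RingEquiv.refl F)) ?_ ?_,
    index_cartanHom cokerCert_chevE6, card_fieldAuts (one_le_exp hF) hF, Nat.card_eq_fintype_card, hF]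
  · ring
  · intro e
    have := congrArg (fun g : Equiv.Perm (Fin chevE6.rank) => (g ⟨0, by omega⟩).val) e
    simp [piE6_val] at this
  · intro i
    refine ⟨fun t => eq_xG hG ?_, fun t => eq_xG hG ?_⟩
    · simp only [hexp, pow_one]
      exact (GraphTab.groupAut_simple hG facts_chevE6 graphE6_ok graphE6_cols (xG hG (chevE6.simple i) t)
        i.2 t).1 (coe_xe hG _ t)
    · simp only [hexp, pow_one]
      exact (GraphTab.groupAut_simple hG facts_chevE6 graphE6_ok graphE6_cols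
        (xG hG (chevE6.neg (chevE6.simple i)) t) i.2 t).2 (coe_xe hG _ t)
  · intro θ ρ s hθ
    let N : Fin 6 → Fin chevE6.rank := fun i => Fin.cast (show 6 = chevE6.rank by decide +kernel) i
    have hJ : ∀ a b : Fin 6, Joined chevE6 (N a) (N b) → Joined chevE6 (ρ (N a)) (ρ (N b)) := fun a b h =>
      ⟨fun e => h.1 (ρ.injective e), fun e =>
        h.2 ((IsNodeAut.bonds_eq_zero_iff hG hf' hθ nodeComm_chevE6 h.1).1 e)⟩
    have hne : ∀ a b : Fin 6, a ≠ b → ρ (N a) ≠ ρ (N b) := fun a b h e =>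
      h (Fin.cast_injective _ (ρ.injective e))
    have key := e6_rigid (ρ (N 0)) (ρ (N 2)) (hJ 0 2 (by decide +kernel)) (ρ (N 3))
      (hJ 2 3 (by decide +kernel)) (hne 3 0 (by decide)) (ρ (N 1)) (hJ 3 1 (by decide +kernel))
      (hne 1 2 (by decide)) (ρ (N 4)) (hJ 3 4 (by decide +kernel)) (hne 4 2 (by decide)) (hne 4 1 (by decide))
      (ρ (N 5)) (hJ 4 5 (by decide +kernel)) (hne 5 3 (by decide))
    rcases key with key | key <;> simp only [List.cons.injEq, and_true] at key <;>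
      obtain ⟨k0, k1, k2, k3, k4, k5⟩ := key
    · left
      refine Equiv.ext fun i => Fin.ext ?_
      obtain ⟨j, rfl⟩ : ∃ j, N j = i := ⟨Fin.cast hR i, by simp [N]⟩
      fin_cases j <;> assumption
    · right
      refine Equiv.ext fun i => Fin.ext ?_
      obtain ⟨j, rfl⟩ : ∃ j, N j = i := ⟨Fin.cast hR i, by simp [N]⟩
      rw [piE6_val]
      fin_cases j <;> assumption

end Cfsg.Agent.Chev.BNSetup
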