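/-
The outer automorphism group modulo diagonal and field automorphisms: the node permutation homomorphism.
-/
import Cfsg.Agent.Lib.Chev.AutOutCounts

set_option autoImplicit false

namespace Cfsg.Agent.Chev.BNSetup

open Cfsg.Lie

variable {F : Type*} [Field F] {D : ChevalleyDatum} (hG : Good D)
include hG

/-- The automorphism is, up to an inner one, monomial on the fundamental root subgroups with node permutation `ρ`. -/
def HasPerm (θ : MulAut ↥(D.group F)) (ρ : Equiv.Perm (Fin D.rank)) : Prop :=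
  ∃ (x : ↥(D.group F)) (θ' : ↥(D.group F) ≃* ↥(D.group F)) (f g : Fin D.rank → F → F),
    (∀ i : Fin D.rank, Sends hG θ' (D.simple i) (D.simple (ρ i)) (f i) ∧
      Sends hG θ' (D.neg (D.simple i)) (D.neg (D.simple (ρ i))) (g i)) ∧
    ∀ y, θ y = x * θ' y * x⁻¹

theorem HasPerm.mul {θ₁ θ₂ : MulAut ↥(D.group F)} {ρ₁ ρ₂ : Equiv.Perm (Fin D.rank)}
    (h₁ : HasPerm hG θ₁ ρ₁) (h₂ : HasPerm hG θ₂ ρ₂) : HasPerm hG (θ₁ * θ₂) (ρ₁ * ρ₂) := by
  obtain ⟨x₁, a, f₁, g₁, ha, e₁⟩ := h₁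
  obtain ⟨x₂, b, f₂, g₂, hb, e₂⟩ := h₂
  refine ⟨x₁ * a x₂, b.trans a, fun i t => f₁ (ρ₂ i) (f₂ i t), fun i t => g₁ (ρ₂ i) (g₂ i t),
    fun i => ⟨fun t => ?_, fun t => ?_⟩, fun y => ?_⟩
  · rw [MulEquiv.trans_apply, (hb i).1 t, (ha (ρ₂ i)).1]
    rfl
  · rw [MulEquiv.trans_apply, (hb i).2 t, (ha (ρ₂ i)).2]
    rfl
  · show θ₁ (θ₂ y) = _
    rw [e₂, e₁, MulEquiv.trans_apply, map_mul, map_mul, map_inv]
    group

theorem hasPerm_conj (x : ↥(D.group F)) : HasPerm hG (MulAut.conj x) 1 :=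
  ⟨x, MulEquiv.refl _, fun _ t => t, fun _ t => t, fun _ => ⟨fun _ => rfl, fun _ => rfl⟩, fun _ => rfl⟩

theorem hasPerm_diag (hD : D ∈ [chevG2, chevB2, chevD4, chevF4, chevE6, chevE7, chevE8])
    {d : MulAut ↥(D.group F)} (hd : D.IsDiagonalAut d) : HasPerm hG d 1 := by
  obtain ⟨χ, -, h⟩ := diag_sends hG hD hd
  exact ⟨1, d, _, _, fun i => ⟨fun t => h _ (hG.simple_lt i.2) t, fun t => h _ (hG.neg_lt (hG.simple_lt i.2)) t⟩,
    fun y => by simp⟩

theorem field_sends {φ : ↥(D.group F) ≃* ↥(D.group F)} {σ : F ≃+* F}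
    (h : ∀ (g : ↥(D.group F)) (r : ℕ) (t : F), r < D.nroots →
      ((g : GL D.Idx F) : Matrix D.Idx D.Idx F) = D.x F r t →
        ((φ g : GL D.Idx F) : Matrix D.Idx D.Idx F) = D.x F r (σ t)) {r : ℕ} (hr : r < D.nroots) :
    Sends hG φ r r σ := fun t => eq_xG hG (h _ r t hr (coe_xe hG r t))

theorem hasPerm_field {φ : MulAut ↥(D.group F)} (hφ : D.IsFieldAut φ) : HasPerm hG φ 1 := by
  obtain ⟨σ, h⟩ := hφ
  exact ⟨1, φ, fun _ => σ, fun _ => σ,
    fun i => ⟨field_sends hG h (hG.simple_lt i.2), field_sends hG h (hG.neg_lt (hG.simple_lt i.2))⟩,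
    fun y => by simp⟩

/-- The diagonal automorphisms of the fundamental characters multiply by adding characters. -/
theorem diag_commute (hD : D ∈ [chevG2, chevB2, chevD4, chevF4, chevE6, chevE7, chevE8])
    {a b : MulAut ↥(D.group F)} (ha : D.IsDiagonalAut a) (hb : D.IsDiagonalAut b) : a * b = b * a := by
  obtain ⟨χ, -, h⟩ := diag_sends hG hD ha
  obtain ⟨ψ, -, k⟩ := diag_sends hG hD hb
  refine aut_ext_simple hG (fun i t => ?_) fun i t => ?_
  · show a (b _) = b (a _)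
    rw [k _ (hG.simple_lt i.2), h _ (hG.simple_lt i.2), h _ (hG.simple_lt i.2), k _ (hG.simple_lt i.2),
      mul_left_comm]
  · show a (b _) = b (a _)
    rw [k _ (hG.neg_lt (hG.simple_lt i.2)), h _ (hG.neg_lt (hG.simple_lt i.2)),
      h _ (hG.neg_lt (hG.simple_lt i.2)), k _ (hG.neg_lt (hG.simple_lt i.2)), mul_left_comm]

variable (hD : D ∈ [chevG2, chevB2, chevD4, chevF4, chevE6, chevE7, chevE8])
include hD

theorem HasPerm.unique {θ : MulAut ↥(D.group F)} {ρ ρ' : Equiv.Perm (Fin D.rank)}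
    (h : HasPerm hG θ ρ) (h' : HasPerm hG θ ρ') : ρ' = ρ := by
  obtain ⟨tabs, simps, w0, hf, hw⟩ := exists_facts_longest hD
  obtain ⟨x₁, a, f₁, g₁, ha, e₁⟩ := h
  obtain ⟨x₂, b, f₂, g₂, hb, e₂⟩ := h'
  have hne : ∀ (c : ↥(D.group F) ≃* ↥(D.group F)) (r r' : ℕ) (u : F → F), r < D.nroots → r' < D.nroots →
      Sends hG c r r' u → u 1 ≠ 0 := by
    intro c r r' u hr hr' hs h0
    have h1 := hs 1
    rw [h0, show xG hG r' (0 : F) = 1 from Subtype.ext (xe_zero hG hr'), MulEquiv.map_eq_one_iff] at h1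
    exact xe_ne_one hG hf hr one_ne_zero (congrArg Subtype.val h1)
  exact (torus_of_conj hG hf hw (negTri_of_mem hD) ha hb
    (fun i => ⟨hne a _ _ _ (hG.simple_lt i.2) (hG.simple_lt (ρ i).2) (ha i).1,
      hne a _ _ _ (hG.neg_lt (hG.simple_lt i.2)) (hG.neg_lt (hG.simple_lt (ρ i).2)) (ha i).2⟩)
    (fun i => hne b _ _ _ (hG.simple_lt i.2) (hG.simple_lt (ρ' i).2) (hb i).1)
    (x := x₂⁻¹ * x₁) fun y => by
      have := (e₁ y).symm.trans (e₂ y)
      rw [mul_inv_rev, inv_inv, show x₂⁻¹ * x₁ * a y * (x₁⁻¹ * x₂) = x₂⁻¹ * (x₁ * a y * x₁⁻¹) * x₂ by group, this]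
      group).1

variable [Finite F]

/-- Every automorphism: inner, diagonal, then a node automorphism with its field and graph parts. -/
theorem exists_decomp (θ : MulAut ↥(D.group F)) :
    ∃ (x : ↥(D.group F)) (d θ' : MulAut ↥(D.group F)) (ρ : Equiv.Perm (Fin D.rank)) (s : Fin D.rank → F ≃+* F)
      (σ : F ≃+* F), D.IsDiagonalAut d ∧ θ = MulAut.conj x * d * θ' ∧ IsNodeAut hG θ' ρ s ∧
        D.IsDiagramSymmetry ρ ∧ ∀ i t, s i t = σ t ^ D.graphExp (ringChar F) i (ρ i) := by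
  obtain ⟨tabs, simps, w0, hf, hw⟩ := exists_facts_longest hD
  obtain ⟨dd, Bc, hC, hN⟩ := exists_autCerts hD
  obtain ⟨x, d, θ', ρ, s, hd, hθ, hθ'⟩ := exists_nodeAut hG hf hD hw (negTri_of_mem hD) hC hN θ
  obtain ⟨hsym, σ, hσ⟩ := field_graph hD hG hf hθ'
  exact ⟨x, d, θ', ρ, s, σ, hd, MulEquiv.ext hθ, hθ', hsym, hσ⟩

theorem exists_hasPerm (θ : MulAut ↥(D.group F)) :
    ∃ ρ, D.IsDiagramSymmetry ρ ∧ HasPerm hG θ ρ := by
  obtain ⟨x, d, θ', ρ, s, σ, hd, rfl, hθ', hsym, -⟩ := exists_decomp hG hD θ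
  refine ⟨ρ, hsym, ?_⟩
  have := ((hasPerm_conj hG x).mul hG (hasPerm_diag hG hD hd)).mul hG
    (⟨1, θ', fun i => s i, fun i => s i, hθ', fun y => by simp⟩ : HasPerm hG θ' ρ)
  simpa using this

/-- The node permutation of an automorphism. -/
noncomputable def nodePerm : MulAut ↥(D.group F) →* Equiv.Perm (Fin D.rank) where
  toFun θ := (exists_hasPerm hG hD θ).choose
  map_one' := HasPerm.unique hG hD (by simpa using hasPerm_conj hG (1 : ↥(D.group F)))
    (exists_hasPerm hG hD 1).choose_spec.2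
  map_mul' a b := HasPerm.unique hG hD
    ((exists_hasPerm hG hD a).choose_spec.2.mul hG (exists_hasPerm hG hD b).choose_spec.2)
    (exists_hasPerm hG hD (a * b)).choose_spec.2

theorem nodePerm_eq {θ : MulAut ↥(D.group F)} {ρ : Equiv.Perm (Fin D.rank)} (h : HasPerm hG θ ρ) :
    nodePerm hG hD θ = ρ :=
  HasPerm.unique hG hD h (exists_hasPerm hG hD θ).choose_spec.2

theorem nodePerm_symm (θ : MulAut ↥(D.group F)) : D.IsDiagramSymmetry (nodePerm hG hD θ) :=
  (exists_hasPerm hG hD θ).choose_spec.1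

/-- The field automorphisms as a homomorphism. -/
noncomputable def fieldHom : (F ≃+* F) →* MulAut ↥(D.group F) where
  toFun σ := (S1080.result D hD σ).choose
  map_one' := aut_ext_simple hG
    (fun i t => field_sends hG (S1080.result D hD (1 : F ≃+* F)).choose_spec (hG.simple_lt i.2) t)
    fun i t => field_sends hG (S1080.result D hD (1 : F ≃+* F)).choose_spec (hG.neg_lt (hG.simple_lt i.2)) t
  map_mul' a b := by
    refine aut_ext_simple hG (fun i t => ?_) fun i t => ?_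
    · show _ = (S1080.result D hD a).choose ((S1080.result D hD b).choose _)
      rw [field_sends hG (S1080.result D hD (a * b)).choose_spec (hG.simple_lt i.2),
        field_sends hG (S1080.result D hD b).choose_spec (hG.simple_lt i.2),
        field_sends hG (S1080.result D hD a).choose_spec (hG.simple_lt i.2)]
      rfl
    · show _ = (S1080.result D hD a).choose ((S1080.result D hD b).choose _)
      rw [field_sends hG (S1080.result D hD (a * b)).choose_spec (hG.neg_lt (hG.simple_lt i.2)),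
        field_sends hG (S1080.result D hD b).choose_spec (hG.neg_lt (hG.simple_lt i.2)),
        field_sends hG (S1080.result D hD a).choose_spec (hG.neg_lt (hG.simple_lt i.2))]
      rfl

theorem closure_fieldAut :
    Subgroup.closure {φ : MulAut ↥(D.group F) | D.IsFieldAut φ} = (fieldHom hG hD).range := by
  refine le_antisymm ((Subgroup.closure_le _).2 ?_) ?_
  · rintro φ ⟨σ, h⟩
    refine ⟨σ, aut_ext_simple hG (fun i t => ?_) fun i t => ?_⟩
    · rw [field_sends hG h (hG.simple_lt i.2)]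
      exact field_sends hG (S1080.result D hD σ).choose_spec (hG.simple_lt i.2) t
    · rw [field_sends hG h (hG.neg_lt (hG.simple_lt i.2))]
      exact field_sends hG (S1080.result D hD σ).choose_spec (hG.neg_lt (hG.simple_lt i.2)) t
  · rintro _ ⟨σ, rfl⟩
    exact Subgroup.subset_closure ⟨σ, (S1080.result D hD σ).choose_spec⟩

/-- Conjugation carries diagonal automorphisms to diagonal ones modulo inner ones. -/
theorem conj_diag (θ : MulAut ↥(D.group F)) {d : MulAut ↥(D.group F)} (hd : D.IsDiagonalAut d) :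
    ∃ (y : ↥(D.group F)) (d' : MulAut ↥(D.group F)),
      D.IsDiagonalAut d' ∧ θ * d * θ⁻¹ = MulAut.conj y * d' := by
  obtain ⟨x, d₀, θ', ρ, s, σ, hd₀, rfl, hθ', -, -⟩ := exists_decomp hG hD θ
  obtain ⟨dd, Bc, hC, -⟩ := exists_autCerts hD
  obtain ⟨χ, hχ, hdx⟩ := diag_sends hG hD hd
  let c : Fin D.rank → Fˣ := fun j => Units.map (s (ρ.symm j) : F →* F) (χ (D.simple (ρ.symm j).val))
  obtain ⟨d', hd', hd'x⟩ := exists_diagAut hD hG (isRootCharacter_coefChar (F := F) hG hC c)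
  have h : θ' * d = d' * θ' := by
    refine aut_ext_simple hG (fun i t => ?_) fun i t => ?_
    · show θ' (d _) = d' (θ' _)
      rw [hdx _ (hG.simple_lt i.2), (hθ' i).1, (hθ' i).1, hd'x _ (hG.simple_lt (ρ i).2), coefChar_simple hC,
        map_mul]
      simp [c]
    · show θ' (d _) = d' (θ' _)
      rw [hdx _ (hG.neg_lt (hG.simple_lt i.2)), (hθ' i).2, (hθ' i).2,
        hd'x _ (hG.neg_lt (hG.simple_lt (ρ i).2)),
        (isRootCharacter_coefChar (F := F) hG hC c).1 _ (hG.simple_lt (ρ i).2), coefChar_simple hC,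
        hχ.1 _ (hG.simple_lt i.2), map_mul]
      simp [c, Units.val_inv_eq_inv_val, map_inv₀]
  refine ⟨x * d' x⁻¹, d', hd', ?_⟩
  have hc : d₀ * d' * d₀⁻¹ = d' := by
    rw [diag_commute hG hD hd₀ hd', mul_inv_cancel_right]
  calc MulAut.conj x * d₀ * θ' * d * (MulAut.conj x * d₀ * θ')⁻¹
      = MulAut.conj x * (d₀ * (θ' * d * θ'⁻¹) * d₀⁻¹) * (MulAut.conj x)⁻¹ := by group
    _ = MulAut.conj x * d' * (MulAut.conj x)⁻¹ := by rw [h, mul_inv_cancel_right, hc]
    _ = MulAut.conj (x * d' x⁻¹) * d' := MulEquiv.ext fun z => by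
      simp [MulAut.mul_apply, MulAut.conj_apply, MulAut.conj_inv_apply, mul_assoc]

theorem ker_nodePerm : (nodePerm (F := F) hG hD).ker ≤ Cfsg.Inn ↥(D.group F) ⊔
    (Subgroup.closure {φ : MulAut ↥(D.group F) | D.IsDiagonalAut φ} ⊔
      Subgroup.closure {φ : MulAut ↥(D.group F) | D.IsFieldAut φ}) := by
  intro θ hθ
  obtain ⟨x, d, θ', ρ, s, σ, hd, rfl, hθ', -, hσ⟩ := exists_decomp hG hD θ
  have hρ : ρ = 1 := by
    have h := ((hasPerm_conj hG x).mul hG (hasPerm_diag hG hD hd)).mul hG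
      (⟨1, θ', fun i => s i, fun i => s i, hθ', fun y => by simp⟩ : HasPerm hG θ' ρ)
    rw [one_mul, one_mul] at h
    exact (nodePerm_eq hG hD h).symm.trans hθ
  subst hρ
  have he : ∀ i : Fin D.rank, D.graphExp (ringChar F) i i = 1 := fun i => by
    rw [ChevalleyDatum.graphExp]
    cases D.isLong (D.simple i.val) <;> rfl
  have hfe : θ' = fieldHom hG hD σ := by
    refine aut_ext_simple hG (fun i t => ?_) fun i t => ?_
    · rw [(hθ' i).1, hσ]
      simp only [Equiv.Perm.coe_one, id_eq, he, pow_one]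
      exact (field_sends hG (S1080.result D hD σ).choose_spec (hG.simple_lt i.2) t).symm
    · rw [(hθ' i).2, hσ]
      simp only [Equiv.Perm.coe_one, id_eq, he, pow_one]
      exact (field_sends hG (S1080.result D hD σ).choose_spec (hG.neg_lt (hG.simple_lt i.2)) t).symm
  refine Subgroup.mul_mem _ (Subgroup.mul_mem _ (Subgroup.mem_sup_left ⟨x, rfl⟩)
    (Subgroup.mem_sup_right (Subgroup.mem_sup_left (Subgroup.subset_closure hd)))) ?_
  refine Subgroup.mem_sup_right (Subgroup.mem_sup_right ?_)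
  rw [hfe, closure_fieldAut hG hD]
  exact ⟨σ, rfl⟩

theorem le_ker_nodePerm : Cfsg.Inn ↥(D.group F) ⊔
    (Subgroup.closure {φ : MulAut ↥(D.group F) | D.IsDiagonalAut φ} ⊔
      Subgroup.closure {φ : MulAut ↥(D.group F) | D.IsFieldAut φ}) ≤ (nodePerm (F := F) hG hD).ker := by
  refine sup_le ?_ (sup_le ((Subgroup.closure_le _).2 ?_) ((Subgroup.closure_le _).2 ?_))
  · rintro _ ⟨x, rfl⟩
    exact nodePerm_eq hG hD (hasPerm_conj hG x)
  · exact fun φ hφ => nodePerm_eq hG hD (hasPerm_diag hG hD hφ)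
  · exact fun φ hφ => nodePerm_eq hG hD (hasPerm_field hG hφ)

end Cfsg.Agent.Chev.BNSetup
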