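import Cfsg.Agent.Lib.Chev.TwistCert
import Cfsg.Agent.Lib.Chev.CheckD4

/-!
# The twist of D4: tables and checks
-/

set_option autoImplicit false

namespace Cfsg.Agent.Chev.BNSetup

open Cfsg.Lie

/-- The symmetry. -/
def graphD4 : GraphTab :=
  ⟨[2, 1, 3, 0], [0, 1, 6, 2, 7, 10, 3, 8, 4, 9, 11, 5, 18, 12, 14, 19, 15, 20, 13, 16, 21, 17, 22, 23], [1, 1, -1, 1, -1, 1, -1, 1, -1, 1, 1, 1, 1, 1, 1, -1, 1, -1, 1, -1, 1, -1, 1, 1]⟩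

/-- The orbits. -/
def orbD4 : OrbTab where
  orb := [0, 1, 2, 2, 3, 4, 2, 3, 3, 5, 4, 4, 6, 6, 7, 8, 8, 9, 6, 8, 9, 9, 10, 11]
  rep := [0, 1, 2, 4, 5, 9, 12, 14, 15, 17, 22, 23]
  J := [[1], [0, 2, 3]]
  simpo := [7, 6]
  refl := [[1, 0, 2, 4, 3, 7, 8, 5, 6, 9, 11, 10], [0, 5, 3, 2, 6, 1, 4, 10, 9, 8, 7, 11]]
  reach := [([0, 1, 0], 0), ([1, 0], 0), ([1, 0, 1], 1), ([0, 1], 1), ([1], 1), ([0], 0), ([], 1), ([], 0), ([0], 1), ([1, 0], 1), ([1], 0), ([0, 1], 0)]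
  cov := [[1, 0, 1, 0, 1], [0, 1, 0, 1, 0]]

theorem orbD4_ok : orbD4.OK 12 2 chevD4 graphD4 WeylTab.tabsD4 WeylTab.simpsD4 := by decide +kernel

theorem graphD4_cols : ∃ c, Valid chevD4 c ∧ graphD4.colsOK chevD4 c = true :=
  ⟨D4.cert, D4.valid, by decide +kernel⟩

end Cfsg.Agent.Chev.BNSetup
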