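/-
The image of the node permutation homomorphism: the symmetries of the diagram.
-/
import Cfsg.Agent.Lib.Chev.AutOutStructure
import Cfsg.Agent.Lib.Chev.AutOutE6
import Cfsg.Agent.Lib.Chev.GraphAutExist

set_option autoImplicit false

namespace Cfsg.Agent.Chev.BNSetup

open Cfsg.Lie

theorem bonds_zero_iff_of_symm {D : ChevalleyDatum} {ρ : Equiv.Perm (Fin D.rank)} (h : D.IsDiagramSymmetry ρ)
    {i j : Fin D.rank} (hij : i ≠ j) : D.bonds (ρ i) (ρ j) = 0 ↔ D.bonds i j = 0 := by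
  rw [h i j hij]

theorem joined_of_symm {D : ChevalleyDatum} {ρ : Equiv.Perm (Fin D.rank)} (h : D.IsDiagramSymmetry ρ)
    {a b : Fin D.rank} (hab : Joined D a b) : Joined D (ρ a) (ρ b) :=
  ⟨fun e => hab.1 (ρ.injective e), by rw [h a b hab.1]; exact hab.2⟩

theorem e7_symm_eq_one {ρ : Equiv.Perm (Fin chevE7.rank)} (h : chevE7.IsDiagramSymmetry ρ) : ρ = 1 := by
  let N : Fin 7 → Fin chevE7.rank := fun i => Fin.cast (show 7 = chevE7.rank by decide +kernel) i
  have hR : chevE7.rank = 7 := by decide +kernel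
  have hJ : ∀ a b : Fin 7, Joined chevE7 (N a) (N b) → Joined chevE7 (ρ (N a)) (ρ (N b)) :=
    fun a b hab => joined_of_symm h hab
  have hne : ∀ a b : Fin 7, a ≠ b → ρ (N a) ≠ ρ (N b) := fun a b h e =>
    h (Fin.cast_injective _ (ρ.injective e))
  have key := e7_rigid (ρ (N 0)) (ρ (N 2)) (hJ 0 2 (by decide +kernel)) (ρ (N 3))
    (hJ 2 3 (by decide +kernel)) (hne 3 0 (by decide)) (ρ (N 1)) (hJ 3 1 (by decide +kernel))
    (hne 1 2 (by decide)) (ρ (N 4)) (hJ 3 4 (by decide +kernel)) (hne 4 2 (by decide)) (hne 4 1 (by decide))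
    (ρ (N 5)) (hJ 4 5 (by decide +kernel)) (hne 5 3 (by decide)) (ρ (N 6)) (hJ 5 6 (by decide +kernel))
    (hne 6 4 (by decide))
  simp only [List.cons.injEq, and_true] at key
  obtain ⟨k0, k1, k2, k3, k4, k5, k6⟩ := key
  refine Equiv.ext fun i => Fin.ext ?_
  obtain ⟨j, rfl⟩ : ∃ j, N j = i := ⟨Fin.cast hR i, by simp [N]⟩
  fin_cases j <;> assumption

theorem e8_symm_eq_one {ρ : Equiv.Perm (Fin chevE8.rank)} (h : chevE8.IsDiagramSymmetry ρ) : ρ = 1 := by
  let N : Fin 8 → Fin chevE8.rank := fun i => Fin.cast (show 8 = chevE8.rank by decide +kernel) i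
  have hR : chevE8.rank = 8 := by decide +kernel
  have hJ : ∀ a b : Fin 8, Joined chevE8 (N a) (N b) → Joined chevE8 (ρ (N a)) (ρ (N b)) :=
    fun a b hab => joined_of_symm h hab
  have hne : ∀ a b : Fin 8, a ≠ b → ρ (N a) ≠ ρ (N b) := fun a b h e =>
    h (Fin.cast_injective _ (ρ.injective e))
  have key := e8_rigid (ρ (N 0)) (ρ (N 2)) (hJ 0 2 (by decide +kernel)) (ρ (N 3))
    (hJ 2 3 (by decide +kernel)) (hne 3 0 (by decide)) (ρ (N 1)) (hJ 3 1 (by decide +kernel))
    (hne 1 2 (by decide)) (ρ (N 4)) (hJ 3 4 (by decide +kernel)) (hne 4 2 (by decide)) (hne 4 1 (by decide))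
    (ρ (N 5)) (hJ 4 5 (by decide +kernel)) (hne 5 3 (by decide)) (ρ (N 6)) (hJ 5 6 (by decide +kernel))
    (hne 6 4 (by decide)) (ρ (N 7)) (hJ 6 7 (by decide +kernel)) (hne 7 5 (by decide))
  simp only [List.cons.injEq, and_true] at key
  obtain ⟨k0, k1, k2, k3, k4, k5, k6, k7⟩ := key
  refine Equiv.ext fun i => Fin.ext ?_
  obtain ⟨j, rfl⟩ : ∃ j, N j = i := ⟨Fin.cast hR i, by simp [N]⟩
  fin_cases j <;> assumption

theorem e6_symm_cases {ρ : Equiv.Perm (Fin chevE6.rank)} (h : chevE6.IsDiagramSymmetry ρ) :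
    ρ = 1 ∨ ρ = piE6 := by
  let N : Fin 6 → Fin chevE6.rank := fun i => Fin.cast (show 6 = chevE6.rank by decide +kernel) i
  have hR : chevE6.rank = 6 := by decide +kernel
  have hJ : ∀ a b : Fin 6, Joined chevE6 (N a) (N b) → Joined chevE6 (ρ (N a)) (ρ (N b)) :=
    fun a b hab => joined_of_symm h hab
  have hne : ∀ a b : Fin 6, a ≠ b → ρ (N a) ≠ ρ (N b) := fun a b h e =>
    h (Fin.cast_injective _ (ρ.injective e))
  have key := e6_rigid (ρ (N 0)) (ρ (N 2)) (hJ 0 2 (by decide +kernel)) (ρ (N 3))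
    (hJ 2 3 (by decide +kernel)) (hne 3 0 (by decide)) (ρ (N 1)) (hJ 3 1 (by decide +kernel))
    (hne 1 2 (by decide)) (ρ (N 4)) (hJ 3 4 (by decide +kernel)) (hne 4 2 (by decide)) (hne 4 1 (by decide))
    (ρ (N 5)) (hJ 4 5 (by decide +kernel)) (hne 5 3 (by decide))
  rcases key with key | key <;> simp only [List.cons.injEq, and_true] at key <;>
    obtain ⟨k0, k1, k2, k3, k4, k5⟩ := key
  · left
    refine Equiv.ext fun i => Fin.ext ?_
    obtain ⟨j, rfl⟩ : ∃ j, N j = i := ⟨Fin.cast hR i, by simp [N]⟩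
    fin_cases j <;> assumption
  · right
    refine Equiv.ext fun i => Fin.ext ?_
    obtain ⟨j, rfl⟩ : ∃ j, N j = i := ⟨Fin.cast hR i, by simp [N]⟩
    rw [piE6_val]
    fin_cases j <;> assumption

/-- Outside type D₄ the diagram has at most one nontrivial symmetry. -/
theorem symm_cases {D : ChevalleyDatum} (hD : D ∈ [chevG2, chevB2, chevD4, chevF4, chevE6, chevE7, chevE8]) :
    D = chevD4 ∨ ∃ π : Equiv.Perm (Fin D.rank), ∀ ρ, D.IsDiagramSymmetry ρ → ρ = 1 ∨ ρ = π := by
  simp only [List.mem_cons, List.not_mem_nil, or_false] at hD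
  rcases hD with rfl | rfl | rfl | rfl | rfl | rfl | rfl
  · refine Or.inr ⟨Fin.revPerm, fun ρ _ => ?_⟩
    have hR : chevG2.rank = 2 := by decide +kernel
    rcases two_perms _ hR ρ ρ.injective with hρ | hρ
    · exact Or.inl (Equiv.ext fun i => Fin.ext (hρ i))
    · refine Or.inr (Equiv.ext fun i => Fin.ext ?_)
      rw [hρ, Fin.revPerm_apply, Fin.val_rev]
      omega
  · refine Or.inr ⟨Fin.revPerm, fun ρ _ => ?_⟩
    have hR : chevB2.rank = 2 := by decide +kernel
    rcases two_perms _ hR ρ ρ.injective with hρ | hρ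
    · exact Or.inl (Equiv.ext fun i => Fin.ext (hρ i))
    · refine Or.inr (Equiv.ext fun i => Fin.ext ?_)
      rw [hρ, Fin.revPerm_apply, Fin.val_rev]
      omega
  · exact Or.inl rfl
  · refine Or.inr ⟨Fin.revPerm, fun ρ h => ?_⟩
    have hR : chevF4.rank = 4 := f4_numbers.1
    rcases f4_perms ρ ρ.injective (fun i j hij => bonds_zero_iff_of_symm h hij) with hρ | hρ
    · exact Or.inl (Equiv.ext fun i => Fin.ext (hρ i))
    · refine Or.inr (Equiv.ext fun i => Fin.ext ?_)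
      rw [hρ, Fin.revPerm_apply, Fin.val_rev]
      omega
  · exact Or.inr ⟨piE6, fun ρ h => e6_symm_cases h⟩
  · exact Or.inr ⟨1, fun ρ h => Or.inl (e7_symm_eq_one h)⟩
  · exact Or.inr ⟨1, fun ρ h => Or.inl (e8_symm_eq_one h)⟩

/-- The symmetries of the diagram of D₄. -/
def symmsD4 : Finset (Equiv.Perm (Fin chevD4.rank)) :=
  Finset.univ.filter fun π => ∀ i j : Fin chevD4.rank, i ≠ j → chevD4.bonds (π i) (π j) = chevD4.bonds i j

theorem card_symmsD4 : symmsD4.card = 6 := by decide +kernel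

theorem symmsD4_noncomm : ∃ a ∈ symmsD4, ∃ b ∈ symmsD4, a * b ≠ b * a :=
  ⟨Equiv.swap ⟨0, by decide⟩ ⟨2, by decide⟩, by decide +kernel,
    Equiv.swap ⟨2, by decide⟩ ⟨3, by decide⟩, by decide +kernel, by decide +kernel⟩

variable {F : Type*} [Field F] [Finite F] {D : ChevalleyDatum} (hG : Good D)
  (hD : D ∈ [chevG2, chevB2, chevD4, chevF4, chevE6, chevE7, chevE8])
include hG hD

/-- The range of the node permutation: one, two, or six elements, not commutative in the last case. -/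
theorem range_nodePerm :
    Nat.card (nodePerm (F := F) hG hD).range = 1 ∨ Nat.card (nodePerm (F := F) hG hD).range = 2 ∨
      (Nat.card (nodePerm (F := F) hG hD).range = 6 ∧
        ∃ a b : MulAut ↥(D.group F), nodePerm hG hD a * nodePerm hG hD b ≠ nodePerm hG hD b * nodePerm hG hD a) := by
  rcases symm_cases hD with rfl | ⟨π, hπ⟩
  · refine Or.inr (Or.inr ?_)
    have hmem : ∀ ρ, ρ ∈ (nodePerm (F := F) hG hD).range ↔ ρ ∈ symmsD4 := by
      intro ρ
      refine ⟨?_, fun h => ?_⟩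
      · rintro ⟨θ, rfl⟩
        exact Finset.mem_filter.2 ⟨Finset.mem_univ _, nodePerm_symm hG hD θ⟩
      · obtain ⟨g, h1, h2⟩ := exists_graphAut_D4 (F := F) ρ (Finset.mem_filter.1 h).2
        refine ⟨g, nodePerm_eq hG hD ⟨1, g, fun _ t => t, fun _ t => t, fun i => ⟨fun t => ?_, fun t => ?_⟩,
          fun y => by simp⟩⟩
        · have e : ∀ r : ℕ, ∀ u : F, xG hG r u = D4.good.xgrp r u := fun r u =>
            Subtype.ext (xe_eq_xg hG r u)
          rw [e, e]
          exact h1 i t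
        · have e : ∀ r : ℕ, ∀ u : F, xG hG r u = D4.good.xgrp r u := fun r u =>
            Subtype.ext (xe_eq_xg hG r u)
          rw [e, e]
          exact h2 i t
    refine ⟨?_, ?_⟩
    · rw [Nat.card_congr (Equiv.subtypeEquivRight hmem), Nat.card_eq_fintype_card, Fintype.card_coe,
        card_symmsD4]
    · obtain ⟨a, ha, b, hb, hab⟩ := symmsD4_noncomm
      obtain ⟨x, rfl⟩ := (hmem a).2 ha
      obtain ⟨y, rfl⟩ := (hmem b).2 hb
      exact ⟨x, y, hab⟩
  · have hle : Nat.card (nodePerm (F := F) hG hD).range ≤ 2 := by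
      have hsub : ((nodePerm (F := F) hG hD).range : Set (Equiv.Perm (Fin D.rank))) ⊆ {1, π} := by
        rintro _ ⟨θ, rfl⟩
        exact hπ _ (nodePerm_symm hG hD θ)
      calc Nat.card (nodePerm (F := F) hG hD).range
          = ((nodePerm (F := F) hG hD).range : Set (Equiv.Perm (Fin D.rank))).ncard := rfl
        _ ≤ ({1, π} : Set (Equiv.Perm (Fin D.rank))).ncard := Set.ncard_le_ncard hsub
        _ ≤ 2 := (Set.ncard_insert_le _ _).trans (by rw [Set.ncard_singleton])
    have hpos : 0 < Nat.card (nodePerm (F := F) hG hD).range := Nat.card_pos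
    omega

end Cfsg.Agent.Chev.BNSetup
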