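import Cfsg.Agent.Lib.RootBN.NormalForm
import Cfsg.Agent.Lib.Chev.BNCore

/-!
# Bruhat normal form in Chevalley groups
-/

set_option autoImplicit false

namespace Cfsg.Agent.Chev.BNSetup

open Cfsg.Lie

variable {F : Type*} [Field F] {D : ChevalleyDatum}

/-- The root elements `x_r(t)`, `r > 0`, with `n X_r n⁻¹` negative. -/
def negSet (F : Type*) [Field F] (D : ChevalleyDatum) (n : GL D.Idx F) : Set (GL D.Idx F) :=
  {x | ∃ (r : ℕ) (t : F), D.IsPosRoot r ∧
    (D.rootSubgroup F r).map (MulAut.conj n).toMonoidHom ≤ D.negUnipotent F ∧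
      (x : Matrix D.Idx D.Idx F) = D.x F r t}

theorem negSet_le_borel (n : GL D.Idx F) : Subgroup.closure (negSet F D n) ≤ D.borelSubgroup F := by
  rw [Subgroup.closure_le]
  rintro x ⟨r, t, hr, -, hx⟩
  exact Subgroup.mem_sup_left (Subgroup.subset_closure ⟨r, t, hr, hx⟩)

theorem conj_negSet_le (n : GL D.Idx F) :
    Subgroup.closure (negSet F D n) ≤ (D.negUnipotent F).comap (MulAut.conj n).toMonoidHom := by
  rw [Subgroup.closure_le]
  rintro x ⟨r, t, -, hle, hx⟩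
  exact hle ⟨x, Subgroup.subset_closure ⟨t, hx⟩, rfl⟩

variable (hG : Good D) {tabs simps : List ℕ} (hf : Facts D tabs simps)
include hG hf

theorem bruhat_normal_form (hn : NegTri D) :
    (∀ g ∈ D.group F, ∃ b ∈ D.borelSubgroup F, ∃ n ∈ D.monomialSubgroup F,
      ∃ u ∈ Subgroup.closure (negSet F D n), g = b * n * u) ∧
    (∀ (b b' n n' u u' : GL D.Idx F), b ∈ D.borelSubgroup F → b' ∈ D.borelSubgroup F →
      n ∈ D.monomialSubgroup F → n' ∈ D.monomialSubgroup F →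
      u ∈ Subgroup.closure (negSet F D n) → u' ∈ Subgroup.closure (negSet F D n') →
      b * n * u = b' * n' * u' → n⁻¹ * n' ∈ D.diagonalSubgroup F ∧ (n = n' → b = b' ∧ u = u')) := by
  have ax := axioms (F := F) hG hf
  refine ⟨fun g hg => ?_, ?_⟩
  · rw [← data_grp hG] at hg
    obtain ⟨b, hb, l, u, hu, rfl⟩ := RootBN.Data.exists_normal_form ax hg
    refine ⟨b, (data_B hG hf).le hb, (data hG F).nw l, (data_N hG hf).le (RootBN.Data.nw_mem_N l), u, ?_, rfl⟩
    refine (show (data hG F).Um ((data hG F).wl l) ≤ _ from iSup₂_le fun r hr y hy => ?_) hu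
    obtain ⟨t, rfl⟩ := (mem_rootSubgroup hG r.2).1 hy
    refine Subgroup.subset_closure ⟨r, t, (pos_iff hf r.2).2 hr.1, ?_, rfl⟩
    rintro _ ⟨z, hz, rfl⟩
    obtain ⟨s, hs⟩ := (mem_rootSubgroup hG ((data hG F).wl l r).2).1
      (((RootBN.Data.acts_nw ax l) r z).2 hz)
    refine Subgroup.subset_closure ⟨_, s, ?_, congrArg Units.val hs⟩
    exact ((hf.2.2.1 _ ((data hG F).wl l r).2).2.2.1).2 (not_le.1 hr.2)
  · intro b b' n n' u u' hb hb' hn' hn'' hu hu' e
    rw [← data_N hG hf] at hn' hn''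
    refine ⟨RootBN.Data.inv_mul_mem_H_of_eq ax hn' hn'' ((data_B hG hf).ge hb) ((data_B hG hf).ge hb')
      ((data_B hG hf).ge (negSet_le_borel n hu)) ((data_B hG hf).ge (negSet_le_borel n' hu')) e, ?_⟩
    rintro rfl
    have h1 : b⁻¹ * b' = n * (u * u'⁻¹) * n⁻¹ := by
      rw [show b' = b * n * u * u'⁻¹ * n⁻¹ by rw [e]; group]
      group
    have h2 : b⁻¹ * b' ∈ D.borelSubgroup F ⊓ D.negUnipotent F := by
      refine ⟨Subgroup.mul_mem _ (Subgroup.inv_mem _ hb) hb', ?_⟩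
      rw [h1]
      exact conj_negSet_le n (Subgroup.mul_mem _ hu (Subgroup.inv_mem _ hu'))
    rw [borel_inf_V hG hf hn, Subgroup.mem_bot, inv_mul_eq_one] at h2
    exact ⟨h2, mul_left_cancel (h2 ▸ e)⟩

end Cfsg.Agent.Chev.BNSetup
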