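import Cfsg.Agent.Lib.Chev.Elements

/-!
Root elements in characteristic two: commuting root elements, products of two root subgroups,
root-table predicates for the centralizers of root involutions, and the torus part of such centralizers.
-/
set_option autoImplicit false

namespace Cfsg.Agent.Chev

open Cfsg.Lie

/-- All coefficients of the commutator formula of `(r, s)` are even. -/
noncomputable def Cert.even2 (c : Cert) (r s : ℕ) : Bool := (c.comm r s).all fun x => x.2.1 % 2 == 0

/-- `X_r` and `X_s` generate a 2-group for a visible reason: they commute, or their commutators lie in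
one root subgroup commuting with both. -/
noncomputable def Cert.pairTwo (c : Cert) (r s : ℕ) : Bool :=
  c.even2 r s ||
    match c.comm r s with
    | [x] => !(x.1 == r) && !(x.1 == c.ng r) && !(x.1 == s) && !(x.1 == c.ng s) && c.even2 r x.1 && c.even2 s x.1
    | _ => false

/-- Positivity read off the fast table. -/
noncomputable def Cert.posB (c : Cert) (r : ℕ) : Bool :=
  allLt c.rank fun j => decide (0 ≤ c.crt r j)

/-- `X_r` commutes with the root subgroups of all positive roots in characteristic two. -/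
noncomputable def Cert.centralTwo (c : Cert) (r : ℕ) : Bool :=
  allLt c.nroots fun s => !(c.posB s) || s == r || (!(s == c.ng r) && c.even2 r s)

/-- A Weyl invariant relation standing for "positive inner product". -/
def Cert.relPos (c : Cert) (s t : ℕ) : Prop := s = t ∨ c.even2 (c.ng s) t = false

namespace Valid

variable {D : ChevalleyDatum} {c : Cert} (hV : Valid D c)
include hV

theorem isPosRoot_iff {r : ℕ} : D.IsPosRoot r ↔ r < D.nroots ∧ c.posB r = true := by
  refine and_congr_right fun hr => ?_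
  have he := hV.tie'.2.2.2.2.2.1
  have hr' : r < D.coroot.toList.length := by
    have := congrArg List.length he; simp only [List.length_map, List.length_range] at this
    rw [← this, hV.nroots_eq]; exact hr
  rw [array_getD_toList, ← getD_map_toList _ Array.toList #[] [] hr', ← he,
    getD_map_range _ (hV.nroots_eq.symm ▸ hr)]
  simp [Cert.posB, allLt_iff]

theorem even2_w {i r s : ℕ} (hi : i < D.rank) (hr : r < D.nroots) (hs : s < D.nroots) :
    c.even2 (c.w i r) (c.w i s) = c.even2 r s := by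
  rw [Cert.even2, hV.comm_w hi hr hs, Cert.mapComm, List.all_map, Cert.even2, Bool.eq_iff_iff]
  simp only [List.all_eq_true, Function.comp_apply, beq_iff_eq]
  refine forall₂_congr fun x hx => ?_
  have hk := hV.eta_eq hi (hV.comm_lt hr hs hx)
  have h1 : ∀ n : ℕ, c.η i r ^ n = 1 ∨ c.η i r ^ n = -1 := fun n => by
    rcases hV.eta_eq hi hr with h | h <;> rw [h]
    · exact Or.inl (one_pow n)
    · exact neg_one_pow_eq_or ℤ n
  have h2 : ∀ n : ℕ, c.η i s ^ n = 1 ∨ c.η i s ^ n = -1 := fun n => by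
    rcases hV.eta_eq hi hs with h | h <;> rw [h]
    · exact Or.inl (one_pow n)
    · exact neg_one_pow_eq_or ℤ n
  rcases hk with h | h <;> rcases h1 x.2.2.1 with h' | h' <;> rcases h2 x.2.2.2 with h'' | h'' <;>
    simp [h, h', h'', Int.neg_emod_two]

theorem relPos_w {i s t : ℕ} (hi : i < D.rank) (hs : s < D.nroots) (ht : t < D.nroots)
    (h : c.relPos s t) : c.relPos (c.w i s) (c.w i t) := by
  rcases h with rfl | h
  · exact Or.inl rfl
  · refine Or.inr ?_
    rw [← hV.w_ng hi hs, hV.even2_w hi (hV.ng_lt hs) ht]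
    exact h

variable {F : Type*} [Field F] [CharP F 2]

theorem wordG_comm_eq_one {r s : ℕ} (hr : r < D.nroots) (hs : s < D.nroots) (h : c.even2 r s = true) (t u : F) :
    wordG D F (D.commWord F r s t u) = 1 := by
  have hD : Good D := ⟨c, hV⟩
  refine List.prod_eq_one fun g hg => ?_
  obtain ⟨p, hp, rfl⟩ := List.mem_map.1 hg
  obtain ⟨x, hx, rfl⟩ := List.mem_map.1 hp
  rw [hV.comm_eq hr hs] at hx
  simp only [Cert.even2, List.all_eq_true, beq_iff_eq] at h
  have h0 : ((x.2.1 : ℤ) : F) = 0 := by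
    rw [CharP.intCast_eq_zero_iff F 2]
    exact Int.dvd_of_emod_eq_zero (by exact_mod_cast h x hx)
  simp only [h0, zero_mul]
  exact hD.xg_zero _

theorem commute_xg {r s : ℕ} (hr : r < D.nroots) (hs : s < D.nroots)
    (h : s = r ∨ (s ≠ c.ng r ∧ c.even2 r s = true)) (t u : F) : Commute (xg D F r t) (xg D F s u) := by
  have hD : Good D := ⟨c, hV⟩
  rcases eq_or_ne s r with rfl | h1
  · show xg D F s t * xg D F s u = xg D F s u * xg D F s t
    rw [hD.xg_add, hD.xg_add, add_comm]
  · obtain ⟨h2, h3⟩ := h.resolve_left h1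
    have := hD.xg_comm hr hs h1 (by rw [hV.ng_eq hr]; exact h2) t u
    rw [hV.wordG_comm_eq_one hr hs h3, mul_one] at this
    exact this.symm

theorem isPGroup_rootSubgroup (r : ℕ) : IsPGroup 2 ↥(D.rootSubgroup F r) := by
  have hD : Good D := ⟨c, hV⟩
  rintro ⟨g, hg⟩
  obtain ⟨t, rfl⟩ := hD.mem_rootSubgroup_iff.1 hg
  refine ⟨1, Subtype.ext ?_⟩
  show xg D F r t ^ 2 ^ 1 = 1
  rw [pow_one, pow_two, hD.xg_add, CharTwo.add_self_eq_zero, hD.xg_zero]

theorem le_normalizer_of_commute {r s : ℕ} (hr : r < D.nroots) (hs : s < D.nroots)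
    (h : s = r ∨ (s ≠ c.ng r ∧ c.even2 r s = true)) :
    D.rootSubgroup F s ≤ Subgroup.normalizer (D.rootSubgroup F r : Set (GL D.Idx F)) := by
  have hD : Good D := ⟨c, hV⟩
  intro g hg
  obtain ⟨u, rfl⟩ := hD.mem_rootSubgroup_iff.1 hg
  refine Subgroup.centralizer_le_normalizer _ ?_
  intro y hy
  obtain ⟨t, rfl⟩ := hD.mem_rootSubgroup_iff.1 hy
  exact (hV.commute_xg hr hs h t u).eq

/-- Two root subgroups with `pairTwo` generate a 2-group. -/
theorem isPGroup_pair {r s : ℕ} (hr : r < D.nroots) (hs : s < D.nroots)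
    (h : s = r ∨ (s ≠ c.ng r ∧ c.pairTwo r s = true)) :
    IsPGroup 2 ↥(D.rootSubgroup F r ⊔ D.rootSubgroup F s) := by
  have hD : Good D := ⟨c, hV⟩
  by_cases hev : s = r ∨ (s ≠ c.ng r ∧ c.even2 r s = true)
  · exact IsPGroup.to_sup_of_normal_left' (hV.isPGroup_rootSubgroup r) (hV.isPGroup_rootSubgroup s)
      (hV.le_normalizer_of_commute hr hs hev)
  push Not at hev
  obtain ⟨h2, h3⟩ := h.resolve_left hev.1
  simp only [Cert.pairTwo, hev.2 h2, Bool.false_or] at h3
  rcases hc : c.comm r s with _ | ⟨x, _ | ⟨y, l⟩⟩ <;> rw [hc] at h3 <;>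
    simp only [Bool.false_eq_true, Bool.and_eq_true, Bool.not_eq_true', beq_eq_false_iff_ne] at h3
  obtain ⟨⟨⟨⟨⟨hxr, hxnr⟩, hxs⟩, hxns⟩, her⟩, hes⟩ := h3
  have hx : x.1 < D.nroots := hV.comm_lt hr hs (hc ▸ List.mem_singleton_self x)
  set R₁ := D.rootSubgroup F r ⊔ D.rootSubgroup F x.1 with hR₁
  have hR₁p : IsPGroup 2 ↥R₁ := IsPGroup.to_sup_of_normal_left' (hV.isPGroup_rootSubgroup r)
    (hV.isPGroup_rootSubgroup x.1) (hV.le_normalizer_of_commute hr hx (Or.inr ⟨hxnr, her⟩))
  have hconj : ∀ g ∈ D.rootSubgroup F s, ∀ y ∈ R₁, g * y * g⁻¹ ∈ R₁ := by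
    intro g hg y hy
    obtain ⟨u, rfl⟩ := hD.mem_rootSubgroup_iff.1 hg
    have hle : R₁ ≤ R₁.comap (MulAut.conj (xg D F s u)).toMonoidHom := by
      refine sup_le ?_ ?_
      · intro y hy
        obtain ⟨t, rfl⟩ := hD.mem_rootSubgroup_iff.1 hy
        show xg D F s u * xg D F r t * (xg D F s u)⁻¹ ∈ R₁
        have := hD.xg_comm hr hs hev.1 (by rw [hV.ng_eq hr]; exact h2) t u
        obtain ⟨v, hv⟩ : ∃ v, wordG D F (D.commWord F r s t u) = xg D F x.1 v := by
          rw [ChevalleyDatum.commWord, hV.comm_eq hr hs, hc]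
          exact ⟨(x.2.1 : F) * (-t) ^ x.2.2.1 * u ^ x.2.2.2, by simp [wordG]⟩
        rw [hv, mul_assoc (xg D F r t), (hV.commute_xg hs hx (Or.inr ⟨hxns, hes⟩) u v).eq] at this
        rw [this, ← mul_assoc, mul_inv_cancel_right]
        exact mul_mem (Subgroup.mem_sup_left (hD.xg_mem_rootSubgroup r t))
          (Subgroup.mem_sup_right (hD.xg_mem_rootSubgroup _ v))
      · intro y hy
        obtain ⟨t, rfl⟩ := hD.mem_rootSubgroup_iff.1 hy
        show xg D F s u * xg D F x.1 t * (xg D F s u)⁻¹ ∈ R₁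
        rw [(hV.commute_xg hs hx (Or.inr ⟨hxns, hes⟩) u t).eq, mul_inv_cancel_right]
        exact Subgroup.mem_sup_right (hD.xg_mem_rootSubgroup _ t)
    exact hle hy
  have hn : D.rootSubgroup F s ≤ Subgroup.normalizer (R₁ : Set (GL D.Idx F)) := by
    intro g hg
    rw [Subgroup.mem_normalizer_iff]
    refine fun y => ⟨hconj g hg y, fun hy => ?_⟩
    have := hconj g⁻¹ (inv_mem hg) _ hy
    simpa [mul_assoc] using this
  exact (IsPGroup.to_sup_of_normal_left' hR₁p (hV.isPGroup_rootSubgroup s) hn).to_le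
    (sup_le_sup_right le_sup_left _)

omit [CharP F 2]

/-- `x_r` is injective. -/
theorem xg_injective {r j : ℕ} (hr : r < D.nroots) (hj : j < D.rank) (hA : ((D.cartan j r : ℤ) : F) ≠ 0)
    {t u : F} (h : xg D F r t = xg D F r u) : t = u := by
  have hD : Good D := ⟨c, hV⟩
  have h2 := congrFun (congrFun (congrArg (fun g : GL D.Idx F => (g : Matrix D.Idx D.Idx F)) h)
    (Sum.inr ⟨r, hr⟩)) (Sum.inl ⟨j, hj⟩)
  simp only [hD.coe_xg, ChevalleyDatum.x, dif_pos hr, ChevalleyDatum.xMat, Matrix.of_apply] at h2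
  simp only [if_true, neg_mul, neg_inj] at h2
  exact mul_left_cancel₀ hA h2

/-- The torus part of the centralizer of a root element whose root pairs with one coroot only. -/
theorem diag_centralizer {r j₀ : ℕ} (hr : r < D.nroots) (hj₀ : j₀ < D.rank)
    (hA : ∀ i < D.rank, D.cartan i r = if i = j₀ then 1 else 0)
    {h : GL D.Idx F} (hh : h ∈ D.diagonalSubgroup F) (hz : h * xg D F r 1 = xg D F r 1 * h) :
    h ∈ Subgroup.closure {g | ∃ i < D.rank, i ≠ j₀ ∧ ∃ a : F, a ≠ 0 ∧ g = hG D F (D.simple i) a} := by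
  have hD : Good D := ⟨c, hV⟩
  set K := Subgroup.closure {g | ∃ i < D.rank, i ≠ j₀ ∧ ∃ a : F, a ≠ 0 ∧ g = hG D F (D.simple i) a} with hK
  have hKcomm : ∀ k ∈ K, ∀ a : F, a ≠ 0 → k * hG D F (D.simple j₀) a = hG D F (D.simple j₀) a * k := by
    intro k hk a ha
    induction hk using Subgroup.closure_induction with
    | mem x hx =>
      obtain ⟨i, hi, -, b, hb, rfl⟩ := hx
      exact hD.hG_comm (hD.simple_lt hi) (hD.simple_lt hj₀) hb ha
    | one => simp
    | mul x y _ _ hx hy => exact (Commute.mul_left (show Commute x _ from hx) (show Commute y _ from hy)).eq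
    | inv x _ hx => exact (Commute.inv_left (show Commute x _ from hx)).eq
  have h1 : hG D F (D.simple j₀) 1 = 1 := by
    have := hD.hG_mul (hD.simple_lt hj₀) (one_ne_zero (α := F)) (one_ne_zero (α := F))
    rw [one_mul] at this
    exact mul_left_cancel (this.trans (mul_one _).symm)
  let S : Subgroup (GL D.Idx F) :=
    { carrier := {g | ∃ k ∈ K, ∃ a : F, a ≠ 0 ∧ g = k * hG D F (D.simple j₀) a}
      one_mem' := ⟨1, one_mem _, 1, one_ne_zero, by rw [h1, one_mul]⟩
      mul_mem' := by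
        rintro _ _ ⟨k, hk, a, ha, rfl⟩ ⟨k', hk', a', ha', rfl⟩
        refine ⟨k * k', mul_mem hk hk', a * a', mul_ne_zero ha ha', ?_⟩
        rw [← hD.hG_mul (hD.simple_lt hj₀) ha ha', mul_assoc k, ← mul_assoc (hG D F (D.simple j₀) a) k',
          ← hKcomm k' hk' a ha]
        simp only [mul_assoc]
      inv_mem' := by
        rintro _ ⟨k, hk, a, ha, rfl⟩
        refine ⟨k⁻¹, inv_mem hk, a⁻¹, inv_ne_zero ha, ?_⟩
        rw [mul_inv_rev, hKcomm k⁻¹ (inv_mem hk) a⁻¹ (inv_ne_zero ha)]
        congr 1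
        refine inv_eq_of_mul_eq_one_right ?_
        rw [hD.hG_mul (hD.simple_lt hj₀) ha (inv_ne_zero ha), mul_inv_cancel₀ ha, h1] }
  have hle : D.diagonalSubgroup F ≤ S := by
    refine (Subgroup.closure_le _).2 ?_
    rintro g ⟨s, t, hs, ht, hg⟩
    rw [show g = hG D F s t from Units.ext (by rw [hg, hD.coe_hG]), hD.hG_eq_prod hs ht]
    refine Subgroup.list_prod_mem S fun x hx => ?_
    obtain ⟨i, hi, rfl⟩ := List.mem_map.1 hx
    rcases eq_or_ne i j₀ with rfl | hne
    · exact ⟨1, one_mem _, _, zpow_ne_zero _ ht, (one_mul _).symm⟩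
    · exact ⟨_, Subgroup.subset_closure ⟨i, List.mem_range.1 hi, hne, _, zpow_ne_zero _ ht, rfl⟩, 1, one_ne_zero,
        by rw [h1, mul_one]⟩
  obtain ⟨k, hk, a, ha, rfl⟩ := hle hh
  have hkz : k * xg D F r 1 = xg D F r 1 * k := by
    clear hz hh
    induction hk using Subgroup.closure_induction with
    | mem x hx =>
      obtain ⟨i, hi, hne, b, hb, rfl⟩ := hx
      rw [hD.hG_mul_xg hi hr hb, hA i hi, if_neg hne, zpow_zero, one_mul]
    | one => simp
    | mul x y _ _ hx hy => exact (Commute.mul_left (show Commute x _ from hx) (show Commute y _ from hy)).eq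
    | inv x _ hx => exact (Commute.inv_left (show Commute x _ from hx)).eq
  rw [mul_assoc, ← mul_assoc (xg D F r 1), ← hkz, mul_assoc] at hz
  have h3 := mul_left_cancel hz
  rw [hD.hG_mul_xg hj₀ hr ha, hA j₀ hj₀, if_pos rfl, zpow_one, mul_one] at h3
  have ha1 : a = 1 := hV.xg_injective hr hj₀ (by simp [hA j₀ hj₀]) (mul_right_cancel h3)
  rw [ha1, h1, mul_one]
  exact hk

end Valid

end Cfsg.Agent.Chev
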