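import Cfsg.Agent.Lib.Chev.CharTwo
import Cfsg.Agent.Lib.RootBN.Centralizer

/-!
Root involutions of the Chevalley groups in characteristic two: centralizer of a root element that is
central in `U`, and the subgroups generated by two conjugates of such a root subgroup.
-/
set_option autoImplicit false

namespace Cfsg.Agent.Chev

open Cfsg.Lie

/-- Table conditions on a root `r` central in `U` in characteristic two, orthogonal to all fundamental
roots but the `j₀`-th. -/
noncomputable def Cert.rootTwoOK (c : Cert) (r j₀ : ℕ) : Bool :=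
  c.centralTwo r && c.posB r &&
  allLt c.nroots (fun s => c.posB s || c.even2 (c.ng s) r) &&
  allLt c.rank (fun i => c.posB (c.p i) &&
    if i == j₀ then c.A i r == 1 && !(c.w i r == r) && !(c.even2 (c.ng (c.p i)) r)
    else c.A i r == 0 && c.w i r == r && !(c.ng (c.p i) == c.ng r) && c.even2 r (c.ng (c.p i)))

/-- Table conditions on a root `r` central in `U`: its orbit pairs with it nicely. -/
noncomputable def Cert.orbitTwoOK (c : Cert) (r : ℕ) (L : ℕ → Bool) : Bool :=
  c.centralTwo r && c.posB r && L r &&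
  allLt c.nroots (fun s => !(L s) || s == r || s == c.ng r || c.pairTwo r s) &&
  allLt c.rank (fun i => allLt c.nroots fun s => !(L s) || L (c.w i s))

/-- The data of root subgroups are those of the Chevalley group of `D` over `F`. -/
structure IsChevData {D : ChevalleyDatum} (F : Type*) [Field F]
    (T : RootBN.Data (GL D.Idx F) (Fin D.nroots) (Fin D.rank)) : Prop where
  ax : T.Axioms
  X_eq : ∀ r, T.X r = D.rootSubgroup F r.val
  H_eq : T.H = D.diagonalSubgroup F
  nn_eq : ∀ i, T.nn i = nG D F (D.simple i.val) 1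
  simp_eq : ∀ i, (T.simp i).val = D.simple i.val
  refl_eq : ∀ i r, (T.refl i r).val = D.reflectRoot i.val r.val
  pos_iff : ∀ r, T.Pos r ↔ D.IsPosRoot r.val

namespace IsChevData

variable {D : ChevalleyDatum} {F : Type*} [Field F]
  {T : RootBN.Data (GL D.Idx F) (Fin D.nroots) (Fin D.rank)} (hT : IsChevData F T)
include hT

theorem U_eq (hD : Good D) : T.U = D.posUnipotent F := by
  refine le_antisymm (iSup₂_le fun r hr => ?_) ((Subgroup.closure_le _).2 ?_)
  · rw [hT.X_eq]
    exact (Subgroup.closure_le _).2 fun g ⟨t, hg⟩ =>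
      Subgroup.subset_closure ⟨r.val, t, (hT.pos_iff r).1 hr, hg⟩
  · rintro g ⟨r, t, hr, hg⟩
    refine RootBN.Data.X_le_U (r := (⟨r, hr.1⟩ : Fin D.nroots)) ((hT.pos_iff _).2 hr) ?_
    rw [hT.X_eq, hD.eq_xg hg]
    exact hD.xg_mem_rootSubgroup r t

theorem grp_eq (hD : Good D) : T.grp = D.group F := by
  refine le_antisymm (iSup_le fun r => ?_) ?_
  · intro g hg
    rw [hT.X_eq] at hg
    obtain ⟨t, rfl⟩ := hD.mem_rootSubgroup_iff.1 hg
    exact hD.xg_mem_group _ _
  · rw [hD.group_eq_closure]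
    refine (Subgroup.closure_le _).2 ?_
    rintro g ⟨r, hr, t, rfl⟩
    refine RootBN.Data.X_le_grp (⟨r, hr⟩ : Fin D.nroots) ?_
    rw [hT.X_eq]
    exact hD.xg_mem_rootSubgroup r t

variable [CharP F 2] {c : Cert} (hV : Valid D c)
include hV

theorem U_commute {r : ℕ} (hr : r < D.nroots) (h : c.centralTwo r = true) {u : GL D.Idx F} (hu : u ∈ T.U)
    (t : F) : u * xg D F r t = xg D F r t * u := by
  have hD : Good D := ⟨c, hV⟩
  rw [hT.U_eq hD] at hu
  unfold ChevalleyDatum.posUnipotent at hu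
  induction hu using Subgroup.closure_induction with
  | mem x hx =>
    obtain ⟨s, v, hs, hx⟩ := hx
    rw [hD.eq_xg hx]
    simp only [Cert.centralTwo, allLt_iff, hV.nroots_eq, Bool.or_eq_true, Bool.not_eq_true', beq_iff_eq,
      Bool.and_eq_true, beq_eq_false_iff_ne] at h
    refine ((hV.commute_xg hr hs.1 ?_ t v).eq).symm
    rcases h s hs.1 with (h' | h') | h'
    · rw [((hV.isPosRoot_iff).1 hs).2] at h'; exact absurd h' (by simp)
    · exact Or.inl h'
    · exact Or.inr h'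
  | one => simp
  | mul x y _ _ hx hy => exact (Commute.mul_left (show Commute x _ from hx) (show Commute y _ from hy)).eq
  | inv x _ hx => exact (Commute.inv_left (show Commute x _ from hx)).eq

/-- The centralizer of a root involution whose root subgroup is central in `U`. -/
theorem centralizer_root {r j₀ : ℕ} (hr : r < D.nroots) (hj₀ : j₀ < D.rank) (hok : c.rootTwoOK r j₀ = true) :
    D.group F ⊓ Subgroup.centralizer {xg D F r 1} = D.posUnipotent F ⊔
      Subgroup.closure {g | ∃ i < D.rank, i ≠ j₀ ∧ ∃ t : F, g = xg D F (c.ng (c.p i)) t} := by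
  have hD : Good D := ⟨c, hV⟩
  simp only [Cert.rootTwoOK, Bool.and_eq_true, allLt_iff, hV.nroots_eq, hV.rank_eq] at hok
  obtain ⟨⟨⟨hcen, hposr⟩, hRpos⟩, hJ⟩ := hok
  have hJ0 : c.A j₀ r = 1 ∧ c.w j₀ r ≠ r ∧ c.even2 (c.ng (c.p j₀)) r = false := by
    have := (hJ j₀ hj₀).2
    simp only [beq_self_eq_true, if_true, Bool.and_eq_true, beq_iff_eq, Bool.not_eq_true',
      beq_eq_false_iff_ne] at this
    exact ⟨this.1.1, this.1.2, this.2⟩
  have hJ1 : ∀ i < D.rank, i ≠ j₀ →
      c.A i r = 0 ∧ c.w i r = r ∧ c.ng (c.p i) ≠ c.ng r ∧ c.even2 r (c.ng (c.p i)) = true := by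
    intro i hi hne
    have := (hJ i hi).2
    rw [if_neg (by simp [hne])] at this
    simp only [Bool.and_eq_true, beq_iff_eq, Bool.not_eq_true', beq_eq_false_iff_ne] at this
    exact ⟨this.1.1.1, this.1.1.2, this.1.2, this.2⟩
  have hA : ∀ i < D.rank, D.cartan i r = if i = j₀ then 1 else 0 := by
    intro i hi
    rw [hV.A_eq hi hr]
    rcases eq_or_ne i j₀ with rfl | hne
    · rw [if_pos rfl, hJ0.1]
    · rw [if_neg hne, (hJ1 i hi hne).1]
  set z := xg D F r 1 with hz
  set K := Subgroup.closure {g | ∃ i < D.rank, i ≠ j₀ ∧ ∃ t : F, g = xg D F (c.ng (c.p i)) t} with hK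
  have hneg_comm : ∀ i < D.rank, i ≠ j₀ → ∀ t : F, Commute (xg D F r 1) (xg D F (c.ng (c.p i)) t) :=
    fun i hi hne t => hV.commute_xg hr (hV.ng_lt (hV.p_lt hi))
      (Or.inr ⟨(hJ1 i hi hne).2.2.1, (hJ1 i hi hne).2.2.2⟩) 1 t
  have hsimp_mem : ∀ i < D.rank, ∀ t : F, xg D F (c.p i) t ∈ D.posUnipotent F := fun i hi t =>
    Subgroup.subset_closure ⟨c.p i, t, hV.isPosRoot_iff.2 ⟨hV.p_lt hi, (hJ i hi).1⟩, hD.coe_xg _ _⟩
  have hnG : ∀ i < D.rank, i ≠ j₀ → ∀ a : F, nG D F (D.simple i) a ∈ D.posUnipotent F ⊔ K := by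
    intro i hi hne a
    rw [Chev.nG_eq, hV.p_eq hi, hV.ng_eq (hV.p_lt hi)]
    exact mul_mem (mul_mem (Subgroup.mem_sup_left (hsimp_mem i hi a))
      (Subgroup.mem_sup_right (Subgroup.subset_closure ⟨i, hi, hne, _, rfl⟩)))
      (Subgroup.mem_sup_left (hsimp_mem i hi a))
  refine le_antisymm ?_ ?_
  · rintro g ⟨hg, hgz⟩
    rw [← hT.grp_eq hD] at hg
    have hgz' : g * z = z * g := Subgroup.mem_centralizer_singleton_iff.1 hgz
    have hAF : ((D.cartan j₀ r : ℤ) : F) ≠ 0 := by simp [hA j₀ hj₀]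
    have hzX : z ∈ T.X ⟨r, hr⟩ := by rw [hT.X_eq]; exact hD.xg_mem_rootSubgroup r 1
    have hz1 : z ≠ 1 := fun h => one_ne_zero (α := F)
      (hV.xg_injective hr hj₀ hAF (h.trans (hD.xg_zero r).symm))
    have hdisj : ∀ s, T.Pos s → s ≠ ⟨r, hr⟩ → z ∉ T.X s := by
      intro s _ hne hmem
      rw [hT.X_eq] at hmem
      obtain ⟨t, ht⟩ := hD.mem_rootSubgroup_iff.1 hmem
      have h2 := congrFun (congrFun (congrArg (fun g : GL D.Idx F => (g : Matrix D.Idx D.Idx F)) ht)
        (Sum.inr ⟨r, hr⟩)) (Sum.inl ⟨j₀, hj₀⟩)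
      have hne' : (⟨r, hr⟩ : Fin D.nroots) ≠ s := Ne.symm hne
      simp only [hz, hD.coe_xg, ChevalleyDatum.x, dif_pos hr, dif_pos s.2, ChevalleyDatum.xMat, Matrix.of_apply,
        if_true, Fin.eta, if_neg hne'] at h2
      refine hAF ?_
      simp only [ChevalleyDatum.cartan]
      simpa using h2
    have key := RootBN.Data.centralizer_central_root hT.ax ((hT.pos_iff ⟨r, hr⟩).2 (hV.isPosRoot_iff.2 ⟨hr, hposr⟩))
      hzX hz1 (fun u hu => hT.U_commute hV hr hcen hu 1) hdisj (fun s t => c.relPos s.val t.val)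
      (fun i s t h => by
        rw [hT.refl_eq, hT.refl_eq, hV.w_eq_reflectRoot i.2 s.2, hV.w_eq_reflectRoot i.2 t.2]
        exact hV.relPos_w i.2 s.2 t.2 h)
      (fun s h => by
        refine (hT.pos_iff s).2 (hV.isPosRoot_iff.2 ⟨s.2, ?_⟩)
        rcases h with h | h
        · rw [show s.val = r from h]; exact hposr
        · have := hRpos s.val s.2
          rw [h, Bool.or_false] at this
          exact this)
      (fun i hne => by
        have hi : i.val = j₀ := by
          by_contra h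
          refine hne (Fin.ext ?_)
          rw [hT.refl_eq, hV.w_eq_reflectRoot i.2 hr]
          exact (hJ1 i.val i.2 h).2.1
        refine Or.inr ?_
        rw [hT.simp_eq, hV.p_eq i.2, hi]
        exact hJ0.2.2)
      (fun i hfix => by
        have hi : i.val ≠ j₀ := fun h => hJ0.2.1 (by
          have := congrArg Fin.val hfix
          rw [hT.refl_eq, hV.w_eq_reflectRoot i.2 hr, h] at this
          exact this)
        rw [hT.nn_eq, Chev.nG_eq, hV.p_eq i.2, hV.ng_eq (hV.p_lt i.2)]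
        have hp : Commute (xg D F r 1) (xg D F (c.p i.val) 1) :=
          ((hT.U_commute hV hr hcen (by rw [hT.U_eq hD]; exact hsimp_mem _ i.2 1) 1).symm)
        exact (((hp.mul_right (hneg_comm _ i.2 hi _)).mul_right hp).eq).symm)
      hg hgz'
    refine (sup_le (sup_le ?_ ?_) ?_ : T.U ⊔ (T.H ⊓ Subgroup.centralizer {z}) ⊔
      Subgroup.closure (T.nn '' {i | T.refl i ⟨r, hr⟩ = ⟨r, hr⟩}) ≤ D.posUnipotent F ⊔ K) key
    · rw [hT.U_eq hD]; exact le_sup_left
    · rintro h ⟨hh, hhz⟩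
      rw [hT.H_eq] at hh
      have := hV.diag_centralizer hr hj₀ hA hh (Subgroup.mem_centralizer_singleton_iff.1 hhz)
      refine (Subgroup.closure_le _).2 ?_ this
      rintro x ⟨i, hi, hne, a, -, rfl⟩
      rw [Chev.hG_eq]
      exact mul_mem (hnG i hi hne a) (hnG i hi hne (-1))
    · rw [Subgroup.closure_le]
      rintro x ⟨i, hfix, rfl⟩
      rw [hT.nn_eq]
      refine hnG i.val i.2 (fun h => hJ0.2.1 ?_) 1
      have := congrArg Fin.val (show T.refl i ⟨r, hr⟩ = ⟨r, hr⟩ from hfix)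
      rw [hT.refl_eq, hV.w_eq_reflectRoot i.2 hr, h] at this
      exact this
  · refine sup_le (le_inf ?_ ?_) (le_inf ?_ ?_)
    · rw [← hT.U_eq hD, ← hT.grp_eq hD]; exact iSup₂_le fun s _ => RootBN.Data.X_le_grp s
    · intro u hu
      rw [← hT.U_eq hD] at hu
      exact Subgroup.mem_centralizer_singleton_iff.2 (hT.U_commute hV hr hcen hu 1)
    · rw [Subgroup.closure_le]
      rintro x ⟨i, hi, -, t, rfl⟩
      exact hD.xg_mem_group _ _
    · rw [Subgroup.closure_le]
      rintro x ⟨i, hi, hne, t, rfl⟩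
      exact Subgroup.mem_centralizer_singleton_iff.2 (hneg_comm i hi hne t).eq.symm

/-- Two conjugates of a central root subgroup generate a 2-group or a conjugate of the rank one subgroup. -/
theorem pair_conjugates {r : ℕ} (hr : r < D.nroots) (L : ℕ → Bool) (hok : c.orbitTwoOK r L = true)
    {g : GL D.Idx F} (hg : g ∈ D.group F) :
    IsPGroup 2 ↥(D.rootSubgroup F r ⊔ (D.rootSubgroup F r).map (MulAut.conj g).toMonoidHom) ∨
    ∃ h ∈ D.group F, (D.rootSubgroup F r ⊔ (D.rootSubgroup F r).map (MulAut.conj g).toMonoidHom).map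
      (MulAut.conj h).toMonoidHom = D.rootSubgroup F r ⊔ D.rootSubgroup F (c.ng r) := by
  have hD : Good D := ⟨c, hV⟩
  simp only [Cert.orbitTwoOK, Bool.and_eq_true, allLt_iff, hV.nroots_eq, hV.rank_eq] at hok
  obtain ⟨⟨⟨⟨hcen, hposr⟩, hLr⟩, hpair⟩, hclosed⟩ := hok
  have hcu : ∀ u ∈ T.U, ∀ z ∈ T.X ⟨r, hr⟩, u * z * u⁻¹ = z := by
    intro u hu z hz
    rw [hT.X_eq] at hz
    obtain ⟨t, rfl⟩ := hD.mem_rootSubgroup_iff.1 hz
    rw [hT.U_commute hV hr hcen hu t, mul_inv_cancel_right]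
  rw [← hT.grp_eq hD] at hg
  obtain ⟨b, hb, l, hl⟩ := RootBN.Data.exists_conj_root hT.ax hcu hg
  have hLs : L (T.wl l ⟨r, hr⟩).val = true := by
    clear hl
    induction l with
    | nil => simpa using hLr
    | cons i l ih =>
      rw [RootBN.Data.wl_cons, Equiv.Perm.mul_apply, hT.refl_eq, hV.w_eq_reflectRoot i.2 (Fin.is_lt _)]
      have := hclosed i.val i.2 _ (T.wl l ⟨r, hr⟩).2
      rwa [ih, Bool.not_true, Bool.false_or] at this
  set s := (T.wl l ⟨r, hr⟩).val with hs
  have hsn : s < D.nroots := (T.wl l ⟨r, hr⟩).2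
  rw [hT.X_eq, hT.X_eq, ← hs] at hl
  simp only [] at hl
  have hbfix : (D.rootSubgroup F r).map (MulAut.conj b).toMonoidHom = D.rootSubgroup F r := by
    have h1 : ∀ b' ∈ T.B, ∀ z ∈ D.rootSubgroup F r, b' * z * b'⁻¹ ∈ D.rootSubgroup F r := by
      intro b' hb' z hz
      have := RootBN.Data.B_conj_central hT.ax hcu hb' (show z ∈ T.X ⟨r, hr⟩ by rw [hT.X_eq]; exact hz)
      rwa [hT.X_eq] at this
    refine le_antisymm ?_ ?_
    · rintro _ ⟨z, hz, rfl⟩
      exact h1 b hb z hz
    · intro z hz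
      exact ⟨b⁻¹ * z * b, by simpa using h1 b⁻¹ (inv_mem hb) z hz, by simp [mul_assoc]⟩
  have hjoin : D.rootSubgroup F r ⊔ (D.rootSubgroup F r).map (MulAut.conj g).toMonoidHom =
      (D.rootSubgroup F r ⊔ D.rootSubgroup F s).map (MulAut.conj b).toMonoidHom := by
    rw [Subgroup.map_sup, hbfix, hl]
  rw [hjoin]
  by_cases hng : s = c.ng r
  · refine Or.inr ⟨b⁻¹, inv_mem (hT.grp_eq hD ▸ RootBN.Data.B_le_grp hT.ax hb), ?_⟩
    rw [Subgroup.map_map, hng]
    convert Subgroup.map_id _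
    ext x
    simp [mul_assoc]
  · left
    refine (hV.isPGroup_pair hr hsn ?_).map _
    have h0 := hpair s hsn
    simp only [Bool.or_eq_true, Bool.not_eq_true', beq_iff_eq] at h0
    rcases h0 with ((h0 | h0) | h0) | h0
    · rw [hLs] at h0; exact absurd h0 (by simp)
    · exact Or.inl h0
    · exact absurd h0 hng
    · exact Or.inr ⟨hng, h0⟩

end IsChevData

end Cfsg.Agent.Chev
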