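import Cfsg.Agent.Lib.Chev.BN
import Cfsg.Agent.Lib.Chev.RootInvolution

/-!
The root-subgroup data of a tabulated Chevalley group satisfy `IsChevData`.
-/
set_option autoImplicit false

namespace Cfsg.Agent.Chev

open Cfsg.Lie

theorem isChevData {D : ChevalleyDatum} {F : Type*} [Field F] (hG : Good D) {tabs simps : List ℕ}
    (hf : BNSetup.Facts D tabs simps) : IsChevData F (BNSetup.data hG F) where
  ax := BNSetup.axioms hG hf
  X_eq _ := rfl
  H_eq := rfl
  nn_eq i := Units.ext ((BNSetup.coe_ne' hG _ _).trans (hG.coe_nG _ _).symm)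
  simp_eq _ := rfl
  refl_eq _ _ := rfl
  pos_iff r := (BNSetup.pos_iff hf r.2).symm

end Cfsg.Agent.Chev

namespace Cfsg.Agent.Chev

open Cfsg.Lie

variable {D : ChevalleyDatum} {F : Type*} [Field F] {c : Cert}

/-- The negatives of the fundamental roots other than the `j₀`-th, from a list. -/
theorem closure_negSimple_eq (hV : Valid D c) {j₀ : ℕ} {l : List ℕ}
    (hl : ((List.range c.rank).filter fun i => i != j₀).map (fun i => c.ng (c.p i)) = l) :
    Subgroup.closure {g : GL D.Idx F | ∃ i < D.rank, i ≠ j₀ ∧ ∃ t : F, g = xg D F (c.ng (c.p i)) t} =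
      Subgroup.closure {g : GL D.Idx F | ∃ s ∈ l, ∃ t : F, (g : Matrix D.Idx D.Idx F) = D.x F s t} := by
  have hD : Good D := ⟨c, hV⟩
  congr 1
  ext g
  constructor
  · rintro ⟨i, hi, hne, t, rfl⟩
    refine ⟨c.ng (c.p i), ?_, t, hD.coe_xg _ _⟩
    rw [← hl]
    exact List.mem_map.2 ⟨i, List.mem_filter.2 ⟨List.mem_range.2 (hV.rank_eq ▸ hi), by simpa using hne⟩, rfl⟩
  · rintro ⟨s, hs, t, ht⟩
    rw [← hl, List.mem_map] at hs
    obtain ⟨i, hi, rfl⟩ := hs
    rw [List.mem_filter, List.mem_range, hV.rank_eq] at hi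
    exact ⟨i, hi.1, by simpa using hi.2, t, hD.eq_xg ht⟩

/-- The subgroup generated by the root elements of a list of roots is the join of the root subgroups. -/
theorem closure_rootList_eq (l : List ℕ) :
    Subgroup.closure {g : GL D.Idx F | ∃ s ∈ l, ∃ t : F, (g : Matrix D.Idx D.Idx F) = D.x F s t} =
      l.foldl (fun K s => K ⊔ D.rootSubgroup F s) ⊥ := by
  induction l using List.reverseRecOn with
  | nil => simp
  | append_singleton l s ih =>
    rw [List.foldl_concat, ← ih, ChevalleyDatum.rootSubgroup, ← Subgroup.closure_union]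
    congr 1
    ext g
    simp only [List.mem_append, List.mem_singleton, Set.mem_union, Set.mem_setOf_eq]
    constructor
    · rintro ⟨r, hr | rfl, t, ht⟩
      · exact Or.inl ⟨r, hr, t, ht⟩
      · exact Or.inr ⟨t, ht⟩
    · rintro (⟨r, hr, t, ht⟩ | ⟨t, ht⟩)
      · exact ⟨r, Or.inl hr, t, ht⟩
      · exact ⟨s, Or.inr rfl, t, ht⟩

end Cfsg.Agent.Chev
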