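import Cfsg.Agent.Lib.Chev.TwistGroup
import Cfsg.Agent.Lib.Chev.TorusOrder

/-!
# The torus of a twisted Chevalley group
-/

set_option autoImplicit false

namespace Cfsg.Agent.Chev.BNSetup

open Cfsg.Lie

/-- A relation on the kernel of the torus map, from a combination of Cartan columns. -/
theorem ker_rel {D : ChevalleyDatum} {F : Type*} [Field F] (hG : Good D) {c : Fin D.rank → Fˣ}
    (hc : c ∈ (torusHom F D).ker) (w t : Fin D.rank → ℤ)
    (h : ∀ i : Fin D.rank, ∑ j : Fin D.rank, w j * D.cartan i.val (D.simple j.val) = t i) :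
    ∏ i, c i ^ t i = 1 := by
  have e := prod_zpow_comb c w
  rw [Finset.prod_eq_one fun j _ => by rw [(mem_ker_torusHom hG).1 hc j, one_zpow]] at e
  simp only [h] at e
  exact e.symm

/-- The units fixed by `x ↦ x ^ q`. -/
theorem card_fixed_units {K : Type*} [Field K] [Finite K] {φ : K ≃+* K} {q : ℕ}
    (hcard : Nat.card {x : K // φ x = x} = q) :
    Nat.card {x : Kˣ // Units.map (φ : K →* K) x = x} = q - 1 := by
  classical
  haveI := Fintype.ofFinite K
  let z : {x : K // φ x = x} := ⟨0, map_zero φ⟩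
  let e : {x : Kˣ // Units.map (φ : K →* K) x = x} ≃ {y : {x : K // φ x = x} // ¬ y = z} :=
    { toFun := fun x => ⟨⟨x.1, congrArg Units.val x.2⟩, fun h => x.1.ne_zero (congrArg Subtype.val h)⟩
      invFun := fun y => ⟨Units.mk0 y.1.1 fun h => y.2 (Subtype.ext h), Units.ext y.1.2⟩
      left_inv := fun x => Subtype.ext (Units.ext rfl)
      right_inv := fun y => rfl }
  rw [Nat.card_congr e, Nat.card_eq_fintype_card, Fintype.card_subtype_compl, Fintype.card_subtype_eq,
    ← Nat.card_eq_fintype_card, hcard]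

variable {D : ChevalleyDatum} (hG : Good D) {G : GraphTab} {O : OrbTab} {no nj : ℕ} [NeZero no] [NeZero nj]
  {tabs simps : List ℕ} (hO : O.OK no nj D G tabs simps) {F : Type*} [Field F] (φ : F ≃+* F)

/-- The symmetry of the nodes. -/
noncomputable def nodePerm : Equiv.Perm (Fin D.rank) :=
  Equiv.ofBijective (fun i => ⟨G.pi.getD i.val 0, (hO.1.1 i.val i.2).1⟩)
    (Finite.injective_iff_bijective.1 fun a b h => Fin.ext (GraphTab.gIdx_inj hO.1 (a := a.val) (b := b.val)
      (by have := a.2; omega) (by have := b.2; omega) (by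
        simp only [GraphTab.gIdx, if_pos a.2, if_pos b.2]
        exact congrArg Fin.val h)))

/-- The action on the torus. -/
noncomputable def torusAut : (Fin D.rank → Fˣ) →* (Fin D.rank → Fˣ) where
  toFun τ i := Units.map (φ : F →* F) (τ ((nodePerm hO).symm i))
  map_one' := by funext i; simp
  map_mul' a b := by funext i; simp

theorem nodePerm_val (i : Fin D.rank) : (nodePerm hO i).val = G.pi.getD i.val 0 := rfl

theorem torusAut_node (τ : Fin D.rank → Fˣ) (i : Fin D.rank) :
    torusAut hO φ τ (nodePerm hO i) = Units.map (φ : F →* F) (τ i) := by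
  simp [torusAut]

/-- The fixed torus. -/
noncomputable def fixedTorus : Subgroup (Fin D.rank → Fˣ) :=
  (torusAut hO φ).eqLocus (MonoidHom.id _)

theorem mem_fixedTorus {τ : Fin D.rank → Fˣ} :
    τ ∈ fixedTorus hO φ ↔ ∀ i, τ (nodePerm hO i) = Units.map (φ : F →* F) (τ i) := by
  constructor
  · intro h i
    rw [← torusAut_node hO φ τ i]
    exact (congrFun h _).symm
  · intro h
    funext i
    obtain ⟨k, rfl⟩ := (nodePerm hO).surjective i
    rw [torusAut_node, ← h k]
    rfl

variable (hf : Facts D tabs simps) (hcol : ∃ c, Valid D c ∧ G.colsOK D c = true)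
include hG hf hcol

theorem aut_torusHom (τ : Fin D.rank → Fˣ) :
    GraphTab.aut hO.1 φ (torusHom F D τ) = torusHom F D (torusAut hO φ τ) := by
  classical
  rw [← Finset.univ_prod_mulSingle τ]
  refine Finset.prod_induction _
    (fun x => GraphTab.aut hO.1 φ (torusHom F D x) = torusHom F D (torusAut hO φ x)) ?_ ?_ fun i _ => ?_
  · intro a b ha hb
    simp only [map_mul, ha, hb]
  · simp only [map_one]
  · show GraphTab.aut hO.1 φ (torusHom F D (Pi.mulSingle i (τ i))) = _
    have e : torusAut hO φ (Pi.mulSingle i (τ i)) =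
        Pi.mulSingle (nodePerm hO i) (Units.map (φ : F →* F) (τ i)) := by
      funext k
      obtain ⟨m, rfl⟩ := (nodePerm hO).surjective k
      rw [torusAut_node]
      by_cases hm : m = i
      · subst hm; simp
      · rw [Pi.mulSingle_eq_of_ne hm, Pi.mulSingle_eq_of_ne ((nodePerm hO).injective.ne hm), map_one]
    rw [e, torusHom_single hG, torusHom_single hG, he, map_mul,
      GraphTab.aut_ne'_simple hG hf hO.1 hcol φ i.2, GraphTab.aut_ne'_simple hG hf hO.1 hcol φ i.2,
      map_neg, map_one]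
    rfl

theorem fixed_diagonal_le {m d : ℕ} (hcop : Nat.Coprime m d) (hπ : ∀ i, (nodePerm hO)^[m] i = i)
    (hφ : ∀ x, φ^[m] x = x) (Bm : ℕ → ℕ → ℤ)
    (hBm : ∀ k i : Fin D.rank,
      ∑ j : Fin D.rank, Bm j k * D.cartan i.val (D.simple j.val) = if i = k then (d : ℤ) else 0)
    {h : GL D.Idx F} (hh : h ∈ D.diagonalSubgroup F) (hfix : GraphTab.aut hO.1 φ h = h) :
    h ∈ (fixedTorus hO φ).map (torusHom F D) := by
  classical
  rw [diagonal_eq_range hG] at hh
  obtain ⟨τ, rfl⟩ := hh
  rw [aut_torusHom hG hO φ hf hcol] at hfix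
  set s := torusAut hO φ with hs
  -- the `d`-th power
  have hd : s (τ ^ d) = τ ^ d := by
    have hz : s τ * τ⁻¹ ∈ (torusHom F D).ker := by
      rw [MonoidHom.mem_ker, map_mul, map_inv, hfix, mul_inv_cancel]
    have hzd : (s τ * τ⁻¹) ^ d = 1 := by
      funext k
      have h1 := prod_zpow_comb (s τ * τ⁻¹) (fun j : Fin D.rank => Bm j k)
      rw [Finset.prod_eq_one fun j _ => by rw [(mem_ker_torusHom hG).1 hz j, one_zpow]] at h1
      simp only [hBm, apply_ite, zpow_natCast, zpow_zero, Finset.prod_ite_eq', Finset.mem_univ, if_true] at h1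
      rw [Pi.pow_apply, Pi.one_apply]
      exact h1.symm
    rw [mul_pow, inv_pow, mul_inv_eq_one] at hzd
    rw [map_pow, hzd]
  -- the `m`-th power
  have hper : ∀ (n : ℕ) (x : Fin D.rank → Fˣ) (i : Fin D.rank),
      ((s^[n] x) ((nodePerm hO)^[n] i) : F) = φ^[n] (x i : F) := by
    intro n x i
    induction n with
    | zero => rfl
    | succ n ih =>
      rw [Function.iterate_succ_apply', Function.iterate_succ_apply', Function.iterate_succ_apply', hs,
        torusAut_node, Units.coe_map, MonoidHom.coe_coe, ← hs, ih]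
  have hm : s^[m] τ = τ := by
    funext i
    apply Units.ext
    have := hper m τ i
    rwa [hπ, hφ] at this
  set N := ∏ i ∈ Finset.range m, s^[i] τ with hN
  have hNfix : s N = N := by
    cases m with
    | zero => simp [hN]
    | succ m =>
      rw [hN, map_prod, Finset.prod_congr rfl fun i _ => (Function.iterate_succ_apply' s i τ).symm,
        Finset.prod_range_succ, hm, mul_comm, Finset.prod_range_succ' _ m]
      simp [mul_comm]
  have hψ : ∀ i, torusHom F D (s^[i] τ) = torusHom F D τ := by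
    intro i
    induction i with
    | zero => rfl
    | succ i ih =>
      rw [Function.iterate_succ_apply', hs, ← aut_torusHom hG hO φ hf hcol, ← hs, ih,
        aut_torusHom hG hO φ hf hcol, hfix]
  have hNψ : torusHom F D N = torusHom F D τ ^ m := by
    have : ∀ n, torusHom F D (∏ i ∈ Finset.range n, s^[i] τ) = torusHom F D τ ^ n := by
      intro n
      induction n with
      | zero => simp
      | succ n ih => rw [Finset.prod_range_succ, map_mul, ih, hψ, pow_succ]
    exact this m
  have h1 : torusHom F D τ ^ m ∈ (fixedTorus hO φ).map (torusHom F D) := ⟨N, hNfix, hNψ⟩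
  have h2 : torusHom F D τ ^ d ∈ (fixedTorus hO φ).map (torusHom F D) := ⟨τ ^ d, hd, map_pow _ _ _⟩
  obtain ⟨a, b, hab⟩ := Int.isCoprime_iff_gcd_eq_one.2 (show Int.gcd (m : ℤ) (d : ℤ) = 1 from hcop)
  have h3 := Subgroup.mul_mem _ (Subgroup.zpow_mem _ h1 a) (Subgroup.zpow_mem _ h2 b)
  rw [← zpow_natCast, ← zpow_natCast, ← zpow_mul, ← zpow_mul, ← zpow_add,
    mul_comm (m : ℤ) a, mul_comm (d : ℤ) b, hab, zpow_one] at h3
  exact h3

variable (hn : NegTri D)
include hn

theorem ne'_commute {J : List ℕ} (hJ : CommOK D J) {a b : ℕ} (ha : a ∈ J) (hb : b ∈ J) (hne : a ≠ b)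
    (t u : F) : Commute (ne' hG (D.simple a) t) (ne' hG (D.simple b) u) := by
  have _ := hn
  have hc := fun {r s : ℕ} (hr : r ∈ [D.simple a, D.neg (D.simple a)]) (hs : s ∈ [D.simple b, D.neg (D.simple b)])
    (x y : F) => xe_commute hG hJ ha hb hne hr hs x y
  exact ((((hc (by simp) (by simp) _ _).mul_right (hc (by simp) (by simp) _ _)).mul_right
      (hc (by simp) (by simp) _ _)).mul_left
    (((hc (by simp) (by simp) _ _).mul_right (hc (by simp) (by simp) _ _)).mul_right
      (hc (by simp) (by simp) _ _))).mul_left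
    (((hc (by simp) (by simp) _ _).mul_right (hc (by simp) (by simp) _ _)).mul_right
      (hc (by simp) (by simp) _ _))

theorem prod_ne'_mem_Gt (j : Fin nj) {a : ℕ → F} (ha : Compat G φ (O.Jl nj j) a) :
    ((O.Jl nj j).map fun k => ne' hG (D.simple k) (a k)).prod ∈ (twist hG hO φ).Gt := by
  have hS := hO.2.2.1 j
  have hp := (pv_mem_Gt hG hO φ hf hn hcol j ha).1
  have hq := (pv_mem_Gt hG hO φ hf hn hcol j (a := fun k => -(a k)⁻¹)
    fun k hk => by rw [map_neg, map_inv₀, ← ha k hk]).2
  have := Subgroup.mul_mem _ (Subgroup.mul_mem _ hp hq) hp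
  rw [pv, pv, ← prod_map_mul_comm _ _ _ hS.1.2.1 (fun a ha b hb hne => xe_commute hG hS.1 ha hb hne
      (by simp) (by simp) _ _),
    ← prod_map_mul_comm _ _ _ hS.1.2.1 (fun a ha b hb hne => (xe_commute hG hS.1 ha hb hne
      (by simp) (by simp) _ _).mul_left (xe_commute hG hS.1 ha hb hne (by simp) (by simp) _ _))] at this
  exact this

theorem prod_he_mem_Gt (j : Fin nj) {a : ℕ → F} (ha : Compat G φ (O.Jl nj j) a) :
    ((O.Jl nj j).map fun k => he hG (D.simple k) (a k)).prod ∈ (twist hG hO φ).Gt := by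
  have hS := hO.2.2.1 j
  have h1 := prod_ne'_mem_Gt hG hO φ hf hcol hn j ha
  have h2 := prod_ne'_mem_Gt hG hO φ hf hcol hn j (a := fun _ => -1) fun k _ => by rw [map_neg, map_one]
  simp only [he]
  rw [prod_map_mul_comm _ _ _ hS.1.2.1 fun x hx y hy hne => ne'_commute hG hf hcol hn hS.1 hx hy hne _ _]
  exact Subgroup.mul_mem _ h1 h2

theorem map_fixedTorus_le_of (hall : ∀ k < D.rank, ∃ j : Fin nj, k ∈ O.Jl nj j) {K : Subgroup (GL D.Idx F)}
    (hK : ∀ j, ∀ a, Compat G φ (O.Jl nj j) a → (∀ k ∈ O.Jl nj j, a k ≠ 0) →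
      ((O.Jl nj j).map fun k => he hG (D.simple k) (a k)).prod ∈ K) :
    (fixedTorus hO φ).map (torusHom F D) ≤ K := by
  have _ := hn
  classical
  rintro _ ⟨τ, hτ, rfl⟩
  have huniq : ∀ {j j' : Fin nj} {k : ℕ}, k ∈ O.Jl nj j → k ∈ O.Jl nj j' → j = j' := by
    intro j j' k hk hk'
    have hk0 := hG.simple_lt ((hO.2.2.1 j).1.1 k hk)
    exact hO.2.2.2.1 j j' (((orb_simple hO hf j ⟨_, hk0⟩).2 ⟨k, hk, rfl⟩).symm.trans
      ((orb_simple hO hf j' ⟨_, hk0⟩).2 ⟨k, hk', rfl⟩))
  have e : τ = ∏ j : Fin nj, fun i : Fin D.rank => if i.val ∈ O.Jl nj j then τ i else 1 := by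
    funext i
    obtain ⟨j, hj⟩ := hall i.val i.2
    rw [Finset.prod_apply, Finset.prod_eq_single j, if_pos hj]
    · intro j' _ hne
      rw [if_neg fun h => hne (huniq h hj)]
    · simp
  rw [e]
  refine Finset.prod_induction _ (fun x => torusHom F D x ∈ K) ?_ ?_ fun j _ => ?_
  · intro a b ha hb
    simp only [map_mul]
    exact Subgroup.mul_mem _ ha hb
  · simp only [map_one]
    exact Subgroup.one_mem _
  · let a : ℕ → F := fun k => if hk : k < D.rank then (τ ⟨k, hk⟩ : F) else 0
    have hS := hO.2.2.1 j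
    have ha : Compat G φ (O.Jl nj j) a := by
      intro k hk
      have hk' := hS.1.1 k hk
      simp only [a, dif_pos hk', dif_pos (hO.1.1 k hk').1]
      exact congrArg Units.val ((mem_fixedTorus hO φ).1 hτ ⟨k, hk'⟩)
    have key : ∀ L : List ℕ, (∀ k ∈ L, k < D.rank) → L.Nodup →
        torusHom F D (fun i : Fin D.rank => if i.val ∈ L then τ i else 1) =
          (L.map fun k => he hG (D.simple k) (a k)).prod := by
      intro L
      induction L with
      | nil => intro _ _; simp [show (fun _ : Fin D.rank => (1 : Fˣ)) = 1 from rfl]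
      | cons k L ih =>
        intro hlt hnd
        rw [List.nodup_cons] at hnd
        have hk := hlt k List.mem_cons_self
        rw [List.map_cons, List.prod_cons, ← ih (fun x hx => hlt x (List.mem_cons_of_mem _ hx)) hnd.2,
          show a k = (τ ⟨k, hk⟩ : F) from dif_pos hk,
          show D.simple k = D.simple (⟨k, hk⟩ : Fin D.rank).val from rfl, ← torusHom_single hG, ← map_mul]
        congr 1
        funext i
        by_cases hik : i = ⟨k, hk⟩
        · subst hik; simp [hnd.1]
        · have : i.val ≠ k := fun h => hik (Fin.ext h)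
          simp [hik, this]
    show torusHom F D _ ∈ _
    rw [key _ hS.1.1 hS.1.2.1]
    exact hK j a ha fun k hk => by simp only [a, dif_pos (hS.1.1 k hk)]; exact Units.ne_zero _

theorem map_fixedTorus_le (hall : ∀ k < D.rank, ∃ j : Fin nj, k ∈ O.Jl nj j) :
    (fixedTorus hO φ).map (torusHom F D) ≤ (twist hG hO φ).Gt :=
  map_fixedTorus_le_of hG hO φ hf hcol hn hall fun j _ ha _ => prod_he_mem_Gt hG hO φ hf hcol hn j ha

/-- `|H ∩ G¹|` times the fixed part of the kernel. -/
theorem card_diagonal_inf (hall : ∀ k < D.rank, ∃ j : Fin nj, k ∈ O.Jl nj j) {m d : ℕ}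
    (hcop : Nat.Coprime m d) (hπ : ∀ i, (nodePerm hO)^[m] i = i) (hφ : ∀ x, φ^[m] x = x) (Bm : ℕ → ℕ → ℤ)
    (hBm : ∀ k i : Fin D.rank,
      ∑ j : Fin D.rank, Bm j k * D.cartan i.val (D.simple j.val) = if i = k then (d : ℤ) else 0) :
    Nat.card ((torusHom F D).ker ⊓ fixedTorus hO φ : Subgroup _) *
        Nat.card ↥(D.diagonalSubgroup F ⊓ (twist hG hO φ).Gt) =
      Nat.card (fixedTorus hO φ) := by
  have e : D.diagonalSubgroup F ⊓ (twist hG hO φ).Gt = (fixedTorus hO φ).map (torusHom F D) := by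
    refine le_antisymm ?_ (le_inf ?_ (map_fixedTorus_le hG hO φ hf hcol hn hall))
    · rintro h ⟨hh, hgt⟩
      exact fixed_diagonal_le hG hO φ hf hcol hcop hπ hφ Bm hBm hh
        (RootBN.Twist.mem_Fix.1 (RootBN.Twist.Gt_le_Fix hgt))
    · rw [diagonal_eq_range hG]
      exact Subgroup.map_le_range _ _
  rw [e, ← ((torusHom F D).subgroupMap (fixedTorus hO φ)).ker.card_mul_index, Subgroup.index_ker]
  congr 1
  · refine Nat.card_congr ⟨fun x => ⟨⟨x.1, x.2.2⟩, Subtype.ext x.2.1⟩,
      fun x => ⟨x.1.1, congrArg Subtype.val x.2, x.1.2⟩, fun x => rfl, fun x => rfl⟩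
  · rw [MonoidHom.range_eq_top.2 ((torusHom F D).subgroupMap_surjective _), Subgroup.card_top]

end Cfsg.Agent.Chev.BNSetup
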