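import Cfsg.Agent.Lib.Chev.TwistD4Group
import Cfsg.Agent.Lib.Chev.TwistTorus

/-!
# The torus of `³D₄(q)`
-/

set_option autoImplicit false

namespace Cfsg.Agent.Chev.BNSetup

open Cfsg.Lie

variable {K : Type*} [Field K]

/-- Twice the inverse Cartan matrix of `D₄`. -/
def invCartanD4 (j k : ℕ) : ℤ :=
  ([[2, 2, 1, 1], [2, 4, 2, 2], [1, 2, 2, 1], [1, 2, 1, 2]] : List (List ℤ))[j]!.getD k 0

/-- The fixed torus of `³D₄`. -/
noncomputable def fixedTorusD4Equiv (φ : K ≃+* K) (hcube : ∀ x, φ (φ (φ x)) = x) :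
    fixedTorus orbD4_ok φ ≃ {x : Kˣ // Units.map (φ : K →* K) x = x} × Kˣ where
  toFun τ := (⟨(show Fin 4 → Kˣ from τ.1) 1, ((mem_fixedTorus orbD4_ok φ).1 τ.2 ⟨1, by decide⟩).symm⟩,
    (show Fin 4 → Kˣ from τ.1) 0)
  invFun p := ⟨(![p.2, p.1.1, Units.map (φ : K →* K) p.2,
      Units.map (φ : K →* K) (Units.map (φ : K →* K) p.2)] : Fin 4 → Kˣ), (mem_fixedTorus orbD4_ok φ).2 (by
    show ∀ i : Fin 4, _
    intro i
    fin_cases i
    · rfl
    · exact p.1.2.symm
    · rfl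
    · exact Units.ext (hcube (p.2 : K)).symm)⟩
  left_inv τ := by
    have h := (mem_fixedTorus orbD4_ok φ).1 τ.2
    apply Subtype.ext
    show (_ : Fin 4 → Kˣ) = _
    funext i
    fin_cases i
    · rfl
    · rfl
    · exact (h ⟨0, by decide⟩).symm
    · exact ((h ⟨2, by decide⟩).trans (congrArg _ (h ⟨0, by decide⟩))).symm
  right_inv p := rfl

theorem ker_inf_fixedTorusD4 (φ : K ≃+* K) :
    (torusHom K chevD4).ker ⊓ fixedTorus orbD4_ok φ = ⊥ := by
  rw [eq_bot_iff]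
  rintro τ ⟨hk, hτ⟩
  have h := (mem_fixedTorus orbD4_ok φ).1 hτ
  let c : Fin 4 → Kˣ := τ
  have e1 := ker_rel D4.good hk (fun i => [1, 2, 1, 1].getD i.val 0)
      (fun i => [0, 1, 0, 0].getD i.val 0) (by decide +kernel)
  have e0 := ker_rel D4.good hk (fun i => [2, 2, 1, 1].getD i.val 0)
      (fun i => [2, 0, 0, 0].getD i.val 0) (by decide +kernel)
  have e2 := ker_rel D4.good hk (fun i => [2, 3, 2, 2].getD i.val 0)
      (fun i => [1, 0, 1, 1].getD i.val 0) (by decide +kernel)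
  replace e1 : c 1 = 1 := by
    change (∏ i : Fin 4, c i ^ ([0, 1, 0, 0] : List ℤ).getD i.val 0) = 1 at e1
    simpa [Fin.prod_univ_four] using e1
  replace e0 : c 0 ^ 2 = 1 := by
    change (∏ i : Fin 4, c i ^ ([2, 0, 0, 0] : List ℤ).getD i.val 0) = 1 at e0
    simpa [Fin.prod_univ_four] using e0
  replace e2 : c 0 * c 2 * c 3 = 1 := by
    change (∏ i : Fin 4, c i ^ ([1, 0, 1, 1] : List ℤ).getD i.val 0) = 1 at e2
    simpa [Fin.prod_univ_four] using e2
  have hfix : Units.map (φ : K →* K) (c 0) = c 0 := by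
    have h1 : (c 0 : K) * c 0 = 1 := by rw [← Units.val_mul, ← sq, e0, Units.val_one]
    rcases mul_self_eq_one_iff.1 h1 with h1 | h1
    · exact Units.ext (show φ (c 0 : K) = c 0 by rw [h1, map_one])
    · exact Units.ext (show φ (c 0 : K) = c 0 by rw [h1, map_neg, map_one])
  have h2 : c 2 = c 0 := (h ⟨0, by decide⟩).trans hfix
  have h3 : c 3 = c 0 := (h ⟨2, by decide⟩).trans ((congrArg _ h2).trans hfix)
  rw [h2, h3, ← sq, e0, one_mul] at e2
  rw [Subgroup.mem_bot]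
  show c = 1
  funext i
  fin_cases i
  · exact e2
  · exact e1
  · exact h2.trans e2
  · exact h3.trans e2

theorem card_diagonal_inf_D4 [Fintype K] {q : ℕ} (hK : Fintype.card K = q ^ 3) {φ : K ≃+* K}
    (hcube : ∀ x, φ (φ (φ x)) = x) (hcard : Nat.card {x : K // φ x = x} = q) :
    Nat.card ↥(chevD4.diagonalSubgroup K ⊓ (tw3D4 φ).Gt) = (q - 1) * (q ^ 3 - 1) := by
  have h := card_diagonal_inf (F := K) D4.good orbD4_ok φ facts_chevD4 graphD4_cols negTri_chevD4
    (by decide +kernel) (m := 3) (d := 2) (by norm_num)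
    (by show ∀ i : Fin 4, _; intro i; fin_cases i <;> rfl) hcube invCartanD4 (by decide +kernel)
  rw [ker_inf_fixedTorusD4, Subgroup.card_bot, one_mul, Nat.card_congr (fixedTorusD4Equiv φ hcube),
    Nat.card_prod, card_fixed_units hcard, Nat.card_units, show Nat.card K = _ from Nat.card_eq_fintype_card.trans hK] at h
  exact h

end Cfsg.Agent.Chev.BNSetup
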