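/-
Defect groups of the blocks of a Chevalley group in its own characteristic: trivial or Sylow.
-/
import Cfsg.Agent.Lib.Chev.WeylLinear
import Cfsg.Agent.Lib.Chev.Sylow
import Cfsg.Agent.Lib.BlocksX.Green

set_option autoImplicit false

namespace Cfsg.Agent.Chev.BNSetup

open Cfsg.Lie
open Cfsg.Agent.RootBN (Data)

variable {F : Type*} [Field F] {D : ChevalleyDatum} (hG : Good D) {tabs simps : List ℕ}

/-- A subgroup conjugate under `B` to some `U ∩ n U n⁻¹` centralised by an element of `n B`. -/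
def InterShape (F : Type*) [Field F] (K : Subgroup (GL D.Idx F)) : Prop :=
  ∃ l : List (Fin D.rank), ∃ b ∈ (data hG F).B, ∃ c ∈ (data hG F).B,
    (∀ g, g ∈ K ↔ b⁻¹ * g * b ∈ Inter hG F l) ∧
      ∀ g ∈ Inter hG F l, (data hG F).nw l * c * g = g * ((data hG F).nw l * c)

variable (hf : Facts D tabs simps)
include hG hf

/-- The group part: a shape contained in the Sylow group whose conjugates in it have the same shape is
trivial or everything. -/
theorem interShape_dichotomy [Fintype F] (hn : NegTri D) {w0 : List ℕ} (hw : IsLongest D tabs w0)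
    {k : List ℤ} (hk : PosForm D k) (hlink : Linked D) {K : Subgroup (GL D.Idx F)}
    (hK : InterShape hG F K)
    (hconj : ∀ x ∈ D.group F, K.map (MulAut.conj x).toMonoidHom ≤ (data hG F).U →
      InterShape hG F (K.map (MulAut.conj x).toMonoidHom)) :
    K = ⊥ ∨ (data hG F).U ≤ K := by
  classical
  have ax := axioms (F := F) hG hf
  obtain ⟨l, b, hb, c, hc, hmem, hcen⟩ := hK
  set J : Finset ℕ := (Finset.range D.rank).filter fun i => Keep hG F l (D.simple i) with hJ
  by_cases hJ1 : J = Finset.range D.rank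
  · right
    have hwl : (data hG F).wl l = 1 := wl_eq_one_of_keep hG hf fun i => by
      have : i.val ∈ J := by rw [hJ1]; exact Finset.mem_range.2 i.2
      exact (Finset.mem_filter.1 this).2
    have hH : (data hG F).nw l ∈ (data hG F).H :=
      RootBN.Data.mem_H_of_pos_preserving ax (RootBN.Data.nw_mem_N l) (RootBN.Data.acts_nw ax l)
        fun r hr => by rwa [hwl]
    intro g hg
    have hBU : ∀ x ∈ (data hG F).B, ∀ u ∈ (data hG F).U, x * u * x⁻¹ ∈ (data hG F).U := by
      intro x hx u hu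
      rw [data_U hG hf, ← Uge_eq_U hG hf] at hu ⊢
      exact borel_conj_Uge hG hf le_rfl hx hu
    have h1 : b⁻¹ * g * b ∈ (data hG F).U := by
      simpa using hBU _ (Subgroup.inv_mem _ hb) g hg
    refine (hmem g).2 ((mem_Inter hG).2 ⟨h1, ?_⟩)
    simpa using RootBN.Data.H_conj_U ax (Subgroup.inv_mem _ hH) h1
  by_cases hJ0 : J.Nonempty
  swap
  · left
    have hnone : ∀ i : Fin D.rank, ¬ Keep hG F l (D.simple i.val) := fun i h => hJ0
      ⟨i.val, Finset.mem_filter.2 ⟨Finset.mem_range.2 i.2, h⟩⟩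
    rw [Subgroup.eq_bot_iff_forall]
    intro g hg
    obtain ⟨t, ht, e⟩ := exists_prodFrom_Inter hG hf hn l ((hmem g).1 hg)
    have h1 : b⁻¹ * g * b ∈ (⊥ : Subgroup (GL D.Idx F)) := by
      rw [e]
      exact prodFrom_mem_of hG (by have := hf.1; omega) fun r _ _ h =>
        absurd (ht r h) (not_keep_of_simple hG hf hw hnone r)
    rw [Subgroup.mem_bot] at h1
    have h2 : g = b * 1 * b⁻¹ := by rw [← h1]; group
    simpa using h2
  exfalso
  obtain ⟨a, ha, β, hβ, hab⟩ := hlink J (Finset.mem_powerset.2 (Finset.filter_subset _ _)) hJ0 hJ1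
  obtain ⟨haR, haK⟩ := Finset.mem_filter.1 ha
  obtain ⟨hβR, hβJ⟩ := Finset.mem_sdiff.1 hβ
  have hβK : ¬ Keep hG F l (D.simple β) := fun h => hβJ (Finset.mem_filter.2 ⟨hβR, h⟩)
  rw [Finset.mem_range] at haR hβR
  set i : Fin D.rank := ⟨β, hβR⟩ with hidef
  set n := (data hG F).nn i with hndef
  -- conjugation moves the intersection into `U ∩ n U n⁻¹` for the reflection
  have hmove : ∀ g ∈ Inter hG F l, n * g * n⁻¹ ∈ Inter hG F [i] := by
    intro g hg
    obtain ⟨t, ht, rfl⟩ := exists_prodFrom_Inter hG hf hn l hg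
    refine prodFrom_mem_of hG (K := (Inter hG F [i]).comap (MulAut.conj n).toMonoidHom)
      (by have := hf.1; omega) fun r h1 h2 h => ?_
    have hr : r < D.nroots := by have := hf.1; omega
    have hne : r ≠ D.simple β := fun e => hβK (e ▸ ht r h)
    have hpos : (data hG F).Pos ((data hG F).refl i ⟨r, hr⟩) :=
      ax.refl_pos i (⟨r, hr⟩ : Fin D.nroots) h1 fun e => hne (congrArg Fin.val e)
    simp only [Subgroup.mem_comap, MulEquiv.coe_toMonoidHom, MulAut.conj_apply]
    refine (mem_Inter hG).2 ⟨RootBN.Data.X_le_U hpos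
      (ax.conj_X i ⟨r, hr⟩ _ ((mem_rootSubgroup hG hr).2 ⟨t r, rfl⟩)), ?_⟩
    rw [RootBN.Data.nw_cons, RootBN.Data.nw_nil, mul_one]
    have : xe hG r (t r) ∈ (data hG F).U :=
      RootBN.Data.X_le_U (D := data hG F) (r := (⟨r, hr⟩ : Fin D.nroots)) h1
        ((mem_rootSubgroup hG hr).2 ⟨_, rfl⟩)
    simpa [hndef, mul_assoc] using this
  have hx : n * b⁻¹ ∈ D.group F := by
    rw [← data_grp hG]
    exact Subgroup.mul_mem _ (ax.nn_mem i) (Subgroup.inv_mem _ (RootBN.Data.B_le_grp ax hb))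
  have hsub : ∀ g, g ∈ K.map (MulAut.conj (n * b⁻¹)).toMonoidHom ↔ n⁻¹ * g * n ∈ Inter hG F l := by
    intro g
    rw [Subgroup.mem_map_equiv, MulAut.conj_symm_apply, hmem]
    exact iff_of_eq (congrArg (· ∈ Inter hG F l) (by group))
  have hinto : ∀ g ∈ K.map (MulAut.conj (n * b⁻¹)).toMonoidHom, g ∈ Inter hG F [i] := fun g hg => by
    simpa [mul_assoc] using hmove _ ((hsub g).1 hg)
  obtain ⟨l', b', hb', c', hc', hmem', hcen'⟩ := hconj _ hx fun g hg => ((mem_Inter hG).1 (hinto g hg)).1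
  have hA := hG.simple_lt haR
  refine no_middle hG hf hk (fun r hr h => fixed_of_centralises hG hf hc' hcen' hr h)
    (a := ⟨a, haR⟩) (b := i) hab ?_ ?_
  · -- the reflected root leads some element of the conjugate
    obtain ⟨e, he2, hx', -⟩ := exists_conj hG (F := F) i.2 hA
    have he0 : e ≠ 0 := fun h => by simp [h] at he2
    have hy : xe hG (D.reflectRoot β (D.simple a)) e ∈ K.map (MulAut.conj (n * b⁻¹)).toMonoidHom := by
      rw [hsub]
      have := xe_mem_Inter hG hf haK (1 : F)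
      have e1 := hx' 1
      rw [mul_one] at e1
      rw [← e1]
      simpa [hndef, mul_assoc, data] using this
    have hne : D.simple a ≠ D.simple β := fun h => hβK (h ▸ haK)
    have hpos : D.nroots / 2 ≤ D.reflectRoot β (D.simple a) :=
      ((hf.2.2.2.2.1 β hβR).2.2.2.1 _ hA).2 (hf.2.2.2.2.1 a haR).2.1 hne
    refine Keep_of_Lead hG hf hn ((hmem' _).1 hy) ?_
    simpa using Lead_conj hG hf (Subgroup.inv_mem _ hb')
      (Lead_xe hG hf (hG.reflectRoot_lt hβR hA) hpos he0)
  · intro h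
    set y : GL D.Idx F := b' * xe hG (D.simple β) 1 * b'⁻¹ with hy
    have hyK : y ∈ K.map (MulAut.conj (n * b⁻¹)).toMonoidHom := by
      rw [hmem', hy]
      simpa [mul_assoc] using xe_mem_Inter hG hf h (1 : F)
    have hlead : Lead hG F y (D.simple β) :=
      Lead_conj hG hf hb' (Lead_xe hG hf (hG.simple_lt hβR) (hf.2.2.2.2.1 β hβR).2.1 one_ne_zero)
    obtain ⟨hr, -, hp⟩ := Keep_of_Lead hG hf hn (hinto y hyK) hlead
    rw [RootBN.Data.wl_cons, RootBN.Data.wl_nil, mul_one, RootBN.Data.refl_inv ax] at hp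
    exact RootBN.Data.not_pos_opp_simp ax i ((ax.refl_simp i).symm ▸ hp)

/-- A defect group inside the Sylow group `U` has the shape of an intersection. -/
theorem interShape_of_defectGroup [Fintype F] (p : ℕ) [Fact p.Prime] [CharP F p] {M : Ideal AlgInt}
    [M.IsMaximal] (hpM : (p : AlgInt) ∈ M) {B : Set (IrrCharacter ↥(D.group F))} (hB : IsPBlock M B)
    {K : Subgroup ↥(D.group F)} (hK : IsDefectGroup p M B K)
    (hKU : K.map (D.group F).subtype ≤ (data hG F).U) : InterShape hG F (K.map (D.group F).subtype) := by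
  have ax := axioms (F := F) hG hf
  obtain ⟨P, hP⟩ := ChevSylow.exists_sylow p hG hf (F := F)
  have hKP : K ≤ P := fun x hx => by
    rw [hP, Subgroup.mem_subgroupOf, ← data_U hG hf]
    exact hKU ⟨x, hx, rfl⟩
  obtain ⟨x, -, hxC, hxI⟩ := Cfsg.Agent.BlocksX.green hpM hB hK P hKP
  have hxG : (x : GL D.Idx F) ∈ (data hG F).grp := by rw [data_grp hG]; exact x.2
  obtain ⟨b, hb, l, u, hu, e⟩ := RootBN.Data.exists_normal_form ax hxG
  have huB : u ∈ (data hG F).B := RootBN.Data.U_le_B (RootBN.Data.Um_le_U _ hu)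
  have hBU : ∀ x ∈ (data hG F).B, ∀ v, x * v * x⁻¹ ∈ (data hG F).U ↔ v ∈ (data hG F).U := by
    intro x hx v
    rw [data_U hG hf, ← Uge_eq_U hG hf]
    exact borel_conj_Uge_iff hG hf le_rfl hx
  have hPU : ∀ z : ↥(D.group F), z ∈ (P : Subgroup ↥(D.group F)) ↔ (z : GL D.Idx F) ∈ (data hG F).U :=
    fun z => by rw [hP, Subgroup.mem_subgroupOf, data_U hG hf]
  have hmem : ∀ g, g ∈ K.map (D.group F).subtype ↔ b⁻¹ * g * b ∈ Inter hG F l := by
    intro g
    have hbU : ∀ g, b⁻¹ * g * b ∈ (data hG F).U ↔ g ∈ (data hG F).U := fun g => by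
      simpa using hBU _ (Subgroup.inv_mem _ hb) g
    have huU : ∀ v, u⁻¹ * v * u ∈ (data hG F).U ↔ v ∈ (data hG F).U := fun v => by
      simpa using hBU _ (Subgroup.inv_mem _ huB) v
    rw [mem_Inter, hbU, ← huU (((data hG F).nw l)⁻¹ * (b⁻¹ * g * b) * (data hG F).nw l)]
    have e' : u⁻¹ * (((data hG F).nw l)⁻¹ * (b⁻¹ * g * b) * (data hG F).nw l) * u =
        (x : GL D.Idx F)⁻¹ * g * x := by rw [e]; group
    rw [e']
    constructor
    · rintro ⟨z, hz, rfl⟩
      rw [SetLike.mem_coe, ← hxI] at hz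
      obtain ⟨hz1, hz2'⟩ := Subgroup.mem_inf.1 hz
      have hz2 := hz2'
      rw [Subgroup.mem_map_equiv, MulAut.conj_symm_apply, hPU] at hz2
      exact ⟨(hPU z).1 hz1, by simpa using hz2⟩
    · rintro ⟨h1, h2⟩
      have hg : g ∈ D.group F := ChevSylow.posUnipotent_le_group hG hf (by rwa [← data_U hG hf])
      refine ⟨⟨g, hg⟩, ?_, rfl⟩
      rw [SetLike.mem_coe, ← hxI]
      exact Subgroup.mem_inf.2
        ⟨(hPU _).2 h1, by rw [Subgroup.mem_map_equiv, MulAut.conj_symm_apply, hPU]; simpa using h2⟩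
  refine ⟨l, b, hb, u * b, Subgroup.mul_mem _ huB hb, hmem, fun g hg => ?_⟩
  have hg' : b * g * b⁻¹ ∈ K.map (D.group F).subtype := by
    rw [hmem]
    simpa [mul_assoc] using hg
  obtain ⟨z, hz, hzg⟩ := hg'
  have hcomm : (x : GL D.Idx F) * (b * g * b⁻¹) = b * g * b⁻¹ * x := by
    have h := congrArg Subtype.val (Cfsg.Agent.Blocks.le_centralizer_singleton.1 hxC.1 z hz)
    simp only [Subgroup.coe_mul] at h
    rw [← hzg]
    exact h.symm
  rw [e] at hcomm
  calc (data hG F).nw l * (u * b) * g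
      = b⁻¹ * (b * (data hG F).nw l * u * (b * g * b⁻¹)) * b := by group
    _ = g * ((data hG F).nw l * (u * b)) := by rw [hcomm]; group

/-- **Defect groups in the defining characteristic**: trivial or Sylow. -/
theorem defectGroup_trivial_or_sylow [Fintype F] (p : ℕ) [Fact p.Prime] [CharP F p] (hn : NegTri D)
    {w0 : List ℕ} (hw : IsLongest D tabs w0) {k : List ℤ} (hk : PosForm D k) (hlink : Linked D)
    {M : Ideal AlgInt} [M.IsMaximal] (hpM : (p : AlgInt) ∈ M) {B : Set (IrrCharacter ↥(D.group F))}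
    (hB : IsPBlock M B) {K : Subgroup ↥(D.group F)} (hK : IsDefectGroup p M B K)
    (hKU : K ≤ (D.posUnipotent F).subgroupOf (D.group F)) :
    K = ⊥ ∨ K = (D.posUnipotent F).subgroupOf (D.group F) := by
  have hKU' : K.map (D.group F).subtype ≤ (data hG F).U := by
    rintro g ⟨z, hz, rfl⟩
    rw [data_U hG hf]
    exact hKU hz
  rcases interShape_dichotomy hG hf hn hw hk hlink (interShape_of_defectGroup hG hf p hpM hB hK hKU')
    (fun x hx hle => by
      have hmap : (K.map (D.group F).subtype).map (MulAut.conj x).toMonoidHom =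
          (K.map (MulAut.conj (⟨x, hx⟩ : ↥(D.group F))).toMonoidHom).map (D.group F).subtype := by
        rw [Subgroup.map_map, Subgroup.map_map]
        rfl
      rw [hmap] at hle ⊢
      exact interShape_of_defectGroup hG hf p hpM hB
        (Cfsg.Agent.Blocks.IsDefectGroup.conj hK _) hle) with h | h
  · exact Or.inl ((Subgroup.map_eq_bot_iff_of_injective _ (D.group F).subtype_injective).1 h)
  · refine Or.inr (le_antisymm hKU fun z hz => ?_)
    obtain ⟨z', hz', e⟩ := h (by rw [data_U hG hf]; exact Subgroup.mem_subgroupOf.1 hz :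
      (z : GL D.Idx F) ∈ (data hG F).U)
    rwa [← Subtype.ext e]

end Cfsg.Agent.Chev.BNSetup
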