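/-
The Steinberg character of the seven Chevalley groups over a finite field.
-/
import Cfsg.Agent.Lib.BNPair.Steinberg
import Cfsg.Agent.Lib.Chev.BNCore
import Cfsg.Agent.Lib.Chev.Sylow
import Cfsg.Agent.Lib.Chev.Seven

set_option autoImplicit false

namespace Cfsg.Agent.Chev.BNSetup

open Cfsg.Lie
open Cfsg.Agent.RootBN (Data)

variable {F : Type*} [Field F] [Fintype F] {D : ChevalleyDatum} (hG : Good D) {tabs simps : List ℕ}
  (hf : Facts D tabs simps)
include hG hf

/-- A representative of the longest element, with the properties used for the Steinberg character. -/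
theorem exists_steinberg {w0 : List ℕ} (hw : IsLongest D tabs w0) (hn : NegTri D) :
    ∃ (P : Cfsg.BNPair ↥(D.group F)) (_ : Fintype P.S) (n : P.N),
      BN.NoAsc P (QuotientGroup.mk n) ∧
      P.B = (D.borelSubgroup F).subgroupOf (D.group F) ∧
      P.N = (D.monomialSubgroup F).subgroupOf (D.group F) ∧
      (∀ s : P.S, ∃ i : Fin D.rank, ((s.1 : ↥(D.group F)) : GL D.Idx F) = (data hG F).nn i) ∧
      (∀ i : Fin D.rank, ∃ s : P.S, ((s.1 : ↥(D.group F)) : GL D.Idx F) = (data hG F).nn i) ∧
      (∀ g, D.steinbergCharacter F g = BN.st P g) ∧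
      (MulAction.stabilizer ↥(D.group F) (((n : ↥(D.group F))) : ↥(D.group F) ⧸ P.B)).subgroupOf P.B =
        ((D.diagonalSubgroup F).subgroupOf (D.group F)).subgroupOf P.B := by
  classical
  obtain ⟨P, hB, hN, hS⟩ := exists_bnPair (F := F) hG hf
  obtain ⟨l, hl⟩ := exists_longest (F := F) hG hf hw
  have ax := axioms (F := F) hG hf
  have hnnG : ∀ i : Fin D.rank, ne' hG (D.simple i.val) (1 : F) ∈ D.group F := fun i => by
    rw [← data_grp (F := F) hG]; exact ax.nn_mem i
  have hmem : ∀ i : Fin D.rank, (⟨_, hnnG i⟩ : ↥(D.group F)) ∈ P.S := fun i => by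
    rw [hS]; exact ⟨i.val, i.2, coe_ne' hG _ _⟩
  let e : Fin D.rank → P.S := fun i => ⟨_, hmem i⟩
  have he : Function.Bijective e := by
    constructor
    · intro i j h
      have h' : (data hG F).nn i = (data hG F).nn j := congrArg (fun s : P.S => (s.1 : GL D.Idx F)) h
      exact RootBN.Data.refl_injective ax
        (RootBN.Data.acts_unique ax (RootBN.Data.acts_nn ax i) (h' ▸ RootBN.Data.acts_nn ax j))
    · rintro ⟨s, hs⟩
      obtain ⟨i, hi, h⟩ := hS ▸ hs
      exact ⟨⟨i, hi⟩, Subtype.ext (Subtype.ext (Units.ext ((coe_ne' hG _ _).trans h.symm)))⟩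
  letI : Fintype P.S := Fintype.ofFinite _
  let E : Fin D.rank ≃ P.S := Equiv.ofBijective e he
  have hnw : (data hG F).nw l ∈ D.group F := by
    rw [← data_grp (F := F) hG]
    exact RootBN.Data.N_le_grp ax (RootBN.Data.nw_mem_N l)
  have hnN : (⟨_, hnw⟩ : ↥(D.group F)) ∈ P.N := by
    rw [hN, Subgroup.mem_subgroupOf]
    exact (data_N hG hf).le (RootBN.Data.nw_mem_N l)
  set n : P.N := ⟨_, hnN⟩ with hndef
  refine ⟨P, inferInstance, n, ?_, hB, hN, ?_, fun i => ⟨e i, rfl⟩, ?_, ?_⟩
  · intro s
    obtain ⟨i, rfl⟩ := he.2 s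
    intro hlt
    obtain ⟨y, hy, hy1⟩ :
        ∃ y ∈ (data hG F).X ((data hG F).opp ((data hG F).simp i)), y ≠ 1 := by
      by_contra hcon
      push Not at hcon
      exact ax.X_ne_bot _ ((Subgroup.eq_bot_iff_forall _).2 hcon)
    obtain ⟨a, ha, h, hh, b, hb, hyab⟩ := ax.rank_one i y hy hy1
    have hyG : y ∈ D.group F := by
      rw [← data_grp (F := F) hG]; exact RootBN.Data.X_le_grp _ hy
    have hBG : ∀ x, x ∈ (data hG F).B → ∃ hx : x ∈ D.group F, (⟨x, hx⟩ : ↥(D.group F)) ∈ P.B := by
      intro x hx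
      rw [data_B hG hf] at hx
      exact ⟨borel_le_group hG hf hx, by rw [hB, Subgroup.mem_subgroupOf]; exact hx⟩
    have hah : a * h ∈ (data hG F).B := Subgroup.mul_mem _
      (RootBN.Data.X_simp_le_B ax i ha) (RootBN.Data.H_le_B hh)
    obtain ⟨hahG, hahB⟩ := hBG _ hah
    obtain ⟨hbG, hbB⟩ := hBG _ (RootBN.Data.X_simp_le_B ax i hb)
    have hycell : (⟨y, hyG⟩ : ↥(D.group F)) ∈ BN.cell P (BN.refl P (e i)) := by
      have := BN.mul_mem_cell P (BN.coe_mem_cell_refl P (e i)) hahB hbB
      refine (Subtype.ext ?_ : (⟨y, hyG⟩ : ↥(D.group F)) = _) ▸ this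
      exact hyab
    have hconj : (data hG F).nw l * y * ((data hG F).nw l)⁻¹ ∈ (data hG F).B := by
      refine Subgroup.mem_sup_left (RootBN.Data.X_le_U ?_ ((RootBN.Data.acts_nw ax l _ y).2 hy))
      rw [hl, ax.pos_opp, not_not]
      exact ax.pos_simp i
    obtain ⟨hcG, hcB⟩ := hBG _ hconj
    have h1 : (n : ↥(D.group F)) * ⟨y, hyG⟩ ∈ BN.cell P (QuotientGroup.mk n) := by
      have := BN.mul_mem_cell P (BN.mem_cell_self P n) hcB P.B.one_mem
      refine (Subtype.ext ?_ : (n : ↥(D.group F)) * ⟨y, hyG⟩ = _) ▸ this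
      simp [hndef, mul_assoc]
    have hadd : BN.len P (QuotientGroup.mk n * BN.refl P (e i)) =
        BN.len P (QuotientGroup.mk n) + BN.len P (BN.refl P (e i)) := by
      rw [BN.len_refl]
      have := BN.len_mul_refl_le P (QuotientGroup.mk n) (e i)
      omega
    have h2 := BN.mul_mem_of_additive P hadd (BN.mem_cell_self P n) hycell
    exact BN.refl_ne_one P (e i) (mul_eq_left.1 (BN.cell_disjoint P h2 h1))
  · intro s
    obtain ⟨i, rfl⟩ := he.2 s
    exact ⟨i, rfl⟩
  · intro g
    have hpar : ∀ K : Finset P.S,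
        D.parabolicIn F (K.image fun s => (E.symm s).val) = BN.par P (K : Set P.S) := by
      intro K
      have hle : D.parabolicSubgroup F (↑(K.image fun s => (E.symm s).val) : Set ℕ) ≤ D.group F := by
        refine sup_le (borel_le_group hG hf) ((Subgroup.closure_le _).2 ?_)
        rintro x ⟨j, -, hj, hx⟩
        obtain rfl : x = ne' hG (D.simple j) 1 := Units.ext (hx.trans (coe_ne' hG _ _).symm)
        exact hnnG ⟨j, hj⟩
      apply Subgroup.map_injective (Subgroup.subtype_injective (D.group F))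
      rw [ChevalleyDatum.parabolicIn, Subgroup.map_subgroupOf_eq_of_le hle, BN.par, Cfsg.BNPair.parabolic,
        hB, Subgroup.map_sup, Subgroup.map_subgroupOf_eq_of_le (borel_le_group hG hf),
        MonoidHom.map_closure, ChevalleyDatum.parabolicSubgroup]
      congr 2
      ext x
      constructor
      · rintro ⟨j, hj, hjr, hx⟩
        obtain ⟨s, hs, rfl⟩ := Finset.mem_image.1 (Finset.mem_coe.1 hj)
        refine ⟨_, ⟨s, hs, rfl⟩, ?_⟩
        have : ((E (E.symm s)) : P.S).1 = s.1 := by rw [Equiv.apply_symm_apply]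
        exact Units.ext ((congrArg (fun z : ↥(D.group F) => ((z : GL D.Idx F) : Matrix D.Idx D.Idx F))
          this.symm).trans ((coe_ne' hG _ _).trans hx.symm))
      · rintro ⟨_, ⟨s, hs, rfl⟩, rfl⟩
        refine ⟨(E.symm s).val, Finset.mem_coe.2 (Finset.mem_image.2 ⟨s, hs, rfl⟩), (E.symm s).2, ?_⟩
        have : ((E (E.symm s)) : P.S).1 = s.1 := by rw [Equiv.apply_symm_apply]
        exact (congrArg (fun z : ↥(D.group F) => ((z : GL D.Idx F) : Matrix D.Idx D.Idx F))
          this.symm).trans (coe_ne' hG _ _)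
    have hinj : Function.Injective (fun s : P.S => (E.symm s).val) :=
      Fin.val_injective.comp E.symm.injective
    rw [ChevalleyDatum.steinbergCharacter, BN.st]
    symm
    refine Finset.sum_bij (fun (K : Finset P.S) _ => K.image fun s => (E.symm s).val) ?_ ?_ ?_ ?_
    · intro K _
      rw [Finset.mem_powerset]
      intro j hj
      obtain ⟨s, -, rfl⟩ := Finset.mem_image.1 hj
      exact Finset.mem_range.2 (E.symm s).2
    · intro K _ K' _ h
      exact Finset.image_injective hinj h
    · intro J hJ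
      rw [Finset.mem_powerset] at hJ
      refine ⟨Finset.univ.filter fun s => (E.symm s).val ∈ J, Finset.mem_univ _, ?_⟩
      ext j
      constructor
      · intro hj
        obtain ⟨s, hs, rfl⟩ := Finset.mem_image.1 hj
        exact (Finset.mem_filter.1 hs).2
      · intro hj
        exact Finset.mem_image.2 ⟨E ⟨j, Finset.mem_range.1 (hJ hj)⟩,
          Finset.mem_filter.2 ⟨Finset.mem_univ _, by simpa using hj⟩, by simp⟩
    · intro K _
      rw [hpar, Finset.card_image_of_injective _ hinj]
  · have hnU : ∀ u ∈ D.posUnipotent F,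
        (data hG F).nw l * u * ((data hG F).nw l)⁻¹ ∈ D.negUnipotent F := by
      intro u hu
      refine (show D.posUnipotent F ≤ (D.negUnipotent F).comap
        (MulAut.conj ((data hG F).nw l)).toMonoidHom from ?_) hu
      rw [← data_U hG hf]
      refine iSup₂_le fun r hr y hy => ?_
      have h1 := (RootBN.Data.acts_nw ax l r y).2 hy
      obtain ⟨t, ht⟩ := (mem_rootSubgroup hG ((data hG F).wl l r).2).1 h1
      exact Subgroup.subset_closure ⟨_, t, ((hf.2.2.1 _ ((data hG F).wl l r).2).2.2.1).2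
        (not_le.1 fun h => (hl r).1 h hr), congrArg Units.val ht⟩
    ext ⟨g, hg⟩
    rw [hB, Subgroup.mem_subgroupOf] at hg
    simp only [Subgroup.mem_subgroupOf, MulAction.mem_stabilizer_iff, MulAction.Quotient.smul_coe,
      smul_eq_mul, QuotientGroup.eq, hB]
    simp only [hndef, Subgroup.coe_mul, InvMemClass.coe_inv, Subgroup.coe_mk]
    constructor
    · intro h
      have h' : ((data hG F).nw l)⁻¹ * (g : GL D.Idx F) * (data hG F).nw l ∈ D.borelSubgroup F := by
        have := Subgroup.inv_mem _ h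
        simpa [mul_assoc] using this
      obtain ⟨u, hu, h1, hh1, e'⟩ := borel_decomp hG hf h'
      rw [← borel_inf_VH (F := F) hG hf hn]
      have e2 : (g : GL D.Idx F) = ((data hG F).nw l * u * ((data hG F).nw l)⁻¹) *
          ((data hG F).nw l * h1 * ((data hG F).nw l)⁻¹) := by
        calc (g : GL D.Idx F) = (data hG F).nw l *
              (((data hG F).nw l)⁻¹ * g * (data hG F).nw l) * ((data hG F).nw l)⁻¹ := by group
          _ = _ := by rw [e']; group
      refine ⟨hg, ?_⟩
      rw [SetLike.mem_coe, e2]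
      exact Subgroup.mul_mem _ (Subgroup.mem_sup_left (hnU u hu))
        (Subgroup.mem_sup_right (RootBN.Data.N_conj_H ax (RootBN.Data.nw_mem_N l) hh1))
    · intro h
      have := RootBN.Data.N_conj_H ax (Subgroup.inv_mem _ (RootBN.Data.nw_mem_N (D := data hG F) l))
        (Subgroup.inv_mem _ h : (g : GL D.Idx F)⁻¹ ∈ (data hG F).H)
      have := (Subgroup.mem_sup_right this : _ ∈ D.borelSubgroup F)
      simpa [mul_assoc, ChevalleyDatum.borelSubgroup] using this

omit hG hf

/-- All the facts, for the seven types. -/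
theorem steinberg_facts {D : ChevalleyDatum}
    (hD : D ∈ [chevG2, chevB2, chevD4, chevF4, chevE6, chevE7, chevE8]) :
    Cfsg.IsIrrCharacter ↥(D.group F) (D.steinbergCharacter F) ∧
      (∀ b : ↥((D.borelSubgroup F).subgroupOf (D.group F)),
        D.steinbergCharacter F (b : ↥(D.group F)) = Cfsg.fixedPointCharacter
          (((D.diagonalSubgroup F).subgroupOf (D.group F)).subgroupOf
            ((D.borelSubgroup F).subgroupOf (D.group F))) b) ∧
      D.steinbergCharacter F 1 = (Fintype.card F : ℂ) ^ (D.nroots / 2) := by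
  classical
  have hG := good_of_mem hD
  obtain ⟨tabs, simps, w, hf, hw⟩ := exists_facts_longest hD
  obtain ⟨P, _, n, hn, hB, -, -, -, hst, hstab⟩ := exists_steinberg (F := F) hG hf hw (negTri_of_mem hD)
  have hres : ∀ b : ↥((D.borelSubgroup F).subgroupOf (D.group F)),
        D.steinbergCharacter F (b : ↥(D.group F)) = Cfsg.fixedPointCharacter
          (((D.diagonalSubgroup F).subgroupOf (D.group F)).subgroupOf
            ((D.borelSubgroup F).subgroupOf (D.group F))) b := by
    rw [← hB]
    intro b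
    rw [hst, BN.st_restrict P hn, hstab]
  refine ⟨?_, hres, ?_⟩
  · rw [funext hst]; exact BN.isIrrCharacter_st P
  · have h := hres 1
    rw [Subgroup.coe_one] at h
    rw [h, Cfsg.fixedPointCharacter, ← Nat.cast_pow, Nat.cast_inj]
    refine (Nat.card_congr (Equiv.subtypeUnivEquiv fun x => one_smul _ x)).trans ?_
    rw [← Subgroup.index]
    have hH : D.diagonalSubgroup F ≤ D.borelSubgroup F := le_sup_right
    have hBG := borel_le_group (F := F) hG hf
    have hc := ((((D.diagonalSubgroup F).subgroupOf (D.group F)).subgroupOf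
      ((D.borelSubgroup F).subgroupOf (D.group F)))).card_mul_index
    have c1 : Nat.card ↥((D.borelSubgroup F).subgroupOf (D.group F)) =
        Nat.card (D.borelSubgroup F) :=
      Nat.card_congr (Subgroup.subgroupOfEquivOfLe hBG).toEquiv
    have c2 : Nat.card ↥(((D.diagonalSubgroup F).subgroupOf (D.group F)).subgroupOf
        ((D.borelSubgroup F).subgroupOf (D.group F))) = Nat.card (D.diagonalSubgroup F) :=
      (Nat.card_congr (Subgroup.subgroupOfEquivOfLe (Subgroup.comap_mono hH)).toEquiv).trans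
        (Nat.card_congr (Subgroup.subgroupOfEquivOfLe (hH.trans hBG)).toEquiv)
    rw [c1, c2, ChevSylow.card_borel hG hf, card_U hf hG, mul_comm (Fintype.card F ^ _)] at hc
    exact Nat.eq_of_mul_eq_mul_left Nat.card_pos hc

end Cfsg.Agent.Chev.BNSetup
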