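/-
The number of elements of p-power order in the seven Chevalley groups over a finite field of characteristic p.
-/
import Cfsg.Agent.Lib.BNPair.Unipotent
import Cfsg.Agent.Lib.Chev.Steinberg

set_option autoImplicit false

namespace Cfsg.Agent.Chev.BNSetup

open Cfsg.Lie
open Cfsg.Agent.RootBN (Data)

variable {F : Type*} [Field F] [Fintype F]

/-- The split (B,N)-pair of one of the seven groups in characteristic `p`. -/
theorem exists_split (p : ℕ) [Fact p.Prime] [CharP F p] {D : ChevalleyDatum}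
    (hD : D ∈ [chevG2, chevB2, chevD4, chevF4, chevE6, chevE7, chevE8]) :
    ∃ (P : Cfsg.BNPair ↥(D.group F)) (_ : Fintype P.S) (n : P.N),
      BN.NoAsc P (QuotientGroup.mk n) ∧
      P.B = (D.borelSubgroup F).subgroupOf (D.group F) ∧
      (∀ s : P.S, ∃ i : Fin D.rank, ((s.1 : ↥(D.group F)) : GL D.Idx F) =
        (data (good_of_mem hD) F).nn i) ∧
      (∀ i : Fin D.rank, ∃ s : P.S, ((s.1 : ↥(D.group F)) : GL D.Idx F) =
        (data (good_of_mem hD) F).nn i) ∧
      (∀ g, D.steinbergCharacter F g = BN.st P g) ∧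
      BN.UnipotentData P p ((D.posUnipotent F).subgroupOf (D.group F)) ∧
      Nat.card ↥((D.posUnipotent F).subgroupOf (D.group F)) = Fintype.card F ^ (D.nroots / 2) ∧
      ∀ u ∈ (D.posUnipotent F).subgroupOf (D.group F),
        (n : ↥(D.group F))⁻¹ * u * n ∈ P.B → u = 1 := by
  classical
  have hG := good_of_mem hD
  obtain ⟨tabs, simps, w, hf, hw⟩ := exists_facts_longest hD
  have ax := axioms (F := F) hG hf
  obtain ⟨P, iS, n, hn, hB, hN, hS, hS', hst', hstab⟩ :=
    exists_steinberg (F := F) hG hf hw (negTri_of_mem hD)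
  set U : Subgroup ↥(D.group F) := (D.posUnipotent F).subgroupOf (D.group F) with hUdef
  have hUG : D.posUnipotent F ≤ D.group F := ChevSylow.posUnipotent_le_group hG hf
  have hmemB : ∀ b : ↥(D.group F), b ∈ P.B ↔ (b : GL D.Idx F) ∈ (data hG F).B := fun b => by
    rw [hB, Subgroup.mem_subgroupOf, data_B hG hf]
  have hmemU : ∀ b : ↥(D.group F), b ∈ U ↔ (b : GL D.Idx F) ∈ (data hG F).U := fun b => by
    rw [hUdef, Subgroup.mem_subgroupOf, data_U hG hf]
  have hconj : ∀ i, ∀ b ∈ (data hG F).B, ∀ r ∈ (data hG F).Urad i, b * r * b⁻¹ ∈ (data hG F).Urad i := by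
    intro i b hb r hr
    obtain ⟨y, hy, v, hv, h, hh, rfl⟩ := RootBN.Data.B_decomp ax i hb
    have h1 := RootBN.Data.H_conj_Urad ax hh hr
    have h2 := ((data hG F).Urad i).mul_mem (((data hG F).Urad i).mul_mem hv h1)
      (((data hG F).Urad i).inv_mem hv)
    have h3 := RootBN.Data.X_conj_Urad ax hy h2
    simpa [mul_assoc] using h3
  have hU : BN.UnipotentData P p U :=
    { le := fun b hb => (hmemB b).2 (RootBN.Data.U_le_B ((hmemU b).1 hb))
      isPGroup := (ChevSylow.isPGroup_posUnipotent p hG hf).of_equiv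
        (Subgroup.subgroupOfEquivOfLe hUG).symm
      not_dvd := by
        obtain ⟨Q, hQ⟩ := ChevSylow.exists_sylow p hG hf (F := F)
        rw [hUdef, ← hQ]
        exact Q.not_dvd_index
      normal := fun b hb u hu => by
        rw [hmemB] at hb
        rw [hmemU] at hu ⊢
        obtain ⟨v, hv, h, hh, e⟩ := (RootBN.Data.mem_B_iff ax).1 hb
        have := Subgroup.mul_mem _ (Subgroup.mul_mem _ hv (RootBN.Data.H_conj_U ax hh hu))
          (Subgroup.inv_mem _ hv)
        simpa [e, mul_assoc] using this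
      decomp := fun b hb => by
        rw [hmemB] at hb
        obtain ⟨v, hv, h, hh, e⟩ := (RootBN.Data.mem_B_iff ax).1 hb
        have hvG : v ∈ D.group F := hUG (by rwa [← data_U hG hf])
        have hhG : h ∈ D.group F := borel_le_group hG hf (Subgroup.mem_sup_right hh)
        refine ⟨⟨v, hvG⟩, (hmemU _).2 hv, ⟨h, hhG⟩, ?_, (hmemB _).2 (RootBN.Data.H_le_B hh),
          Subtype.ext e⟩
        rw [hN, Subgroup.mem_subgroupOf, ← data_N hG hf]
        exact RootBN.Data.H_le_N hh
      panel := fun s v hv a ha a' ha' hva => by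
        obtain ⟨i, hi⟩ := hS s
        obtain ⟨b1, hb1, b2, hb2, rfl⟩ := BN.exists_of_mem_cell P ha (BN.coe_mem_cell_refl P s)
        obtain ⟨c1, hc1, c2, hc2, rfl⟩ := BN.exists_of_mem_cell P ha' (BN.coe_mem_cell_refl P s)
        rw [hmemB] at hb1 hb2 hc1 hc2 hva ⊢
        rw [hmemU] at hv
        simp only [Subgroup.coe_mul, Subgroup.coe_inv, hi] at hva ⊢
        have h1 : ((data hG F).nn i)⁻¹ * ((b1 : GL D.Idx F)⁻¹ * v * b1) * (data hG F).nn i ∈
            (data hG F).B := by
          have := Subgroup.mul_mem _ (Subgroup.mul_mem _ hb2 hva) (Subgroup.inv_mem _ hb2)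
          simpa [mul_assoc] using this
        have hv1 : (b1 : GL D.Idx F)⁻¹ * v * b1 ∈ (data hG F).U := by
          obtain ⟨u, hu, h, hh, e⟩ := (RootBN.Data.mem_B_iff ax).1 (Subgroup.inv_mem _ hb1)
          have := Subgroup.mul_mem _ (Subgroup.mul_mem _ hu (RootBN.Data.H_conj_U ax hh hv))
            (Subgroup.inv_mem _ hu)
          rw [eq_comm, ← inv_eq_iff_eq_inv] at e
          rw [← e]
          simpa [mul_assoc] using this
        obtain ⟨y, hy, r, hr, e⟩ := RootBN.Data.U_eq_mul ax i hv1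
        rw [e] at h1
        have hyB : ((data hG F).nn i)⁻¹ * y * (data hG F).nn i ∈ (data hG F).B := by
          have := Subgroup.mul_mem _ h1
            (Subgroup.inv_mem _ (RootBN.Data.Urad_le_B i (RootBN.Data.nn_inv_conj_Urad ax hr)))
          simpa [mul_assoc] using this
        have hy1 : y = 1 := by
          have hact := (RootBN.Data.acts_nn ax i).inv ((data hG F).simp i) y
          rw [RootBN.Data.refl_inv ax, ax.refl_simp, inv_inv] at hact
          have hbot := ax.neg_not_mem _ (RootBN.Data.not_pos_opp_simp ax i)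
          have hm : ((data hG F).nn i)⁻¹ * y * (data hG F).nn i ∈
              (data hG F).X ((data hG F).opp ((data hG F).simp i)) ⊓ (data hG F).B :=
            ⟨hact.2 hy, hyB⟩
          rw [hbot, Subgroup.mem_bot] at hm
          exact conj_eq_one_iff.1 (by rwa [inv_inv] : ((data hG F).nn i)⁻¹ * y * ((data hG F).nn i)⁻¹⁻¹ = 1)
        have hvr : (v : GL D.Idx F) ∈ (data hG F).Urad i := by
          have := hconj i _ hb1 r hr
          rw [hy1, one_mul] at e
          rw [← e] at this
          simpa [mul_assoc] using this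
        have h2 := RootBN.Data.nn_inv_conj_Urad ax (hconj i _ (Subgroup.inv_mem _ hc1) _ hvr)
        have h3 := Subgroup.mul_mem _ (Subgroup.mul_mem _ (Subgroup.inv_mem _ hc2)
          (RootBN.Data.Urad_le_B i h2)) hc2
        simpa [mul_assoc] using h3 }
  have hcard : Nat.card U = Fintype.card F ^ (D.nroots / 2) := by
    rw [hUdef, Nat.card_congr (Subgroup.subgroupOfEquivOfLe hUG).toEquiv, card_U hf hG]
  refine ⟨P, iS, n, hn, hB, hS, hS', hst', hU, hcard, ?_⟩
  intro u hu huB
  have hub : u ∈ P.B := hU.le hu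
  have hst : (⟨u, hub⟩ : P.B) ∈
      (MulAction.stabilizer ↥(D.group F) (((n : ↥(D.group F))) : ↥(D.group F) ⧸ P.B)).subgroupOf P.B := by
    rw [Subgroup.mem_subgroupOf, MulAction.mem_stabilizer_iff, MulAction.Quotient.smul_coe, eq_comm,
      QuotientGroup.eq, smul_eq_mul, ← mul_assoc]
    exact huB
  rw [hstab] at hst
  simp only [Subgroup.mem_subgroupOf] at hst
  have hU' : (u : GL D.Idx F) ∈ D.posUnipotent F ⊓ D.diagonalSubgroup F :=
    ⟨Subgroup.mem_subgroupOf.1 hu, hst⟩
  rw [U_inf_H (F := F) hf hG, Subgroup.mem_bot] at hU'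
  exact Subtype.ext hU'

theorem card_pElems (p : ℕ) [Fact p.Prime] [CharP F p] {D : ChevalleyDatum}
    (hD : D ∈ [chevG2, chevB2, chevD4, chevF4, chevE6, chevE7, chevE8]) :
    Nat.card {g : ↥(D.group F) // ∃ k : ℕ, orderOf g = p ^ k} =
      Fintype.card F ^ (2 * (D.nroots / 2)) := by
  obtain ⟨P, _, n, hn, -, -, -, -, hU, hcard, htriv⟩ := exists_split (F := F) p hD
  rw [BN.card_pElems_univ P hU hn htriv, hcard, ← pow_add, two_mul]

end Cfsg.Agent.Chev.BNSetup
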