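/-
In the seven Chevalley groups the Steinberg character is the only irreducible character whose degree is
divisible by the full power of the characteristic in the group order.
-/
import Cfsg.Agent.Lib.BNPair.DefectZero
import Cfsg.Agent.Lib.Chev.UnipotentCount
import Cfsg.Agent.Lib.Chev.FieldAutFixed
import Cfsg.Agent.Lib.Blocks.PrimePowerDegree

set_option autoImplicit false

namespace Cfsg.Agent.Chev.BNSetup

open Cfsg.Lie
open Cfsg.Agent.RootBN (Data)

variable {F : Type*} [Field F] {D : ChevalleyDatum}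

theorem he_one (hG : Good D) {r : ℕ} (hr : r < D.nroots) : he hG r (1 : F) = 1 := by
  rw [he, ne'_neg hG hr, mul_inv_cancel]

/-- The diagonal subgroup is generated by the simple torus elements. -/
theorem diagonal_le_of_simple (hG : Good D) {K : Subgroup (GL D.Idx F)}
    (h : ∀ i < D.rank, ∀ t : F, t ≠ 0 → he hG (D.simple i) t ∈ K) : D.diagonalSubgroup F ≤ K := by
  intro x hx
  obtain ⟨τ, hτ⟩ := diagonal_eq_prod hG hx
  obtain rfl : x = ((List.range D.rank).map fun i => he hG (D.simple i) (τ i : F)).prod :=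
    Units.ext (hτ.trans (coe_prod_he hG τ D.rank le_rfl).symm)
  refine Subgroup.list_prod_mem _ ?_
  intro y hy
  obtain ⟨i, hi, rfl⟩ := List.mem_map.1 hy
  exact h i (List.mem_range.1 hi) _ (τ i).ne_zero

variable [Fintype F]

theorem eq_steinberg (p : ℕ) [Fact p.Prime] [CharP F p]
    (hD : D ∈ [chevG2, chevB2, chevD4, chevF4, chevE6, chevE7, chevE8])
    {χ : ↥(D.group F) → ℂ} (hχ : Cfsg.IsIrrCharacter ↥(D.group F) χ)
    (hdeg : ∃ d : ℕ, χ 1 = (d : ℂ) ∧ p ^ (Nat.card ↥(D.group F)).factorization p ∣ d) :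
    χ = D.steinbergCharacter F := by
  classical
  have hG := good_of_mem hD
  obtain ⟨tabs, simps, w, hf, hw⟩ := exists_facts_longest hD
  have ax := axioms (F := F) hG hf
  obtain ⟨P, _, n, hn, hB, -, hS', hst, hU, -, htriv⟩ := exists_split (F := F) p hD
  set U := (D.posUnipotent F).subgroupOf (D.group F) with hUdef
  have hvan : ∀ u ∈ U, u ≠ 1 → χ u = 0 := by
    intro u hu hu1
    obtain ⟨M, hM⟩ := Cfsg.Agent.CharInt.exists_isPModular_of_prime (Fact.out : p.Prime)
    haveI : M.IsMaximal := hM.2.1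
    refine Cfsg.Agent.Blocks.apply_eq_zero_of_defect_zero hM.2.2 ⟨χ, hχ⟩ ?_ fun hreg => ?_
    · obtain ⟨d, hd, hdvd⟩ := hdeg
      have e : Cfsg.Agent.Char.degree (⟨χ, hχ⟩ : IrrCharacter ↥(D.group F)) = d := by
        exact_mod_cast (Cfsg.Agent.Char.apply_one_eq_degree
          (⟨χ, hχ⟩ : IrrCharacter ↥(D.group F))).symm.trans hd
      have hpos : d ≠ 0 := e ▸ (Cfsg.Agent.Char.degree_pos _).ne'
      rw [e]
      refine le_antisymm ?_ ((Nat.Prime.pow_dvd_iff_le_factorization Fact.out hpos).1 hdvd)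
      have h1 : d ∣ Nat.card ↥(D.group F) := by
        rw [← e, ← Cfsg.Agent.Char.charDegree_eq_degree]
        exact Cfsg.Agent.Char.charDegree_dvd_card _
      exact (Nat.factorization_le_iff_dvd hpos Nat.card_pos.ne').2 h1 p
    · obtain ⟨k, hk⟩ := BN.exists_pow_of_mem_U P hU hu
      refine hreg ?_
      rw [hk]
      refine dvd_pow_self p fun h0 => hu1 ?_
      rw [h0, pow_zero, orderOf_eq_one_iff] at hk
      exact hk
  rw [funext hst]
  refine BN.eq_st_of_vanishes P hU hn htriv (fun K hUK hK => ?_) hχ hvan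
  have hmemB : ∀ b : ↥(D.group F), b ∈ P.B ↔ (b : GL D.Idx F) ∈ (data hG F).B := fun b => by
    rw [hB, Subgroup.mem_subgroupOf, data_B hG hf]
  have hmemU : ∀ b : ↥(D.group F), b ∈ U ↔ (b : GL D.Idx F) ∈ (data hG F).U := fun b => by
    rw [hUdef, Subgroup.mem_subgroupOf, data_U hG hf]
  set K' : Subgroup (GL D.Idx F) := K.map (D.group F).subtype with hK'
  have hUK' : ∀ u ∈ (data hG F).U, u ∈ K' := fun u hu => by
    have hu' : u ∈ D.posUnipotent F := by rwa [← data_U hG hf]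
    exact ⟨⟨u, ChevSylow.posUnipotent_le_group hG hf hu'⟩, hUK ((hmemU _).2 hu), rfl⟩
  have hgen : ∀ i < D.rank, ∀ t : F, t ≠ 0 → he hG (D.simple i) t ∈ K' := by
    intro i hi
    set j : Fin D.rank := ⟨i, hi⟩
    obtain ⟨s, hs⟩ := hS' j
    have hr := hG.simple_lt hi
    set N0 : GL D.Idx F := (data hG F).nn j with hN0
    set r := D.simple i with hrdef
    -- for every `c ≠ 0` an element of `U` with prescribed torus part
    have step : ∀ c : F, c ≠ 0 → ∃ u b v : ↥(D.group F), u ∈ U ∧ b ∈ P.B ∧ v ∈ U ∧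
        (s : ↥(D.group F)) * u * s = b * s * v ∧
        ∃ a ∈ (data hG F).U, (b : GL D.Idx F) = a * he hG r c * (N0 * N0) := by
      intro c hc
      set z : GL D.Idx F := xe hG (D.neg r) (-c⁻¹) with hz
      have hy : N0⁻¹ * z * N0 ∈ (data hG F).U := by
        refine RootBN.Data.X_le_U (ax.pos_simp j) ?_
        have h := (RootBN.Data.acts_nn ax j).inv ((data hG F).opp ((data hG F).simp j)) z
        rw [RootBN.Data.refl_inv ax, RootBN.Data.refl_opp_simp ax, inv_inv] at h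
        exact h.2 ((mem_rootSubgroup hG (hG.neg_lt hr)).2 ⟨_, rfl⟩)
      have ha : xe hG r (-c) ∈ (data hG F).U :=
        RootBN.Data.X_le_U (ax.pos_simp j) ((mem_rootSubgroup hG hr).2 ⟨_, rfl⟩)
      have hsq : N0 * N0 ∈ (data hG F).H := ax.nn_sq j
      have hv : (N0 * N0)⁻¹ * xe hG r (-c) * (N0 * N0) ∈ (data hG F).U := by
        have := RootBN.Data.H_conj_U ax ((data hG F).H.inv_mem hsq) ha
        rwa [inv_inv] at this
      have hbB : xe hG r (-c) * he hG r c * (N0 * N0) ∈ (data hG F).B :=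
        Subgroup.mul_mem _ (Subgroup.mul_mem _ (RootBN.Data.U_le_B ha)
          (RootBN.Data.H_le_B (he_mem_H hG hr hc))) (RootBN.Data.H_le_B hsq)
      have hUG : ∀ x ∈ (data hG F).U, x ∈ D.group F := fun x hx =>
        ChevSylow.posUnipotent_le_group hG hf (by rwa [← data_U hG hf])
      refine ⟨⟨_, hUG _ hy⟩, ⟨_, borel_le_group hG hf (by rwa [← data_B hG hf])⟩, ⟨_, hUG _ hv⟩,
        (hmemU _).2 hy, (hmemB _).2 hbB, (hmemU _).2 hv, ?_, _, ha, rfl⟩
      apply Subtype.ext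
      simp only [Subgroup.coe_mul, hs]
      have hzeq : z = xe hG r (-c) * he hG r c * N0 * xe hG r (-c) := by
        show _ = _ * _ * ne' hG r 1 * _
        rw [mul_assoc (xe hG r (-c)), ← ne'_eq_he_mul hG hr, ne', ← xe_inv hG hr, hz]
        group
      calc N0 * (N0⁻¹ * z * N0) * N0 = z * (N0 * N0) := by group
        _ = _ := by rw [hzeq]; group
    intro t ht
    obtain ⟨u1, b1, v1, hu1, hb1, hv1, e1, a1, ha1, hb1'⟩ := step 1 one_ne_zero
    obtain ⟨u2, b2, v2, hu2, hb2, hv2, e2, a2, ha2, hb2'⟩ := step t ht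
    have hm : ((b1⁻¹ * b2 : ↥(D.group F)) : GL D.Idx F) ∈ K' :=
      ⟨_, hK s u1 u2 b1 b2 v1 v2 hu1 hu2 hb1 hb2 hv1 hv2 e1 e2, rfl⟩
    rw [Subgroup.coe_mul, Subgroup.coe_inv, hb1', hb2', he_one hG hr, mul_one] at hm
    have hsq : N0 * N0 ∈ (data hG F).H := ax.nn_sq j
    have h1 : (N0 * N0)⁻¹ * (a1⁻¹ * a2) * (N0 * N0) ∈ K' := by
      refine hUK' _ ?_
      have := RootBN.Data.H_conj_U ax ((data hG F).H.inv_mem hsq)
        (Subgroup.mul_mem _ (Subgroup.inv_mem _ ha1) ha2)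
      rwa [inv_inv] at this
    have h2 : (N0 * N0)⁻¹ * he hG r t * (N0 * N0) ∈ K' := by
      have := Subgroup.mul_mem _ (Subgroup.inv_mem _ h1) hm
      simpa [mul_assoc] using this
    have hcomm : he hG r t * (N0 * N0) = N0 * N0 * he hG r t := by
      obtain ⟨χ1, h1⟩ := tri_H hf hG (he_mem_H hG hr ht)
      obtain ⟨χ2, h2⟩ := tri_H hf hG hsq
      refine Units.ext ?_
      rw [Units.val_mul (he hG r t), Units.val_mul (N0 * N0) (he hG r t), h1, h2, hdiag_mul, hdiag_mul]
      exact hdiag_congr D fun s _ => mul_comm _ _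
    rwa [mul_assoc, hcomm, inv_mul_cancel_left] at h2
  intro b hb
  rw [hmemB] at hb
  obtain ⟨u, hu, h, hh, e⟩ := (RootBN.Data.mem_B_iff ax).1 hb
  have : (b : GL D.Idx F) ∈ K' :=
    e ▸ Subgroup.mul_mem _ (hUK' u hu) (diagonal_le_of_simple hG hgen hh)
  obtain ⟨x, hx, e'⟩ := this
  rwa [← Subtype.ext e']

end Cfsg.Agent.Chev.BNSetup
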