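/-
Diagonal character matrices inside a Chevalley group lie in the diagonal subgroup.
-/
import Cfsg.Agent.Lib.Chev.BN
import Cfsg.Agent.S2157

set_option autoImplicit false

namespace Cfsg.Agent.Chev.BNSetup

open Cfsg.Lie Matrix

variable {F : Type*} [Field F] {D : ChevalleyDatum}

theorem mem_H_of_charDiag (hmem : D ∈ [chevG2, chevB2, chevD4, chevF4, chevE6, chevE7, chevE8])
    (hG : Good D) {tabs simps : List ℕ} (hf : Facts D tabs simps) (χ : ℕ → Fˣ)
    (hχ : D.IsRootCharacter χ) {g : GL D.Idx F} (hg : g ∈ D.group F)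
    (hgχ : (g : Matrix D.Idx D.Idx F) = D.charDiag F χ) : g ∈ D.diagonalSubgroup F := by
  classical
  have hinv : ((g⁻¹ : GL D.Idx F) : Matrix D.Idx D.Idx F) = D.charDiag F (fun r => (χ r)⁻¹) := by
    refine Units.inv_eq_of_mul_eq_one_right ?_
    rw [hgχ]
    simp only [ChevalleyDatum.charDiag, Matrix.diagonal_mul_diagonal, ← Matrix.diagonal_one]
    congr 1
    funext a
    rcases a with i | s <;> simp
  have hgx : ∀ r < D.nroots, ∀ t : F, g * xe hG r t * g⁻¹ = xe hG r ((χ r : F) * t) := fun r hr t => by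
    refine Units.ext ?_
    rw [Units.val_mul, Units.val_mul, hgχ, hinv, coe_xe, coe_xe]
    exact S2157.result D hmem χ hχ r hr t
  have hgxi : ∀ r < D.nroots, ∀ t : F, g⁻¹ * xe hG r t * g = xe hG r (((χ r)⁻¹ : Fˣ) * t) := fun r hr t => by
    have h := hgx r hr (((χ r)⁻¹ : Fˣ) * t)
    rw [← mul_assoc, ← Units.val_mul, mul_inv_cancel, Units.val_one, one_mul] at h
    rw [← h]; group
  have hgh : ∀ h ∈ D.diagonalSubgroup F, g * h = h * g := fun h hh => by
    obtain ⟨ψ, hψ⟩ := tri_H hf hG hh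
    refine Units.ext ?_
    rw [Units.val_mul, Units.val_mul, hgχ, hψ]
    simp only [hdiag, ChevalleyDatum.charDiag, Matrix.diagonal_mul_diagonal, mul_comm]
  have conjB : ∀ z : GL D.Idx F, (∀ r < D.nroots, ∀ t : F, ∃ t', z * xe hG r t * z⁻¹ = xe hG r t') →
      (∀ h ∈ D.diagonalSubgroup F, z * h = h * z) → ∀ b ∈ D.borelSubgroup F, z * b * z⁻¹ ∈ D.borelSubgroup F := by
    intro z hz hzh b hb
    refine (show D.borelSubgroup F ≤ (D.borelSubgroup F).comap (MulAut.conj z).toMonoidHom from ?_) hb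
    conv_lhs => rw [ChevalleyDatum.borelSubgroup]
    refine sup_le ?_ fun h hh => ?_
    · rw [ChevalleyDatum.posUnipotent, Subgroup.closure_le]
      rintro y ⟨r, t, hr, hy⟩
      obtain ⟨t', ht'⟩ := hz r hr.1 t
      rw [eq_xe hG hy, SetLike.mem_coe, Subgroup.mem_comap, MulEquiv.coe_toMonoidHom, MulAut.conj_apply, ht']
      exact Subgroup.mem_sup_left (Subgroup.subset_closure ⟨r, t', hr, rfl⟩)
    · rw [Subgroup.mem_comap, MulEquiv.coe_toMonoidHom, MulAut.conj_apply, hzh h hh, mul_inv_cancel_right]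
      exact Subgroup.mem_sup_right hh
  have hgB := conjB g (fun r hr t => ⟨_, hgx r hr t⟩) hgh
  have ax := axioms (F := F) hG hf
  rw [← data_grp hG] at hg
  obtain ⟨l, hl⟩ := RootBN.Data.exists_cell ax hg
  obtain ⟨b, hb, c, hc, hbc⟩ := (RootBN.Data.mem_cell_iff ax (RootBN.Data.nw_mem_N l)
    (RootBN.Data.acts_nw ax l)).1 hl
  rw [data_B hG hf] at hb hc
  have hnB : ∀ y ∈ D.borelSubgroup F,
      (data hG F).nw l * y * ((data hG F).nw l)⁻¹ ∈ D.borelSubgroup F := by
    intro y hy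
    have h := hgB _ (mul_mem (mul_mem (inv_mem hc) hy) hc)
    have h' := mul_mem (mul_mem (inv_mem hb) h) hb
    rw [hbc] at h'
    simpa [mul_assoc] using h'
  have hw : (data hG F).wl l = 1 := by
    by_contra hne
    obtain ⟨i, hi⟩ := RootBN.Data.exists_simp_neg ax l hne
    have hy : xe hG (D.simple i.val) (1 : F) ∈ D.rootSubgroup F (D.simple i.val) :=
      (mem_rootSubgroup hG (hG.simple_lt i.2)).2 ⟨1, rfl⟩
    have hpos : D.IsPosRoot (D.simple i.val) :=
      (pos_iff hf (hG.simple_lt i.2)).2 (ax.pos_simp i)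
    have hyB : xe hG (D.simple i.val) (1 : F) ∈ D.borelSubgroup F :=
      Subgroup.mem_sup_left (Subgroup.subset_closure ⟨_, 1, hpos, rfl⟩)
    have h1 : (data hG F).nw l * xe hG (D.simple i.val) (1 : F) * ((data hG F).nw l)⁻¹ ∈
        (data hG F).X ((data hG F).wl l ((data hG F).simp i)) :=
      ((RootBN.Data.acts_nw ax l) ((data hG F).simp i) _).2 hy
    obtain ⟨t, ht⟩ := (mem_rootSubgroup hG ((data hG F).wl l ((data hG F).simp i)).2).1 h1
    have h2 := hnB _ hyB
    rw [ht] at h2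
    have ht0 := neg_inf_borel hG hf ((data hG F).wl l ((data hG F).simp i)).2
      (Nat.lt_of_not_le hi) h2
    rw [ht0, xe_zero hG ((data hG F).wl l ((data hG F).simp i)).2, mul_inv_eq_one, mul_eq_left] at ht
    exact xe_ne_one hG hf (hG.simple_lt i.2) one_ne_zero ht
  have hgBm : g ∈ D.borelSubgroup F := by
    rw [hw] at hl
    exact data_B (F := F) hG hf ▸ (RootBN.Data.mem_cell_one ax).1 hl
  obtain ⟨u, hu, h, hh, e⟩ := borel_decomp hG hf hgBm
  obtain ⟨ψ, hψ⟩ := tri_H hf hG (inv_mem hh)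
  have hu1 : u = 1 := by
    apply Units.ext
    rw [Units.val_one]
    ext x y
    by_cases hxy : x = y
    · subst hxy
      have := raises_unitri hf hu x x (by omega)
      rwa [Matrix.sub_apply, sub_eq_zero] at this
    · rw [show u = g * h⁻¹ by rw [e, mul_inv_cancel_right], Units.val_mul, hgχ, hψ]
      simp only [hdiag, ChevalleyDatum.charDiag, Matrix.diagonal_mul_diagonal,
        Matrix.diagonal_apply_ne _ hxy, Matrix.one_apply_ne hxy]
  rw [e, hu1, one_mul]
  exact hh

end Cfsg.Agent.Chev.BNSetup
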