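import Cfsg.Agent.Lib.Chev.FieldAutFixed
import Cfsg.Agent.Lib.RootBN.BorelCriterion

/-!
The centralizer of the group over a finite subfield of a field, and the normalizer of a group between its
subgroup generated by root elements and the fixed points of the Frobenius.
-/
set_option autoImplicit false

namespace Cfsg.Agent.Chev

/-- Descend from `r` to a fundamental root by reflections. -/
def Cert.descend (c : Cert) : ℕ → ℕ → ℕ
  | 0, r => r
  | f + 1, r =>
    if (List.range c.rank).any (fun i => c.p i == r) then r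
    else match (List.range c.rank).find? (fun i => decide (0 < c.A i r)) with
      | none => r
      | some i => Cert.descend c f (c.w i r)

/-- Nodes reachable by steps `a → b` with Cartan entry `-1`. -/
def Cert.simpleReach (c : Cert) : ℕ → ℕ → List ℕ
  | 0, j => [j]
  | k + 1, j => Cert.simpleReach c k j ++ (List.range c.rank).filter fun b =>
      (Cert.simpleReach c k j).any fun a => decide (a < c.rank) && (c.A a (c.p b) == -1)

/-- The highest root descends to a fundamental root from which all nodes are reachable. -/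
def Cert.descOK (c : Cert) : Bool :=
  (List.range c.rank).any fun j => c.descend c.nroots (c.nroots - 1) == c.p j &&
    (List.range c.rank).all fun b => (c.simpleReach c.rank j).contains b

namespace BNSetup

open Cfsg.Lie
open scoped Matrix

variable {D : ChevalleyDatum} {c : Cert} {F : Type*} [Field F]

/-- An eigenspace invariant under all `x_r(1)` containing the highest root vector is everything. -/
theorem eigen_all (hV : Valid D c) (hok : c.descOK = true) (E : Submodule F (D.Idx → F))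
    (hx : ∀ r < D.nroots, ∀ v ∈ E, D.x F r 1 *ᵥ v ∈ E)
    (hn : ∀ i < D.rank, ∀ v ∈ E, D.nMat F (D.simple i) 1 *ᵥ v ∈ E)
    (htop : bvec D F (D.rank + (D.nroots - 1)) ∈ E) (hn0 : 0 < D.nroots)
    (hng : ∀ i < D.rank, c.w i (c.p i) = c.ng (c.p i)) :
    ∀ idx < D.rank + D.nroots, bvec D F idx ∈ E := by
  simp only [Cert.descOK, List.any_eq_true, Bool.and_eq_true, List.all_eq_true, List.mem_range, beq_iff_eq,
    List.contains_eq_mem, decide_eq_true_eq, hV.rank_eq, hV.nroots_eq] at hok
  obtain ⟨j, hj, hdesc, hreach⟩ := hok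
  have hw : ∀ i < D.rank, ∀ s < D.nroots, bvec D F (D.rank + s) ∈ E → bvec D F (D.rank + c.w i s) ∈ E := by
    intro i hi s hs h
    have h' := hn i hi _ h
    rw [hV.nMat_one_inr hi hs] at h'
    have := E.smul_mem ((c.η i s : F)) h'
    rwa [smul_smul, hV.eta_cast_sq hi hs, one_smul] at this
  have hd : ∀ f r, r < D.nroots → bvec D F (D.rank + r) ∈ E →
      bvec D F (D.rank + c.descend f r) ∈ E := by
    intro f
    induction f with
    | zero => intro r _ h; exact h
    | succ f ih =>
      intro r hr h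
      rw [Cert.descend]
      split
      · exact h
      · split
        · exact h
        · rename_i i hfind
          have hi : i < D.rank := by
            have := List.mem_of_find?_eq_some hfind
            rwa [List.mem_range, hV.rank_eq] at this
          exact ih _ (hV.w_lt hi hr) (hw i hi r hr h)
  have hpj : bvec D F (D.rank + c.p j) ∈ E := hdesc ▸ hd _ _ (by omega) htop
  have hcor : ∀ i < D.rank, bvec D F (D.rank + c.p i) ∈ E → bvec D F i ∈ E := by
    intro i hi h
    have h1 := hw i hi _ (hV.p_lt hi) h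
    rw [hng i hi] at h1
    have h2 := hx _ (hV.p_lt hi) _ h1
    rw [hV.mulVec_bvec (hV.p_lt hi), hV.colSem_ng (1 : F) (hV.p_lt hi), one_smul, one_pow, one_smul,
      Finset.sum_eq_single i (fun k hk hne => by
        rw [(hV.base'.2 i hi).2.2 k (Finset.mem_range.1 hk), if_neg hne]; simp)
        (fun hh => absurd (Finset.mem_range.2 hi) hh),
      (hV.base'.2 i hi).2.2 i hi, if_pos rfl, Int.cast_one, one_smul] at h2
    convert E.add_mem (E.sub_mem h2 h1) h using 1
    abel
  have hr : ∀ k, ∀ b ∈ c.simpleReach k j, b < D.rank ∧ bvec D F (D.rank + c.p b) ∈ E := by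
    intro k
    induction k with
    | zero =>
      intro b hb
      simp only [Cert.simpleReach, List.mem_singleton] at hb
      exact hb ▸ ⟨hj, hpj⟩
    | succ k ih =>
      intro b hb
      simp only [Cert.simpleReach, List.mem_append, List.mem_filter, List.mem_range, List.any_eq_true,
        Bool.and_eq_true, decide_eq_true_eq, beq_iff_eq, hV.rank_eq] at hb
      rcases hb with hb | ⟨hb, a, ha, ha', hA⟩
      · exact ih b hb
      refine ⟨hb, ?_⟩
      have h1 := hcor a ha' (ih a ha).2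
      have h2 := hx _ (hV.p_lt hb) _ h1
      rw [hV.mulVec_bvec (hV.p_lt hb), hV.colSem_inl (1 : F) ha', hA] at h2
      simpa using E.sub_mem h2 h1
  have hroots : ∀ s, s < D.nroots → bvec D F (D.rank + s) ∈ E := fun s hs =>
    hV.root_induction (P := fun s => bvec D F (D.rank + s) ∈ E)
      (fun i hi => (hr _ i (hreach i hi)).2) hw hs
  intro idx hidx
  by_cases hi : idx < D.rank
  · exact hcor idx hi (hroots _ (hV.p_lt hi))
  · obtain ⟨s, rfl⟩ : ∃ s, D.rank + s = idx := ⟨idx - D.rank, by omega⟩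
    exact hroots s (by omega)

variable (hG : Good D) {tabs simps : List ℕ} (hf : Facts D tabs simps)

/-- The centralizer of all `x_r(1)` is trivial. -/
theorem eq_one_of_commute (hV : Valid D c) (hok : c.descOK = true) (hf : Facts D tabs simps)
    {g : GL D.Idx F} (hg : g ∈ D.group F)
    (hc : ∀ r < D.nroots, g * xe hG r (1 : F) = xe hG r 1 * g) : g = 1 := by
  have ax := axioms (F := F) hG hf
  have hgB : g ∈ (data hG F).B := by
    refine RootBN.Data.mem_B_of_conj_simp ax (by rwa [data_grp hG]) fun i => ?_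
    have hp := hG.simple_lt i.2
    have hX : xe hG (D.simple i.val) (1 : F) ∈ (data hG F).X ((data hG F).simp i) :=
      (mem_rootSubgroup hG hp).2 ⟨1, rfl⟩
    refine ⟨_, hX, xe_ne_one hG hf hp one_ne_zero, ?_⟩
    rw [hc _ hp, mul_inv_cancel_right]
    exact RootBN.Data.X_simp_le_B ax i hX
  rw [data_B hG hf] at hgB
  obtain ⟨u, hu, h, hh, rfl⟩ := borel_decomp hG hf hgB
  obtain ⟨χ, hχ⟩ := tri_H hf hG hh
  set M : Matrix D.Idx D.Idx F := ((u * h : GL D.Idx F) : Matrix D.Idx D.Idx F) with hM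
  have hcM : ∀ r < D.nroots, M * D.x F r 1 = D.x F r 1 * M := fun r hr => by
    have := congrArg (fun g : GL D.Idx F => (g : Matrix D.Idx D.Idx F)) (hc r hr)
    simpa [hM, coe_xe, mul_assoc] using this
  have hdiag : ∀ a, M (Sum.inl a) (Sum.inl a) = 1 := by
    intro a
    rw [hM, Units.val_mul, hχ, hdiag, Matrix.mul_diagonal, Sum.elim_inl, mul_one]
    have := raises_unitri hf hu (Sum.inl a) (Sum.inl a) (by omega)
    rwa [Matrix.sub_apply, sub_eq_zero, Matrix.one_apply_eq] at this
  have hn0 : 0 < D.nroots := by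
    obtain ⟨-, ⟨hrk, -⟩, -⟩ := hf
    have := hG.simple_lt (i := 0) (by omega)
    omega
  have heven := hf.1
  set T : Fin D.nroots := ⟨D.nroots - 1, by omega⟩ with hT
  set lam := M (Sum.inr T) (Sum.inr T) with hlam
  let E : Submodule F (D.Idx → F) := LinearMap.ker (M.mulVecLin - lam • LinearMap.id)
  have hE : ∀ v, v ∈ E ↔ M *ᵥ v = lam • v := fun v => by simp [E, sub_eq_zero]
  have hx : ∀ r < D.nroots, ∀ v ∈ E, D.x F r 1 *ᵥ v ∈ E := fun r hr v hv => by
    rw [hE] at hv ⊢
    rw [Matrix.mulVec_mulVec, hcM r hr, ← Matrix.mulVec_mulVec, hv, Matrix.mulVec_smul]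
  have hxneg : ∀ r < D.nroots, ∀ v ∈ E, D.x F r (-1) *ᵥ v ∈ E := fun r hr v hv => by
    have h1 : M * D.x F r (-1) = D.x F r (-1) * M := by
      have := congrArg (fun A => D.x F r (-1) * A * D.x F r (-1)) (hcM r hr)
      simp only [← mul_assoc, hG.x_add hr, neg_add_cancel, hG.x_zero hr, one_mul] at this
      simp only [mul_assoc, hG.x_add hr, add_neg_cancel, hG.x_zero hr, mul_one] at this
      exact this.symm
    rw [hE] at hv ⊢
    rw [Matrix.mulVec_mulVec, h1, ← Matrix.mulVec_mulVec, hv, Matrix.mulVec_smul]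
  have hn : ∀ i < D.rank, ∀ v ∈ E, D.nMat F (D.simple i) 1 *ᵥ v ∈ E := fun i hi v hv => by
    rw [hV.nMat_eq hi, inv_one, ← Matrix.mulVec_mulVec, ← Matrix.mulVec_mulVec]
    exact hx _ (hV.p_lt hi) _ (hxneg _ (hV.ng_lt (hV.p_lt hi)) _ (hx _ (hV.p_lt hi) _ hv))
  have htop : bvec D F (D.rank + (D.nroots - 1)) ∈ E := by
    have hb : bvec D F (D.rank + (D.nroots - 1)) = Pi.single (Sum.inr T) 1 := by
      rw [← bvec_idxNat, idxNat_inr]
    rw [hE, hb, Matrix.mulVec_single_one]
    funext a
    show M a (Sum.inr T) = lam • (Pi.single (Sum.inr T) (1 : F) : D.Idx → F) a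
    by_cases ha : a = Sum.inr T
    · subst ha; simp [hlam]
    · rw [Pi.single_eq_of_ne ha, smul_zero]
      have htri : Tri F D M := by
        rw [hM, Units.val_mul]
        exact (tri_U hf hu).mul (hχ ▸ tri_hdiag hf χ : Tri F D (h : Matrix D.Idx D.Idx F))
      refine htri a (Sum.inr T) ?_
      rcases a with i | s
      · simp only [rootLevel, hT]; split_ifs <;> omega
      · have hs : s.val ≠ D.nroots - 1 := fun e => ha (by rw [hT]; exact congrArg Sum.inr (Fin.ext e))
        have := s.2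
        simp only [rootLevel, hT]; split_ifs <;> omega
  have hng : ∀ i < D.rank, c.w i (c.p i) = c.ng (c.p i) := fun i hi => by
    rw [← hV.w_eq_reflectRoot hi (hV.p_lt hi), ← hV.ng_eq (hV.p_lt hi), ← hV.p_eq hi]
    exact (hf.2.2.2.2.1 i hi).2.2.2.2
  have hall := eigen_all hV hok E hx hn htop hn0 hng
  have hMeq : M = lam • (1 : Matrix D.Idx D.Idx F) := ext_bvec fun idx hidx => by
    rw [(hE _).1 (hall idx hidx), Matrix.smul_mulVec, Matrix.one_mulVec]
  have hlam1 : lam = 1 := by
    obtain ⟨-, ⟨hrk, -⟩, -⟩ := hf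
    have := hdiag ⟨0, by omega⟩
    rwa [hMeq, Matrix.smul_apply, Matrix.one_apply_eq, smul_eq_mul, mul_one] at this
  exact Units.ext (by rw [← hM, hMeq, hlam1, one_smul]; rfl)

include hf

/-- Fixed elements lie in the group of fixed root elements times the fixed torus. -/
theorem fixed_mem_roots_torus (σ : F ≃+* F) {g : GL D.Idx F} (hg : g ∈ D.group F)
    (hfix : entryMap D (σ : F →+* F) g = g) :
    g ∈ fixedRoots hG σ ⊔ (D.diagonalSubgroup F ⊓
      (entryMap D (σ : F →+* F)).eqLocus (MonoidHom.id (GL D.Idx F))) := by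
  have hax := axioms (F := F) hG hf
  rw [← data_grp hG] at hg
  have hX : ∀ (i : Fin D.rank) (y : GL D.Idx F), y ∈ (data hG F).X ((data hG F).simp i) ↔
      ∃ t, y = xe hG (D.simple i.val) t := fun i y => mem_rootSubgroup hG (hG.simple_lt i.2)
  have hθU : ∀ u ∈ D.posUnipotent F, entryMap D (σ : F →+* F) u ∈ D.posUnipotent F := by
    intro u hu
    refine (show D.posUnipotent F ≤ (D.posUnipotent F).comap (entryMap D (σ : F →+* F)) from ?_) hu
    conv_lhs => rw [ChevalleyDatum.posUnipotent]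
    rw [Subgroup.closure_le]
    rintro x ⟨r, t, hr, hx⟩
    refine Subgroup.subset_closure ⟨r, σ t, hr, ?_⟩
    rw [eq_xe hG hx, entryMap_xe hG]
    rfl
  have hθH : ∀ u ∈ D.diagonalSubgroup F, entryMap D (σ : F →+* F) u ∈ D.diagonalSubgroup F := by
    intro u hu
    refine (show D.diagonalSubgroup F ≤ (D.diagonalSubgroup F).comap (entryMap D (σ : F →+* F)) from ?_) hu
    conv_lhs => rw [ChevalleyDatum.diagonalSubgroup]
    rw [Subgroup.closure_le]
    rintro x ⟨r, t, hr, ht, hx⟩
    refine Subgroup.subset_closure ⟨r, σ t, hr, (map_ne_zero σ).2 ht, ?_⟩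
    obtain rfl : x = he hG r t := Units.ext (hx.trans (coe_he hG r t).symm)
    rw [entryMap_he hG, coe_he]
    rfl
  refine RootBN.Data.mem_of_fixed hax (entryMap D (σ : F →+* F)) _ ?_ ?_ ?_ ?_ ?_ ?_ hg hfix
  · intro i
    show entryMap D (σ : F →+* F) (ne' hG (D.simple i.val) 1) = ne' hG (D.simple i.val) 1
    rw [entryMap_ne' hG, map_one]
  · intro b hb
    rw [data_B hG hf] at hb ⊢
    obtain ⟨u, hu, t, ht, rfl⟩ := borel_decomp hG hf hb
    rw [map_mul]
    exact mul_mem ((le_sup_left : D.posUnipotent F ≤ D.borelSubgroup F) (hθU u hu))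
      ((le_sup_right : D.diagonalSubgroup F ≤ D.borelSubgroup F) (hθH t ht))
  · intro i y hy
    obtain ⟨t, rfl⟩ := (hX i y).1 hy
    exact (hX i _).2 ⟨σ t, entryMap_xe hG _ _ _⟩
  · exact fun i => Subgroup.mem_sup_left (ne'_mem_fixedRoots hG σ (hG.simple_lt i.2) (map_one σ))
  · intro b hb hbf
    rw [data_B hG hf] at hb
    obtain ⟨u, hu, t, ht, rfl⟩ := borel_decomp hG hf hb
    rw [map_mul] at hbf
    have h1 : u⁻¹ * entryMap D (σ : F →+* F) u ∈ D.posUnipotent F ⊓ D.diagonalSubgroup F := by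
      refine Subgroup.mem_inf.2 ⟨mul_mem (inv_mem hu) (hθU u hu), ?_⟩
      have e : u⁻¹ * entryMap D (σ : F →+* F) u = t * (entryMap D (σ : F →+* F) t)⁻¹ := by
        rw [eq_mul_inv_iff_mul_eq, mul_assoc, hbf, inv_mul_cancel_left]
      rw [e]
      exact mul_mem ht (inv_mem (hθH t ht))
    rw [U_inf_H hf hG, Subgroup.mem_bot, inv_mul_eq_one] at h1
    rw [← h1, mul_right_inj] at hbf
    refine mul_mem (Subgroup.mem_sup_left ?_) (Subgroup.mem_sup_right ⟨ht, hbf⟩)
    have hkm : D.nroots / 2 + (D.nroots - D.nroots / 2) = D.nroots := by omega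
    rw [← Uge_eq_U hG hf] at hu
    obtain ⟨a, -, ha⟩ := exists_prodFrom hG hf hkm le_rfl u hu
    have e := h1.symm
    rw [ha, entryMap_prodFrom hG σ hf] at e
    have hinj := prodFrom_inj hG hf hkm le_rfl e
    have hmem : ∀ m k, k + m = D.nroots → D.nroots / 2 ≤ k →
        prodFrom hG F a k m ∈ fixedRoots hG σ := by
      intro m
      induction m with
      | zero => intros; exact one_mem _
      | succ m ih =>
        intro k hk hk2
        exact mul_mem (xe_mem_fixedRoots hG σ (by omega) (hinj k hk2 (by omega)))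
          (ih (k + 1) (by omega) (by omega))
    rw [ha]
    exact hmem _ _ hkm le_rfl
  · intro i y hy hyf
    obtain ⟨t, rfl⟩ := (hX i y).1 hy
    rw [entryMap_xe hG] at hyf
    exact Subgroup.mem_sup_left (xe_mem_fixedRoots hG σ (hG.simple_lt i.2) (xe_inj hG hf (hG.simple_lt i.2) hyf))

/-- Fixed elements normalise every group between the group of fixed root elements and the fixed points. -/
theorem fixed_mem_normalizer (σ : F ≃+* F) {K : Subgroup (GL D.Idx F)} (hKG : K ≤ D.group F)
    (hL : fixedRoots hG σ ≤ K) (hK : ∀ k ∈ K, entryMap D (σ : F →+* F) k = k) {g : GL D.Idx F}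
    (hg : g ∈ D.group F) (hfix : entryMap D (σ : F →+* F) g = g) :
    g ∈ Subgroup.normalizer (K : Set (GL D.Idx F)) := by
  set L := fixedRoots hG σ with hLdef
  set Hσ := D.diagonalSubgroup F ⊓ (entryMap D (σ : F →+* F)).eqLocus (MonoidHom.id (GL D.Idx F)) with hHσ
  have hHL : ∀ h ∈ Hσ, ∀ y ∈ L, h * y * h⁻¹ ∈ L := by
    rintro h ⟨hh, hhf⟩ y hy
    refine (show L ≤ L.comap (MulAut.conj h).toMonoidHom from ?_) hy
    conv_lhs => rw [hLdef, fixedRoots]
    rw [Subgroup.closure_le]
    rintro _ ⟨r, hr, t, ht, rfl⟩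
    obtain ⟨u, hu⟩ := (mem_rootSubgroup hG hr).1
      (normalisesAll_H hG hh r hr _ ((mem_rootSubgroup hG hr).2 ⟨t, rfl⟩))
    show h * xe hG r t * h⁻¹ ∈ L
    rw [hu]
    refine xe_mem_fixedRoots hG σ hr (xe_inj hG hf hr ?_)
    have hhf' : entryMap D (σ : F →+* F) h = h := hhf
    have he' : entryMap D (σ : F →+* F) (xe hG r u) = xe hG r u := by
      rw [← hu, map_mul, map_mul, map_inv, hhf', entryMap_xe hG]
      exact congrArg (fun z => h * xe hG r z * h⁻¹) ht
    rwa [entryMap_xe hG] at he'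
  have hn : Hσ ≤ Subgroup.normalizer (L : Set (GL D.Idx F)) := fun h hh =>
    Subgroup.mem_normalizer_iff.2 fun y => ⟨hHL h hh y, fun hy => by
      simpa [mul_assoc] using hHL h⁻¹ (inv_mem hh) _ hy⟩
  have hcomm : ∀ h ∈ Hσ, ∀ h' ∈ Hσ, h * h' = h' * h := by
    intro h hh h' hh'
    obtain ⟨χ, hχ⟩ := tri_H hf hG hh.1
    obtain ⟨ψ, hψ⟩ := tri_H hf hG hh'.1
    refine Units.ext ?_
    rw [Units.val_mul, Units.val_mul, hχ, hψ, hdiag_mul, hdiag_mul]
    exact hdiag_congr D fun s _ => mul_comm _ _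
  have key : ∀ h ∈ Hσ, ∀ k ∈ K, h * k * h⁻¹ ∈ K := by
    intro h hh k hk
    have hk' := fixed_mem_roots_torus hG hf σ (hKG hk) (hK k hk)
    rw [← SetLike.mem_coe, ← hLdef, ← hHσ, Subgroup.coe_mul_of_right_le_normalizer_left _ _ hn,
      Set.mem_mul] at hk'
    obtain ⟨y, hy, h', hh', rfl⟩ := hk'
    rw [← conj_mul, hcomm h hh h' hh', mul_inv_cancel_right]
    refine mul_mem (hL (hHL h hh y hy)) ?_
    simpa using mul_mem (inv_mem (hL hy)) hk
  refine (show L ⊔ Hσ ≤ Subgroup.normalizer (K : Set (GL D.Idx F)) from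
    sup_le (hL.trans Subgroup.le_normalizer) fun h hh => Subgroup.mem_normalizer_iff.2 fun y =>
      ⟨key h hh y, fun hy => by simpa [mul_assoc] using key h⁻¹ (inv_mem hh) _ hy⟩)
    (fixed_mem_roots_torus hG hf σ hg hfix)

end BNSetup

open Cfsg.Lie BNSetup in
/-- The centralizer and normalizer of a group between `G(q)` generated by root elements and the fixed points. -/
theorem subfield_centralizer_normalizer {k : Type*} [Field k] [IsAlgClosed k] (p : ℕ) [Fact p.Prime] [CharP k p]
    {D : ChevalleyDatum} {c : Cert} (hV : Valid D c) (hok : c.descOK = true) {tabs simps : List ℕ}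
    (hf : Facts D tabs simps) (a : ℕ) (K : Subgroup (GL D.Idx k)) (hKG : K ≤ D.group k)
    (hLK : Subgroup.closure {g : GL D.Idx k | ∃ (s : ℕ) (t : k), t ^ (p ^ a) = t ∧
      (g : Matrix D.Idx D.Idx k) = D.x k s t} ≤ K)
    (hKfix : ∀ g ∈ K, ∀ i j : D.Idx, ((g : Matrix D.Idx D.Idx k) i j) ^ (p ^ a) = (g : Matrix D.Idx D.Idx k) i j) :
    D.group k ⊓ Subgroup.centralizer (K : Set (GL D.Idx k)) = ⊥ ∧
    ∀ g : GL D.Idx k, g ∈ D.group k → (g ∈ Subgroup.normalizer (K : Set (GL D.Idx k)) ↔
      ∀ i j : D.Idx, ((g : Matrix D.Idx D.Idx k) i j) ^ (p ^ a) = (g : Matrix D.Idx D.Idx k) i j) := by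
  have hG : Good D := ⟨c, hV⟩
  haveI : ExpChar k p := .prime Fact.out
  set σ : k ≃+* k := iterateFrobeniusEquiv k p a with hσ
  have hσa : ∀ t, σ t = t ^ (p ^ a) := fun t => by rw [hσ, iterateFrobeniusEquiv_def]
  have hent : ∀ g : GL D.Idx k, (∀ i j : D.Idx, ((g : Matrix D.Idx D.Idx k) i j) ^ (p ^ a) =
      (g : Matrix D.Idx D.Idx k) i j) ↔ entryMap D (σ : k →+* k) g = g := by
    intro g
    constructor
    · intro h
      refine Units.ext (Matrix.ext fun i j => ?_)
      show σ ((g : Matrix D.Idx D.Idx k) i j) = _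
      rw [hσa]; exact h i j
    · intro h i j
      rw [← hσa]
      exact Matrix.ext_iff.2 (congrArg Units.val h) i j
  have hL : fixedRoots hG σ ≤ K := by
    refine le_trans (Subgroup.closure_mono ?_) hLK
    rintro g ⟨r, -, t, ht, rfl⟩
    exact ⟨r, t, (hσa t).symm.trans ht, coe_xe hG r t⟩
  have hcen : D.group k ⊓ Subgroup.centralizer (K : Set (GL D.Idx k)) = ⊥ := by
    rw [Subgroup.eq_bot_iff_forall]
    rintro g ⟨hg, hgc⟩
    refine eq_one_of_commute hG hV hok hf hg fun r hr => ?_
    exact (hgc _ (hL (xe_mem_fixedRoots hG σ hr (map_one σ)))).symm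
  refine ⟨hcen, fun g hg => ⟨fun hN => (hent g).2 ?_, fun h => ?_⟩⟩
  · have hgrp : entryMap D (σ : k →+* k) g ∈ D.group k := by
      refine (show D.group k ≤ (D.group k).comap (entryMap D (σ : k →+* k)) from ?_) hg
      conv_lhs => rw [group_eq_closure_xe hG]
      rw [Subgroup.closure_le]
      rintro _ ⟨r, hr, t, rfl⟩
      rw [SetLike.mem_coe, Subgroup.mem_comap, entryMap_xe hG]
      exact xe_mem_group hG hr _
    have hmem : g⁻¹ * entryMap D (σ : k →+* k) g ∈ D.group k ⊓ Subgroup.centralizer (K : Set (GL D.Idx k)) := by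
      refine Subgroup.mem_inf.2 ⟨mul_mem (inv_mem hg) hgrp, ?_⟩
      intro y hy
      have h1 := (hent _).1 (hKfix _ ((Subgroup.mem_normalizer_iff.1 hN y).1 hy))
      have h2 := (hent _).1 (hKfix y hy)
      rw [map_mul, map_mul, map_inv, h2, mul_inv_eq_iff_eq_mul] at h1
      calc y * (g⁻¹ * entryMap D (σ : k →+* k) g)
          = g⁻¹ * (g * y * g⁻¹ * entryMap D (σ : k →+* k) g) := by group
        _ = g⁻¹ * (entryMap D (σ : k →+* k) g * y) := by rw [h1]
        _ = _ := by group
    rw [hcen, Subgroup.mem_bot, inv_mul_eq_one] at hmem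
    exact hmem.symm
  · exact fixed_mem_normalizer hG hf σ hKG hL (fun y hy => (hent y).1 (hKfix y hy)) hg ((hent g).1 h)

end Cfsg.Agent.Chev
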