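import Cfsg.Agent.Lib.Chev.TwistE6Group
import Cfsg.Agent.Lib.Chev.TwistTorus

/-!
# The torus of `²E₆(q)`
-/

set_option autoImplicit false

namespace Cfsg.Agent.Chev.BNSetup

open Cfsg.Lie

variable {K : Type*} [Field K]

/-- Three times the inverse Cartan matrix of `E₆`. -/
def invCartanE6 (j k : ℕ) : ℤ :=
  ([[4, 3, 5, 6, 4, 2], [3, 6, 6, 9, 6, 3], [5, 6, 10, 12, 8, 4], [6, 9, 12, 18, 12, 6], [4, 6, 8, 12, 10, 5],
    [2, 3, 4, 6, 5, 4]] : List (List ℤ))[j]!.getD k 0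

/-- The fixed torus of `²E₆`. -/
noncomputable def fixedTorusE6Equiv (φ : K ≃+* K) (hinv : ∀ x, φ (φ x) = x) :
    fixedTorus orbE6_ok φ ≃
      ({x : Kˣ // Units.map (φ : K →* K) x = x} × {x : Kˣ // Units.map (φ : K →* K) x = x}) × (Kˣ × Kˣ) where
  toFun τ := ((⟨(show Fin 6 → Kˣ from τ.1) 1, ((mem_fixedTorus orbE6_ok φ).1 τ.2 ⟨1, by decide⟩).symm⟩,
      ⟨(show Fin 6 → Kˣ from τ.1) 3, ((mem_fixedTorus orbE6_ok φ).1 τ.2 ⟨3, by decide⟩).symm⟩),
    ((show Fin 6 → Kˣ from τ.1) 0, (show Fin 6 → Kˣ from τ.1) 2))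
  invFun p := ⟨(![p.2.1, p.1.1.1, p.2.2, p.1.2.1, Units.map (φ : K →* K) p.2.2,
      Units.map (φ : K →* K) p.2.1] : Fin 6 → Kˣ), (mem_fixedTorus orbE6_ok φ).2 (by
    show ∀ i : Fin 6, _
    intro i
    fin_cases i
    · rfl
    · exact p.1.1.2.symm
    · rfl
    · exact p.1.2.2.symm
    · exact Units.ext (hinv (p.2.2 : K)).symm
    · exact Units.ext (hinv (p.2.1 : K)).symm)⟩
  left_inv τ := by
    have h := (mem_fixedTorus orbE6_ok φ).1 τ.2
    apply Subtype.ext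
    show (_ : Fin 6 → Kˣ) = _
    funext i
    fin_cases i
    · rfl
    · rfl
    · rfl
    · rfl
    · exact (h ⟨2, by decide⟩).symm
    · exact (h ⟨0, by decide⟩).symm
  right_inv p := rfl

theorem card_ker_inf_fixedTorusE6 [Fintype K] {q : ℕ} (hq : 0 < q) (hK : Fintype.card K = q ^ 2) {φ : K ≃+* K}
    (hφ : ∀ x, φ x = x ^ q) (hinv : ∀ x, φ (φ x) = x) :
    Nat.card ↥((torusHom K chevE6).ker ⊓ fixedTorus orbE6_ok φ) = Nat.gcd 3 (q + 1) := by
  set g := Nat.gcd 3 (q + 1) with hg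
  have hcard : Nat.card (powMonoidHom g : Kˣ →* Kˣ).ker = g := by
    rw [IsCyclic.card_powMonoidHom_ker, Nat.card_units, Nat.card_eq_fintype_card, hK,
      Nat.gcd_eq_right]
    exact (Nat.gcd_dvd_right 3 (q + 1)).trans (Dvd.intro _ (Nat.sq_sub_sq q 1).symm)
  conv_rhs => rw [← hcard]
  have key : ∀ τ : Fin 6 → Kˣ, τ ∈ (torusHom K chevE6).ker → τ ∈ fixedTorus orbE6_ok φ →
      τ 0 ^ g = 1 ∧ τ = ![τ 0, 1, τ 0 ^ 2, 1, τ 0, τ 0 ^ 2] := by
    intro c hk hτ
    have e0 := ker_rel E6.good hk (fun i => [4, 3, 5, 6, 4, 2].getD i.val 0)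
      (fun i => [3, 0, 0, 0, 0, 0].getD i.val 0)
      (by decide +kernel)
    have e1 := ker_rel E6.good hk (fun i => [1, 2, 2, 3, 2, 1].getD i.val 0)
      (fun i => [0, 1, 0, 0, 0, 0].getD i.val 0)
      (by decide +kernel)
    have e2 := ker_rel E6.good hk (fun i => [-1, 0, 0, 0, 0, 0].getD i.val 0)
      (fun i => [-2, 0, 1, 0, 0, 0].getD i.val 0)
      (by decide +kernel)
    have e3 := ker_rel E6.good hk (fun i => [2, 3, 4, 6, 4, 2].getD i.val 0)
      (fun i => [0, 0, 0, 1, 0, 0].getD i.val 0)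
      (by decide +kernel)
    have e4 := ker_rel E6.good hk (fun i => [0, 1, 1, 2, 2, 1].getD i.val 0)
      (fun i => [-1, 0, 0, 0, 1, 0].getD i.val 0)
      (by decide +kernel)
    have e5 := ker_rel E6.good hk (fun i => [-2, -1, -2, -2, -1, 0].getD i.val 0)
      (fun i => [-2, 0, 0, 0, 0, 1].getD i.val 0)
      (by decide +kernel)
    replace e0 : c 0 ^ 3 = 1 := by
      change (∏ i : Fin 6, c i ^ ([3, 0, 0, 0, 0, 0] : List ℤ).getD i.val 0) = 1 at e0
      simpa [Fin.prod_univ_six] using e0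
    replace e1 : c 1 = 1 := by
      change (∏ i : Fin 6, c i ^ ([0, 1, 0, 0, 0, 0] : List ℤ).getD i.val 0) = 1 at e1
      simpa [Fin.prod_univ_six] using e1
    replace e2 : c 2 = c 0 ^ 2 := by
      change (∏ i : Fin 6, c i ^ ([-2, 0, 1, 0, 0, 0] : List ℤ).getD i.val 0) = 1 at e2
      exact (inv_mul_eq_one.1 (by simpa [Fin.prod_univ_six] using e2)).symm
    replace e3 : c 3 = 1 := by
      change (∏ i : Fin 6, c i ^ ([0, 0, 0, 1, 0, 0] : List ℤ).getD i.val 0) = 1 at e3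
      simpa [Fin.prod_univ_six] using e3
    replace e4 : c 4 = c 0 := by
      change (∏ i : Fin 6, c i ^ ([-1, 0, 0, 0, 1, 0] : List ℤ).getD i.val 0) = 1 at e4
      exact (inv_mul_eq_one.1 (by simpa [Fin.prod_univ_six] using e4)).symm
    replace e5 : c 5 = c 0 ^ 2 := by
      change (∏ i : Fin 6, c i ^ ([-2, 0, 0, 0, 0, 1] : List ℤ).getD i.val 0) = 1 at e5
      exact (inv_mul_eq_one.1 (by simpa [Fin.prod_univ_six] using e5)).symm
    refine ⟨?_, ?_⟩
    · have hq' : c 0 ^ q = c 0 ^ 2 := by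
        have h := (mem_fixedTorus orbE6_ok φ).1 hτ ⟨0, by decide⟩
        apply Units.ext
        rw [Units.val_pow_eq_pow_val, ← hφ, ← e5]
        exact (congrArg Units.val h).symm
      refine pow_gcd_eq_one.2 ⟨e0, ?_⟩
      rw [pow_succ, hq', ← pow_succ]
      exact e0
    · funext i
      fin_cases i
      exacts [rfl, e1, e2, e3, e4, e5]
  refine Nat.card_congr (Equiv.ofBijective (fun τ => ⟨(show Fin 6 → Kˣ from τ.1) 0,
    MonoidHom.mem_ker.2 (key τ.1 τ.2.1 τ.2.2).1⟩) ⟨?_, ?_⟩)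
  · intro a b h
    have h0 : (show Fin 6 → Kˣ from a.1) 0 = (show Fin 6 → Kˣ from b.1) 0 := congrArg Subtype.val h
    apply Subtype.ext
    refine (key a.1 a.2.1 a.2.2).2.trans (.trans ?_ (key b.1 b.2.1 b.2.2).2.symm)
    simp only [h0]
  · rintro ⟨x, hx⟩
    replace hx : x ^ g = 1 := hx
    have hx3 : x ^ 3 = 1 := by
      obtain ⟨k, hk⟩ := Nat.gcd_dvd_left 3 (q + 1)
      rw [hk, pow_mul, hx, one_pow]
    have hxq : x ^ (q + 1) = 1 := by
      obtain ⟨k, hk⟩ := Nat.gcd_dvd_right 3 (q + 1)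
      rw [hk, pow_mul, hx, one_pow]
    have hpq : x ^ q = x ^ 2 := by
      have h1 : x ^ q * x = x ^ 2 * x := by rw [← pow_succ, ← pow_succ, hxq, hx3]
      exact mul_right_cancel h1
    have hu : Units.map (φ : K →* K) x = x ^ 2 := by
      apply Units.ext
      rw [← hpq, Units.val_pow_eq_pow_val]
      exact hφ _
    have hu2 : Units.map (φ : K →* K) (x ^ 2) = x := by
      rw [← hu]
      exact Units.ext (hinv (x : K))
    have hu0 : (1 : Kˣ) = Units.map (φ : K →* K) 1 := (map_one _).symm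
    refine ⟨⟨(![x, 1, x ^ 2, 1, x, x ^ 2] : Fin 6 → Kˣ), (mem_ker_torusHom E6.good).2 ?_,
      (mem_fixedTorus orbE6_ok φ).2 ?_⟩, rfl⟩
    · show ∀ j : Fin 6, _
      intro j
      show (∏ i : Fin 6, (![x, 1, x ^ 2, 1, x, x ^ 2] : Fin 6 → Kˣ) i ^
        chevE6.cartan i.val (chevE6.simple j.val)) = 1
      have hx' : ∀ i : Fin 6, (![x, 1, x ^ 2, 1, x, x ^ 2] : Fin 6 → Kˣ) i =
          x ^ ([1, 0, 2, 0, 1, 2] : List ℤ).getD i.val 0 := by
        intro i
        fin_cases i <;> simp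
      obtain ⟨k, hk⟩ := (by decide +kernel : ∀ j : Fin 6, (3 : ℤ) ∣
        ∑ i : Fin 6, ([1, 0, 2, 0, 1, 2] : List ℤ).getD i.val 0 * chevE6.cartan i.val (chevE6.simple j.val)) j
      simp only [hx', ← zpow_mul, ← zpow_finset_sum, hk]
      rw [zpow_mul, show x ^ (3 : ℤ) = 1 from mod_cast hx3, one_zpow]
    · show ∀ i : Fin 6, _
      intro i
      fin_cases i
      exacts [hu.symm, hu0, hu2.symm, hu0, hu.symm, hu2.symm]

theorem card_diagonal_inf_E6 [Fintype K] {q : ℕ} (hq : 0 < q) (hK : Fintype.card K = q ^ 2) {φ : K ≃+* K}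
    (hφ : ∀ x, φ x = x ^ q) (hinv : ∀ x, φ (φ x) = x) (hcard : Nat.card {x : K // φ x = x} = q) :
    Nat.gcd 3 (q + 1) * Nat.card ↥(chevE6.diagonalSubgroup K ⊓ (tw2E6 φ).Gt) =
      (q - 1) * (q - 1) * ((q ^ 2 - 1) * (q ^ 2 - 1)) := by
  have h := card_diagonal_inf (F := K) E6.good orbE6_ok φ facts_chevE6 graphE6_cols negTri_chevE6
    (by decide +kernel) (m := 2) (d := 3) (by norm_num)
    (by show ∀ i : Fin 6, _; intro i; fin_cases i <;> rfl) hinv invCartanE6 (by decide +kernel)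
  rw [card_ker_inf_fixedTorusE6 hq hK hφ hinv, Nat.card_congr (fixedTorusE6Equiv φ hinv),
    Nat.card_prod, Nat.card_prod, Nat.card_prod, card_fixed_units hcard, Nat.card_units,
    show Nat.card K = _ from Nat.card_eq_fintype_card.trans hK] at h
  exact h

end Cfsg.Agent.Chev.BNSetup
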