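import Cfsg.Agent.Lib.Chev.ChevData
import Cfsg.Agent.Lib.Chev.CheckG2

/-!
The centralizer of a short root involution of the Chevalley group of type G2 in characteristic two.
Root numbering: `a = 7`, `b = 6`, `a+b = 8`, `2a+b = 9`, `3a+b = 10`, `3a+2b = 11`, `-b = 5`.
-/
set_option autoImplicit false
set_option maxRecDepth 100000

namespace Cfsg.Agent.Chev.G2Short

open Cfsg.Lie

/-- The images of all roots under the Weyl group. -/
def weylImages : List (List ℕ) :=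
  (fun L => (L ++ (List.range 2).flatMap fun i => L.map fun p => p.map (G2.cert.w i)).dedup)^[6] [List.range 12]

theorem weylImages_closed :
    List.range 12 ∈ weylImages ∧ ∀ i < 2, ∀ p ∈ weylImages, p.map (G2.cert.w i) ∈ weylImages := by
  decide +kernel

/-- `x_u` fixes the basis vector of `v`. -/
noncomputable def fixesB (u v : ℕ) : Bool := G2.cert.col u (2 + v) == [(2 + v, 0, 1)]

theorem weylImages_ok : ∀ p ∈ weylImages,
    let u := p.getD 9 0
    let v := p.getD 10 0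
    let w := p.getD 11 0
    fixesB u v = true ∧ fixesB u w = true ∧ fixesB v w = true ∧ u ≠ v ∧ u ≠ w ∧
      u ≠ 10 ∧ u ≠ 11 ∧ (G2.cert.A 0 u % 2 ≠ 0 ∨ G2.cert.A 1 u % 2 ≠ 0) ∧
      (u = 9 → p = List.range 12 ∨ p = (List.range 12).map (G2.cert.w 1)) := by
  decide +kernel

theorem hn : chevG2.nroots = 12 := by decide +kernel

theorem hk : chevG2.rank = 2 := by decide +kernel

set_option synthInstance.maxSize 2000 in
theorem list_facts : fixesB 9 10 = true ∧ fixesB 9 11 = true ∧ fixesB 10 11 = true ∧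
    G2.cert.comm 9 7 = [(10, -3, 1, 1)] ∧ G2.cert.comm 9 8 = [(11, -3, 1, 1)] ∧
    G2.cert.comm 10 6 = [(11, -1, 1, 1)] ∧
    G2.cert.comm 7 8 = [(9, -2, 1, 1), (10, -3, 2, 1), (11, 3, 1, 2)] ∧
    G2.cert.comm 7 6 = [(8, -1, 1, 1), (9, 1, 2, 1), (10, 1, 3, 1), (11, 1, 3, 2)] ∧
    G2.cert.p 0 = 7 ∧ G2.cert.p 1 = 6 ∧ G2.cert.ng 6 = 5 ∧
    G2.cert.A 0 9 = 1 ∧ G2.cert.A 1 9 = 0 ∧ G2.cert.A 1 10 = -1 ∧ G2.cert.A 1 11 = 1 := by
  decide +kernel

theorem even_facts : ∀ q ∈ [(6, 8), (6, 9), (6, 11), (7, 10), (7, 11), (8, 10), (8, 11), (9, 10), (9, 11), (10, 11),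
      (5, 9), (9, 5)],
    G2.cert.even2 q.1 q.2 = true ∧ q.2 ≠ G2.cert.ng q.1 := by
  decide +kernel

theorem refl_facts : G2.cert.w 1 6 = 5 ∧ G2.cert.w 1 7 = 8 ∧ G2.cert.w 1 8 = 7 ∧ G2.cert.w 1 9 = 9 ∧
    G2.cert.w 1 10 = 11 ∧ G2.cert.w 1 11 = 10 := by
  decide +kernel

theorem pos_facts : ∀ r < 12, G2.cert.posB r = true → r ∈ [6, 7, 8, 9, 10, 11] := by decide +kernel

variable {F : Type*} [Field F]

/-- The root element `x_r(t)`. -/
local notation "X" => fun (r : ℕ) (t : F) => (xg chevG2 F r t : GL chevG2.Idx F)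

theorem three_entry {u v w : ℕ} (hu : u < 12) (hv : v < 12) (hw : w < 12) (h1 : fixesB u v = true)
    (h2 : fixesB u w = true) (h3 : fixesB v w = true) (α β γ : F) (i : ℕ) (hi : i < 2) (s : ℕ) (hs : s < 12) :
    (((xg chevG2 F u α * xg chevG2 F v β * xg chevG2 F w γ : GL chevG2.Idx F) : Matrix chevG2.Idx chevG2.Idx F).mulVec
      (bvec chevG2 F i)) (Sum.inr ⟨s, hn ▸ hs⟩) =
      -((if s = u then (G2.cert.A i u : F) * α else 0) + (if s = v then (G2.cert.A i v : F) * β else 0) +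
        (if s = w then (G2.cert.A i w : F) * γ else 0)) := by
  simp only [fixesB, beq_iff_eq] at h1 h2 h3
  have hD : Good chevG2 := G2.good
  have hV := G2.valid
  have hr := hk
  have hc : G2.cert.rank = 2 := by rw [hV.rank_eq, hk]
  have hcol : ∀ r, G2.cert.col r i = [(i, 0, 1), (2 + r, 1, -G2.cert.A i r)] := fun r => by
    simp [Cert.col, hc, hi]
  rw [Units.val_mul, Units.val_mul, ← Matrix.mulVec_mulVec, ← Matrix.mulVec_mulVec, hD.coe_xg, hD.coe_xg,
    hD.coe_xg, hV.mulVec_bvec (hn ▸ hw), hcol]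
  simp only [colSem, List.map_cons, List.map_nil, List.sum_cons, List.sum_nil, add_zero, Matrix.mulVec_add,
    Matrix.mulVec_smul, hV.mulVec_bvec (hn ▸ hv), hV.mulVec_bvec (hn ▸ hu), hcol, h1, h2, h3]
  simp only [bvec, Pi.add_apply, Pi.smul_apply, smul_eq_mul, idxNat_inr, hk]
  rw [if_neg (by omega : ¬ 2 + s = i)]
  simp only [add_right_inj]
  split_ifs <;> push_cast <;> ring

theorem xg_eq_zero {r : ℕ} (hr : r < 12) {t : F} (ht : xg chevG2 F r t = 1)
    {i : ℕ} (hi : i < 2) (hA : (G2.cert.A i r : F) ≠ 0) : t = 0 := by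
  have hD : Good chevG2 := G2.good
  refine G2.valid.xg_injective (hn ▸ hr) (hk ▸ hi) ?_ (ht.trans (hD.xg_zero r).symm)
  rwa [G2.valid.A_eq (hk ▸ hi) (hn ▸ hr)]

variable [CharP F 2]

theorem comm2 {r s : ℕ} (h : (r, s) ∈ [(6, 8), (6, 9), (6, 11), (7, 10), (7, 11), (8, 10), (8, 11), (9, 10), (9, 11),
      (10, 11), (5, 9), (9, 5)]) (t u : F) : Commute (xg chevG2 F r t) (xg chevG2 F s u) := by
  have hb : r < 12 ∧ s < 12 := by simp at h; omega
  exact G2.valid.commute_xg (hn ▸ hb.1) (hn ▸ hb.2) (Or.inr (And.symm (even_facts (r, s) h))) t u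

theorem cast_odd {m : ℤ} (h : m % 2 ≠ 0) : (m : F) ≠ 0 := fun h0 => h (by
  rw [CharP.intCast_eq_zero_iff F 2] at h0
  exact Int.emod_eq_zero_of_dvd (by exact_mod_cast h0))

/-- `x_s(v) x_r(a) x_s(v)⁻¹ = x_r(a) x_k(a v)` for a single odd commutator term. -/
theorem conj_single {r s k : ℕ} (hr : r < 12) (hs : s < 12) (h1 : s ≠ r) (h2 : s ≠ G2.cert.ng r) {m : ℤ}
    (hm : m % 2 ≠ 0) (hc : G2.cert.comm r s = [(k, m, 1, 1)])
    (hsk : ∀ t u : F, Commute (xg chevG2 F s t) (xg chevG2 F k u)) (a v : F) :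
    xg chevG2 F s v * xg chevG2 F r a * (xg chevG2 F s v)⁻¹ = xg chevG2 F r a * xg chevG2 F k (a * v) := by
  have hD : Good chevG2 := G2.good
  have e := hD.xg_comm (hn ▸ hr) (hn ▸ hs) h1 (by rw [G2.valid.ng_eq (hn ▸ hr)]; exact h2) a v
  have hm1 : (m : F) = 1 := by
    have hdvd : (2 : ℤ) ∣ m - 1 := by omega
    have : ((m - 1 : ℤ) : F) = 0 := (CharP.intCast_eq_zero_iff F 2 _).2 (by exact_mod_cast hdvd)
    push_cast at this
    exact sub_eq_zero.1 this
  have hw : wordG chevG2 F (chevG2.commWord F r s a v) = xg chevG2 F k (a * v) := by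
    rw [ChevalleyDatum.commWord, G2.valid.comm_eq (hn ▸ hr) (hn ▸ hs), hc]
    simp [wordG, hm1, CharTwo.neg_eq]
  rw [e, hw, mul_assoc, mul_assoc, ← mul_assoc (xg chevG2 F s v), (hsk v (a * v)).eq, mul_inv_cancel_right]

/-- The elements `x_9(a) x_10(b) x_11(c)`. -/
noncomputable def el (a b c : F) : GL chevG2.Idx F := xg chevG2 F 9 a * xg chevG2 F 10 b * xg chevG2 F 11 c

theorem el_mul (a b c a' b' c' : F) : el a b c * el a' b' c' = el (a + a') (b + b') (c + c') := by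
  have hD : Good chevG2 := G2.good
  have c1 := fun t u => (comm2 (F := F) (r := 9) (s := 10) (by simp) t u).eq
  have c2 := fun t u => (comm2 (F := F) (r := 9) (s := 11) (by simp) t u).eq
  have c3 := fun t u => (comm2 (F := F) (r := 10) (s := 11) (by simp) t u).eq
  simp only [el, ← hD.xg_add, mul_assoc]
  rw [← mul_assoc (xg chevG2 F 11 c), ← c2 a' c, mul_assoc, ← mul_assoc (xg chevG2 F 11 c), ← c3 b' c, mul_assoc,
    ← mul_assoc (xg chevG2 F 10 b), ← c1 a' b, mul_assoc]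

theorem el_zero : el (0 : F) 0 0 = 1 := by
  simp [el, (G2.good : Good chevG2).xg_zero]

theorem el_inv (a b c : F) : (el a b c)⁻¹ = el (-a) (-b) (-c) :=
  inv_eq_of_mul_eq_one_right (by rw [el_mul, add_neg_cancel, add_neg_cancel, add_neg_cancel, el_zero])

theorem el_eq9 (a : F) : el a 0 0 = xg chevG2 F 9 a := by simp [el, (G2.good : Good chevG2).xg_zero]
theorem el_eq10 (b : F) : el 0 b 0 = xg chevG2 F 10 b := by simp [el, (G2.good : Good chevG2).xg_zero]
theorem el_eq11 (c : F) : el 0 0 c = xg chevG2 F 11 c := by simp [el, (G2.good : Good chevG2).xg_zero]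

/-- `L = X_9 X_10 X_11`. -/
noncomputable def L3 : Subgroup (GL chevG2.Idx F) where
  carrier := {g | ∃ a b c : F, g = el a b c}
  one_mem' := ⟨0, 0, 0, el_zero.symm⟩
  mul_mem' := by
    rintro _ _ ⟨a, b, c, rfl⟩ ⟨a', b', c', rfl⟩
    exact ⟨_, _, _, el_mul a b c a' b' c'⟩
  inv_mem' := by
    rintro _ ⟨a, b, c, rfl⟩
    exact ⟨_, _, _, el_inv a b c⟩

theorem mem_L3 {g : GL chevG2.Idx F} : g ∈ (L3 : Subgroup (GL chevG2.Idx F)) ↔ ∃ a b c : F, g = el a b c := Iff.rfl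

theorem conj7 (v a b c : F) :
    xg chevG2 F 7 v * el a b c * (xg chevG2 F 7 v)⁻¹ = el a (b + a * v) c := by
  have h := conj_single (F := F) (r := 9) (s := 7) (k := 10) (by omega) (by omega) (by omega) (by decide +kernel)
    (by decide) list_facts.2.2.2.1 (comm2 (by simp)) a v
  have e : xg chevG2 F 7 v * el 0 b c * (xg chevG2 F 7 v)⁻¹ = el 0 b c := by
    rw [el, (G2.good : Good chevG2).xg_zero, one_mul,
      ((comm2 (by simp) v b).mul_right (comm2 (by simp) v c)).eq, mul_inv_cancel_right]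
  rw [show el a b c = el a 0 0 * el 0 b c by rw [el_mul]; simp, ← conj_mul, e, el_eq9, h, ← el_eq9, ← el_eq10,
    el_mul, el_mul]
  congr 1 <;> ring

theorem conj8 (v a b c : F) :
    xg chevG2 F 8 v * el a b c * (xg chevG2 F 8 v)⁻¹ = el a b (c + a * v) := by
  have h := conj_single (F := F) (r := 9) (s := 8) (k := 11) (by omega) (by omega) (by omega) (by decide +kernel)
    (by decide) list_facts.2.2.2.2.1 (comm2 (by simp)) a v
  have e : xg chevG2 F 8 v * el 0 b c * (xg chevG2 F 8 v)⁻¹ = el 0 b c := by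
    rw [el, (G2.good : Good chevG2).xg_zero, one_mul,
      ((comm2 (by simp) v b).mul_right (comm2 (by simp) v c)).eq, mul_inv_cancel_right]
  rw [show el a b c = el a 0 0 * el 0 b c by rw [el_mul]; simp, ← conj_mul, e, el_eq9, h, ← el_eq9, ← el_eq11,
    el_mul, el_mul]
  congr 1 <;> ring

theorem conj6 (v a b c : F) :
    xg chevG2 F 6 v * el a b c * (xg chevG2 F 6 v)⁻¹ = el a b (c + b * v) := by
  have h := conj_single (F := F) (r := 10) (s := 6) (k := 11) (by omega) (by omega) (by omega) (by decide +kernel)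
    (by decide) list_facts.2.2.2.2.2.1 (comm2 (by simp)) b v
  have e : xg chevG2 F 6 v * el a 0 c * (xg chevG2 F 6 v)⁻¹ = el a 0 c := by
    rw [el, (G2.good : Good chevG2).xg_zero, mul_one,
      ((comm2 (by simp) v a).mul_right (comm2 (by simp) v c)).eq, mul_inv_cancel_right]
  rw [show el a b c = el a 0 c * el 0 b 0 by rw [el_mul]; simp, ← conj_mul, e, el_eq10, h, ← el_eq10, ← el_eq11,
    el_mul, el_mul]
  congr 1 <;> ring

theorem conj_el (a b c a' b' c' : F) : el a' b' c' * el a b c * (el a' b' c')⁻¹ = el a b c := by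
  rw [el_inv, el_mul, el_mul]
  congr 1 <;> ring

theorem conj_pos {s : ℕ} (hs : s ∈ [6, 7, 8, 9, 10, 11]) (v a b c : F) :
    ∃ b' c' : F, xg chevG2 F s v * el a b c * (xg chevG2 F s v)⁻¹ = el a b' c' := by
  simp only [List.mem_cons, List.not_mem_nil, or_false] at hs
  rcases hs with rfl | rfl | rfl | rfl | rfl | rfl
  · exact ⟨_, _, conj6 v a b c⟩
  · exact ⟨_, _, conj7 v a b c⟩
  · exact ⟨_, _, conj8 v a b c⟩
  · exact ⟨b, c, by rw [← el_eq9]; exact conj_el ..⟩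
  · exact ⟨b, c, by rw [← el_eq10]; exact conj_el ..⟩
  · exact ⟨b, c, by rw [← el_eq11]; exact conj_el ..⟩

/-- The set `S = {x_9(a) x_10(b) x_11(c) : a ≠ 0}`. -/
def InS (y : GL chevG2.Idx F) : Prop := ∃ a b c : F, a ≠ 0 ∧ y = el a b c

/-- The stabilizer of `S`. -/
def stabS : Subgroup (GL chevG2.Idx F) where
  carrier := {g | ∀ y, InS (g * y * g⁻¹) ↔ InS y}
  one_mem' := by simp
  mul_mem' {g g'} hg hg' := fun y => by
    rw [← hg' y, ← hg (g' * y * g'⁻¹)]
    simp [mul_assoc]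
  inv_mem' {g} hg := fun y => by
    have := hg (g⁻¹ * y * g⁻¹⁻¹)
    rw [← this]
    simp [mul_assoc]

theorem mem_stabS {g : GL chevG2.Idx F}
    (h : ∀ y, InS y → InS (g * y * g⁻¹)) (h' : ∀ y, InS y → InS (g⁻¹ * y * g)) :
    g ∈ (stabS : Subgroup (GL chevG2.Idx F)) := by
  refine fun y => ⟨fun hy => ?_, h y⟩
  have := h' _ hy
  simpa [mul_assoc] using this

/-- Elements scaling `x_9`. -/
def scale9 : Subgroup (GL chevG2.Idx F) where
  carrier := {g | ∃ χ : F, χ ≠ 0 ∧ ∀ a : F, g * xg chevG2 F 9 a * g⁻¹ = xg chevG2 F 9 (χ * a)}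
  one_mem' := ⟨1, one_ne_zero, by simp⟩
  mul_mem' {g g'} := by
    rintro ⟨χ, hχ, h⟩ ⟨χ', hχ', h'⟩
    refine ⟨χ * χ', mul_ne_zero hχ hχ', fun a => ?_⟩
    rw [mul_assoc χ, ← h, ← h']
    simp [mul_assoc]
  inv_mem' {g} := by
    rintro ⟨χ, hχ, h⟩
    refine ⟨χ⁻¹, inv_ne_zero hχ, fun a => ?_⟩
    have := h (χ⁻¹ * a)
    rw [← mul_assoc χ, mul_inv_cancel₀ hχ, one_mul] at this
    rw [← this]
    simp [mul_assoc]

theorem scale9_xg {r : ℕ} (h : r ∈ [5, 6, 9, 10, 11]) (t : F) :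
    xg chevG2 F r t ∈ (scale9 : Subgroup (GL chevG2.Idx F)) := by
  refine ⟨1, one_ne_zero, fun a => ?_⟩
  have hc : Commute (xg chevG2 F r t) (xg chevG2 F 9 a) := by
    simp only [List.mem_cons, List.not_mem_nil, or_false] at h
    rcases h with rfl | rfl | rfl | rfl | rfl
    · exact comm2 (by simp) t a
    · exact comm2 (by simp) t a
    · show _ = _
      rw [(G2.good : Good chevG2).xg_add, (G2.good : Good chevG2).xg_add, add_comm]
    · exact (comm2 (by simp) a t).symm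
    · exact (comm2 (by simp) a t).symm
  rw [hc.eq, mul_inv_cancel_right, one_mul]

theorem scale9_diag {h : GL chevG2.Idx F} (hh : h ∈ chevG2.diagonalSubgroup F) :
    h ∈ (scale9 : Subgroup (GL chevG2.Idx F)) := by
  have hD : Good chevG2 := G2.good
  refine (show chevG2.diagonalSubgroup F ≤ scale9 from (Subgroup.closure_le _).2 ?_) hh
  rintro g ⟨s, t, hs, ht, hg⟩
  rw [show g = hG chevG2 F s t from Units.ext (by rw [hg, hD.coe_hG]), hD.hG_eq_prod hs ht]
  refine Subgroup.list_prod_mem scale9 fun x hx => ?_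
  obtain ⟨i, hi, rfl⟩ := List.mem_map.1 hx
  refine ⟨_, zpow_ne_zero (chevG2.cartan i 9) (zpow_ne_zero ((chevG2.coroot.getD s #[]).getD i 0) ht),
    fun a => ?_⟩
  rw [hD.hG_mul_xg (List.mem_range.1 hi) (hn ▸ (by omega : 9 < 12)) (zpow_ne_zero _ ht), mul_inv_cancel_right]

theorem diag_stabS {h : GL chevG2.Idx F} (hh : h ∈ chevG2.diagonalSubgroup F) :
    h ∈ (stabS : Subgroup (GL chevG2.Idx F)) := by
  have key : ∀ h ∈ chevG2.diagonalSubgroup F, ∀ y, InS y → InS (h * y * h⁻¹) := by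
    rintro h hh y ⟨a, b, c, ha, rfl⟩
    have hn9 := BNSetup.normalisesAll_H G2.good hh
    have hD : Good chevG2 := G2.good
    obtain ⟨χ, hχ, h9⟩ := scale9_diag hh
    obtain ⟨b', hb'⟩ := hD.mem_rootSubgroup_iff.1 (hn9 10 (hn ▸ (by omega)) _ (hD.xg_mem_rootSubgroup 10 b))
    obtain ⟨c', hc'⟩ := hD.mem_rootSubgroup_iff.1 (hn9 11 (hn ▸ (by omega)) _ (hD.xg_mem_rootSubgroup 11 c))
    exact ⟨χ * a, b', c', mul_ne_zero hχ ha, by rw [el, el, ← h9, ← hb', ← hc', conj_mul, conj_mul]⟩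
  refine mem_stabS (key h hh) fun y hy => ?_
  simpa using key h⁻¹ (inv_mem hh) y hy

theorem pos_stabS {s : ℕ} (hs : s ∈ [6, 7, 8, 9, 10, 11]) (v : F) :
    xg chevG2 F s v ∈ (stabS : Subgroup (GL chevG2.Idx F)) := by
  have key : ∀ v : F, ∀ y, InS y → InS (xg chevG2 F s v * y * (xg chevG2 F s v)⁻¹) := by
    rintro v y ⟨a, b, c, ha, rfl⟩
    obtain ⟨b', c', e⟩ := conj_pos hs v a b c
    exact ⟨a, b', c', ha, e⟩
  refine mem_stabS (key v) fun y hy => ?_
  have := key (-v) y hy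
  rw [← (G2.good : Good chevG2).xg_inv, inv_inv] at this
  exact this

theorem borel_le {K : Subgroup (GL chevG2.Idx F)}
    (hU : ∀ s ∈ [6, 7, 8, 9, 10, 11], ∀ v : F, xg chevG2 F s v ∈ K) (hH : chevG2.diagonalSubgroup F ≤ K) :
    (BNSetup.data (F := F) (G2.good : Good chevG2)).B ≤ K := by
  rw [BNSetup.data_B G2.good BNSetup.facts_chevG2]
  refine sup_le ((Subgroup.closure_le _).2 ?_) hH
  rintro g ⟨r, t, hr, hg⟩
  rw [(G2.good : Good chevG2).eq_xg hg]
  obtain ⟨h1, h2⟩ := G2.valid.isPosRoot_iff.1 hr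
  exact hU r (pos_facts r (hn ▸ h1) h2) t

/-- `V = X_7 X_8 L`. -/
def InV (g : GL chevG2.Idx F) : Prop :=
  ∃ p q : F, ∃ l ∈ (L3 : Subgroup (GL chevG2.Idx F)), g = xg chevG2 F 7 p * xg chevG2 F 8 q * l

theorem conj_L3 {s : ℕ} (hs : s ∈ [6, 7, 8, 9, 10, 11]) (v : F) {l : GL chevG2.Idx F}
    (hl : l ∈ (L3 : Subgroup (GL chevG2.Idx F))) :
    xg chevG2 F s v * l * (xg chevG2 F s v)⁻¹ ∈ (L3 : Subgroup (GL chevG2.Idx F)) := by
  obtain ⟨a, b, c, rfl⟩ := hl
  obtain ⟨b', c', e⟩ := conj_pos hs v a b c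
  exact ⟨a, b', c', e⟩

theorem inV_mul {g g' : GL chevG2.Idx F} (hg : InV g) (hg' : InV g') : InV (g * g') := by
  have hD : Good chevG2 := G2.good
  obtain ⟨p, q, l, hl, rfl⟩ := hg
  obtain ⟨p', q', l', hl', rfl⟩ := hg'
  have hW : wordG chevG2 F (chevG2.commWord F 7 8 p' q) ∈ (L3 : Subgroup (GL chevG2.Idx F)) := by
    rw [ChevalleyDatum.commWord, G2.valid.comm_eq (hn ▸ (by omega)) (hn ▸ (by omega)), list_facts.2.2.2.2.2.2.1]
    simp only [wordG, List.map_cons, List.map_nil, List.prod_cons, List.prod_nil, mul_one]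
    exact mul_mem ⟨_, 0, 0, (el_eq9 _).symm⟩ (mul_mem ⟨0, _, 0, (el_eq10 _).symm⟩ ⟨0, 0, _, (el_eq11 _).symm⟩)
  have h87 := hD.xg_comm (r := 7) (s := 8) (hn ▸ (by omega)) (hn ▸ (by omega)) (by omega)
    (by rw [G2.valid.ng_eq (hn ▸ (by omega))]; decide +kernel) p' q
  set W := wordG chevG2 F (chevG2.commWord F 7 8 p' q)
  set l₁ := (xg chevG2 F 7 p')⁻¹ * l * xg chevG2 F 7 p' with hl₁
  have hl₁m : l₁ ∈ (L3 : Subgroup (GL chevG2.Idx F)) := by
    have := conj_L3 (F := F) (s := 7) (by simp) (-p') hl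
    rwa [← hD.xg_inv, inv_inv] at this
  set l₂ := (xg chevG2 F 8 q')⁻¹ * (W * l₁) * xg chevG2 F 8 q' with hl₂
  have hl₂m : l₂ ∈ (L3 : Subgroup (GL chevG2.Idx F)) := by
    have := conj_L3 (F := F) (s := 8) (by simp) (-q') (mul_mem hW hl₁m)
    rwa [← hD.xg_inv, inv_inv] at this
  refine ⟨p + p', q + q', l₂ * l', mul_mem hl₂m hl', ?_⟩
  rw [← hD.xg_add, ← hD.xg_add]
  calc xg chevG2 F 7 p * xg chevG2 F 8 q * l * (xg chevG2 F 7 p' * xg chevG2 F 8 q' * l')
      = xg chevG2 F 7 p * (xg chevG2 F 8 q * xg chevG2 F 7 p') * l₁ * xg chevG2 F 8 q' * l' := by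
        rw [hl₁]; group
    _ = xg chevG2 F 7 p * (xg chevG2 F 7 p' * xg chevG2 F 8 q * W) * l₁ * xg chevG2 F 8 q' * l' := by rw [h87]
    _ = _ := by rw [hl₂]; group

theorem inV_of_L3 {l : GL chevG2.Idx F} (hl : l ∈ (L3 : Subgroup (GL chevG2.Idx F))) : InV l :=
  ⟨0, 0, l, hl, by simp [(G2.good : Good chevG2).xg_zero]⟩

theorem inV_7 (p : F) : InV (xg chevG2 F 7 p) := ⟨p, 0, 1, one_mem _, by simp [(G2.good : Good chevG2).xg_zero]⟩

theorem inV_8 (q : F) : InV (xg chevG2 F 8 q) := ⟨0, q, 1, one_mem _, by simp [(G2.good : Good chevG2).xg_zero]⟩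

/-- The subgroup `V`. -/
noncomputable def V : Subgroup (GL chevG2.Idx F) where
  carrier := {g | InV g}
  one_mem' := inV_of_L3 (one_mem _)
  mul_mem' := inV_mul
  inv_mem' := by
    rintro _ ⟨p, q, l, hl, rfl⟩
    rw [mul_inv_rev, mul_inv_rev, (G2.good : Good chevG2).xg_inv, (G2.good : Good chevG2).xg_inv]
    exact inV_mul (inV_of_L3 (inv_mem hl)) (inV_mul (inV_8 _) (inV_7 _))

theorem V_xg {s : ℕ} (hs : s ∈ [7, 8, 9, 10, 11]) (v : F) :
    xg chevG2 F s v ∈ (V : Subgroup (GL chevG2.Idx F)) := by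
  simp only [List.mem_cons, List.not_mem_nil, or_false] at hs
  rcases hs with rfl | rfl | rfl | rfl | rfl
  · exact inV_7 v
  · exact inV_8 v
  · exact inV_of_L3 ⟨v, 0, 0, (el_eq9 v).symm⟩
  · exact inV_of_L3 ⟨0, v, 0, (el_eq10 v).symm⟩
  · exact inV_of_L3 ⟨0, 0, v, (el_eq11 v).symm⟩

theorem mem_normalizer_V {g : GL chevG2.Idx F}
    (h : ∀ s ∈ [7, 8, 9, 10, 11], ∀ v : F, g * xg chevG2 F s v * g⁻¹ ∈ (V : Subgroup (GL chevG2.Idx F)))
    (h' : ∀ s ∈ [7, 8, 9, 10, 11], ∀ v : F, g⁻¹ * xg chevG2 F s v * g ∈ (V : Subgroup (GL chevG2.Idx F))) :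
    g ∈ Subgroup.normalizer ((V : Subgroup (GL chevG2.Idx F)) : Set (GL chevG2.Idx F)) := by
  have key : ∀ g : GL chevG2.Idx F,
      (∀ s ∈ [7, 8, 9, 10, 11], ∀ v : F, g * xg chevG2 F s v * g⁻¹ ∈ (V : Subgroup (GL chevG2.Idx F))) →
      ∀ y ∈ (V : Subgroup (GL chevG2.Idx F)), g * y * g⁻¹ ∈ (V : Subgroup (GL chevG2.Idx F)) := by
    rintro g hg _ ⟨p, q, l, ⟨a, b, c, rfl⟩, rfl⟩
    rw [el, ← conj_mul, ← conj_mul, ← conj_mul, ← conj_mul]
    exact mul_mem (mul_mem (hg 7 (by simp) _) (hg 8 (by simp) _))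
      (mul_mem (mul_mem (hg 9 (by simp) _) (hg 10 (by simp) _)) (hg 11 (by simp) _))
  rw [Subgroup.mem_normalizer_iff]
  refine fun y => ⟨key g h y, fun hy => ?_⟩
  have := key g⁻¹ (fun s hs v => by rw [inv_inv]; exact h' s hs v) _ hy
  simpa [mul_assoc] using this

theorem diag_normalizer_V {h : GL chevG2.Idx F} (hh : h ∈ chevG2.diagonalSubgroup F) :
    h ∈ Subgroup.normalizer ((V : Subgroup (GL chevG2.Idx F)) : Set (GL chevG2.Idx F)) := by
  have hD : Good chevG2 := G2.good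
  have key : ∀ h ∈ chevG2.diagonalSubgroup F, ∀ s ∈ [7, 8, 9, 10, 11], ∀ v : F,
      h * xg chevG2 F s v * h⁻¹ ∈ (V : Subgroup (GL chevG2.Idx F)) := by
    intro h hh s hs v
    have hs' : s < chevG2.nroots := by rw [hn]; simp at hs; omega
    obtain ⟨u, hu⟩ := hD.mem_rootSubgroup_iff.1
      (BNSetup.normalisesAll_H G2.good hh s hs' _ (hD.xg_mem_rootSubgroup s v))
    rw [hu]
    exact V_xg hs u
  exact mem_normalizer_V (key h hh) fun s hs v => by simpa using key h⁻¹ (inv_mem hh) s hs v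

theorem x6_normalizer_V (v : F) :
    xg chevG2 F 6 v ∈ Subgroup.normalizer ((V : Subgroup (GL chevG2.Idx F)) : Set (GL chevG2.Idx F)) := by
  have hD : Good chevG2 := G2.good
  have key : ∀ v : F, ∀ s ∈ [7, 8, 9, 10, 11], ∀ u : F,
      xg chevG2 F 6 v * xg chevG2 F s u * (xg chevG2 F 6 v)⁻¹ ∈ (V : Subgroup (GL chevG2.Idx F)) := by
    intro v
    have hup : ∀ s ∈ [8, 9, 10, 11], ∀ u : F,
        xg chevG2 F 6 v * xg chevG2 F s u * (xg chevG2 F 6 v)⁻¹ ∈ (V : Subgroup (GL chevG2.Idx F)) := by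
      intro s hs u
      simp only [List.mem_cons, List.not_mem_nil, or_false] at hs
      rcases hs with rfl | rfl | rfl | rfl
      · rw [(comm2 (by simp) v u).eq, mul_inv_cancel_right]; exact V_xg (by simp) u
      all_goals refine inV_of_L3 (conj_L3 (s := 6) (by simp) v ?_)
      · exact ⟨u, 0, 0, (el_eq9 u).symm⟩
      · exact ⟨0, u, 0, (el_eq10 u).symm⟩
      · exact ⟨0, 0, u, (el_eq11 u).symm⟩
    intro s hs u
    rcases List.mem_cons.1 hs with rfl | hs
    · have e := hD.xg_comm (r := 7) (s := 6) (hn ▸ (by omega)) (hn ▸ (by omega)) (by omega)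
        (by rw [G2.valid.ng_eq (hn ▸ (by omega))]; decide +kernel) u v
      rw [e, mul_assoc, mul_assoc]
      refine mul_mem (V_xg (by simp) u) ?_
      rw [← mul_assoc, ChevalleyDatum.commWord, G2.valid.comm_eq (hn ▸ (by omega)) (hn ▸ (by omega)),
        list_facts.2.2.2.2.2.2.2.1]
      simp only [wordG, List.map_cons, List.map_nil, List.prod_cons, List.prod_nil, mul_one]
      rw [← conj_mul, ← conj_mul, ← conj_mul]
      exact mul_mem (hup 8 (by simp) _) (mul_mem (hup 9 (by simp) _) (mul_mem (hup 10 (by simp) _) (hup 11 (by simp) _)))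
    · exact hup s hs u
  refine mem_normalizer_V (key v) fun s hs u => ?_
  have := key (-v) s hs u
  rw [← hD.xg_inv, inv_inv] at this
  exact this

/-- The representative of the reflection in `b`. -/
noncomputable def nb : GL chevG2.Idx F := nG chevG2 F (chevG2.simple 1) 1

theorem nb_eq : (nb : GL chevG2.Idx F) = xg chevG2 F 6 1 * xg chevG2 F 5 (-1) * xg chevG2 F 6 1 := by
  rw [nb, Chev.nG_eq, G2.valid.p_eq (hk ▸ (by omega)), list_facts.2.2.2.2.2.2.2.2.2.1,
    G2.valid.ng_eq (hn ▸ (by omega)), list_facts.2.2.2.2.2.2.2.2.2.2.1, inv_one]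

theorem nb_conj {s : ℕ} (hs : s < 12) (u : F) :
    ∃ e : F, e * e = 1 ∧ nb * xg chevG2 F s u * (nb : GL chevG2.Idx F)⁻¹ = xg chevG2 F (G2.cert.w 1 s) (e * u) := by
  have hD : Good chevG2 := G2.good
  obtain ⟨η, h1, h2⟩ := hD.exists_sign_xg (F := F) (i := 1) (hk ▸ (by omega))
  refine ⟨η s, (h1 s (hn ▸ hs)).1, ?_⟩
  rw [nb, h2 s (hn ▸ hs), mul_inv_cancel_right, G2.valid.w_eq_reflectRoot (hk ▸ (by omega)) (hn ▸ hs)]

theorem nb_normalizer_V :
    (nb : GL chevG2.Idx F) ∈ Subgroup.normalizer ((V : Subgroup (GL chevG2.Idx F)) : Set (GL chevG2.Idx F)) := by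
  have key : ∀ s ∈ [7, 8, 9, 10, 11], ∀ v : F,
      nb * xg chevG2 F s v * (nb : GL chevG2.Idx F)⁻¹ ∈ (V : Subgroup (GL chevG2.Idx F)) := by
    intro s hs v
    obtain ⟨e, -, he⟩ := nb_conj (F := F) (s := s) (by simp at hs; omega) v
    rw [he]
    refine V_xg ?_ _
    obtain ⟨-, h7, h8, h9, h10, h11⟩ := refl_facts
    simp only [List.mem_cons, List.not_mem_nil, or_false] at hs
    rcases hs with rfl | rfl | rfl | rfl | rfl <;> simp [h7, h8, h9, h10, h11]
  refine mem_normalizer_V key fun s hs v => ?_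
  have hs' : G2.cert.w 1 s ∈ [7, 8, 9, 10, 11] := by
    obtain ⟨-, h7, h8, h9, h10, h11⟩ := refl_facts
    simp only [List.mem_cons, List.not_mem_nil, or_false] at hs
    rcases hs with rfl | rfl | rfl | rfl | rfl <;> simp [h7, h8, h9, h10, h11]
  obtain ⟨η, h1, h2⟩ := (G2.good : Good chevG2).exists_sign_xg (F := F) (i := 1) (hk ▸ (by omega))
  have hlt : G2.cert.w 1 s < chevG2.nroots := by rw [hn]; simp at hs'; omega
  have hlt' : s < chevG2.nroots := by rw [hn]; simp at hs; omega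
  have h := h2 _ hlt (η (G2.cert.w 1 s) * v)
  rw [G2.valid.w_eq_reflectRoot (hk ▸ (by omega)) hlt, G2.valid.w_w (hk ▸ (by omega)) hlt', ← mul_assoc,
    (h1 _ hlt).1, one_mul] at h
  have : (nb : GL chevG2.Idx F)⁻¹ * xg chevG2 F s v * nb =
      xg chevG2 F (G2.cert.w 1 s) (η (G2.cert.w 1 s) * v) := by
    rw [mul_assoc, nb, ← h, inv_mul_cancel_left]
  rw [this]
  exact V_xg hs' _

/-- The roots' images under a word. -/
def img (l : List (Fin chevG2.rank)) (r : ℕ) : ℕ := l.foldr (fun i acc => G2.cert.w i.val acc) r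

omit [CharP F 2] in
theorem wl_val (l : List (Fin chevG2.rank)) (r : Fin chevG2.nroots) :
    ((BNSetup.data (F := F) (G2.good : Good chevG2)).wl l r).val = img l r.val := by
  induction l with
  | nil => rfl
  | cons i l ih =>
    rw [RootBN.Data.wl_cons, Equiv.Perm.mul_apply, BNSetup.data_refl,
      G2.valid.w_eq_reflectRoot i.2 (Fin.is_lt _), ih]
    rfl

theorem img_mem (l : List (Fin chevG2.rank)) : (List.range 12).map (img l) ∈ weylImages := by
  induction l with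
  | nil =>
    rw [show img ([] : List (Fin chevG2.rank)) = id from rfl, List.map_id]
    exact weylImages_closed.1
  | cons i l ih =>
    have := weylImages_closed.2 i.val (hk ▸ i.2) _ ih
    rwa [List.map_map] at this

theorem getD_img (l : List (Fin chevG2.rank)) {r : ℕ} (hr : r < 12) :
    ((List.range 12).map (img l)).getD r 0 = img l r := by
  rw [List.getD_eq_getElem?_getD, List.getElem?_map, List.getElem?_range hr]
  rfl

/-- An element of `N` carrying some element of `S` to another fixes the root `2a+b`. -/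
theorem weyl_cases {l : List (Fin chevG2.rank)} {n : GL chevG2.Idx F}
    (hact : (BNSetup.data (F := F) (G2.good : Good chevG2)).Acts n
      ((BNSetup.data (F := F) (G2.good : Good chevG2)).wl l))
    {y : GL chevG2.Idx F} (hy : InS y) (hny : InS (n * y * n⁻¹)) :
    (∀ r < 12, img l r = r) ∨ (∀ r < 12, img l r = G2.cert.w 1 r) := by
  have hD : Good chevG2 := G2.good
  obtain ⟨a, b, c, ha, rfl⟩ := hy
  obtain ⟨a', b', c', ha', he⟩ := hny
  have hok := weylImages_ok _ (img_mem l)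
  simp only [getD_img l (show 9 < 12 by omega), getD_img l (show 10 < 12 by omega),
    getD_img l (show 11 < 12 by omega)] at hok
  obtain ⟨h1, h2, h3, huv, huw, hu10, hu11, hodd, hfin⟩ := hok
  have himg : ∀ r < 12, img l r < 12 := fun r hr => by
    have h := ((BNSetup.data (F := F) (G2.good : Good chevG2)).wl l ⟨r, hn ▸ hr⟩).2
    rw [wl_val] at h
    exact hn ▸ h
  have hX : ∀ r (hr : r < 12) (t : F), ∃ t' : F,
      n * xg chevG2 F r t * n⁻¹ = xg chevG2 F (img l r) t' := by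
    intro r hr t
    have := (hact ⟨r, hn ▸ hr⟩ (xg chevG2 F r t)).2 (hD.xg_mem_rootSubgroup r t)
    change _ ∈ chevG2.rootSubgroup F _ at this
    rw [wl_val] at this
    exact hD.mem_rootSubgroup_iff.1 this
  obtain ⟨α, hα⟩ := hX 9 (by omega) a
  obtain ⟨β, hβ⟩ := hX 10 (by omega) b
  obtain ⟨γ, hγ⟩ := hX 11 (by omega) c
  have hA09 : (G2.cert.A 0 9 : F) ≠ 0 := by simp [list_facts.2.2.2.2.2.2.2.2.2.2.2.1]
  have hα0 : α ≠ 0 := by
    rintro rfl
    rw [hD.xg_zero, mul_inv_eq_one, mul_eq_left] at hα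
    exact ha (xg_eq_zero (by omega) hα (i := 0) (by omega) hA09)
  rw [el, ← conj_mul, ← conj_mul, hα, hβ, hγ, el] at he
  suffices hu9 : img l 9 = 9 by
    rcases hfin hu9 with h | h
    · left
      intro r hr
      have := congrArg (fun p => p.getD r 0) h
      simp only [getD_img l hr] at this
      rw [this, List.getD_eq_getElem?_getD, List.getElem?_range hr]
      rfl
    · right
      intro r hr
      have := congrArg (fun p => p.getD r 0) h
      simp only [getD_img l hr] at this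
      rw [this, List.getD_eq_getElem?_getD, List.getElem?_map, List.getElem?_range hr]
      rfl
  by_contra hu9
  obtain ⟨i, hi, hodd'⟩ : ∃ i, i < 2 ∧ G2.cert.A i (img l 9) % 2 ≠ 0 := by
    rcases hodd with h | h
    exacts [⟨0, by omega, h⟩, ⟨1, by omega, h⟩]
  refine mul_ne_zero (cast_odd (F := F) hodd') hα0 ?_
  have e := congrArg (fun g : GL chevG2.Idx F =>
    ((g : Matrix chevG2.Idx chevG2.Idx F).mulVec (bvec chevG2 F i)) (Sum.inr ⟨img l 9, hn ▸ himg 9 (by omega)⟩)) he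
  rw [three_entry (himg 9 (by omega)) (himg 10 (by omega)) (himg 11 (by omega)) h1 h2 h3 _ _ _ i hi
      (img l 9) (himg 9 (by omega)),
    three_entry (by omega) (by omega) (by omega) list_facts.1 list_facts.2.1 list_facts.2.2.1 _ _ _ i hi
      (img l 9) (himg 9 (by omega))] at e
  simpa [huv, huw, hu9, hu10, hu11] using e

/-- The subgroup `X_9 X_10 X_11 ⟨X_6, X_5⟩`. -/
def K9 : Subgroup (GL chevG2.Idx F) :=
  Subgroup.closure {g | ∃ r ∈ [5, 6, 9, 10, 11], ∃ t : F, g = xg chevG2 F r t}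

theorem K9_le_scale9 : (K9 : Subgroup (GL chevG2.Idx F)) ≤ scale9 :=
  (Subgroup.closure_le _).2 fun _ ⟨r, hr, t, e⟩ => e ▸ scale9_xg hr t

theorem xg_mem_K9 {r : ℕ} (hr : r ∈ [5, 6, 9, 10, 11]) (t : F) :
    xg chevG2 F r t ∈ (K9 : Subgroup (GL chevG2.Idx F)) :=
  Subgroup.subset_closure ⟨r, hr, t, rfl⟩

theorem nb_mem_K9 : (nb : GL chevG2.Idx F) ∈ (K9 : Subgroup (GL chevG2.Idx F)) := by
  rw [nb_eq]
  exact mul_mem (mul_mem (xg_mem_K9 (by simp) _) (xg_mem_K9 (by simp) _)) (xg_mem_K9 (by simp) _)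

theorem diag_normalizer_K9 {h : GL chevG2.Idx F} (hh : h ∈ chevG2.diagonalSubgroup F) :
    h ∈ Subgroup.normalizer ((K9 : Subgroup (GL chevG2.Idx F)) : Set (GL chevG2.Idx F)) := by
  have hD : Good chevG2 := G2.good
  have key : ∀ h ∈ chevG2.diagonalSubgroup F, ∀ y ∈ (K9 : Subgroup (GL chevG2.Idx F)), h * y * h⁻¹ ∈ K9 := by
    intro h hh y hy
    refine (show (K9 : Subgroup (GL chevG2.Idx F)) ≤ K9.comap (MulAut.conj h).toMonoidHom from ?_) hy
    conv_lhs => rw [K9]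
    rw [Subgroup.closure_le]
    rintro _ ⟨r, hr, t, rfl⟩
    obtain ⟨u, hu⟩ := hD.mem_rootSubgroup_iff.1
      (BNSetup.normalisesAll_H G2.good hh r (by rw [hn]; simp at hr; omega) _ (hD.xg_mem_rootSubgroup r t))
    show h * xg chevG2 F r t * h⁻¹ ∈ K9
    rw [hu]
    exact xg_mem_K9 hr u
  rw [Subgroup.mem_normalizer_iff]
  refine fun y => ⟨key h hh y, fun hy => ?_⟩
  simpa [mul_assoc] using key h⁻¹ (inv_mem hh) _ hy

theorem parabolic_normalizer_V : K9 ⊔ chevG2.diagonalSubgroup F ≤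
    Subgroup.normalizer ((V : Subgroup (GL chevG2.Idx F)) : Set (GL chevG2.Idx F)) := by
  refine sup_le ((Subgroup.closure_le _).2 ?_) fun h hh => diag_normalizer_V hh
  rintro _ ⟨r, hr, t, rfl⟩
  simp only [List.mem_cons, List.not_mem_nil, or_false] at hr
  rcases hr with rfl | rfl | rfl | rfl | rfl
  · obtain ⟨η, h1, h2⟩ := (G2.good : Good chevG2).exists_sign_xg (F := F) (i := 1) (hk ▸ (by omega))
    have h6 : (6 : ℕ) < chevG2.nroots := by rw [hn]; omega
    have h := h2 6 h6 (η 6 * t)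
    rw [G2.valid.w_eq_reflectRoot (hk ▸ (by omega)) h6, refl_facts.1, ← mul_assoc, (h1 6 h6).1, one_mul] at h
    have h5 : xg chevG2 F 5 t = nb * xg chevG2 F 6 (η 6 * t) * (nb : GL chevG2.Idx F)⁻¹ := by
      rw [nb, h, mul_inv_cancel_right]
    rw [h5]
    exact mul_mem (mul_mem nb_normalizer_V (x6_normalizer_V _)) (inv_mem nb_normalizer_V)
  · exact x6_normalizer_V t
  all_goals exact Subgroup.le_normalizer (V_xg (by simp) t)

/-- The centralizer of the short root involution `x_9(1)`. -/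
theorem centralizer_short :
    chevG2.group F ⊓ Subgroup.centralizer {xg chevG2 F 9 1} = (K9 : Subgroup (GL chevG2.Idx F)) := by
  have hD : Good chevG2 := G2.good
  set T := BNSetup.data (F := F) hD with hT
  have ax : T.Axioms := BNSetup.axioms hD BNSetup.facts_chevG2
  refine le_antisymm ?_ ((Subgroup.closure_le _).2 ?_)
  swap
  · rintro _ ⟨r, hr, t, rfl⟩
    refine ⟨hD.xg_mem_group r t, Subgroup.mem_centralizer_singleton_iff.2 ?_⟩
    simp only [List.mem_cons, List.not_mem_nil, or_false] at hr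
    rcases hr with rfl | rfl | rfl | rfl | rfl
    · exact (comm2 (by simp) t 1).eq
    · exact (comm2 (by simp) t 1).eq
    · rw [hD.xg_add, hD.xg_add, add_comm]
    · exact (comm2 (by simp) 1 t).eq.symm
    · exact (comm2 (by simp) 1 t).eq.symm
  rintro g ⟨hg, hgc⟩
  have hgc' : g * xg chevG2 F 9 1 * g⁻¹ = xg chevG2 F 9 1 := by
    rw [Subgroup.mem_centralizer_singleton_iff.1 hgc, mul_inv_cancel_right]
  have hS9 : InS (xg chevG2 F 9 (1 : F)) := ⟨1, 0, 0, one_ne_zero, (el_eq9 1).symm⟩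
  have hBS : T.B ≤ stabS := borel_le (fun s hs v => pos_stabS hs v) fun h hh => diag_stabS hh
  have hMn := parabolic_normalizer_V (F := F)
  have hB : T.B ≤ V ⊔ (K9 ⊔ chevG2.diagonalSubgroup F) := by
    refine borel_le (fun s hs v => ?_) (le_sup_right.trans le_sup_right)
    rcases eq_or_ne s 6 with rfl | hne
    · exact Subgroup.mem_sup_right (Subgroup.mem_sup_left (xg_mem_K9 (by simp) v))
    · refine Subgroup.mem_sup_left (V_xg ?_ v)
      simpa [hne] using hs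
  rw [← BNSetup.data_grp hD] at hg
  obtain ⟨l, n, hn', hact, b₁, hb₁, b₂, hb₂, e⟩ := RootBN.Data.exists_cell ax hg
  have hy : InS (b₂ * xg chevG2 F 9 1 * b₂⁻¹) := (hBS hb₂ _).2 hS9
  have hny : InS (n * (b₂ * xg chevG2 F 9 1 * b₂⁻¹) * n⁻¹) := by
    have hconj : b₁ * (n * (b₂ * xg chevG2 F 9 1 * b₂⁻¹) * n⁻¹) * b₁⁻¹ = xg chevG2 F 9 1 := by
      conv_rhs => rw [← hgc', e]
      group
    refine (hBS hb₁ _).1 ?_
    rw [hconj]
    exact hS9
  have hnP : n ∈ V ⊔ (K9 ⊔ chevG2.diagonalSubgroup F) := by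
    rcases weyl_cases hact hy hny with h | h
    · have h1 : T.wl l = 1 := Equiv.ext fun r => Fin.ext (by rw [wl_val, h r.val (hn ▸ r.2)]; rfl)
      rw [h1] at hact
      exact hB ((RootBN.Data.mem_cell_one ax).1 (RootBN.Data.mem_cell_of hn' hact))
    · have h1 : T.wl l = T.refl ⟨1, by rw [hk]; omega⟩ := Equiv.ext fun r => Fin.ext (by
        rw [wl_val, h r.val (hn ▸ r.2), BNSetup.data_refl, G2.valid.w_eq_reflectRoot (show 1 < chevG2.rank by rw [hk]; omega) r.2])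
      rw [h1] at hact
      have hH := RootBN.Data.mul_inv_mem_H ax hn' (RootBN.Data.nn_mem_N _) hact (RootBN.Data.acts_nn ax _)
      have hnb : T.nn ⟨1, by rw [hk]; omega⟩ = nb :=
        Units.ext ((BNSetup.coe_ne' hD _ _).trans (hD.coe_nG _ _).symm)
      rw [hnb] at hH
      have : n = n * (nb : GL chevG2.Idx F)⁻¹ * nb := by rw [inv_mul_cancel_right]
      rw [this]
      exact mul_mem (Subgroup.mem_sup_right (Subgroup.mem_sup_right hH))
        (Subgroup.mem_sup_right (Subgroup.mem_sup_left nb_mem_K9))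
  have hgP : g ∈ V ⊔ (K9 ⊔ chevG2.diagonalSubgroup F) := by
    rw [e]
    exact mul_mem (mul_mem (hB hb₁) hnP) (hB hb₂)
  rw [← SetLike.mem_coe, Subgroup.coe_mul_of_right_le_normalizer_left _ _ hMn, Set.mem_mul] at hgP
  obtain ⟨v, ⟨p, q, l₀, hl₀, rfl⟩, m, hm, rfl⟩ := hgP
  have hl₀K : l₀ ∈ (K9 : Subgroup (GL chevG2.Idx F)) := by
    obtain ⟨a, b, c, rfl⟩ := hl₀
    exact mul_mem (mul_mem (xg_mem_K9 (by simp) a) (xg_mem_K9 (by simp) b)) (xg_mem_K9 (by simp) c)
  have hm' : l₀ * m ∈ (scale9 : Subgroup (GL chevG2.Idx F)) :=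
    mul_mem (K9_le_scale9 hl₀K) ((sup_le K9_le_scale9 fun h hh => scale9_diag hh) hm)
  obtain ⟨χ, hχ, hs⟩ := hm'
  have heq : xg chevG2 F 7 p * xg chevG2 F 8 q * (xg chevG2 F 9 χ) * (xg chevG2 F 7 p * xg chevG2 F 8 q)⁻¹ =
      xg chevG2 F 9 1 := by
    have h := hgc'
    rw [← mul_one χ, ← hs 1]
    conv_rhs => rw [← h]
    group
  rw [mul_inv_rev, ← el_eq9, ← el_eq9,
    show xg chevG2 F 7 p * xg chevG2 F 8 q * el χ 0 0 * ((xg chevG2 F 8 q)⁻¹ * (xg chevG2 F 7 p)⁻¹) =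
      xg chevG2 F 7 p * (xg chevG2 F 8 q * el χ 0 0 * (xg chevG2 F 8 q)⁻¹) * (xg chevG2 F 7 p)⁻¹ by group,
    conj8, conj7, zero_add, zero_add] at heq
  obtain ⟨hA09, hA19, hA110, hA111⟩ := list_facts.2.2.2.2.2.2.2.2.2.2.2
  have hent : ∀ i < 2, ∀ s < 12,
      (if s = 9 then (G2.cert.A i 9 : F) * χ else 0) + (if s = 10 then (G2.cert.A i 10 : F) * (χ * p) else 0) +
        (if s = 11 then (G2.cert.A i 11 : F) * (χ * q) else 0) =
      (if s = 9 then (G2.cert.A i 9 : F) * 1 else 0) + (if s = 10 then (G2.cert.A i 10 : F) * 0 else 0) +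
        (if s = 11 then (G2.cert.A i 11 : F) * 0 else 0) := by
    intro i hi s hs
    have e := congrArg (fun g : GL chevG2.Idx F =>
      ((g : Matrix chevG2.Idx chevG2.Idx F).mulVec (bvec chevG2 F i)) (Sum.inr ⟨s, hn ▸ hs⟩)) heq
    simp only [el] at e
    rw [three_entry (by omega) (by omega) (by omega) list_facts.1 list_facts.2.1 list_facts.2.2.1 _ _ _ _ hi s hs,
      three_entry (by omega) (by omega) (by omega) list_facts.1 list_facts.2.1 list_facts.2.2.1 _ _ _ _ hi s hs,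
      neg_inj] at e
    exact e
  have hχ1 : χ = 1 := by simpa [hA09] using hent 0 (by omega) 9 (by omega)
  subst hχ1
  have hp : p = 0 := by simpa [hA110] using hent 1 (by omega) 10 (by omega)
  have hq : q = 0 := by simpa [hA111] using hent 1 (by omega) 11 (by omega)
  subst hp hq
  rw [hD.xg_zero, hD.xg_zero, one_mul, one_mul] at hgc' ⊢
  refine mul_mem hl₀K ?_
  rw [Subgroup.coe_mul_of_right_le_normalizer_left _ _ fun h hh => diag_normalizer_K9 hh,
    Set.mem_mul] at hm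
  obtain ⟨k, hk', h, hh, rfl⟩ := hm
  refine mul_mem hk' ?_
  have hk9 : ∀ y ∈ (K9 : Subgroup (GL chevG2.Idx F)), y * xg chevG2 F 9 1 = xg chevG2 F 9 1 * y := by
    intro y hy
    induction hy using Subgroup.closure_induction with
    | mem x hx =>
      obtain ⟨r, hr, t, rfl⟩ := hx
      simp only [List.mem_cons, List.not_mem_nil, or_false] at hr
      rcases hr with rfl | rfl | rfl | rfl | rfl
      · exact (comm2 (by simp) t 1).eq
      · exact (comm2 (by simp) t 1).eq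
      · rw [hD.xg_add, hD.xg_add, add_comm]
      · exact (comm2 (by simp) 1 t).eq.symm
      · exact (comm2 (by simp) 1 t).eq.symm
    | one => simp
    | mul x y _ _ hx hy => exact (Commute.mul_left (show Commute x _ from hx) (show Commute y _ from hy)).eq
    | inv x _ hx => exact (Commute.inv_left (show Commute x _ from hx)).eq
  have hhz : h * xg chevG2 F 9 1 = xg chevG2 F 9 1 * h := by
    have h1 : Commute (l₀ * (k * h)) (xg chevG2 F 9 1) := mul_inv_eq_iff_eq_mul.1 hgc'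
    have h2 : Commute (l₀ * k) (xg chevG2 F 9 1) :=
      (show Commute l₀ _ from hk9 _ hl₀K).mul_left (show Commute k _ from hk9 _ hk')
    have h3 := h2.inv_left.mul_left h1
    rwa [← mul_assoc l₀ k h, inv_mul_cancel_left] at h3
  have hcl := G2.valid.diag_centralizer (r := 9) (j₀ := 0) (hn ▸ (by omega)) (hk ▸ (by omega)) (fun i hi => by
    rw [G2.valid.A_eq hi (hn ▸ (by omega))]
    rw [hk] at hi
    interval_cases i <;> simp [hA09, hA19]) hh hhz
  refine (Subgroup.closure_le _).2 ?_ hcl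
  rintro x ⟨i, hi, hne, a, -, rfl⟩
  obtain rfl : i = 1 := by rw [hk] at hi; omega
  rw [Chev.hG_eq, Chev.nG_eq, Chev.nG_eq, G2.valid.p_eq hi, list_facts.2.2.2.2.2.2.2.2.2.1,
    G2.valid.ng_eq (hn ▸ (by omega)), list_facts.2.2.2.2.2.2.2.2.2.2.1]
  exact mul_mem (mul_mem (mul_mem (xg_mem_K9 (by simp) _) (xg_mem_K9 (by simp) _)) (xg_mem_K9 (by simp) _))
    (mul_mem (mul_mem (xg_mem_K9 (by simp) _) (xg_mem_K9 (by simp) _)) (xg_mem_K9 (by simp) _))

end Cfsg.Agent.Chev.G2Short
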