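import Cfsg.Agent.Lib.Chev.GraphSym
import Cfsg.Agent.Lib.Chev.BNCore

/-!
# Root elements of a set of orthogonal fundamental roots and the elements fixed by a graph automorphism
-/

set_option autoImplicit false

namespace Cfsg.Agent.Chev.BNSetup

open Cfsg.Lie

variable {D : ChevalleyDatum}

/-- The root elements of the fundamental roots in `J` and their negatives commute across different nodes. -/
def CommOK (D : ChevalleyDatum) (J : List ℕ) : Prop :=
  (∀ k ∈ J, k < D.rank) ∧ J.Nodup ∧ ∀ k ∈ J, ∀ k' ∈ J, k ≠ k' →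
    ∀ r ∈ [D.simple k, D.neg (D.simple k)], ∀ s ∈ [D.simple k', D.neg (D.simple k')],
      s ≠ r ∧ s ≠ D.neg r ∧ D.commTerms r s = []

instance decidableCommOK (D : ChevalleyDatum) (J : List ℕ) : Decidable (CommOK D J) :=
  inferInstanceAs (Decidable (_ ∧ _))

section algebra

variable {M : Type*} [Monoid M]

theorem prod_map_mul_comm {α : Type*} (f g : α → M) :
    ∀ l : List α, l.Nodup → (∀ a ∈ l, ∀ b ∈ l, a ≠ b → Commute (f a) (g b)) →
      (l.map fun a => f a * g a).prod = (l.map f).prod * (l.map g).prod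
  | [], _, _ => by simp
  | a :: l, hnd, h => by
    rw [List.nodup_cons] at hnd
    have ih := prod_map_mul_comm f g l hnd.2 fun x hx y hy => h x (List.mem_cons_of_mem _ hx) y
      (List.mem_cons_of_mem _ hy)
    have hc : Commute (l.map f).prod (g a) := (Commute.list_prod_left _ _ fun x hx => by
      obtain ⟨b, hb, rfl⟩ := List.mem_map.1 hx
      exact h b (List.mem_cons_of_mem _ hb) a List.mem_cons_self fun e => hnd.1 (e ▸ hb))
    simp only [List.map_cons, List.prod_cons, ih]
    rw [← mul_assoc, mul_assoc (f a), ← hc.eq]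
    simp [mul_assoc]

end algebra

variable {F : Type*} [Field F] (hG : Good D)
include hG

theorem xe_commute {J : List ℕ} (h : CommOK D J) {k k' : ℕ} (hk : k ∈ J) (hk' : k' ∈ J) (hne : k ≠ k')
    {r s : ℕ} (hr : r ∈ [D.simple k, D.neg (D.simple k)]) (hs : s ∈ [D.simple k', D.neg (D.simple k')])
    (t u : F) : Commute (xe hG r t) (xe hG s u) := by
  obtain ⟨h1, h2, h3⟩ := h.2.2 k hk k' hk' hne r hr s hs
  have hlt : ∀ {j x : ℕ}, j ∈ J → x ∈ [D.simple j, D.neg (D.simple j)] → x < D.nroots := by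
    intro j x hj hx
    simp only [List.mem_cons, List.not_mem_nil, or_false] at hx
    rcases hx with rfl | rfl
    exacts [hG.simple_lt (h.1 j hj), hG.neg_lt (hG.simple_lt (h.1 j hj))]
  have e := hG.comm_formula (hlt hk hr) (hlt hk' hs) h1 h2 t u
  rw [ChevalleyDatum.commWord, h3, List.map_nil,
    show D.wordMat F [] = 1 by simp [ChevalleyDatum.wordMat], mul_one] at e
  refine Units.ext ?_
  rw [Units.val_mul, Units.val_mul, coe_xe, coe_xe, e]

/-- The element with one parameter for each node of `J`. -/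
def pv (f : ℕ → ℕ) (J : List ℕ) (a : ℕ → F) : GL D.Idx F := (J.map fun k => xe hG (f k) (a k)).prod

omit hG in
/-- The choice of the fundamental roots or their negatives. -/
def IsSide (D : ChevalleyDatum) (f : ℕ → ℕ) : Prop :=
  f = D.simple ∨ f = fun k => D.neg (D.simple k)

omit hG in
theorem IsSide.mem {f : ℕ → ℕ} (hf : IsSide D f) (k : ℕ) : f k ∈ [D.simple k, D.neg (D.simple k)] := by
  rcases hf with rfl | rfl <;> simp

theorem IsSide.lt {f : ℕ → ℕ} (hf : IsSide D f) {k : ℕ} (hk : k < D.rank) : f k < D.nroots := by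
  rcases hf with rfl | rfl
  exacts [hG.simple_lt hk, hG.neg_lt (hG.simple_lt hk)]

theorem pv_mul {f : ℕ → ℕ} (hside : IsSide D f) {J : List ℕ} (h : CommOK D J) (a b : ℕ → F) :
    pv hG f J a * pv hG f J b = pv hG f J (fun k => a k + b k) := by
  rw [pv, pv, pv, ← prod_map_mul_comm _ _ J h.2.1 fun x hx y hy hne =>
    xe_commute hG h hx hy hne (hside.mem x) (hside.mem y) _ _]
  exact congrArg List.prod (List.map_congr_left fun k hk => xe_add hG (hside.lt hG (h.1 k hk)) _ _)

theorem pv_zero {f : ℕ → ℕ} (hside : IsSide D f) {J : List ℕ} (h : CommOK D J) :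
    pv hG f J (fun _ => (0 : F)) = 1 := by
  refine List.prod_eq_one fun x hx => ?_
  obtain ⟨k, hk, rfl⟩ := List.mem_map.1 hx
  exact xe_zero hG (hside.lt hG (h.1 k hk))

theorem pv_inv {f : ℕ → ℕ} (hside : IsSide D f) {J : List ℕ} (h : CommOK D J) (a : ℕ → F) :
    (pv hG f J a)⁻¹ = pv hG f J (fun k => -a k) := by
  refine inv_eq_of_mul_eq_one_right ?_
  rw [pv_mul hG hside h]
  simp [pv_zero hG hside h]

theorem pv_single {f : ℕ → ℕ} (hside : IsSide D f) {J : List ℕ} (h : CommOK D J) {k : ℕ} (hk : k ∈ J)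
    (t : F) : pv hG f J (fun x => if x = k then t else 0) = xe hG (f k) t := by
  obtain ⟨hlt, hnd, -⟩ := h
  induction J with
  | nil => simp at hk
  | cons x J ih =>
    rw [List.nodup_cons] at hnd
    rw [pv, List.map_cons, List.prod_cons]
    rcases List.mem_cons.1 hk with rfl | hk
    · rw [if_pos rfl, List.prod_eq_one fun y hy => ?_, mul_one]
      obtain ⟨z, hz, rfl⟩ := List.mem_map.1 hy
      rw [if_neg (show z ≠ k from fun e => hnd.1 (e ▸ hz)),
        xe_zero hG (hside.lt hG (hlt z (List.mem_cons_of_mem _ hz)))]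
    · rw [if_neg (show x ≠ k from fun e => hnd.1 (e ▸ hk)), xe_zero hG (hside.lt hG (hlt x List.mem_cons_self)),
        one_mul]
      exact ih hk (fun y hy => hlt y (List.mem_cons_of_mem _ hy)) hnd.2

variable {tabs simps : List ℕ} (hf : Facts D tabs simps) (hn : NegTri D)
include hf hn

theorem pv_eq_one {f : ℕ → ℕ} (hside : IsSide D f) : ∀ {J : List ℕ}, CommOK D J → ∀ {a : ℕ → F},
    pv hG f J a = 1 → ∀ k ∈ J, a k = 0
  | [], _, _, _, k, hk => absurd hk List.not_mem_nil
  | x :: J, h, a, e, k, hk => by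
    have hx := h.1 x List.mem_cons_self
    have hJ : CommOK D J := ⟨fun y hy => h.1 y (List.mem_cons_of_mem _ hy), (List.nodup_cons.1 h.2.1).2,
      fun y hy z hz => h.2.2 y (List.mem_cons_of_mem _ hy) z (List.mem_cons_of_mem _ hz)⟩
    rw [pv, List.map_cons, List.prod_cons, ← pv] at e
    have hp := hG.simple_lt hx
    have hc : Commute (pv hG f J a) (ne' hG (D.simple x) (1 : F)) := by
      refine Commute.list_prod_left _ _ fun y hy => ?_
      obtain ⟨z, hz, rfl⟩ := List.mem_map.1 hy
      have hne : z ≠ x := fun e => (List.nodup_cons.1 h.2.1).1 (e ▸ hz)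
      have hc' := fun (s : ℕ) (hs : s ∈ [D.simple x, D.neg (D.simple x)]) (t u : F) =>
        xe_commute hG h (List.mem_cons_of_mem _ hz) List.mem_cons_self hne (hside.mem z) hs t u
      exact ((hc' _ (by simp) _ _).mul_right (hc' _ (by simp) _ _)).mul_right (hc' _ (by simp) _ _)
    set n := ne' hG (D.simple x) (1 : F)
    have hrest : pv hG f J a = (xe hG (f x) (a x))⁻¹ := eq_inv_of_mul_eq_one_right e
    obtain ⟨c, hcc, hconj, -⟩ := exists_conj hG (F := F) hx (hside.lt hG hx)
    have h1 : xe hG (D.reflectRoot x (f x)) (c * a x) = xe hG (f x) (a x) := by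
      rw [← hconj, ← inv_inj, mul_inv_rev, mul_inv_rev, inv_inv, ← hrest, ← mul_assoc,
        ← hc.eq]
      simp [mul_assoc, n]
    have h0 : a x = 0 := by
      have hsimp : D.reflectRoot x (D.simple x) = D.neg (D.simple x) := (hf.2.2.2.2.1 x hx).2.2.2.2
      have hpos : D.nroots / 2 ≤ D.simple x := (hf.2.2.2.2.1 x hx).2.1
      have hlt : D.neg (D.simple x) < D.nroots / 2 := by rw [neg_eq hf hp]; have := hf.1; omega
      have hU : ∀ t : F, xe hG (D.simple x) t ∈ D.borelSubgroup F := fun t =>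
        Subgroup.mem_sup_left (Subgroup.subset_closure ⟨_, t, (pos_iff hf hp).2 hpos, coe_xe hG _ t⟩)
      rcases hside with rfl | rfl
      · rw [hsimp] at h1
        have h2 := neg_inf_borel hG hf (hG.neg_lt hp) hlt (h1 ▸ hU (a x))
        exact (mul_eq_zero.1 h2).resolve_left fun h => by simp [h] at hcc
      · have e2 : D.reflectRoot x (D.neg (D.simple x)) = D.simple x := by
          rw [hG.reflectRoot_neg hx hp, hsimp, hG.neg_neg hp]
        rw [e2] at h1
        exact neg_inf_borel hG hf (hG.neg_lt hp) hlt (h1 ▸ hU (c * a x))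
    rcases List.mem_cons.1 hk with rfl | hk
    · exact h0
    · refine pv_eq_one hside hJ ?_ k hk
      rw [hrest, h0, xe_zero hG (hside.lt hG hx), inv_one]

theorem pv_inj {f : ℕ → ℕ} (hside : IsSide D f) {J : List ℕ} (h : CommOK D J) {a b : ℕ → F}
    (e : pv hG f J a = pv hG f J b) {k : ℕ} (hk : k ∈ J) : a k = b k := by
  have := pv_eq_one hG hf hn hside h (a := fun k => a k + -b k)
    (by rw [← pv_mul hG hside h, ← pv_inv hG hside h, e, mul_inv_cancel]) k hk
  rwa [← sub_eq_add_neg, sub_eq_zero] at this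

omit hn in
theorem rank_one_pv {J : List ℕ} (h : CommOK D J) {u : ℕ → F} (hu : ∀ k ∈ J, u k ≠ 0) :
    ∃ hh ∈ D.diagonalSubgroup F, pv hG (fun k => D.neg (D.simple k)) J u =
      pv hG D.simple J (fun k => (u k)⁻¹) * hh * (J.map fun k => ne' hG (D.simple k) (1 : F)).prod *
        pv hG D.simple J (fun k => (u k)⁻¹) := by
  have _ := hf
  let X := fun k => xe hG (D.simple k) (u k)⁻¹
  let N := fun k => ne' hG (D.simple k) (1 : F)
  let A := fun k => he hG (D.simple k) (-(u k)⁻¹)
  have hc : ∀ a ∈ J, ∀ b ∈ J, a ≠ b → ∀ y ∈ Subgroup.closure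
      ({g | ∃ r ∈ [D.simple a, D.neg (D.simple a)], ∃ t : F, g = xe hG r t}),
      ∀ z ∈ Subgroup.closure ({g | ∃ r ∈ [D.simple b, D.neg (D.simple b)], ∃ t : F, g = xe hG r t}),
      Commute y z := by
    intro a ha b hb hne y hy z hz
    have hz' : Subgroup.closure ({g | ∃ r ∈ [D.simple b, D.neg (D.simple b)], ∃ t : F, g = xe hG r t}) ≤
        Subgroup.centralizer ({g | ∃ r ∈ [D.simple a, D.neg (D.simple a)], ∃ t : F, g = xe hG r t}) := by
      rw [Subgroup.closure_le]
      rintro w ⟨s, hs, v, rfl⟩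
      refine Subgroup.mem_centralizer_iff.2 ?_
      rintro v' ⟨r, hr, t, rfl⟩
      exact xe_commute hG h ha hb hne hr hs t v
    have hy' : Subgroup.closure ({g | ∃ r ∈ [D.simple a, D.neg (D.simple a)], ∃ t : F, g = xe hG r t}) ≤
        Subgroup.centralizer {z} := by
      rw [Subgroup.closure_le]
      intro w hw
      refine Subgroup.mem_centralizer_iff.2 ?_
      intro v hv
      rw [Set.mem_singleton_iff.1 hv]
      exact (Subgroup.mem_centralizer_iff.1 (hz' hz) w hw).symm
    exact (Subgroup.mem_centralizer_iff.1 (hy' hy) z rfl).symm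
  have hx : ∀ a, ∀ r ∈ [D.simple a, D.neg (D.simple a)], ∀ t : F, xe hG r t ∈ Subgroup.closure
      ({g | ∃ r ∈ [D.simple a, D.neg (D.simple a)], ∃ t : F, g = xe hG r t}) :=
    fun a r hr t => Subgroup.subset_closure ⟨r, hr, t, rfl⟩
  have hne' : ∀ a, ∀ t : F, ne' hG (D.simple a) t ∈ Subgroup.closure
      ({g | ∃ r ∈ [D.simple a, D.neg (D.simple a)], ∃ t : F, g = xe hG r t}) := fun a t =>
    Subgroup.mul_mem _ (Subgroup.mul_mem _ (hx a _ (by simp) _) (hx a _ (by simp) _)) (hx a _ (by simp) _)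
  have hA : ∀ a, A a ∈ Subgroup.closure
      ({g | ∃ r ∈ [D.simple a, D.neg (D.simple a)], ∃ t : F, g = xe hG r t}) := fun a =>
    Subgroup.mul_mem _ (hne' a _) (hne' a _)
  refine ⟨(J.map A).prod, list_prod_mem fun x hx => ?_, ?_⟩
  · obtain ⟨k, hk, rfl⟩ := List.mem_map.1 hx
    exact he_mem_H hG (hG.simple_lt (h.1 k hk)) (neg_ne_zero.2 (inv_ne_zero (hu k hk)))
  · show _ = (J.map X).prod * (J.map A).prod * (J.map N).prod * (J.map X).prod
    rw [← prod_map_mul_comm X A J h.2.1 fun a ha b hb hne => hc a ha b hb hne _ (hx a _ (by simp) _) _ (hA b),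
      ← prod_map_mul_comm _ N J h.2.1 fun a ha b hb hne => hc a ha b hb hne _
        (Subgroup.mul_mem _ (hx a _ (by simp) _) (hA a)) _ (hne' b _),
      ← prod_map_mul_comm _ X J h.2.1 fun a ha b hb hne => hc a ha b hb hne _
        (Subgroup.mul_mem _ (Subgroup.mul_mem _ (hx a _ (by simp) _) (hA a)) (hne' a _)) _
        (hx b _ (by simp) _)]
    refine congrArg List.prod (List.map_congr_left fun k hk => ?_)
    have hp := hG.simple_lt (h.1 k hk)
    have e : he hG (D.simple k) (-(u k)⁻¹) * ne' hG (D.simple k) (1 : F) =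
        ne' hG (D.simple k) (-(u k)⁻¹) := (ne'_eq_he_mul hG hp _).symm
    simp only [X, A]
    rw [mul_assoc (xe hG (D.simple k) (u k)⁻¹), e, ne', inv_neg, inv_inv, neg_neg, ← xe_inv hG hp]
    group

end Cfsg.Agent.Chev.BNSetup
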