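/-
The outer automorphism group of a Chevalley group: diagonal, field and graph classes.
-/
import Cfsg.Agent.Lib.Chev.AutNormalForm
import Cfsg.Agent.Lib.Chev.AutGraph
import Cfsg.Agent.S2156
import Cfsg.Agent.S2160
import Cfsg.Agent.S1080
import Cfsg.Prelude.Def_KGroupFacts
import Mathlib.FieldTheory.Finite.GaloisField

set_option autoImplicit false

namespace Cfsg.Agent.Chev

open Cfsg.Lie BNSetup

/-- In a finite group it is enough that conjugation sends generators into the subgroup. -/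
theorem mem_normalizer_of_gens {G : Type*} [Group G] [Finite G] {S : Set G} {H : Subgroup G}
    (hH : H = Subgroup.closure S) {g : G} (h : ∀ x ∈ S, g * x * g⁻¹ ∈ H) : g ∈ Subgroup.normalizer (H : Set G) := by
  have hle : H.map (MulAut.conj g).toMonoidHom ≤ H := by
    rw [hH, MonoidHom.map_closure, Subgroup.closure_le]
    rintro _ ⟨x, hx, rfl⟩
    rw [← hH]
    exact h x hx
  have heq : H.map (MulAut.conj g).toMonoidHom = H :=
    Subgroup.eq_of_le_of_card_ge hle
      (le_of_eq (Subgroup.card_map_of_injective (MulAut.conj g).injective).symm)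
  rw [Subgroup.mem_normalizer_iff]
  intro x
  refine ⟨fun hx => heq.le ⟨x, hx, rfl⟩, fun hx => ?_⟩
  obtain ⟨z, hz, hzx⟩ := heq.ge hx
  rwa [← (MulAut.conj g).injective hzx]

variable {F : Type*} [Field F] {D : ChevalleyDatum}

theorem xG_eq_xgrp (hG : Good D) (r : ℕ) (t : F) : xG hG r t = hG.xgrp r t :=
  (eq_xG hG (hG.coe_xgrp r t)).symm

theorem graphAut_apply (hG : Good D) {g : MulAut ↥(D.group F)} {π : Equiv.Perm (Fin D.rank)}
    (hg : ∀ (y : ↥(D.group F)) (i : Fin D.rank) (t : F),
      (((y : GL D.Idx F) : Matrix D.Idx D.Idx F) = D.x F (D.simple i) t →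
        ((g y : GL D.Idx F) : Matrix D.Idx D.Idx F) =
          D.x F (D.simple (π i)) (t ^ D.graphExp (ringChar F) i (π i))) ∧
      (((y : GL D.Idx F) : Matrix D.Idx D.Idx F) = D.x F (D.neg (D.simple i)) t →
        ((g y : GL D.Idx F) : Matrix D.Idx D.Idx F) =
          D.x F (D.neg (D.simple (π i))) (t ^ D.graphExp (ringChar F) i (π i)))) (i : Fin D.rank) (t : F) :
    g (hG.xgrp (D.simple i) t) = hG.xgrp (D.simple (π i)) (t ^ D.graphExp (ringChar F) i (π i)) ∧
      g (hG.xgrp (D.neg (D.simple i)) t) =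
        hG.xgrp (D.neg (D.simple (π i))) (t ^ D.graphExp (ringChar F) i (π i)) :=
  ⟨hG.eq_xgrp ((hg _ i t).1 (hG.coe_xgrp _ t)), hG.eq_xgrp ((hg _ i t).2 (hG.coe_xgrp _ t))⟩

theorem mulAut_ext_simple (hG : Good D) {a b : MulAut ↥(D.group F)}
    (hpos : ∀ (i : Fin D.rank) (t : F), a (hG.xgrp (D.simple i) t) = b (hG.xgrp (D.simple i) t))
    (hneg : ∀ (i : Fin D.rank) (t : F),
      a (hG.xgrp (D.neg (D.simple i)) t) = b (hG.xgrp (D.neg (D.simple i)) t)) : a = b :=
  MulEquiv.toMonoidHom_injective (hG.hom_ext_simple (fun i hi t => hpos ⟨i, hi⟩ t) fun i hi t => hneg ⟨i, hi⟩ t)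

section seven

variable (hD : D ∈ [chevG2, chevB2, chevD4, chevF4, chevE6, chevE7, chevE8])
include hD

theorem diagAut_apply {d : MulAut ↥(D.group F)} (hd : D.IsDiagonalAut d) :
    ∃ χ : ℕ → Fˣ, D.IsRootCharacter χ ∧
      ∀ r < D.nroots, ∀ t : F, d ((good_of_mem hD).xgrp r t) = (good_of_mem hD).xgrp r ((χ r : F) * t) := by
  obtain ⟨χ, hχ, hd⟩ := hd
  refine ⟨χ, hχ, fun r hr t => (good_of_mem hD).eq_xgrp ?_⟩
  rw [hd, (good_of_mem hD).coe_xgrp]
  exact S2157.result D hD χ hχ r hr t

theorem exists_diag_xgrp {χ : ℕ → Fˣ} (hχ : D.IsRootCharacter χ) :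
    ∃ d : MulAut ↥(D.group F), D.IsDiagonalAut d ∧
      ∀ r < D.nroots, ∀ t : F, d ((good_of_mem hD).xgrp r t) = (good_of_mem hD).xgrp r ((χ r : F) * t) := by
  obtain ⟨d, hd, hd'⟩ := exists_diagAut hD (good_of_mem hD) hχ
  exact ⟨d, hd, fun r hr t => by rw [← xG_eq_xgrp, hd' r hr, xG_eq_xgrp]⟩

theorem diag_commute {d d' : MulAut ↥(D.group F)} (hd : D.IsDiagonalAut d) (hd' : D.IsDiagonalAut d') :
    Commute d d' := by
  obtain ⟨χ, -, h⟩ := diagAut_apply hD hd
  obtain ⟨χ', -, h'⟩ := diagAut_apply hD hd'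
  refine mulAut_ext_simple (good_of_mem hD) (fun i t => ?_) fun i t => ?_
  all_goals
    have hr := (good_of_mem hD).simple_lt i.2
    have hn := (good_of_mem hD).neg_lt hr
    simp only [MulAut.mul_apply]
    first
      | rw [h' _ hr, h _ hr, h _ hr, h' _ hr, mul_left_comm]
      | rw [h' _ hn, h _ hn, h _ hn, h' _ hn, mul_left_comm]

theorem field_conj_diag {f d : MulAut ↥(D.group F)} (hf : D.IsFieldAut f) (hd : D.IsDiagonalAut d) :
    ∃ d' : MulAut ↥(D.group F), D.IsDiagonalAut d' ∧ f * d * f⁻¹ = d' := by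
  obtain ⟨χ, hχ, h⟩ := diagAut_apply hD hd
  obtain ⟨σ, hσ⟩ := hf
  have hG := good_of_mem hD
  have hf' : ∀ r < D.nroots, ∀ t : F, f (hG.xgrp r t) = hG.xgrp r (σ t) := fun r hr t =>
    hG.eq_xgrp (hσ _ r t hr (hG.coe_xgrp r t))
  have hχ' : D.IsRootCharacter (fun r => Units.map σ.toRingHom.toMonoidHom (χ r)) :=
    ⟨fun r hr => by simp only [hχ.1 r hr, map_inv], fun r s k hr hs hk => by simp only [hχ.2 r s k hr hs hk, map_mul]⟩
  obtain ⟨d', hd', h'⟩ := exists_diag_xgrp hD hχ'
  refine ⟨d', hd', mul_inv_eq_iff_eq_mul.2 (mulAut_ext_simple hG (fun i t => ?_) fun i t => ?_)⟩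
  · have hr := hG.simple_lt i.2
    simp only [MulAut.mul_apply]
    rw [h _ hr, hf' _ hr, hf' _ hr, h' _ hr, map_mul]
    rfl
  · have hr := hG.neg_lt (hG.simple_lt i.2)
    simp only [MulAut.mul_apply]
    rw [h _ hr, hf' _ hr, hf' _ hr, h' _ hr, map_mul]
    rfl

theorem graph_conj_diag {g d : MulAut ↥(D.group F)} (hg : D.IsGraphAut g) (hd : D.IsDiagonalAut d) :
    ∃ d' : MulAut ↥(D.group F), D.IsDiagonalAut d' ∧ g * d * g⁻¹ = d' := by
  obtain ⟨χ, hχ, h⟩ := diagAut_apply hD hd
  obtain ⟨π, -, hπ⟩ := hg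
  have hG := good_of_mem hD
  have hg' := graphAut_apply hG hπ
  obtain ⟨e, B, hC, -⟩ := exists_autCerts hD
  let c : Fin D.rank → Fˣ := fun j =>
    χ (D.simple (π.symm j)) ^ D.graphExp (ringChar F) (π.symm j) j
  obtain ⟨d', hd', h'⟩ := exists_diag_xgrp hD (isRootCharacter_coefChar hG hC c)
  have hval : ∀ i : Fin D.rank, coefChar D e B c (D.simple (π i)) =
      χ (D.simple i) ^ D.graphExp (ringChar F) i (π i) := fun i => by
    rw [coefChar_simple hC]
    simp [c]
  refine ⟨d', hd', mul_inv_eq_iff_eq_mul.2 (mulAut_ext_simple hG (fun i t => ?_) fun i t => ?_)⟩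
  · simp only [MulAut.mul_apply]
    rw [h _ (hG.simple_lt i.2), (hg' i _).1, (hg' i _).1, h' _ (hG.simple_lt (π i).2), hval, mul_pow,
      Units.val_pow_eq_pow_val]
  · simp only [MulAut.mul_apply]
    rw [h _ (hG.neg_lt (hG.simple_lt i.2)), (hg' i _).2, (hg' i _).2, h' _ (hG.neg_lt (hG.simple_lt (π i).2)),
      (isRootCharacter_coefChar hG hC c).1 _ (hG.simple_lt (π i).2), hval, hχ.1 _ (hG.simple_lt i.2), mul_pow,
      ← inv_pow, Units.val_pow_eq_pow_val]

end seven

theorem isCyclic_ringAut (F : Type*) [Field F] [Finite F] : IsCyclic (F ≃+* F) := by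
  have := Fintype.ofFinite F
  obtain ⟨p, hp⟩ := CharP.exists F
  have : Fact p.Prime := ⟨CharP.char_is_prime F p⟩
  let alg : Algebra (ZMod p) F := ZMod.algebra F p
  let e : Gal(F/ZMod p) ≃* (F ≃+* F) :=
    { toFun := fun x => x.toRingEquiv
      invFun := fun x => AlgEquiv.ofRingEquiv (f := x) (fun r =>
        DFunLike.congr_fun (RingHom.ext_zmod (x.toRingHom.comp (algebraMap (ZMod p) F)) (algebraMap (ZMod p) F)) r)
      left_inv := fun x => AlgEquiv.ext fun _ => rfl
      right_inv := fun x => RingEquiv.ext fun _ => rfl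
      map_mul' := fun x y => RingEquiv.ext fun _ => rfl }
  exact isCyclic_of_surjective e.toMonoidHom e.surjective

/-- The symmetries, one node at a time. -/
def symsUpTo (D : ChevalleyDatum) : ℕ → List (List ℕ)
  | 0 => [[]]
  | k + 1 => (symsUpTo D k).flatMap fun L => ((List.range D.rank).filter fun j =>
      (List.range k).all fun a => L.getD a 0 != j && D.bonds (L.getD a 0) j == D.bonds a k).map fun j => L ++ [j]

theorem card_symmetry_le (D : ChevalleyDatum) :
    Nat.card {π : Equiv.Perm (Fin D.rank) // D.IsDiagramSymmetry π} ≤ (symsUpTo D D.rank).length := by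
  classical
  let v : {π : Equiv.Perm (Fin D.rank) // D.IsDiagramSymmetry π} → ℕ → ℕ :=
    fun π a => if h : a < D.rank then (π.1 ⟨a, h⟩).val else 0
  have hmem : ∀ π, ∀ k ≤ D.rank, (List.range k).map (v π) ∈ symsUpTo D k := by
    intro π k
    induction k with
    | zero => simp [symsUpTo]
    | succ k ih =>
      intro hk
      rw [symsUpTo, List.mem_flatMap]
      refine ⟨_, ih (by omega), ?_⟩
      rw [List.mem_map]
      refine ⟨v π k, List.mem_filter.2 ⟨?_, ?_⟩, by rw [List.range_succ, List.map_append]; rfl⟩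
      · simp [v, show k < D.rank by omega]
      · rw [List.all_eq_true]
        intro a ha
        rw [List.mem_range] at ha
        have hne : (⟨a, by omega⟩ : Fin D.rank) ≠ ⟨k, by omega⟩ := fun h => by simp at h; omega
        have hb := π.2 _ _ hne
        have hva : ((List.range k).map (v π)).getD a 0 = v π a := by simp [List.getD_eq_getElem?_getD, ha]
        rw [hva, Bool.and_eq_true, bne_iff_ne, beq_iff_eq]
        refine ⟨fun h => hne (π.1.injective (Fin.ext ?_)), ?_⟩
        · simpa [v, show a < D.rank by omega, show k < D.rank by omega] using h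
        · simpa [v, show a < D.rank by omega, show k < D.rank by omega] using hb
  let f : {π : Equiv.Perm (Fin D.rank) // D.IsDiagramSymmetry π} → (symsUpTo D D.rank).toFinset :=
    fun π => ⟨(List.range D.rank).map (v π), List.mem_toFinset.2 (hmem π _ le_rfl)⟩
  have hinj : Function.Injective f := by
    intro π π' h
    refine Subtype.ext (Equiv.ext fun i => Fin.ext ?_)
    have := congrArg (fun L => L.getD i.val 0) (congrArg Subtype.val h)
    simpa [f, v, List.getD_eq_getElem?_getD, i.2] using this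
  refine (Nat.card_le_card_of_injective f hinj).trans ?_
  rw [Nat.card_eq_fintype_card, Fintype.card_coe]
  exact List.toFinset_card_le _

section out

variable [Finite F]

/-- The classes of the diagonal, the field and the graph automorphisms. -/
def outClass (P : MulAut ↥(D.group F) → Prop) : Set (Cfsg.Out ↥(D.group F)) :=
  QuotientGroup.mk' (Cfsg.Inn ↥(D.group F)) '' {φ | P φ}

theorem finite_out : Finite (Cfsg.Out ↥(D.group F)) := by
  have : Finite (MulAut ↥(D.group F)) := Finite.of_injective (fun φ => (φ : ↥(D.group F) → ↥(D.group F)))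
    DFunLike.coe_injective
  exact inferInstance

end out

end Cfsg.Agent.Chev
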