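/-
Generation of a Chevalley group by its monomial subgroup and one short root subgroup, from table witnesses.
-/
import Cfsg.Agent.Lib.Chev.Elements
import Cfsg.Prelude.Def_ChevAutomorphisms

set_option autoImplicit false

namespace Cfsg.Agent.Chev

open Cfsg.Lie

variable (D : ChevalleyDatum)

/-- The image of the root `r` under the reflections listed in `p`, applied from left to right. -/
def pathRoot (r : ℕ) (p : List ℕ) : ℕ := p.foldl (fun s j => D.reflectRoot j s) r

/-- One growth step of the set of fundamental roots reached through two reflections. -/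
def growSimples (L : List ℕ) : List ℕ :=
  (List.range D.rank).filter fun k =>
    L.any fun j => k == j || D.reflectRoot j (D.reflectRoot k (D.simple j)) == D.simple k

/-- The fundamental roots reached from the `i`-th one. -/
def reachSimples (i : ℕ) : List ℕ := (growSimples D)^[D.rank] [i]

/-- A long root witness `(a, p, q, w)`: the pair (p(p_a), q(p_a)) has one commutator term, with coefficient of
absolute value `c`, and `w` carries it to `k`. -/
def LongCert (c k : ℕ) (e : ℕ × List ℕ × List ℕ × List ℕ) : Bool :=
  let r := pathRoot D (D.simple e.1) e.2.1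
  let s := pathRoot D (D.simple e.1) e.2.2.1
  decide (e.1 < D.rank) && !D.isLong (D.simple e.1) && e.2.1.all (fun j => decide (j < D.rank)) &&
    e.2.2.1.all (fun j => decide (j < D.rank)) && e.2.2.2.all (fun j => decide (j < D.rank)) &&
    decide (r < D.nroots) && decide (s < D.nroots) && !(s == r) && !(s == D.neg r) &&
    match D.commTerms r s with
    | [(m, C, a, b)] => decide (m < D.nroots) && a == 1 && b == 1 && C.natAbs == c &&
        pathRoot D m e.2.2.2 == D.simple k
    | _ => false

/-- Every fundamental root is reached from every short one, or has a long root witness. -/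
def ShortGenCert (c : ℕ) (L : List (ℕ × List ℕ × List ℕ × List ℕ)) : Prop :=
  ∀ i < D.rank, D.isLong (D.simple i) = false → ∀ k < D.rank,
    if D.isLong (D.simple k) then LongCert D c k (L.getD k (0, [], [], [])) = true else k ∈ reachSimples D i

instance decidableShortGenCert (c : ℕ) (L : List (ℕ × List ℕ × List ℕ × List ℕ)) :
    Decidable (ShortGenCert D c L) :=
  inferInstanceAs (Decidable (∀ i < D.rank, D.isLong (D.simple i) = false → ∀ k < D.rank,
    if D.isLong (D.simple k) then LongCert D c k (L.getD k (0, [], [], [])) = true else k ∈ reachSimples D i))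

variable {D} {F : Type*} [Field F]

namespace Good

variable (hD : Good D)
include hD

theorem nG_mem_monomial {r : ℕ} (hr : r < D.nroots) : nG D F r 1 ∈ D.monomialSubgroup F :=
  Subgroup.mem_sup_right (Subgroup.subset_closure ⟨r, hr, hD.coe_nG r 1⟩)

theorem group_le_of_shortGenCert {c : ℕ} {L : List (ℕ × List ℕ × List ℕ × List ℕ)} (hc : ShortGenCert D c L)
    (hcF : (c : F) ≠ 0) {i : ℕ} (hi : i < D.rank) (hshort : D.isLong (D.simple i) = false) :
    D.group F ≤ D.monomialSubgroup F ⊔ D.rootSubgroup F (D.simple i) := by
  set S := D.monomialSubgroup F ⊔ D.rootSubgroup F (D.simple i) with hS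
  let P : ℕ → Prop := fun r => r < D.nroots ∧ ∀ t : F, xg D F r t ∈ S
  have hn : ∀ k < D.rank, nG D F (D.simple k) 1 ∈ S := fun k hk =>
    Subgroup.mem_sup_left (hD.nG_mem_monomial (hD.simple_lt hk))
  have step : ∀ k < D.rank, ∀ r, P r → P (D.reflectRoot k r) := by
    rintro k hk r ⟨hr, hmem⟩
    refine ⟨hD.reflectRoot_lt hk hr, fun t => ?_⟩
    obtain ⟨η, h1, h2⟩ := hD.exists_sign_xg (F := F) hk
    have e := h2 r hr (η r * t)
    rw [← mul_assoc, (h1 r hr).1, one_mul] at e
    rw [eq_mul_inv_of_mul_eq e.symm]
    exact S.mul_mem (S.mul_mem (hn k hk) (hmem _)) (S.inv_mem (hn k hk))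
  have path : ∀ (p : List ℕ) (r : ℕ), (∀ j ∈ p, j < D.rank) → P r → P (pathRoot D r p) := by
    intro p
    induction p with
    | nil => exact fun r _ h => h
    | cons j p ih =>
      intro r hp h
      exact ih _ (fun l hl => hp l (List.mem_cons_of_mem _ hl)) (step j (hp j List.mem_cons_self) r h)
  have hbase : P (D.simple i) := ⟨hD.simple_lt hi, fun t =>
    Subgroup.mem_sup_right (hD.xg_mem_rootSubgroup _ t)⟩
  have hreach : ∀ (n k : ℕ), k ∈ (growSimples D)^[n] [i] → k < D.rank ∧ P (D.simple k) := by
    intro n
    induction n with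
    | zero => simp [hi, hbase]
    | succ n ih =>
      intro k hk
      rw [Function.iterate_succ', Function.comp_apply, growSimples, List.mem_filter, List.mem_range,
        List.any_eq_true] at hk
      obtain ⟨hk, j, hj, hjk⟩ := hk
      obtain ⟨hj1, hj2⟩ := ih j hj
      refine ⟨hk, ?_⟩
      simp only [Bool.or_eq_true, beq_iff_eq] at hjk
      rcases hjk with rfl | h
      · exact hj2
      · rw [← h]
        exact step j hj1 _ (step k hk _ hj2)
  have hsimple : ∀ k < D.rank, P (D.simple k) := by
    intro k hk
    have hck := hc i hi hshort k hk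
    split at hck
    · generalize L.getD k (0, [], [], []) = e at hck
      obtain ⟨a, p, q, w⟩ := e
      simp only [LongCert, Bool.and_eq_true, decide_eq_true_eq, Bool.not_eq_true', List.all_eq_true,
        beq_eq_false_iff_ne, ne_eq] at hck
      obtain ⟨⟨⟨⟨⟨⟨⟨⟨⟨ha, has⟩, hp⟩, hq⟩, hw⟩, hr⟩, hs⟩, hsr⟩, hsn⟩, hterms⟩ := hck
      have hra := hc i hi hshort a ha
      rw [has, if_neg Bool.false_ne_true] at hra
      have hPa := (hreach _ a hra).2
      have hPr := path p _ hp hPa
      have hPs := path q _ hq hPa
      split at hterms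
      case h_2 => exact absurd hterms Bool.false_ne_true
      case h_1 m C a' b' he =>
        simp only [Bool.and_eq_true, decide_eq_true_eq, beq_iff_eq] at hterms
        obtain ⟨⟨⟨⟨hm, rfl⟩, rfl⟩, hC⟩, hmk⟩ := hterms
        rw [← hmk]
        refine path w m hw ⟨hm, fun v => ?_⟩
        have hC0 : (C : F) ≠ 0 := by
          rcases Int.natAbs_eq C with h | h <;> rw [h, hC] <;> simpa using hcF
        set u : F := v / (-(C : F)) with hu
        have hval : -((C : F) * u) = v := by rw [hu]; field_simp
        have e := hD.xg_commutator hr hs hsr hsn (1 : F) u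
        have hmem : wordG D F (D.commWord F (pathRoot D (D.simple a) p) (pathRoot D (D.simple a) q) 1 u) ∈ S := by
          rw [← e]
          exact S.mul_mem (S.mul_mem (S.mul_mem (S.inv_mem (hPs.2 u)) (S.inv_mem (hPr.2 1))) (hPs.2 u)) (hPr.2 1)
        simp only [ChevalleyDatum.commWord, he, List.map_cons, List.map_nil] at hmem
        simpa [wordG, hval] using hmem
    · exact (hreach _ k hck).2
  have hall : ∀ r < D.nroots, P r := fun r hr =>
    hD.root_induction (P := P) hsimple (fun k hk r _ h => step k hk r h) hr
  rw [hD.group_eq_closure, Subgroup.closure_le]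
  rintro g ⟨r, hr, t, rfl⟩
  exact (hall r hr).2 t

end Good

end Cfsg.Agent.Chev
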