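/-
The Steinberg character of the seven Chevalley groups at elements of order prime to the characteristic.
-/
import Cfsg.Agent.Lib.BNPair.SemisimpleValue
import Cfsg.Agent.Lib.Chev.UnipotentCount
import Cfsg.Agent.Lib.Blocks.PrimePowerDegree

set_option autoImplicit false

namespace Cfsg.Agent.Chev.BNSetup

open Cfsg.Lie

variable {F : Type*} [Field F] [Fintype F]

theorem steinberg_natAbs (p : ℕ) [Fact p.Prime] [CharP F p] {D : ChevalleyDatum}
    (hD : D ∈ [chevG2, chevB2, chevD4, chevF4, chevE6, chevE7, chevE8]) (g : ↥(D.group F))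
    (hg : ¬ p ∣ orderOf g) :
    ∃ z : ℤ, D.steinbergCharacter F g = (z : ℂ) ∧
      z.natAbs = p ^ (Nat.card ↥(Subgroup.centralizer ({g} : Set ↥(D.group F)))).factorization p := by
  classical
  obtain ⟨P, _, n, hn, -, -, -, hst, hU, hcard, htriv⟩ := exists_split (F := F) p hD
  obtain ⟨hirr, -, h1⟩ := steinberg_facts (F := F) hD
  set U := (D.posUnipotent F).subgroupOf (D.group F)
  have hst' : ∀ x, D.steinbergCharacter F x = (BN.stZ P x : ℂ) := fun x =>
    (hst x).trans (BN.st_eq_stZ P x)
  have hdeg : Char.degree (⟨_, hirr⟩ : IrrCharacter ↥(D.group F)) = Fintype.card F ^ (D.nroots / 2) := by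
    have h := (Char.apply_one_eq_degree (⟨_, hirr⟩ : IrrCharacter ↥(D.group F))).symm.trans h1
    exact_mod_cast h
  have hfac : (Fintype.card F ^ (D.nroots / 2)).factorization p =
      (Nat.card ↥(D.group F)).factorization p := by
    have hidx : ¬ p ∣ U.index := hU.not_dvd
    rw [← hcard, ← U.card_mul_index,
      Nat.factorization_mul Nat.card_pos.ne' (fun h0 => hidx (by rw [h0]; exact dvd_zero p)), Finsupp.add_apply,
      Nat.factorization_eq_zero_of_not_dvd hidx, add_zero]
  have hvan : ∀ x : ↥(D.group F), p ∣ orderOf x → BN.stZ P x = 0 := by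
    intro x hx
    obtain ⟨M, hM⟩ := Cfsg.Agent.CharInt.exists_isPModular_of_prime (Fact.out : p.Prime)
    haveI : M.IsMaximal := hM.2.1
    have h := Blocks.apply_eq_zero_of_defect_zero hM.2.2 ⟨_, hirr⟩ (hdeg ▸ hfac) (g := x)
      fun hreg => hreg hx
    replace h : D.steinbergCharacter F x = 0 := h
    rw [hst'] at h
    exact_mod_cast h
  have hne : BN.stZ P 1 ≠ 0 := by
    intro h0
    have h := hst' 1
    rw [h1, h0, Int.cast_zero] at h
    exact pow_ne_zero _ (Nat.cast_ne_zero.2 Fintype.card_ne_zero) h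
  exact ⟨_, hst' g, BN.natAbs_stZ P hU hn htriv hvan hne g hg⟩

end Cfsg.Agent.Chev.BNSetup
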