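/-
Every element of H is a product of the simple elements h_i(c_i).
-/
import Cfsg.Agent.Lib.Chev.TorusOrder

set_option autoImplicit false

namespace Cfsg.Agent.Chev.BNSetup

open Cfsg.Lie

variable {F : Type*} [Field F] {D : ChevalleyDatum}

theorem wordMat_append' (u v : List (ℕ × F)) :
    D.wordMat F (u ++ v) = D.wordMat F u * D.wordMat F v := by
  simp [ChevalleyDatum.wordMat]

theorem wordMat_flatMap (f : ℕ → List (ℕ × F)) (L : List ℕ) :
    D.wordMat F (L.flatMap f) = (L.map fun i => D.wordMat F (f i)).prod := by
  induction L with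
  | nil => rfl
  | cons a L ih => rw [List.flatMap_cons, wordMat_append', ih, List.map_cons, List.prod_cons]

theorem exists_hWord_product (hG : Good D) {g : GL D.Idx F} (hg : g ∈ D.diagonalSubgroup F) :
    ∃ c : ℕ → F, (∀ i < D.rank, c i ≠ 0) ∧
      (g : Matrix D.Idx D.Idx F) =
        D.wordMat F ((List.range D.rank).flatMap fun i => D.hWord (D.simple i) (c i)) := by
  rw [diagonal_eq_range hG] at hg
  obtain ⟨c, rfl⟩ := hg
  refine ⟨fun i => if h : i < D.rank then (c ⟨i, h⟩ : F) else 1, fun i hi => ?_, ?_⟩
  · simp only [dif_pos hi]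
    exact (c ⟨i, hi⟩).ne_zero
  · have key : torusHom F D c =
        (List.ofFn fun i : Fin D.rank => torusHom F D (Pi.mulSingle i (c i))).prod := by
      conv_lhs => rw [← Finset.univ_prod_mulSingle c, ← Fin.prod_ofFn, map_list_prod, List.map_ofFn]
      rfl
    rw [wordMat_flatMap, key, ← Units.coeHom_apply, map_list_prod, List.map_ofFn,
      ← List.map_coe_finRange_eq_range (n := D.rank), List.map_map, List.ofFn_eq_map]
    congr 1
    refine List.map_congr_left fun i _ => ?_
    simp only [Function.comp_apply, Units.coeHom_apply, torusHom_single hG, coe_he, dif_pos i.2]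
    rfl

end Cfsg.Agent.Chev.BNSetup
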