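/-
Automorphisms of twisted Chevalley groups: diagonal and field automorphisms, and automorphisms given by their
action on the parameters of the fundamental orbit subgroups.
-/
import Cfsg.Agent.Lib.TwoGen.Twist
import Cfsg.Agent.Lib.Chev.AutNormalForm
import Cfsg.Agent.Lib.Chev.TorusOrder
import Cfsg.Agent.S2157

set_option autoImplicit false

namespace Cfsg.Agent.Chev.BNSetup

open Cfsg.Lie
open Cfsg.Agent.TwoGen (ext' compat_ext param_ext ext_head)

variable {D : ChevalleyDatum} (hG : Good D) {F : Type*} [Field F]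

/-- The negatives of the fundamental roots. -/
abbrev negSimple (D : ChevalleyDatum) : ℕ → ℕ := fun k => D.neg (D.simple k)

include hG

/-- An element scaling the root elements of a side scales their products. -/
theorem scale_side {J : List ℕ} {f : ℕ → ℕ} {h : GL D.Idx F} {μ : ℕ → F}
    (hμ : ∀ k ∈ J, ∀ t : F, h * xe hG (f k) t * h⁻¹ = xe hG (f k) (μ k * t)) (a : ℕ → F) :
    h * pv hG f J a * h⁻¹ = pv hG f J (fun k => μ k * a k) := by
  rw [← MulAut.conj_apply, pv, map_list_prod, List.map_map]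
  exact congrArg List.prod (List.map_congr_left fun m hm => hμ m hm (a m))

theorem entryMap_pv (s : F →+* F) (f : ℕ → ℕ) (J : List ℕ) (a : ℕ → F) :
    entryMap D s (pv hG f J a) = pv hG f J (fun k => s (a k)) := by
  rw [pv, map_list_prod, List.map_map]
  exact congrArg List.prod (List.map_congr_left fun k _ => entryMap_xe hG s (f k) (a k))

omit hG

/-- A point of the torus as a function on node numbers. -/
def nodeVal (τ : Fin D.rank → Fˣ) (k : ℕ) : F := if h : k < D.rank then (τ ⟨k, h⟩ : F) else 1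

theorem nodeVal_ne_zero (τ : Fin D.rank → Fˣ) (k : ℕ) : nodeVal τ k ≠ 0 := by
  unfold nodeVal
  split_ifs
  exacts [Units.ne_zero _, one_ne_zero]

theorem nodeVal_of_lt (τ : Fin D.rank → Fˣ) {k : ℕ} (h : k < D.rank) : nodeVal τ k = (τ ⟨k, h⟩ : F) := dif_pos h

theorem nodeVal_mul (τ τ' : Fin D.rank → Fˣ) (k : ℕ) : nodeVal (τ * τ') k = nodeVal τ k * nodeVal τ' k := by
  unfold nodeVal
  split_ifs <;> simp

theorem nodeVal_inv (τ : Fin D.rank → Fˣ) (k : ℕ) : nodeVal τ⁻¹ k = (nodeVal τ k)⁻¹ := by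
  unfold nodeVal
  split_ifs <;> simp

theorem nodeVal_one (k : ℕ) : nodeVal (1 : Fin D.rank → Fˣ) k = 1 := by
  unfold nodeVal
  split_ifs <;> simp

variable {G : GraphTab} {O : OrbTab} {no nj : ℕ} [NeZero no] [NeZero nj] {tabs simps : List ℕ}
  (hO : O.OK no nj D G tabs simps) (φ : F ≃+* F)

theorem compat_nodeVal {τ : Fin D.rank → Fˣ} (hτ : τ ∈ fixedTorus hO φ) (j : Fin nj) :
    Compat G φ (O.Jl nj j) (nodeVal τ) := by
  intro k hk
  have hk' := (hO.2.2.1 j).1.1 k hk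
  rw [nodeVal_of_lt τ hk', nodeVal_of_lt τ (hO.1.1 k hk').1]
  exact congrArg Units.val ((mem_fixedTorus hO φ).1 hτ ⟨k, hk'⟩)

variable (hf : Facts D tabs simps) (hn : NegTri D) (hcol : ∃ c, Valid D c ∧ G.colsOK D c = true)
include hG hf hn hcol

/-- The action of an automorphism on the parameters of the orbit `j`. -/
def OrbSends (θ : ↥(twist hG hO φ).Gt ≃* ↥(twist hG hO φ).Gt) (c : ℕ → F) (s : F → F) (j : Fin nj) : Prop :=
  have _ := hf
  have _ := hn
  have _ := hcol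
  ∀ a, Compat G φ (O.Jl nj j) a → ∀ y : ↥(twist hG hO φ).Gt,
    ((y : GL D.Idx F) = pv hG D.simple (O.Jl nj j) a →
      ((θ y : ↥(twist hG hO φ).Gt) : GL D.Idx F) = pv hG D.simple (O.Jl nj j) (fun k => c k * s (a k))) ∧
    ((y : GL D.Idx F) = pv hG (negSimple D) (O.Jl nj j) a →
      ((θ y : ↥(twist hG hO φ).Gt) : GL D.Idx F) = pv hG (negSimple D) (O.Jl nj j) (fun k => (c k)⁻¹ * s (a k)))

/-- Automorphisms agreeing on the fundamental orbit elements are equal. -/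
theorem aut_ext_orb {θ θ' : ↥(twist hG hO φ).Gt ≃* ↥(twist hG hO φ).Gt}
    (h : ∀ j, ∀ a, Compat G φ (O.Jl nj j) a → ∀ y : ↥(twist hG hO φ).Gt,
      ((y : GL D.Idx F) = pv hG D.simple (O.Jl nj j) a ∨ (y : GL D.Idx F) = pv hG (negSimple D) (O.Jl nj j) a) →
        θ y = θ' y) : θ = θ' := by
  have hle : (twist hG hO φ).Gt ≤ (θ.toMonoidHom.eqLocus θ'.toMonoidHom).map (twist hG hO φ).Gt.subtype := by
    refine Gt_le hG hO φ hf hn hcol fun j a ha => ?_
    obtain ⟨h1, h2⟩ := pv_mem_Gt hG hO φ hf hn hcol j ha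
    exact ⟨⟨⟨_, h1⟩, h j a ha ⟨_, h1⟩ (Or.inl rfl), rfl⟩, ⟨⟨_, h2⟩, h j a ha ⟨_, h2⟩ (Or.inr rfl), rfl⟩⟩
  refine MulEquiv.ext fun y => ?_
  obtain ⟨z, hz, e⟩ := hle y.2
  obtain rfl : z = y := Subtype.ext e
  exact hz

theorem OrbSends.eq {θ θ' : ↥(twist hG hO φ).Gt ≃* ↥(twist hG hO φ).Gt} {c : ℕ → F} {s : F → F}
    (h : ∀ j, OrbSends hG hO φ hf hn hcol θ c s j) (h' : ∀ j, OrbSends hG hO φ hf hn hcol θ' c s j) : θ = θ' :=
  aut_ext_orb hG hO φ hf hn hcol fun j a ha y hy => Subtype.ext (by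
    rcases hy with hy | hy
    · rw [(h j a ha y).1 hy, (h' j a ha y).1 hy]
    · rw [(h j a ha y).2 hy, (h' j a ha y).2 hy])

/-- A map of the matrix group carrying orbit elements to orbit elements restricts to the twisted group. -/
theorem map_Gt_le (Φ : GL D.Idx F →* GL D.Idx F)
    (h : ∀ j, ∀ a, Compat G φ (O.Jl nj j) a → ∀ f, IsSide D f → ∃ b, Compat G φ (O.Jl nj j) b ∧
      Φ (pv hG f (O.Jl nj j) a) = pv hG f (O.Jl nj j) b) :
    (twist hG hO φ).Gt ≤ (twist hG hO φ).Gt.comap Φ := by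
  refine Gt_le hG hO φ hf hn hcol fun j a ha => ⟨?_, ?_⟩
  · obtain ⟨b, hb, e⟩ := h j a ha _ (Or.inl rfl)
    rw [Subgroup.mem_comap, e]
    exact (pv_mem_Gt hG hO φ hf hn hcol j hb).1
  · obtain ⟨b, hb, e⟩ := h j a ha _ (Or.inr rfl)
    rw [Subgroup.mem_comap, e]
    exact (pv_mem_Gt hG hO φ hf hn hcol j hb).2

/-- Diagonal automorphisms: every compatible tuple of units scales the fundamental orbit elements. -/
theorem exists_diag (hD : D ∈ [chevG2, chevB2, chevD4, chevF4, chevE6, chevE7, chevE8]) {dd : ℕ}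
    {B : List (List ℤ)} (hC : CoefFact D dd B) {τ : Fin D.rank → Fˣ} (hτ : τ ∈ fixedTorus hO φ) :
    ∃ θ, ∀ j, OrbSends hG hO φ hf hn hcol θ (nodeVal τ) id j := by
  classical
  set χ := coefChar D dd B τ with hχdef
  have hχ := isRootCharacter_coefChar (F := F) hG hC τ
  have hmul : ∀ ψ : ℕ → Fˣ, D.charDiag F ψ * D.charDiag F (fun r => (ψ r)⁻¹) = 1 := fun ψ => by
    simp only [ChevalleyDatum.charDiag, Matrix.diagonal_mul_diagonal, ← Matrix.diagonal_one]
    congr 1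
    funext a
    rcases a with i | s <;> simp
  let u : GL D.Idx F := ⟨D.charDiag F χ, D.charDiag F (fun r => (χ r)⁻¹), hmul χ,
    by simpa only [inv_inv] using hmul (fun r => (χ r)⁻¹)⟩
  have hu : ∀ r < D.nroots, ∀ t : F, u * xe hG r t * u⁻¹ = xe hG r ((χ r : F) * t) := fun r hr t =>
    Units.ext (S2157.result D hD χ hχ r hr t)
  have hu' : ∀ r < D.nroots, ∀ t : F, u⁻¹ * xe hG r t * u⁻¹⁻¹ = xe hG r ((χ r : F)⁻¹ * t) := fun r hr t => by
    have h := hu r hr ((χ r : F)⁻¹ * t)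
    rw [mul_inv_cancel_left₀ (Units.ne_zero _)] at h
    rw [← h]; group
  have hsimp : ∀ {k : ℕ}, k < D.rank → (χ (D.simple k) : F) = nodeVal τ k := fun {k} hk => by
    rw [nodeVal_of_lt τ hk, hχdef, ← coefChar_simple hC τ ⟨k, hk⟩]
  have hneg : ∀ {k : ℕ}, k < D.rank → (χ (D.neg (D.simple k)) : F) = (nodeVal τ k)⁻¹ := fun {k} hk => by
    rw [hχdef, hχ.1 _ (hG.simple_lt hk), Units.val_inv_eq_inv_val, ← hχdef, hsimp hk]
  have hp : ∀ j a, u * pv hG D.simple (O.Jl nj j) a * u⁻¹ =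
        pv hG D.simple (O.Jl nj j) (fun k => nodeVal τ k * a k) ∧
      u * pv hG (negSimple D) (O.Jl nj j) a * u⁻¹ =
        pv hG (negSimple D) (O.Jl nj j) (fun k => (nodeVal τ k)⁻¹ * a k) := fun j a =>
    ⟨scale_side hG (fun k hk t => by
        rw [hu _ (hG.simple_lt ((hO.2.2.1 j).1.1 k hk)), hsimp ((hO.2.2.1 j).1.1 k hk)]) a,
      scale_side hG (fun k hk t => by
        show u * xe hG (D.neg (D.simple k)) t * u⁻¹ = _
        rw [hu _ (hG.neg_lt (hG.simple_lt ((hO.2.2.1 j).1.1 k hk))), hneg ((hO.2.2.1 j).1.1 k hk)]) a⟩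
  have hp' : ∀ j a, u⁻¹ * pv hG D.simple (O.Jl nj j) a * u⁻¹⁻¹ =
        pv hG D.simple (O.Jl nj j) (fun k => (nodeVal τ k)⁻¹ * a k) ∧
      u⁻¹ * pv hG (negSimple D) (O.Jl nj j) a * u⁻¹⁻¹ =
        pv hG (negSimple D) (O.Jl nj j) (fun k => nodeVal τ k * a k) := fun j a =>
    ⟨scale_side hG (fun k hk t => by
        rw [hu' _ (hG.simple_lt ((hO.2.2.1 j).1.1 k hk)), hsimp ((hO.2.2.1 j).1.1 k hk)]) a,
      scale_side hG (fun k hk t => by
        show u⁻¹ * xe hG (D.neg (D.simple k)) t * u⁻¹⁻¹ = _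
        rw [hu' _ (hG.neg_lt (hG.simple_lt ((hO.2.2.1 j).1.1 k hk))), hneg ((hO.2.2.1 j).1.1 k hk), inv_inv]) a⟩
  have hc : ∀ j a, Compat G φ (O.Jl nj j) a →
      Compat G φ (O.Jl nj j) (fun k => nodeVal τ k * a k) ∧
      Compat G φ (O.Jl nj j) (fun k => (nodeVal τ k)⁻¹ * a k) := fun j a ha =>
    ⟨fun k hk => by beta_reduce; rw [map_mul, compat_nodeVal hO φ hτ j k hk, ha k hk],
      fun k hk => by beta_reduce; rw [map_mul, map_inv₀, compat_nodeVal hO φ hτ j k hk, ha k hk]⟩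
  have k1 : ∀ g ∈ (twist hG hO φ).Gt, u * g * u⁻¹ ∈ (twist hG hO φ).Gt := fun g hg =>
    map_Gt_le hG hO φ hf hn hcol (MulAut.conj u).toMonoidHom (fun j a ha f hs => by
      rcases hs with rfl | rfl
      exacts [⟨_, (hc j a ha).1, (hp j a).1⟩, ⟨_, (hc j a ha).2, (hp j a).2⟩]) hg
  have k2 : ∀ g ∈ (twist hG hO φ).Gt, u⁻¹ * g * u⁻¹⁻¹ ∈ (twist hG hO φ).Gt := fun g hg =>
    map_Gt_le hG hO φ hf hn hcol (MulAut.conj u⁻¹).toMonoidHom (fun j a ha f hs => by
      rcases hs with rfl | rfl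
      exacts [⟨_, (hc j a ha).2, (hp' j a).1⟩, ⟨_, (hc j a ha).1, (hp' j a).2⟩]) hg
  refine ⟨{ toFun := fun g => ⟨u * g * u⁻¹, k1 g g.2⟩
            invFun := fun g => ⟨u⁻¹ * g * u⁻¹⁻¹, k2 g g.2⟩
            left_inv := fun g => Subtype.ext (by simp [mul_assoc])
            right_inv := fun g => Subtype.ext (by simp [mul_assoc])
            map_mul' := fun g g' => Subtype.ext (by simp [mul_assoc]) }, fun j a _ y => ⟨fun hy => ?_, fun hy => ?_⟩⟩
  · show u * (y : GL D.Idx F) * u⁻¹ = _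
    rw [hy]; exact (hp j a).1
  · show u * (y : GL D.Idx F) * u⁻¹ = _
    rw [hy]; exact (hp j a).2

/-- Field automorphisms commuting with the twist act on the twisted group. -/
theorem exists_field (σ : F ≃+* F) (hσ : ∀ x, σ (φ x) = φ (σ x)) :
    ∃ θ, ∀ j, OrbSends hG hO φ hf hn hcol θ (fun _ => 1) σ j := by
  have hsymm : ∀ x, σ.symm (φ x) = φ (σ.symm x) := fun x => by
    apply σ.injective
    rw [RingEquiv.apply_symm_apply, hσ, RingEquiv.apply_symm_apply]
  have key : ∀ s : F ≃+* F, (∀ x, s (φ x) = φ (s x)) →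
      ∀ g ∈ (twist hG hO φ).Gt, entryMap D s.toRingHom g ∈ (twist hG hO φ).Gt := fun s hs g hg =>
    map_Gt_le hG hO φ hf hn hcol (entryMap D s.toRingHom) (fun j a ha f _ =>
      ⟨fun k => s (a k), fun k hk => by beta_reduce; rw [← hs, ha k hk], entryMap_pv hG s.toRingHom f _ a⟩) hg
  have hinv : ∀ (e e' : F →+* F), (∀ x, e (e' x) = x) → ∀ g : GL D.Idx F,
      entryMap D e (entryMap D e' g) = g := fun e e' he g => Units.ext (by
    ext i j
    exact he _)
  refine ⟨{ toFun := fun g => ⟨entryMap D σ.toRingHom g, key σ hσ g g.2⟩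
            invFun := fun g => ⟨entryMap D σ.symm.toRingHom g, key σ.symm hsymm g g.2⟩
            left_inv := fun g => Subtype.ext (hinv _ _ σ.symm_apply_apply _)
            right_inv := fun g => Subtype.ext (hinv _ _ σ.apply_symm_apply _)
            map_mul' := fun g h => Subtype.ext (map_mul _ g.1 h.1) }, fun j a _ y => ⟨fun hy => ?_, fun hy => ?_⟩⟩ <;>
  · show entryMap D σ.toRingHom (y : GL D.Idx F) = _
    rw [hy, entryMap_pv hG]
    simp

/-- The action of a composite. -/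
theorem OrbSends.trans {θ θ' : ↥(twist hG hO φ).Gt ≃* ↥(twist hG hO φ).Gt} {c c' : ℕ → F} {s s' : F →+* F}
    {j : Fin nj} (h : OrbSends hG hO φ hf hn hcol θ c s j) (h' : OrbSends hG hO φ hf hn hcol θ' c' s' j)
    (hc : Compat G φ (O.Jl nj j) c) (hs : ∀ x, s (φ x) = φ (s x)) :
    OrbSends hG hO φ hf hn hcol (θ.trans θ') (fun k => c' k * s' (c k)) (fun x => s' (s x)) j := by
  intro a ha y
  refine ⟨fun hy => ?_, fun hy => ?_⟩
  · rw [MulEquiv.trans_apply, (h' _ (fun k hk => by beta_reduce; rw [map_mul, ← hc k hk, ← hs, ← ha k hk]) _).1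
      ((h a ha y).1 hy)]
    exact congrArg List.prod (List.map_congr_left fun k _ => by beta_reduce; rw [map_mul, mul_assoc])
  · rw [MulEquiv.trans_apply, (h' _ (fun k hk => by beta_reduce; rw [map_mul, map_inv₀, ← hc k hk, ← hs, ← ha k hk]) _).2
      ((h a ha y).2 hy)]
    exact congrArg List.prod (List.map_congr_left fun k _ => by beta_reduce; rw [map_mul, map_inv₀, mul_inv, mul_assoc])

end Cfsg.Agent.Chev.BNSetup
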