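/-
Normal form of an automorphism of a twisted Chevalley group: after an inner and a diagonal automorphism it acts
on the parameters of the fundamental orbit subgroups through maps fixing one, which field rigidity determines.
-/
import Cfsg.Agent.Lib.Chev.TwistAut
import Cfsg.Agent.Lib.Chev.TwistAutPair
import Cfsg.Agent.Lib.Chev.SL2Rigid
import Cfsg.Agent.Lib.Chev.Sylow
import Cfsg.Agent.Lib.RootBN.AutNormalise

set_option autoImplicit false

namespace Cfsg.Agent.Chev.BNSetup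

open Cfsg.Lie
open Cfsg.Agent.RootBN (Data mapG)
open Cfsg.Agent.TwoGen (ext' compat_ext ext_head mu prod_he_conj)
open scoped MatrixGroups

variable {D : ChevalleyDatum} (hG : Good D) {F : Type*} [Field F]

/-- The parameters of the orbit `j`. -/
def InFld (O : OrbTab) (nj : ℕ) [NeZero nj] (φ : F ≃+* F) (j : Fin nj) (t : F) : Prop :=
  φ^[(O.Jl nj j).length] t = t

/-- The orbit element with parameter `t`. -/
def ov (O : OrbTab) {nj : ℕ} [NeZero nj] (φ : F ≃+* F) (f : ℕ → ℕ) (j : Fin nj) (t : F) : GL D.Idx F :=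
  pv hG f (O.Jl nj j) (ext' φ (O.Jl nj j) t)

/-- The element `∏ x_k(a) x_{-k}(-a⁻¹) x_k(a)` of an orbit. -/
def nPv (O : OrbTab) {nj : ℕ} [NeZero nj] (j : Fin nj) (a : ℕ → F) : GL D.Idx F :=
  pv hG D.simple (O.Jl nj j) a * pv hG (negSimple D) (O.Jl nj j) (fun k => -(a k)⁻¹) *
    pv hG D.simple (O.Jl nj j) a

theorem iterate_inv (φ : F ≃+* F) (n : ℕ) (x : F) : φ^[n] x⁻¹ = (φ^[n] x)⁻¹ := by
  induction n with
  | zero => rfl
  | succ n ih => rw [Function.iterate_succ_apply', Function.iterate_succ_apply', ih, map_inv₀]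

theorem InFld.map_zero {O : OrbTab} {nj : ℕ} [NeZero nj] {φ : F ≃+* F} {j : Fin nj} : InFld O nj φ j 0 :=
  iterate_map_zero φ _

theorem InFld.map_one {O : OrbTab} {nj : ℕ} [NeZero nj] {φ : F ≃+* F} {j : Fin nj} : InFld O nj φ j 1 :=
  iterate_map_one φ _

theorem InFld.add {O : OrbTab} {nj : ℕ} [NeZero nj] {φ : F ≃+* F} {j : Fin nj} {t u : F}
    (ht : InFld O nj φ j t) (hu : InFld O nj φ j u) : InFld O nj φ j (t + u) := by
  rw [InFld, iterate_map_add φ, ht, hu]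

theorem InFld.neg {O : OrbTab} {nj : ℕ} [NeZero nj] {φ : F ≃+* F} {j : Fin nj} {t : F}
    (ht : InFld O nj φ j t) : InFld O nj φ j (-t) := by
  rw [InFld, iterate_map_neg φ, ht]

variable {G : GraphTab} {O : OrbTab} {no nj : ℕ} [NeZero no] [NeZero nj] {tabs simps : List ℕ}
  (hO : O.OK no nj D G tabs simps) (φ : F ≃+* F)

include hO in
theorem compat_eq_ext' (j : Fin nj) {a : ℕ → F} (ha : Compat G φ (O.Jl nj j) a) {k : ℕ} (hk : k ∈ O.Jl nj j) :
    a k = ext' φ (O.Jl nj j) (a ((O.Jl nj j).head (hO.2.2.1 j).2.1)) k := by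
  obtain ⟨m, hm, rfl⟩ := List.mem_iff_getElem.1 hk
  simp only [ext', (hO.2.2.1 j).1.2.1.idxOf_getElem]
  rw [List.head_eq_getElem (hO.2.2.1 j).2.1, compat_getElem hO φ j ha m hm]

variable (hf : Facts D tabs simps) (hn : NegTri D) (hcol : ∃ c, Valid D c ∧ G.colsOK D c = true)
include hG hO hf hn hcol

theorem inFld_head (j : Fin nj) {a : ℕ → F} (ha : Compat G φ (O.Jl nj j) a) :
    InFld O nj φ j (a ((O.Jl nj j).head (hO.2.2.1 j).2.1)) :=
  (TwoGen.param_ext hG hO φ hf hn hcol ha).1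

theorem pv_eq_ov (f : ℕ → ℕ) (j : Fin nj) {a : ℕ → F} (ha : Compat G φ (O.Jl nj j) a) :
    pv hG f (O.Jl nj j) a = ov hG O φ f j (a ((O.Jl nj j).head (hO.2.2.1 j).2.1)) := by
  have _ := hf
  have _ := hn
  have _ := hcol
  exact congrArg List.prod (List.map_congr_left fun k hk => by rw [← compat_eq_ext' hO φ j ha hk])

theorem ov_inj {f : ℕ → ℕ} (hside : IsSide D f) (j : Fin nj) {t u : F}
    (h : ov hG O φ f j t = ov hG O φ f j u) : t = u := by
  have _ := hcol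
  have := pv_inj hG hf hn hside (hO.2.2.1 j).1 h (List.head_mem (hO.2.2.1 j).2.1)
  rwa [ext_head, ext_head] at this

theorem ov_add {f : ℕ → ℕ} (hside : IsSide D f) (j : Fin nj) (t u : F) :
    ov hG O φ f j t * ov hG O φ f j u = ov hG O φ f j (t + u) := by
  have _ := hf
  have _ := hn
  have _ := hcol
  rw [ov, ov, pv_mul hG hside (hO.2.2.1 j).1]
  exact congrArg List.prod (List.map_congr_left fun k _ => by simp [ext', iterate_map_add φ])

theorem ov_mem_Gt (j : Fin nj) {t : F} (ht : InFld O nj φ j t) :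
    ov hG O φ D.simple j t ∈ (twist hG hO φ).Gt ∧ ov hG O φ (negSimple D) j t ∈ (twist hG hO φ).Gt :=
  pv_mem_Gt hG hO φ hf hn hcol j (compat_ext hO φ ht)

theorem mem_X_simp {j : Fin nj} {y : GL D.Idx F} :
    y ∈ (twist hG hO φ).data.X ((twist hG hO φ).data.simp j) ↔
      ∃ t, InFld O nj φ j t ∧ y = ov hG O φ D.simple j t := by
  refine (mem_X'_simp_iff hG hO φ hf hn hcol j).trans ⟨?_, ?_⟩
  · rintro ⟨a, ha, rfl⟩
    exact ⟨_, inFld_head hG hO φ hf hn hcol j ha, pv_eq_ov hG hO φ hf hn hcol _ j ha⟩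
  · rintro ⟨t, ht, rfl⟩
    exact ⟨_, compat_ext hO φ ht, rfl⟩

theorem mem_X_opp {j : Fin nj} {y : GL D.Idx F} :
    y ∈ (twist hG hO φ).data.X ((twist hG hO φ).data.opp ((twist hG hO φ).data.simp j)) ↔
      ∃ t, InFld O nj φ j t ∧ y = ov hG O φ (negSimple D) j t := by
  refine (mem_X'_opp_iff hG hO φ hf hn hcol j).trans ⟨?_, ?_⟩
  · rintro ⟨a, ha, rfl⟩
    exact ⟨_, inFld_head hG hO φ hf hn hcol j ha, pv_eq_ov hG hO φ hf hn hcol _ j ha⟩
  · rintro ⟨t, ht, rfl⟩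
    exact ⟨_, compat_ext hO φ ht, rfl⟩

theorem twist_longest : ∃ l₀ : List (Fin nj),
    (∀ o, (twist hG hO φ).data.Pos ((twist hG hO φ).data.wl l₀ o) ↔ ¬ (twist hG hO φ).data.Pos o) ∧
      (twist hG hO φ).data.B ⊓ Data.Uop (twist hG hO φ).data l₀ = ⊥ := by
  have hT := twist_axioms hG hO φ hf hn hcol
  obtain ⟨R, hR, hlong⟩ := hT.cover (0 : Fin nj)
  refine ⟨((0 : Fin nj) :: R).reverse, fun o => ?_, ?_⟩
  · set w := (data hG F).wl ((twist hG hO φ).flat ((0 : Fin nj) :: R).reverse) with hw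
    have h1 : (twist hG hO φ).data.wl ((0 : Fin nj) :: R).reverse o =
        (twist hG hO φ).orb (w ((twist hG hO φ).rep o)) := by
      rw [hw, RootBN.Twist.orb_wl hT, hT.orb_rep]
    rw [h1]
    show (data hG F).Pos ((twist hG hO φ).rep ((twist hG hO φ).orb _)) ↔ ¬ (data hG F).Pos ((twist hG hO φ).rep o)
    rw [← hT.pos_orb]
    refine ⟨fun h hp => hlong _ hp h, fun h => ?_⟩
    have h2 := hlong _ ((hT.base.pos_opp _).2 h)
    rw [Data.wl_opp hT.base, hT.base.pos_opp, not_not] at h2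
    exact h2
  · rw [eq_bot_iff, ← hT.B_inf_negU]
    refine inf_le_inf (RootBN.Twist.B'_le_B hT) ?_
    rw [Data.Uop, Subgroup.map_le_iff_le_comap, RootBN.Twist.nw_data]
    refine le_trans (RootBN.Twist.U'_le_U hT) (iSup₂_le fun r hr z hz => ?_)
    exact le_iSup₂ (f := fun r (_ : ¬ (data hG F).Pos r) => (data hG F).X r) _ (hlong r hr)
      ((Data.acts_nw hT.base _ r z).2 hz)

theorem twist_H_pPart [Fintype F] {p : ℕ} [Fact p.Prime] [CharP F p] {h : GL D.Idx F}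
    (hh : h ∈ (twist hG hO φ).data.H) {k : ℕ} (hk : h ^ p ^ k = 1) : h = 1 := by
  obtain ⟨n, -, hn'⟩ := FiniteField.card F p
  have h1 := TwoGen.diag_pow_card hG (F := F) hh.1
  have hcop : Nat.Coprime (p ^ k) (Fintype.card F - 1) := by
    refine Nat.Coprime.pow_left _ ((Fact.out : p.Prime).coprime_iff_not_dvd.2 fun hd => ?_)
    have h2 : p ∣ Fintype.card F := hn' ▸ dvd_pow_self p n.2.ne'
    have h3 : p ∣ 1 := by
      have := Nat.dvd_sub h2 hd
      rwa [Nat.sub_sub_self Fintype.card_pos] at this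
    exact (Fact.out : p.Prime).one_lt.ne' (Nat.dvd_one.1 h3)
  exact orderOf_eq_one_iff.1 (Nat.eq_one_of_dvd_coprimes hcop (orderOf_dvd_of_pow_eq_one hk)
    (orderOf_dvd_of_pow_eq_one h1))

theorem exists_orbit_perm [Fintype F] {p : ℕ} [Fact p.Prime] [CharP F p] {w : Fin nj → ℕ}
    (hq : ∀ j, Nat.card ((twist hG hO φ).data.X ((twist hG hO φ).data.simp j)) = p ^ w j)
    (θ : ↥(twist hG hO φ).Gt ≃* ↥(twist hG hO φ).Gt) :
    ∃ (x : ↥(twist hG hO φ).Gt) (ρ σ : Equiv.Perm (Fin nj)),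
      (∀ i, mapG (θ.trans (MulAut.conj x)) ((twist hG hO φ).data.X ((twist hG hO φ).data.simp i)) =
        (twist hG hO φ).data.X ((twist hG hO φ).data.simp (ρ i))) ∧
      (∀ i, mapG (θ.trans (MulAut.conj x))
          ((twist hG hO φ).data.X ((twist hG hO φ).data.opp ((twist hG hO φ).data.simp i))) =
        (twist hG hO φ).data.X ((twist hG hO φ).data.opp ((twist hG hO φ).data.simp (σ i)))) ∧
      ∀ i, w (ρ i) = w i := by
  have hT := twist_axioms hG hO φ hf hn hcol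
  have ax := RootBN.Twist.data_axioms hT
  obtain ⟨l₀, hl₀, hVB⟩ := twist_longest hG hO φ hf hn hcol
  have hUp : IsPGroup p (twist hG hO φ).data.U := by
    have h1 : IsPGroup p (data hG F).U := by
      rw [data_U hG hf]; exact ChevSylow.isPGroup_posUnipotent p hG hf
    exact h1.to_le (RootBN.Twist.U'_le_U hT)
  obtain ⟨x, ρ, σ, h1, h2⟩ := Data.exists_normalised ax (G := (twist hG hO φ).Gt) rfl hl₀ hq hUp
    (fun h hh k hk => twist_H_pPart hG hO φ hf hn hcol hh hk) hVB θ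
  refine ⟨x, ρ, σ, h1, h2, fun i => Nat.pow_right_injective (Fact.out : p.Prime).two_le ?_⟩
  show p ^ w (ρ i) = p ^ w i
  rw [← hq, ← hq, ← h1 i]
  exact RootBN.card_mapG _ (RootBN.Twist.X'_le_Gt _)

omit hf hn hcol in
theorem orbit_disjoint (hf : Facts D tabs simps) {i j : Fin nj} {k : ℕ} (hi : k ∈ O.Jl nj i)
    (hj : k ∈ O.Jl nj j) : i = j := by
  have hk0 := hG.simple_lt ((hO.2.2.1 i).1.1 k hi)
  exact hO.2.2.2.1 i j (((orb_simple hO hf i ⟨_, hk0⟩).2 ⟨k, hi, rfl⟩).symm.trans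
    ((orb_simple hO hf j ⟨_, hk0⟩).2 ⟨k, hj, rfl⟩))

/-- Fundamental orbit elements commute with the opposite elements of other orbits. -/
theorem commute_simp_opp (hN : NodeComm D) {i j : Fin nj} (hij : i ≠ j) (a b : ℕ → F) :
    Commute (pv hG D.simple (O.Jl nj i) a) (pv hG (negSimple D) (O.Jl nj j) b) := by
  have _ := hn
  have _ := hcol
  refine Commute.list_prod_left _ _ fun x hx => Commute.list_prod_right _ _ fun y hy => ?_
  obtain ⟨k, hk, rfl⟩ := List.mem_map.1 hx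
  obtain ⟨k', hk', rfl⟩ := List.mem_map.1 hy
  have hk1 := (hO.2.2.1 i).1.1 k hk
  have hk2 := (hO.2.2.1 j).1.1 k' hk'
  obtain ⟨h0, h3, h4, -⟩ := hN k hk1 k' hk2 fun e => hij (orbit_disjoint hG hO hf hk (e ▸ hk'))
  have e := comm_eq_termsProd hG (hG.simple_lt hk1) (hG.neg_lt (hG.simple_lt hk2)) h3 h4 (-(a k) : F) (b k')
  rw [neg_neg, h0, termsProd, mul_assoc, mul_assoc, inv_mul_eq_one, eq_inv_mul_iff_mul_eq] at e
  exact e

/-- Fundamental orbit elements of orbits that are not joined commute. -/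
theorem commute_simp_simp (hN : NodeComm D) {i j : Fin nj} (hij : i ≠ j)
    (hb : ∀ k ∈ O.Jl nj i, ∀ k' ∈ O.Jl nj j, D.bonds k k' = 0) (a b : ℕ → F) :
    Commute (pv hG D.simple (O.Jl nj i) a) (pv hG D.simple (O.Jl nj j) b) := by
  have _ := hn
  have _ := hcol
  refine Commute.list_prod_left _ _ fun x hx => Commute.list_prod_right _ _ fun y hy => ?_
  obtain ⟨k, hk, rfl⟩ := List.mem_map.1 hx
  obtain ⟨k', hk', rfl⟩ := List.mem_map.1 hy
  have hk1 := (hO.2.2.1 i).1.1 k hk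
  have hk2 := (hO.2.2.1 j).1.1 k' hk'
  obtain ⟨-, -, -, h3, h4, h5, -⟩ := hN k hk1 k' hk2 fun e => hij (orbit_disjoint hG hO hf hk (e ▸ hk'))
  have e := comm_eq_termsProd hG (hG.simple_lt hk1) (hG.simple_lt hk2) h3 h4 (-(a k) : F) (b k')
  rw [neg_neg, h5 (hb k hk k' hk'), termsProd, mul_assoc, mul_assoc, inv_mul_eq_one, eq_inv_mul_iff_mul_eq] at e
  exact e

theorem opp_perm_eq_one [Finite F] (hN : NodeComm D) {θ : ↥(twist hG hO φ).Gt ≃* ↥(twist hG hO φ).Gt}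
    {σ : Equiv.Perm (Fin nj)}
    (h1 : ∀ i, mapG θ ((twist hG hO φ).data.X ((twist hG hO φ).data.simp i)) =
      (twist hG hO φ).data.X ((twist hG hO φ).data.simp i))
    (h2 : ∀ i, mapG θ ((twist hG hO φ).data.X ((twist hG hO φ).data.opp ((twist hG hO φ).data.simp i))) =
      (twist hG hO φ).data.X ((twist hG hO φ).data.opp ((twist hG hO φ).data.simp (σ i)))) : σ = 1 := by
  have ax := RootBN.Twist.data_axioms (twist_axioms hG hO φ hf hn hcol)
  refine Equiv.ext fun j => ?_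
  by_contra hne
  rw [Equiv.Perm.one_apply] at hne
  obtain ⟨z, hz, y, hy, hyz⟩ := Data.exists_not_commute_opp ax (σ j)
  obtain ⟨z0, hz0, rfl⟩ := RootBN.exists_of_mem_mapG θ ((h1 (σ j)).ge hz)
  obtain ⟨y0, hy0, rfl⟩ := RootBN.exists_of_mem_mapG θ ((h2 j).ge hy)
  obtain ⟨a, -, ea⟩ := (mem_X'_simp_iff hG hO φ hf hn hcol (σ j)).1 hz0
  obtain ⟨b, -, eb⟩ := (mem_X'_opp_iff hG hO φ hf hn hcol j).1 hy0
  have hc : y0 * z0 = z0 * y0 := Subtype.ext (by
    rw [Subgroup.coe_mul, Subgroup.coe_mul, ea, eb]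
    exact (commute_simp_opp hG hO hf hn hcol hN hne a b).eq.symm)
  exact hyz (by rw [← Subgroup.coe_mul, ← Subgroup.coe_mul, ← map_mul, ← map_mul, hc])

/-- An automorphism acting on the parameters, fixing one. -/
def IsNormal (θ : ↥(twist hG hO φ).Gt ≃* ↥(twist hG hO φ).Gt) (f g : Fin nj → F → F) : Prop :=
  have _ := hf
  have _ := hn
  have _ := hcol
  ∀ j, f j 1 = 1 ∧ ∀ t, InFld O nj φ j t → InFld O nj φ j (f j t) ∧ InFld O nj φ j (g j t) ∧
    ∀ y : ↥(twist hG hO φ).Gt,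
      ((y : GL D.Idx F) = ov hG O φ D.simple j t →
        ((θ y : ↥(twist hG hO φ).Gt) : GL D.Idx F) = ov hG O φ D.simple j (f j t)) ∧
      ((y : GL D.Idx F) = ov hG O φ (negSimple D) j t →
        ((θ y : ↥(twist hG hO φ).Gt) : GL D.Idx F) = ov hG O φ (negSimple D) j (g j t))

theorem exists_params {θ : ↥(twist hG hO φ).Gt ≃* ↥(twist hG hO φ).Gt}
    (h1 : ∀ i, mapG θ ((twist hG hO φ).data.X ((twist hG hO φ).data.simp i)) =
      (twist hG hO φ).data.X ((twist hG hO φ).data.simp i))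
    (h2 : ∀ i, mapG θ ((twist hG hO φ).data.X ((twist hG hO φ).data.opp ((twist hG hO φ).data.simp i))) =
      (twist hG hO φ).data.X ((twist hG hO φ).data.opp ((twist hG hO φ).data.simp i))) :
    ∃ f g : Fin nj → F → F, ∀ j t, InFld O nj φ j t → InFld O nj φ j (f j t) ∧ InFld O nj φ j (g j t) ∧
      ∀ y : ↥(twist hG hO φ).Gt,
        ((y : GL D.Idx F) = ov hG O φ D.simple j t →
          ((θ y : ↥(twist hG hO φ).Gt) : GL D.Idx F) = ov hG O φ D.simple j (f j t)) ∧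
        ((y : GL D.Idx F) = ov hG O φ (negSimple D) j t →
          ((θ y : ↥(twist hG hO φ).Gt) : GL D.Idx F) = ov hG O φ (negSimple D) j (g j t)) := by
  classical
  have key : ∀ (fs : ℕ → ℕ) (j : Fin nj) (t : F),
      (∀ y : ↥(twist hG hO φ).Gt, (y : GL D.Idx F) = ov hG O φ fs j t →
        ∃ u, InFld O nj φ j u ∧ ((θ y : ↥(twist hG hO φ).Gt) : GL D.Idx F) = ov hG O φ fs j u) →
      ∃ u, InFld O nj φ j u ∧ ∀ y : ↥(twist hG hO φ).Gt, (y : GL D.Idx F) = ov hG O φ fs j t →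
        ((θ y : ↥(twist hG hO φ).Gt) : GL D.Idx F) = ov hG O φ fs j u := by
    intro fs j t h
    by_cases hy : ∃ y : ↥(twist hG hO φ).Gt, (y : GL D.Idx F) = ov hG O φ fs j t
    · obtain ⟨y, hy⟩ := hy
      obtain ⟨u, hu, e⟩ := h y hy
      exact ⟨u, hu, fun y' hy' => by rw [Subtype.ext (hy'.trans hy.symm)]; exact e⟩
    · exact ⟨0, InFld.map_zero, fun y hy' => absurd ⟨y, hy'⟩ hy⟩
  have hp : ∀ j t, ∃ u, InFld O nj φ j t → InFld O nj φ j u ∧ ∀ y : ↥(twist hG hO φ).Gt,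
      (y : GL D.Idx F) = ov hG O φ D.simple j t →
        ((θ y : ↥(twist hG hO φ).Gt) : GL D.Idx F) = ov hG O φ D.simple j u := fun j t => by
    by_cases ht : InFld O nj φ j t
    · obtain ⟨u, hu⟩ := key D.simple j t fun y hy => (mem_X_simp hG hO φ hf hn hcol).1
        ((h1 j).le ((RootBN.mem_mapG θ).2 ((mem_X_simp hG hO φ hf hn hcol).2 ⟨t, ht, hy⟩)))
      exact ⟨u, fun _ => hu⟩
    · exact ⟨0, fun h => absurd h ht⟩
  have hm : ∀ j t, ∃ u, InFld O nj φ j t → InFld O nj φ j u ∧ ∀ y : ↥(twist hG hO φ).Gt,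
      (y : GL D.Idx F) = ov hG O φ (negSimple D) j t →
        ((θ y : ↥(twist hG hO φ).Gt) : GL D.Idx F) = ov hG O φ (negSimple D) j u := fun j t => by
    by_cases ht : InFld O nj φ j t
    · obtain ⟨u, hu⟩ := key (negSimple D) j t fun y hy => (mem_X_opp hG hO φ hf hn hcol).1
        ((h2 j).le ((RootBN.mem_mapG θ).2 ((mem_X_opp hG hO φ hf hn hcol).2 ⟨t, ht, hy⟩)))
      exact ⟨u, fun _ => hu⟩
    · exact ⟨0, fun h => absurd h ht⟩
  choose f hf' using hp
  choose g hg' using hm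
  exact ⟨f, g, fun j t ht => ⟨(hf' j t ht).1, (hg' j t ht).1, fun y => ⟨(hf' j t ht).2 y, (hg' j t ht).2 y⟩⟩⟩

/-- Splitting off the diagonal part. -/
theorem exists_scaled (hD : D ∈ [chevG2, chevB2, chevD4, chevF4, chevE6, chevE7, chevE8]) {dd : ℕ}
    {B : List (List ℤ)} (hC : CoefFact D dd B) (hall : ∀ k < D.rank, ∃ j : Fin nj, k ∈ O.Jl nj j)
    {θ : ↥(twist hG hO φ).Gt ≃* ↥(twist hG hO φ).Gt}
    (h1 : ∀ i, mapG θ ((twist hG hO φ).data.X ((twist hG hO φ).data.simp i)) =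
      (twist hG hO φ).data.X ((twist hG hO φ).data.simp i))
    (h2 : ∀ i, mapG θ ((twist hG hO φ).data.X ((twist hG hO φ).data.opp ((twist hG hO φ).data.simp i))) =
      (twist hG hO φ).data.X ((twist hG hO φ).data.opp ((twist hG hO φ).data.simp i))) :
    ∃ τ ∈ fixedTorus hO φ, ∃ d θ' f g, (∀ j, OrbSends hG hO φ hf hn hcol d (nodeVal τ) id j) ∧
      θ = θ'.trans d ∧ IsNormal hG hO φ hf hn hcol θ' f g := by
  classical
  obtain ⟨f, g, hfg⟩ := exists_params hG hO φ hf hn hcol h1 h2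
  have hne : ∀ j, f j 1 ≠ 0 := by
    intro j h0
    obtain ⟨-, -, hy⟩ := hfg j 1 InFld.map_one
    have e1 := (hy ⟨_, (ov_mem_Gt hG hO φ hf hn hcol j InFld.map_one).1⟩).1 rfl
    have e2 : ov hG O φ D.simple j (0 : F) = 1 := by
      have := ov_add hG hO φ hf hn hcol (Or.inl rfl) j (0 : F) 0
      rwa [add_zero, mul_eq_left] at this
    rw [h0, e2, OneMemClass.coe_eq_one, map_eq_one_iff θ θ.injective] at e1
    have e3 := congrArg Subtype.val e1
    simp only [OneMemClass.coe_one] at e3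
    exact one_ne_zero (ov_inj hG hO φ hf hn hcol (Or.inl rfl) j (e3.trans e2.symm))
  choose orbit horbit using fun i : Fin D.rank => hall i.val i.2
  have hextne : ∀ j k, ext' φ (O.Jl nj j) (f j 1) k ≠ 0 := fun j k h => hne j
    ((φ.injective.iterate _) (h.trans (iterate_map_zero φ _).symm))
  let τ : Fin D.rank → Fˣ := fun i => Units.mk0 _ (hextne (orbit i) i.val)
  have hτv : ∀ j, ∀ k ∈ O.Jl nj j, nodeVal τ k = ext' φ (O.Jl nj j) (f j 1) k := fun j k hk => by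
    have hk' := (hO.2.2.1 j).1.1 k hk
    rw [nodeVal_of_lt τ hk']
    show ext' φ (O.Jl nj (orbit ⟨k, hk'⟩)) (f (orbit ⟨k, hk'⟩) 1) k = _
    rw [orbit_disjoint hG hO hf (horbit ⟨k, hk'⟩) hk]
  have hτ : τ ∈ fixedTorus hO φ := by
    refine (mem_fixedTorus hO φ).2 fun i => Units.ext ?_
    have hk := horbit i
    have hpk : G.pi.getD i.val 0 ∈ O.Jl nj (orbit i) :=
      List.mem_rotate.1 ((hO.2.2.1 (orbit i)).2.2.1 ▸ List.mem_map.2 ⟨i.val, hk, rfl⟩ :
        G.pi.getD i.val 0 ∈ (O.Jl nj (orbit i)).rotate 1)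
    have e := compat_ext hO φ (hfg (orbit i) 1 InFld.map_one).1 i.val hk
    show (τ (nodePerm hO i) : F) = φ (τ i : F)
    rw [← nodeVal_of_lt τ (nodePerm hO i).2, ← nodeVal_of_lt τ i.2, nodePerm_val,
      hτv _ _ hpk, hτv _ _ hk, e]
  obtain ⟨d, hd⟩ := exists_diag hG hO φ hf hn hcol hD hC hτ
  have hsymm : ∀ j, ∀ a, Compat G φ (O.Jl nj j) a → ∀ y : ↥(twist hG hO φ).Gt,
      ((y : GL D.Idx F) = pv hG D.simple (O.Jl nj j) a →
        ((d.symm y : ↥(twist hG hO φ).Gt) : GL D.Idx F) =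
          pv hG D.simple (O.Jl nj j) (fun k => (nodeVal τ k)⁻¹ * a k)) ∧
      ((y : GL D.Idx F) = pv hG (negSimple D) (O.Jl nj j) a →
        ((d.symm y : ↥(twist hG hO φ).Gt) : GL D.Idx F) =
          pv hG (negSimple D) (O.Jl nj j) (fun k => nodeVal τ k * a k)) := by
    intro j a ha y
    have hc1 : Compat G φ (O.Jl nj j) (fun k => (nodeVal τ k)⁻¹ * a k) := fun k hk => by
      beta_reduce; rw [map_mul, map_inv₀, compat_nodeVal hO φ hτ j k hk, ha k hk]
    have hc2 : Compat G φ (O.Jl nj j) (fun k => nodeVal τ k * a k) := fun k hk => by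
      beta_reduce; rw [map_mul, compat_nodeVal hO φ hτ j k hk, ha k hk]
    refine ⟨fun hy => ?_, fun hy => ?_⟩
    · have h := (hd j _ hc1 ⟨_, (pv_mem_Gt hG hO φ hf hn hcol j hc1).1⟩).1 rfl
      have e : d ⟨_, (pv_mem_Gt hG hO φ hf hn hcol j hc1).1⟩ = y := Subtype.ext (h.trans (hy ▸
        congrArg List.prod (List.map_congr_left fun k _ => by
          simp [mul_inv_cancel_left₀ (nodeVal_ne_zero τ k)])))
      rw [← e, MulEquiv.symm_apply_apply]
    · have h := (hd j _ hc2 ⟨_, (pv_mem_Gt hG hO φ hf hn hcol j hc2).2⟩).2 rfl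
      have e : d ⟨_, (pv_mem_Gt hG hO φ hf hn hcol j hc2).2⟩ = y := Subtype.ext (h.trans (hy ▸
        congrArg List.prod (List.map_congr_left fun k _ => by
          simp [inv_mul_cancel_left₀ (nodeVal_ne_zero τ k)])))
      rw [← e, MulEquiv.symm_apply_apply]
  refine ⟨τ, hτ, d, θ.trans d.symm, fun j t => (f j 1)⁻¹ * f j t, fun j t => f j 1 * g j t, hd,
    by ext y; simp, fun j => ⟨inv_mul_cancel₀ (hne j), fun t ht => ?_⟩⟩
  obtain ⟨hft, hgt, hy⟩ := hfg j t ht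
  have hf1 := (hfg j 1 InFld.map_one).1
  refine ⟨?_, ?_, fun y => ⟨fun e => ?_, fun e => ?_⟩⟩
  · show φ^[_] _ = _
    rw [iterate_map_mul φ, iterate_inv φ, hft, hf1]
  · show φ^[_] _ = _
    rw [iterate_map_mul φ, hgt, hf1]
  · rw [MulEquiv.trans_apply, ((hsymm j _ (compat_ext hO φ hft)) (θ y)).1 ((hy y).1 e)]
    exact congrArg List.prod (List.map_congr_left fun k hk => by
      simp [hτv j k hk, ext', iterate_map_mul φ, iterate_inv φ])
  · rw [MulEquiv.trans_apply, ((hsymm j _ (compat_ext hO φ hgt)) (θ y)).2 ((hy y).2 e)]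
    exact congrArg List.prod (List.map_congr_left fun k hk => by
      simp [hτv j k hk, ext', iterate_map_mul φ])

variable {θ : ↥(twist hG hO φ).Gt ≃* ↥(twist hG hO φ).Gt} {f g : Fin nj → F → F}

theorem IsNormal.add (h : IsNormal hG hO φ hf hn hcol θ f g) (j : Fin nj) {t u : F} (ht : InFld O nj φ j t)
    (hu : InFld O nj φ j u) : f j (t + u) = f j t + f j u ∧ g j (t + u) = g j t + g j u := by
  have hm := fun {t : F} (ht : InFld O nj φ j t) => ov_mem_Gt hG hO φ hf hn hcol j ht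
  refine ⟨ov_inj hG hO φ hf hn hcol (Or.inl rfl) j ?_, ov_inj hG hO φ hf hn hcol (Or.inr rfl) j ?_⟩
  · rw [← ov_add hG hO φ hf hn hcol (Or.inl rfl), ← (((h j).2 t ht).2.2 ⟨_, (hm ht).1⟩).1 rfl,
      ← (((h j).2 u hu).2.2 ⟨_, (hm hu).1⟩).1 rfl, ← (((h j).2 _ (ht.add hu)).2.2 ⟨_, (hm (ht.add hu)).1⟩).1 rfl,
      ← Subgroup.coe_mul, ← map_mul]
    exact congrArg (fun z => ((θ z : ↥(twist hG hO φ).Gt) : GL D.Idx F))
      (Subtype.ext (ov_add hG hO φ hf hn hcol (Or.inl rfl) j t u).symm)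
  · rw [← ov_add hG hO φ hf hn hcol (Or.inr rfl), ← (((h j).2 t ht).2.2 ⟨_, (hm ht).2⟩).2 rfl,
      ← (((h j).2 u hu).2.2 ⟨_, (hm hu).2⟩).2 rfl, ← (((h j).2 _ (ht.add hu)).2.2 ⟨_, (hm (ht.add hu)).2⟩).2 rfl,
      ← Subgroup.coe_mul, ← map_mul]
    exact congrArg (fun z => ((θ z : ↥(twist hG hO φ).Gt) : GL D.Idx F))
      (Subtype.ext (ov_add hG hO φ hf hn hcol (Or.inr rfl) j t u).symm)

theorem IsNormal.orbSends (h : IsNormal hG hO φ hf hn hcol θ f g) (j : Fin nj) {σ : F →+* F}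
    (hσ : ∀ x, σ (φ x) = φ (σ x)) (he : ∀ t, InFld O nj φ j t → f j t = σ t ∧ g j t = σ t) :
    OrbSends hG hO φ hf hn hcol θ (fun _ => 1) σ j := by
  intro a ha y
  have hin := inFld_head hG hO φ hf hn hcol j ha
  have hc : Compat G φ (O.Jl nj j) (fun k => 1 * σ (a k)) := fun k hk => by
    beta_reduce; rw [one_mul, one_mul, ← hσ, ha k hk]
  refine ⟨fun hy => ?_, fun hy => ?_⟩
  · rw [((((h j).2 _ hin).2.2) y).1 (hy.trans (pv_eq_ov hG hO φ hf hn hcol _ j ha)), (he _ hin).1,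
      pv_eq_ov hG hO φ hf hn hcol _ j hc, one_mul]
  · rw [((((h j).2 _ hin).2.2) y).2 (hy.trans (pv_eq_ov hG hO φ hf hn hcol _ j ha)), (he _ hin).2]
    simp only [inv_one]
    rw [pv_eq_ov hG hO φ hf hn hcol _ j hc, one_mul]

/-- On a full orbit the parameter maps are one field automorphism. -/
theorem IsNormal.exists_sigma [Finite F] (h : IsNormal hG hO φ hf hn hcol θ f g) (j : Fin nj)
    (hfull : ∀ t, InFld O nj φ j t) : ∃ σ : F ≃+* F, ∀ t, f j t = σ t ∧ g j t = σ t := by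
  have hT := twist_axioms hG hO φ hf hn hcol
  obtain ⟨Φ, hΦ1, hΦ2⟩ := exists_pair_hom hG (F := F)
    (fun k => (φ : F →+* F) ^ (O.Jl nj j).idxOf k) (O.Jl nj j) (hO.2.2.1 j).1
  have e1 : ∀ t, Φ (upperSL t) = ov hG O φ D.simple j t := fun t => by
    rw [hΦ1]; simp only [RingHom.coe_pow]; rfl
  have e2 : ∀ t, Φ (lowerSL t) = ov hG O φ (negSimple D) j t := fun t => by
    rw [hΦ2]; simp only [RingHom.coe_pow]; rfl
  let Ψ : SL(2, F) →* ↥(twist hG hO φ).Gt := Φ.codRestrict _ fun x =>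
    sl2_hom_mem (fun t => e1 t ▸ (ov_mem_Gt hG hO φ hf hn hcol j (hfull t)).1)
      (fun t => e2 t ▸ (ov_mem_Gt hG hO φ hf hn hcol j (hfull t)).2) x
  have hv : ∀ x, ((Ψ x : ↥(twist hG hO φ).Gt) : GL D.Idx F) = Φ x := fun x => rfl
  have hsep : ∀ t u, Ψ (upperSL t) = Ψ (lowerSL u) → t = 0 := by
    intro t u e
    have e' : ov hG O φ D.simple j t = ov hG O φ (negSimple D) j u := by
      rw [← e1, ← e2]; exact congrArg Subtype.val e
    have h1 := (mem_X_simp hG hO φ hf hn hcol (j := j)).2 ⟨t, hfull t, rfl⟩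
    have h2 := (mem_X_opp hG hO φ hf hn hcol (j := j)).2 ⟨u, hfull u, rfl⟩
    rw [← e'] at h2
    have h3 := RootBN.Twist.X'_simp_inter hT
      (fun e => (RootBN.Twist.opp'_pos hT _).1 ((congrArg _ e).mpr (RootBN.Twist.simp'_pos hT j))
        (RootBN.Twist.simp'_pos hT j)) h2 h1
    have h4 := pv_eq_one hG hf hn (Or.inl rfl) (hO.2.2.1 j).1 h3 _ (List.head_mem (hO.2.2.1 j).2.1)
    rwa [ext_head] at h4
  have hlow : ∀ t u, Ψ (lowerSL t) = Ψ (lowerSL u) → t = u := fun t u e =>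
    ov_inj hG hO φ hf hn hcol (Or.inr rfl) j (by rw [← e2, ← e2]; exact congrArg Subtype.val e)
  have hp : ∀ t, θ (Ψ (upperSL t)) = Ψ (upperSL (f j t)) := fun t => Subtype.ext (by
    rw [hv, e1]
    exact (((h j).2 t (hfull t)).2.2 _).1 ((hv _).trans (e1 t)))
  have hm : ∀ t, θ (Ψ (lowerSL t)) = Ψ (lowerSL (g j t)) := fun t => Subtype.ext (by
    rw [hv, e2]
    exact (((h j).2 t (hfull t)).2.2 _).2 ((hv _).trans (e2 t)))
  have hfb : Function.Bijective (f j) := Finite.injective_iff_bijective.1 fun t u e => by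
    have h1 : θ (Ψ (upperSL t)) = θ (Ψ (upperSL u)) := by rw [hp, hp, e]
    exact ov_inj hG hO φ hf hn hcol (Or.inl rfl) j (by
      rw [← e1, ← e1]; exact congrArg Subtype.val (θ.injective h1))
  obtain ⟨σ, h1, h2⟩ := sl2_rigid hsep hlow θ.toMonoidHom hp hm hfb
    (fun t u => (IsNormal.add hG hO φ hf hn hcol h j (hfull t) (hfull u)).1)
    (fun t u => (IsNormal.add hG hO φ hf hn hcol h j (hfull t) (hfull u)).2) (h j).1
  exact ⟨σ, fun t => ⟨h1 t, h2 t⟩⟩

/-- On an orbit of one root the negative parameter map also fixes one. -/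
theorem IsNormal.g_one (h : IsNormal hG hO φ hf hn hcol θ f g) (j : Fin nj) {k : ℕ}
    (hk : O.Jl nj j = [k]) : g j 1 = 1 := by
  have hk' := (hO.2.2.1 j).1.1 k (by rw [hk]; simp)
  have hr := hG.simple_lt hk'
  have hov : ∀ (fs : ℕ → ℕ) (t : F), ov hG O φ fs j t = xe hG (fs k) t := fun fs t => by
    rw [ov, hk, pv]; simp [ext']
  have h1 : InFld O nj φ j (1 : F) := InFld.map_one
  set y1 : ↥(twist hG hO φ).Gt := ⟨_, (ov_mem_Gt hG hO φ hf hn hcol j h1).1⟩ with hy1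
  set ym : ↥(twist hG hO φ).Gt := ⟨_, (ov_mem_Gt hG hO φ hf hn hcol j h1.neg).2⟩ with hym
  have e : y1 * ym * y1 * y1 * (y1 * ym * y1)⁻¹ = ym := Subtype.ext (by
    simp only [Subgroup.coe_mul, Subgroup.coe_inv, hy1, hym, hov]
    have := ne'_conj_self hG hr (one_ne_zero (α := F)) (1 : F)
    rw [ne', inv_one, one_pow, div_one] at this
    exact this)
  have e' := congrArg (fun z => ((θ z : ↥(twist hG hO φ).Gt) : GL D.Idx F)) e
  simp only [map_mul, map_inv, Subgroup.coe_mul, Subgroup.coe_inv,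
    (((h j).2 1 h1).2.2 y1).1 rfl, (((h j).2 _ h1.neg).2.2 ym).2 rfl, (h j).1, hov] at e'
  have h2 := mul_eq_neg_one_of_conj_mem hG hf hr (one_ne_zero (α := F)) (by
    rw [e']; exact (mem_rootSubgroup hG (hG.neg_lt hr)).2 ⟨_, rfl⟩)
  rw [one_mul] at h2
  have h3 := (IsNormal.add hG hO φ hf hn hcol h j h1.neg h1).2
  rw [neg_add_cancel, h2] at h3
  have h4 := (IsNormal.add hG hO φ hf hn hcol h j InFld.map_zero InFld.map_zero).2
  rw [add_zero, left_eq_add] at h4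
  rw [h4, eq_neg_add_iff_add_eq, add_zero] at h3
  exact h3.symm

theorem prod_he_eq (j : Fin nj) (a : ℕ → F) :
    ((O.Jl nj j).map fun k => he hG (D.simple k) (a k)).prod =
      nPv hG O j a * nPv hG O j (fun _ => -1) := by
  have hS := hO.2.2.1 j
  have key : ∀ b : ℕ → F, ((O.Jl nj j).map fun k => ne' hG (D.simple k) (b k)).prod = nPv hG O j b := by
    intro b
    simp only [ne', nPv, pv]
    rw [prod_map_mul_comm _ _ _ hS.1.2.1 fun x hx y hy hne => (xe_commute hG hS.1 hx hy hne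
        (by simp) (by simp) _ _).mul_left (xe_commute hG hS.1 hx hy hne (by simp) (by simp) _ _),
      prod_map_mul_comm _ _ _ hS.1.2.1 fun x hx y hy hne => xe_commute hG hS.1 hx hy hne (by simp) (by simp) _ _]
  simp only [he]
  rw [prod_map_mul_comm _ _ _ hS.1.2.1 fun x hx y hy hne => ne'_commute hG hf hcol hn hS.1 hx hy hne _ _,
    key, key]

/-- Propagation of the field automorphism through the torus of a neighbouring orbit. -/
theorem IsNormal.extend (h : IsNormal hG hO φ hf hn hcol θ f g) {i j : Fin nj} {σ : F →+* F}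
    (hσ : ∀ x, σ (φ x) = φ (σ x)) (hi : OrbSends hG hO φ hf hn hcol θ (fun _ => 1) σ i)
    (hg1 : g j 1 = 1)
    (hcov : ∀ t, InFld O nj φ j t → t ≠ 0 → ∃ a, Compat G φ (O.Jl nj i) a ∧ (∀ k ∈ O.Jl nj i, a k ≠ 0) ∧
      mu D (O.Jl nj i) a (D.simple ((O.Jl nj j).head (hO.2.2.1 j).2.1)) = t) :
    ∀ t, InFld O nj φ j t → f j t = σ t ∧ g j t = σ t := by
  have hT := twist_axioms hG hO φ hf hn hcol
  have ax := RootBN.Twist.data_axioms hT
  set k0 := (O.Jl nj j).head (hO.2.2.1 j).2.1 with hk0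
  have hk0' : k0 < D.rank := (hO.2.2.1 j).1.1 _ (List.head_mem _)
  let hEl : ∀ a, Compat G φ (O.Jl nj i) a → ↥(twist hG hO φ).Gt := fun a ha =>
    ⟨_, prod_he_mem_Gt hG hO φ hf hcol hn i ha⟩
  have himg : ∀ a (ha : Compat G φ (O.Jl nj i) a), ∀ hσa : Compat G φ (O.Jl nj i) (fun k => σ (a k)),
      θ (hEl a ha) = hEl _ hσa := by
    intro a ha hσa
    have hN : ∀ b, Compat G φ (O.Jl nj i) b → ∀ y : ↥(twist hG hO φ).Gt,
        (y : GL D.Idx F) = nPv hG O i b →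
          ((θ y : ↥(twist hG hO φ).Gt) : GL D.Idx F) = nPv hG O i (fun k => σ (b k)) := by
      intro b hb y hy
      have hb' : Compat G φ (O.Jl nj i) (fun k => -(b k)⁻¹) := fun k hk => by
        beta_reduce; rw [map_neg, map_inv₀, ← hb k hk]
      obtain rfl : y = (⟨_, (pv_mem_Gt hG hO φ hf hn hcol i hb).1⟩ : ↥(twist hG hO φ).Gt) *
          ⟨_, (pv_mem_Gt hG hO φ hf hn hcol i hb').2⟩ * ⟨_, (pv_mem_Gt hG hO φ hf hn hcol i hb).1⟩ :=
        Subtype.ext hy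
      simp only [map_mul, Subgroup.coe_mul]
      rw [(hi b hb _).1 rfl, (hi _ hb' _).2 rfl]
      simp [nPv]
    have hm1 : Compat G φ (O.Jl nj i) (fun _ => (-1 : F)) := fun k _ => by simp
    have hNmem : ∀ b, Compat G φ (O.Jl nj i) b → nPv hG O i b ∈ (twist hG hO φ).Gt := fun b hb => by
      refine Subgroup.mul_mem _ (Subgroup.mul_mem _ (pv_mem_Gt hG hO φ hf hn hcol i hb).1 ?_)
        (pv_mem_Gt hG hO φ hf hn hcol i hb).1
      exact (pv_mem_Gt hG hO φ hf hn hcol i (a := fun k => -(b k)⁻¹)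
        fun k hk => by beta_reduce; rw [map_neg, map_inv₀, ← hb k hk]).2
    have e0 : hEl a ha = ⟨_, hNmem a ha⟩ * ⟨_, hNmem _ hm1⟩ := Subtype.ext (prod_he_eq hG hO hf hn hcol i a)
    refine Subtype.ext ?_
    rw [e0, map_mul, Subgroup.coe_mul, hN a ha _ rfl, hN _ hm1 _ rfl]
    show _ = ((O.Jl nj i).map fun k => he hG (D.simple k) (σ (a k))).prod
    rw [prod_he_eq hG hO hf hn hcol i]
    simp
  have hscale : ∀ a (ha : Compat G φ (O.Jl nj i) a), (∀ k ∈ O.Jl nj i, a k ≠ 0) → ∀ u, InFld O nj φ j u →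
      InFld O nj φ j (mu D (O.Jl nj i) a (D.simple k0) * u) ∧
      ((hEl a ha : GL D.Idx F) * ov hG O φ D.simple j u * (hEl a ha : GL D.Idx F)⁻¹ =
        ov hG O φ D.simple j (mu D (O.Jl nj i) a (D.simple k0) * u)) ∧
      ((hEl a ha : GL D.Idx F) * ov hG O φ (negSimple D) j u * (hEl a ha : GL D.Idx F)⁻¹ =
        ov hG O φ (negSimple D) j ((mu D (O.Jl nj i) a (D.simple k0))⁻¹ * u)) := by
    intro a ha hne u hu
    have hH : (hEl a ha : GL D.Idx F) ∈ (twist hG hO φ).data.H := by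
      refine ⟨list_prod_mem fun x hx => ?_, (hEl a ha).2⟩
      obtain ⟨k, hk, rfl⟩ := List.mem_map.1 hx
      exact he_mem_H hG (hG.simple_lt ((hO.2.2.1 i).1.1 k hk)) (hne k hk)
    have hs : ∀ fs, IsSide D fs → (hEl a ha : GL D.Idx F) * ov hG O φ fs j u * (hEl a ha : GL D.Idx F)⁻¹ =
        pv hG fs (O.Jl nj j) (fun k => mu D (O.Jl nj i) a (fs k) * ext' φ (O.Jl nj j) u k) := fun fs hside =>
      scale_side hG (fun k hk t => by
        rw [mul_inv_eq_iff_eq_mul, xe_eq_xg hG, xe_eq_xg hG]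
        exact prod_he_conj hG (hO.2.2.1 i).1.1 hne (hside.lt hG ((hO.2.2.1 j).1.1 k hk)) t) _
    obtain ⟨t, ht, e⟩ := (mem_X_simp hG hO φ hf hn hcol).1
      (ax.H_conj _ _ hH _ ((mem_X_simp hG hO φ hf hn hcol).2 ⟨u, hu, rfl⟩))
    obtain ⟨t', -, e'⟩ := (mem_X_opp hG hO φ hf hn hcol).1
      (ax.H_conj _ _ hH _ ((mem_X_opp hG hO φ hf hn hcol).2 ⟨u, hu, rfl⟩))
    have ht1 : t = mu D (O.Jl nj i) a (D.simple k0) * u := by
      have := pv_inj hG hf hn (Or.inl rfl) (hO.2.2.1 j).1 (e.symm.trans (hs _ (Or.inl rfl)))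
        (List.head_mem (hO.2.2.1 j).2.1)
      rwa [ext_head, ext_head] at this
    have ht2 : t' = (mu D (O.Jl nj i) a (D.simple k0))⁻¹ * u := by
      have := pv_inj hG hf hn (Or.inr rfl) (hO.2.2.1 j).1 (e'.symm.trans (hs _ (Or.inr rfl)))
        (List.head_mem (hO.2.2.1 j).2.1)
      rw [ext_head, ext_head] at this
      rw [this]
      congr 1
      simp only [mu, List.prod_inv, List.map_map]
      refine congrArg List.prod (List.map_congr_left fun m hm => ?_)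
      obtain ⟨c, hV⟩ := hG
      have hp : D.simple k0 < D.nroots := Good.simple_lt ⟨c, hV⟩ hk0'
      simp only [Function.comp_apply]
      dsimp only [negSimple]
      rw [← zpow_neg, hV.ng_eq hp, hV.A_eq ((hO.2.2.1 i).1.1 m hm) (hV.ng_lt hp),
        hV.A_eq ((hO.2.2.1 i).1.1 m hm) hp, ((hV.base'.1 _ hp).2.2.2.1 m ((hO.2.2.1 i).1.1 m hm)).1]
    exact ⟨ht1 ▸ ht, by rw [e, ht1], by rw [e', ht2]⟩
  have hmu : ∀ a, mu D (O.Jl nj i) (fun k => σ (a k)) (D.simple k0) = σ (mu D (O.Jl nj i) a (D.simple k0)) := by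
    intro a
    simp [mu, map_list_prod, List.map_map, Function.comp_def, map_zpow₀]
  have h1 : InFld O nj φ j (1 : F) := InFld.map_one
  have key : ∀ a, Compat G φ (O.Jl nj i) a → (∀ k ∈ O.Jl nj i, a k ≠ 0) →
      f j (mu D (O.Jl nj i) a (D.simple k0)) = σ (mu D (O.Jl nj i) a (D.simple k0)) ∧
      g j (mu D (O.Jl nj i) a (D.simple k0))⁻¹ = σ (mu D (O.Jl nj i) a (D.simple k0))⁻¹ := by
    intro a ha hne
    have hσa : Compat G φ (O.Jl nj i) (fun k => σ (a k)) := fun k hk => by beta_reduce; rw [← hσ, ha k hk]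
    have hne' : ∀ k ∈ O.Jl nj i, σ (a k) ≠ 0 := fun k hk => (map_ne_zero σ).2 (hne k hk)
    obtain ⟨hin, hp, hm⟩ := hscale a ha hne 1 h1
    obtain ⟨-, hp', hm'⟩ := hscale _ hσa hne' 1 h1
    simp only [mul_one] at hin hp hm hp' hm'
    have hin' : InFld O nj φ j (mu D (O.Jl nj i) a (D.simple k0))⁻¹ := by
      rw [InFld, iterate_inv φ, hin]
    set y1 : ↥(twist hG hO φ).Gt := ⟨_, (ov_mem_Gt hG hO φ hf hn hcol j h1).1⟩ with hy1
    set z1 : ↥(twist hG hO φ).Gt := ⟨_, (ov_mem_Gt hG hO φ hf hn hcol j h1).2⟩ with hz1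
    refine ⟨ov_inj hG hO φ hf hn hcol (Or.inl rfl) j ?_, ov_inj hG hO φ hf hn hcol (Or.inr rfl) j ?_⟩
    · rw [← (((h j).2 _ hin).2.2 (hEl a ha * y1 * (hEl a ha)⁻¹)).1 hp, map_mul, map_mul, map_inv,
        himg a ha hσa, ← hmu, ← hp']
      simp only [Subgroup.coe_mul, Subgroup.coe_inv, (((h j).2 1 h1).2.2 y1).1 rfl, (h j).1]
    · rw [← (((h j).2 _ hin').2.2 (hEl a ha * z1 * (hEl a ha)⁻¹)).2 hm, map_mul, map_mul, map_inv,
        himg a ha hσa, map_inv₀, ← hmu, ← hm']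
      simp only [Subgroup.coe_mul, Subgroup.coe_inv, (((h j).2 1 h1).2.2 z1).2 rfl, hg1]
  intro t ht
  by_cases h0 : t = 0
  · have hz := IsNormal.add hG hO φ hf hn hcol h j InFld.map_zero InFld.map_zero
    simp only [add_zero, left_eq_add] at hz
    rw [h0, hz.1, hz.2, map_zero]
    exact ⟨rfl, rfl⟩
  refine ⟨?_, ?_⟩
  · obtain ⟨a, ha, hne, rfl⟩ := hcov t ht h0
    exact (key a ha hne).1
  · obtain ⟨a, ha, hne, e⟩ := hcov t⁻¹ (by rw [InFld, iterate_inv φ, ht]) (inv_ne_zero h0)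
    have := (key a ha hne).2
    rwa [e, inv_inv] at this

end Cfsg.Agent.Chev.BNSetup
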