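import Cfsg.Agent.Lib.Chev.OrbitElements
import Cfsg.Agent.Lib.RootBN.TwistData

/-!
# Certificates for twisted Chevalley groups

`twist` builds the twist of the root data from the graph table and the orbit table; `twist_axioms` proves
its axioms from the decidable checks.
-/

set_option autoImplicit false

namespace Cfsg.Agent.Chev.BNSetup

open Cfsg.Lie
open Cfsg.Agent.RootBN (evWord look)

/-- Orbits of roots under a symmetry. -/
structure OrbTab where
  orb : List ℕ
  rep : List ℕ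
  J : List (List ℕ)
  simpo : List ℕ
  refl : List (List ℕ)
  reach : List (List ℕ × ℕ)
  cov : List (List ℕ)

namespace OrbTab

variable (O : OrbTab) (no nj : ℕ) [NeZero no] [NeZero nj]

/-- orbit of a root -/
def orbF (r : ℕ) : Fin no := Fin.ofNat no (O.orb.getD r 0)
/-- root of an orbit -/
def repF (o : Fin no) : ℕ := O.rep.getD o.val 0
/-- nodes of a simple orbit -/
def Jl (j : Fin nj) : List ℕ := O.J.getD j.val []
/-- orbit of a simple orbit -/
def simpF (j : Fin nj) : Fin no := Fin.ofNat no (O.simpo.getD j.val 0)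
/-- reflection -/
def reflF (j : Fin nj) (o : Fin no) : Fin no := Fin.ofNat no ((O.refl.getD j.val []).getD o.val 0)
/-- an orbit as image of a simple one -/
def reachF (o : Fin no) : List (Fin nj) × Fin nj :=
  ((O.reach.getD o.val ([], 0)).1.map (Fin.ofNat nj), Fin.ofNat nj (O.reach.getD o.val ([], 0)).2)
/-- the word of a reflection -/
def reflWordF (o : Fin no) : List (Fin nj) :=
  (O.reachF no nj o).1 ++ (O.reachF no nj o).2 :: (O.reachF no nj o).1.reverse
/-- a word in nodes -/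
def flatN (l : List (Fin nj)) : List ℕ := l.flatMap (O.Jl nj)
/-- tail of the reversed longest word ending in `j` -/
def covF (j : Fin nj) : List (Fin nj) := (O.cov.getD j.val []).map (Fin.ofNat nj)
/-- factors -/
def rootsF : List (Fin nj) → List (Fin no)
  | [] => []
  | j :: R => (rootsF R).map (O.reflF no nj j) ++ [O.simpF no nj j]
/-- reducedness -/
def redF : List (Fin nj) → Bool
  | [] => true
  | j :: R => redF R && !((O.rootsF no nj R).contains (O.simpF no nj j))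

/-- The conditions on the roots. -/
def RootOK (D : ChevalleyDatum) (G : GraphTab) : Prop :=
  (∀ o : Fin no, O.repF no o < D.nroots ∧ O.orbF no (O.repF no o) = o) ∧
  ∀ r < D.nroots, (D.nroots / 2 ≤ r ↔ D.nroots / 2 ≤ O.repF no (O.orbF no r)) ∧
    O.orbF no (D.nroots - 1 - r) = O.orbF no (D.nroots - 1 - O.repF no (O.orbF no r)) ∧
    O.orbF no (G.rho.getD r 0) = O.orbF no r

instance decidableRootOK (D : ChevalleyDatum) (G : GraphTab) : Decidable (O.RootOK no D G) :=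
  inferInstanceAs (Decidable (_ ∧ _))

/-- The conditions on a simple orbit and a root. -/
def SimpleRootOK (D : ChevalleyDatum) (tabs simps : List ℕ) (j : Fin nj) (r : ℕ) : Prop :=
  O.orbF no (evWord tabs (O.Jl nj j) r) = O.reflF no nj j (O.orbF no r) ∧
    (O.orbF no r = O.simpF no nj j ↔ r ∈ (O.Jl nj j).map fun k => simps.getD k 0) ∧
    (D.nroots / 2 ≤ r → O.orbF no r ≠ O.simpF no nj j → D.nroots / 2 ≤ evWord tabs (O.Jl nj j) r)

instance decidableSimpleRootOK (D : ChevalleyDatum) (tabs simps : List ℕ) (j : Fin nj) (r : ℕ) :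
    Decidable (O.SimpleRootOK no nj D tabs simps j r) := inferInstanceAs (Decidable (_ ∧ _))

/-- The conditions on a simple orbit. -/
def SimpleOK (D : ChevalleyDatum) (G : GraphTab) (tabs simps : List ℕ) (j : Fin nj) : Prop :=
  CommOK D (O.Jl nj j) ∧ O.Jl nj j ≠ [] ∧ (O.Jl nj j).map (fun k => G.pi.getD k 0) = (O.Jl nj j).rotate 1 ∧
  (∀ r < D.nroots, O.SimpleRootOK no nj D tabs simps j r) ∧
  (∀ k ∈ O.Jl nj j, evWord tabs (O.Jl nj j) (simps.getD k 0) = D.nroots - 1 - simps.getD k 0) ∧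
  (∀ k < D.rank, evWord tabs (O.Jl nj j ++ O.Jl nj j) (simps.getD k 0) = simps.getD k 0) ∧
  (∀ o, O.reflF no nj j (O.reflF no nj j o) = o) ∧
  (∀ k ∈ O.Jl nj j, ∀ k' ∈ O.Jl nj j, k ≠ k' → look (tabs.getD k 0) (simps.getD k' 0) = simps.getD k' 0) ∧
  O.reachF no nj (O.simpF no nj j) = ([], j) ∧
  O.redF no nj (j :: O.covF nj j) = true ∧
  ∀ r < D.nroots, D.nroots / 2 ≤ r → evWord tabs (O.flatN nj (j :: O.covF nj j).reverse) r < D.nroots / 2

instance decidableSimpleOK (D : ChevalleyDatum) (G : GraphTab) (tabs simps : List ℕ) (j : Fin nj) :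
    Decidable (O.SimpleOK no nj D G tabs simps j) := inferInstanceAs (Decidable (_ ∧ _))

/-- The conditions on the words of the reflections. -/
def WordOK (D : ChevalleyDatum) (tabs simps : List ℕ) (o : Fin no) : Prop :=
  (O.reachF no nj o).1.foldr (fun i x => O.reflF no nj i x) (O.simpF no nj (O.reachF no nj o).2) = o ∧
  ∀ i : Fin nj, ∀ k < D.rank,
    evWord tabs (O.flatN nj (i :: (O.reflWordF no nj o ++ [i]))) (simps.getD k 0) =
      evWord tabs (O.flatN nj (O.reflWordF no nj (O.reflF no nj i o))) (simps.getD k 0)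

instance decidableWordOK (D : ChevalleyDatum) (tabs simps : List ℕ) (o : Fin no) :
    Decidable (O.WordOK no nj D tabs simps o) := inferInstanceAs (Decidable (_ ∧ _))

/-- All conditions. -/
def OK (D : ChevalleyDatum) (G : GraphTab) (tabs simps : List ℕ) : Prop :=
  G.OK D tabs ∧ O.RootOK no D G ∧ (∀ j, O.SimpleOK no nj D G tabs simps j) ∧
    (∀ j j', O.simpF no nj j = O.simpF no nj j' → j = j') ∧ ∀ o, O.WordOK no nj D tabs simps o

instance decidableOK (D : ChevalleyDatum) (G : GraphTab) (tabs simps : List ℕ) :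
    Decidable (O.OK no nj D G tabs simps) := inferInstanceAs (Decidable (_ ∧ _))

end OrbTab

variable {D : ChevalleyDatum} (hG : Good D) {G : GraphTab} {O : OrbTab} {no nj : ℕ} [NeZero no] [NeZero nj]
  {tabs simps : List ℕ} (hO : O.OK no nj D G tabs simps) {F : Type*} [Field F] (φ : F ≃+* F)

/-- The twist. -/
def twist : RootBN.Twist (data hG F) (Fin no) (Fin nj) where
  σ := GraphTab.aut hO.1 φ
  ρ r := ⟨G.rho.getD r.val 0, (hO.1.2.1 r.val r.2).1⟩
  orb r := O.orbF no r.val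
  rep o := ⟨O.repF no o, (hO.2.1.1 o).1⟩
  J j := RootBN.Data.toFin (O.Jl nj j)
  simp' := O.simpF no nj
  refl' j := Function.Involutive.toPerm (O.reflF no nj j) (hO.2.2.1 j).2.2.2.2.2.2.1
  reachW := O.reachF no nj

/-- The parameters compatible with the symmetry. -/
def Compat (G : GraphTab) (φ : F ≃+* F) (J : List ℕ) (a : ℕ → F) : Prop :=
  ∀ k ∈ J, a (G.pi.getD k 0) = φ (a k)

theorem J_val (j : Fin nj) : ((twist hG hO φ).J j).map Fin.val = O.Jl nj j :=
  RootBN.Data.map_val_toFin (hO.2.2.1 j).1.1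

theorem flat_val (l : List (Fin nj)) : ((twist hG hO φ).flat l).map Fin.val = O.flatN nj l := by
  induction l with
  | nil => rfl
  | cons i l ih =>
    rw [RootBN.Twist.flat_cons, List.map_append, ih, J_val]
    rfl

omit [NeZero no] [NeZero nj] in
theorem wl_val (hf : Facts D tabs simps) (d : List (Fin D.rank)) (r : Fin D.nroots) :
    ((data hG F).wl d r).val = evWord tabs (d.map Fin.val) r.val :=
  (RootBN.Data.evWord_eq (D := data hG F) (fun i s => ((hf.2.2.2.2.1 i.val i.2).2.2.2.1 s.val s.2).1) d r).symm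

omit [NeZero no] [NeZero nj] in
theorem simp_val (hf : Facts D tabs simps) (k : Fin D.rank) :
    ((data hG F).simp k).val = simps.getD k.val 0 := (hf.2.2.2.2.1 k.val k.2).1

theorem roots_eq : ∀ R : List (Fin nj), (twist hG hO φ).roots R = O.rootsF no nj R
  | [] => rfl
  | j :: R => by
    rw [RootBN.Twist.roots, OrbTab.rootsF, roots_eq R]
    rfl

theorem reduced_iff : ∀ R : List (Fin nj), (twist hG hO φ).Reduced R ↔ O.redF no nj R = true
  | [] => by simp [RootBN.Twist.Reduced, OrbTab.redF]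
  | j :: R => by
    rw [RootBN.Twist.Reduced, OrbTab.redF, reduced_iff R, roots_eq]
    simp [twist]

section orbit

variable {J : List ℕ}

omit hO [NeZero no] [NeZero nj] in
theorem aut_pv {h : G.OK D tabs} (hcol : ∃ c, Valid D c ∧ G.colsOK D c = true) (hJ : CommOK D J)
    (hf : Facts D tabs simps) {f : ℕ → ℕ} (hside : IsSide D f) (a b : ℕ → F)
    (hb : ∀ k ∈ J, b (G.pi.getD k 0) = φ (a k)) :
    GraphTab.aut h φ (pv hG f J a) = pv hG f (J.map fun k => G.pi.getD k 0) b := by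
  rw [pv, pv, map_list_prod, List.map_map, List.map_map]
  refine congrArg List.prod (List.map_congr_left fun k hk => ?_)
  simp only [Function.comp_apply]
  rw [hb k hk]
  have hk' := hJ.1 k hk
  rcases hside with rfl | rfl
  · rw [GraphTab.aut_xe_simple hG h hcol φ hk' (Or.inl rfl), (h.1 k hk').2]
  · rw [GraphTab.aut_xe_simple hG h hcol φ hk' (Or.inr rfl), GraphTab.rho_neg hf h (hG.simple_lt hk'),
      (h.1 k hk').2]

omit hO [NeZero no] [NeZero nj] in
theorem pv_perm {f : ℕ → ℕ} (hside : IsSide D f) (hJ : CommOK D J) {J' : List ℕ} (hp : J.Perm J')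
    (a : ℕ → F) : pv hG f J' a = pv hG f J a := by
  rw [pv, pv]
  refine ((hp.map _).prod_eq' ?_).symm
  rw [List.pairwise_map]
  exact hJ.2.1.imp_of_mem fun hx hy hne => xe_commute hG hJ hx hy hne (hside.mem _) (hside.mem _) _ _

omit hO [NeZero no] [NeZero nj] in
/-- The image of an element with parameters `a` has parameters `φ a` on the rotated nodes. -/
theorem aut_pv_rotate {h : G.OK D tabs} (hcol : ∃ c, Valid D c ∧ G.colsOK D c = true) (hJ : CommOK D J)
    (hf : Facts D tabs simps) (hrot : J.map (fun k => G.pi.getD k 0) = J.rotate 1)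
    {f : ℕ → ℕ} (hside : IsSide D f) (a : ℕ → F) :
    ∃ b : ℕ → F, (∀ k ∈ J, b (G.pi.getD k 0) = φ (a k)) ∧ GraphTab.aut h φ (pv hG f J a) = pv hG f J b := by
  classical
  let b : ℕ → F := fun m => if hm : ∃ k ∈ J, G.pi.getD k 0 = m then φ (a hm.choose) else 0
  have hb : ∀ k ∈ J, b (G.pi.getD k 0) = φ (a k) := by
    intro k hk
    have hm : ∃ x ∈ J, G.pi.getD x 0 = G.pi.getD k 0 := ⟨k, hk, rfl⟩
    simp only [b, dif_pos hm]
    have hnd : (J.map fun k => G.pi.getD k 0).Nodup := by rw [hrot, List.nodup_rotate]; exact hJ.2.1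
    rw [List.inj_on_of_nodup_map hnd hm.choose_spec.1 hk hm.choose_spec.2]
  refine ⟨b, hb, ?_⟩
  rw [aut_pv hG φ hcol hJ hf hside a b hb, pv_perm hG hside hJ]
  rw [hrot]
  exact (List.rotate_perm J 1).symm

omit hO [NeZero no] [NeZero nj] in
theorem pv_compat_iff {h : G.OK D tabs} (hcol : ∃ c, Valid D c ∧ G.colsOK D c = true) (hJ : CommOK D J)
    (hf : Facts D tabs simps) (hn : NegTri D) (hrot : J.map (fun k => G.pi.getD k 0) = J.rotate 1)
    {f : ℕ → ℕ} (hside : IsSide D f) (a : ℕ → F) :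
    GraphTab.aut h φ (pv hG f J a) = pv hG f J a ↔ Compat G φ J a := by
  obtain ⟨b, hb, e⟩ := aut_pv_rotate hG φ (h := h) hcol hJ hf hrot hside a
  have hmem : ∀ k ∈ J, G.pi.getD k 0 ∈ J := fun k hk =>
    List.mem_rotate.1 (hrot ▸ List.mem_map.2 ⟨k, hk, rfl⟩ : G.pi.getD k 0 ∈ J.rotate 1)
  constructor
  · intro hfix k hk
    rw [← hb k hk]
    exact (pv_inj hG hf hn hside hJ (e.symm.trans hfix) (hmem k hk)).symm
  · intro hc
    rw [e]
    refine congrArg List.prod (List.map_congr_left fun k hk => ?_)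
    have hk' : k ∈ J.rotate 1 := List.mem_rotate.2 hk
    rw [← hrot] at hk'
    obtain ⟨m, hm, rfl⟩ := List.mem_map.1 hk'
    rw [hb m hm, hc m hm]

omit hO [NeZero no] [NeZero nj] in
theorem compat_ne_zero (hrot : J.map (fun k => G.pi.getD k 0) = J.rotate 1) {a : ℕ → F}
    (hc : Compat G φ J a) {k : ℕ} (hk : k ∈ J) (h0 : a k = 0) : ∀ m ∈ J, a m = 0 := by
  obtain ⟨i, hi, rfl⟩ := List.mem_iff_getElem.1 hk
  have step : ∀ n, a (J[(i + n) % J.length]'(Nat.mod_lt _ (by omega))) = 0 := by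
    intro n
    induction n with
    | zero => simpa [Nat.mod_eq_of_lt hi] using h0
    | succ n ih =>
      have e : G.pi.getD (J[(i + n) % J.length]'(Nat.mod_lt _ (by omega))) 0 =
          J[(i + (n + 1)) % J.length]'(Nat.mod_lt _ (by omega)) := by
        have h1 : (J.map fun k => G.pi.getD k 0)[(i + n) % J.length]'(by
            rw [List.length_map]; exact Nat.mod_lt _ (by omega)) =
            (J.rotate 1)[(i + n) % J.length]'(by rw [List.length_rotate]; exact Nat.mod_lt _ (by omega)) := by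
          simp only [hrot]
        rw [List.getElem_map, List.getElem_rotate] at h1
        rw [h1]
        congr 1
        rw [Nat.mod_add_mod, Nat.add_assoc]
      rw [← e, hc _ (List.getElem_mem _), ih, map_zero]
  intro m hm
  obtain ⟨l, hl, rfl⟩ := List.mem_iff_getElem.1 hm
  have := step (l + (J.length - i))
  simpa [show i + (l + (J.length - i)) = l + J.length by omega, Nat.mod_eq_of_lt hl] using this

end orbit

variable (hf : Facts D tabs simps) (hn : NegTri D) (hcol : ∃ c, Valid D c ∧ G.colsOK D c = true)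
include hf hn hcol

omit hcol in
theorem Xorb_simp_le {f : ℕ → ℕ} (hside : IsSide D f) (j : Fin nj) (o : Fin no)
    (ho : ∀ r : Fin D.nroots, O.orbF no r.val = o → ∃ k ∈ O.Jl nj j, r.val = f k) {y : GL D.Idx F}
    (hy : y ∈ (twist hG hO φ).Xorb o) : ∃ a, y = pv hG f (O.Jl nj j) a := by
  have _ := hn
  have _ := hf
  have hJ := (hO.2.2.1 j).1
  let S : Subgroup (GL D.Idx F) :=
    { carrier := {y | ∃ a, y = pv hG f (O.Jl nj j) a}
      one_mem' := ⟨_, (pv_zero hG hside hJ).symm⟩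
      mul_mem' := by rintro _ _ ⟨a, rfl⟩ ⟨b, rfl⟩; exact ⟨_, pv_mul hG hside hJ a b⟩
      inv_mem' := by rintro _ ⟨a, rfl⟩; exact ⟨_, pv_inv hG hside hJ a⟩ }
  refine (show (twist hG hO φ).Xorb o ≤ S from iSup₂_le fun r hr z hz => ?_) hy
  obtain ⟨t, rfl⟩ := (mem_rootSubgroup hG r.2).1 hz
  obtain ⟨k, hk, e⟩ := ho r hr
  exact ⟨_, e ▸ (pv_single hG hside hJ hk t).symm⟩

omit hcol in
theorem pv_mem_Xorb {f : ℕ → ℕ} (j : Fin nj) (o : Fin no) (hside : IsSide D f)
    (ho : ∀ k ∈ O.Jl nj j, O.orbF no (f k) = o) (a : ℕ → F) :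
    pv hG f (O.Jl nj j) a ∈ (twist hG hO φ).Xorb o := by
  have _ := hn
  refine list_prod_mem fun x hx => ?_
  obtain ⟨k, hk, rfl⟩ := List.mem_map.1 hx
  have hlt := hside.lt hG ((hO.2.2.1 j).1.1 k hk)
  exact RootBN.Twist.X_le_Xorb (T := twist hG hO φ) (r := ⟨f k, hlt⟩) (ho k hk)
    ((mem_rootSubgroup hG hlt).2 ⟨_, rfl⟩)

include hO in
omit hcol hn in
theorem orb_simple (j : Fin nj) (r : Fin D.nroots) :
    O.orbF no r.val = O.simpF no nj j ↔ ∃ k ∈ O.Jl nj j, r.val = D.simple k := by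
  rw [((hO.2.2.1 j).2.2.2.1 r.val r.2).2.1, List.mem_map]
  constructor
  · rintro ⟨k, hk, e⟩
    exact ⟨k, hk, by rw [(hf.2.2.2.2.1 k ((hO.2.2.1 j).1.1 k hk)).1, e]⟩
  · rintro ⟨k, hk, e⟩
    exact ⟨k, hk, by rw [← (hf.2.2.2.2.1 k ((hO.2.2.1 j).1.1 k hk)).1, e]⟩

omit hcol hn in
theorem orb_neg (r : Fin D.nroots) :
    O.orbF no (D.neg r.val) = (twist hG hO φ).opp' (O.orbF no r.val) := by
  show _ = O.orbF no (D.neg (O.repF no (O.orbF no r.val)))
  rw [neg_eq hf r.2, neg_eq hf (hO.2.1.1 _).1]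
  exact (hO.2.1.2 r.val r.2).2.1

omit hcol hn in
theorem orb_opp_simple (j : Fin nj) (r : Fin D.nroots) :
    O.orbF no r.val = (twist hG hO φ).opp' (O.simpF no nj j) ↔
      ∃ k ∈ O.Jl nj j, r.val = D.neg (D.simple k) := by
  constructor
  · intro h
    have h1 : O.orbF no (D.neg r.val) = O.simpF no nj j := by
      rw [orb_neg hG hO φ hf r, h]
      show O.orbF no (D.neg (O.repF no (O.orbF no (D.neg (O.repF no (O.simpF no nj j)))))) = _
      rw [neg_eq hf (hO.2.1.1 (O.simpF no nj j)).1, neg_eq hf (hO.2.1.1 _).1]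
      have hlt := (hO.2.1.1 (O.simpF no nj j)).1
      rw [← (hO.2.1.2 _ (show D.nroots - 1 - O.repF no (O.simpF no nj j) < D.nroots by omega)).2.1,
        show D.nroots - 1 - (D.nroots - 1 - O.repF no (O.simpF no nj j)) = O.repF no (O.simpF no nj j) by omega,
        (hO.2.1.1 _).2]
    obtain ⟨k, hk, e⟩ := (orb_simple hO hf j ⟨_, hG.neg_lt r.2⟩).1 h1
    exact ⟨k, hk, by rw [← hG.neg_neg r.2]; exact congrArg D.neg e⟩
  · rintro ⟨k, hk, e⟩
    have hk' := hG.simple_lt ((hO.2.2.1 j).1.1 k hk)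
    rw [e, orb_neg hG hO φ hf ⟨_, hk'⟩, (orb_simple hO hf j ⟨_, hk'⟩).2 ⟨k, hk, rfl⟩]

theorem mem_X'_simp_iff (j : Fin nj) {y : GL D.Idx F} :
    y ∈ (twist hG hO φ).X' (O.simpF no nj j) ↔
      ∃ a, Compat G φ (O.Jl nj j) a ∧ y = pv hG D.simple (O.Jl nj j) a := by
  have hS := hO.2.2.1 j
  constructor
  · rintro ⟨h1, h2⟩
    obtain ⟨a, rfl⟩ := Xorb_simp_le hG hO φ hf hn (Or.inl rfl) j _ (fun r hr => (orb_simple hO hf j r).1 hr) h1
    exact ⟨a, (pv_compat_iff hG φ hcol hS.1 hf hn hS.2.2.1 (Or.inl rfl) a).1 h2, rfl⟩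
  · rintro ⟨a, ha, rfl⟩
    refine ⟨pv_mem_Xorb hG hO φ hf hn j _ (Or.inl rfl) (fun k hk => ?_) a,
      (pv_compat_iff hG φ (h := hO.1) hcol hS.1 hf hn hS.2.2.1 (Or.inl rfl) a).2 ha⟩
    exact (orb_simple hO hf j ⟨_, hG.simple_lt (hS.1.1 k hk)⟩).2 ⟨k, hk, rfl⟩

theorem mem_X'_opp_iff (j : Fin nj) {y : GL D.Idx F} :
    y ∈ (twist hG hO φ).X' ((twist hG hO φ).opp' (O.simpF no nj j)) ↔
      ∃ a, Compat G φ (O.Jl nj j) a ∧ y = pv hG (fun k => D.neg (D.simple k)) (O.Jl nj j) a := by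
  have hS := hO.2.2.1 j
  constructor
  · rintro ⟨h1, h2⟩
    obtain ⟨a, rfl⟩ := Xorb_simp_le hG hO φ hf hn (Or.inr rfl) j _
      (fun r hr => (orb_opp_simple hG hO φ hf j r).1 hr) h1
    exact ⟨a, (pv_compat_iff hG φ hcol hS.1 hf hn hS.2.2.1 (Or.inr rfl) a).1 h2, rfl⟩
  · rintro ⟨a, ha, rfl⟩
    refine ⟨pv_mem_Xorb hG hO φ hf hn j _ (Or.inr rfl) (fun k hk => ?_) a,
      (pv_compat_iff hG φ (h := hO.1) hcol hS.1 hf hn hS.2.2.1 (Or.inr rfl) a).2 ha⟩
    exact (orb_opp_simple hG hO φ hf j ⟨_, hG.neg_lt (hG.simple_lt (hS.1.1 k hk))⟩).2 ⟨k, hk, rfl⟩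

omit hf hn hcol in
theorem nn'_eq (j : Fin nj) :
    (twist hG hO φ).nn' j = ((O.Jl nj j).map fun k => ne' hG (D.simple k) (1 : F)).prod := by
  rw [← J_val hG hO φ j, List.map_map]
  rfl

omit hcol hn in
theorem negU_le : RootBN.Twist.negU (data hG F) ≤ D.negUnipotent F := by
  refine iSup₂_le fun r hr y hy => ?_
  obtain ⟨t, rfl⟩ := (mem_rootSubgroup hG r.2).1 hy
  exact Subgroup.subset_closure ⟨_, t, ((hf.2.2.1 r.val r.2).2.2.1).2 (not_le.1 hr), rfl⟩

theorem twist_axioms : (twist hG hO φ).Axioms where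
  base := axioms hG hf
  orb_rep o := (hO.2.1.1 o).2
  pos_orb r := (hO.2.1.2 r.val r.2).1
  opp_orb r := orb_neg hG hO φ hf r
  refl_orb j r := by
    show O.orbF no (((data hG F).wl _ r).val) = O.reflF no nj j (O.orbF no r.val)
    rw [wl_val hG hf, J_val hG hO φ]
    exact ((hO.2.2.1 j).2.2.2.1 r.val r.2).1
  mem_J j r := by
    show O.orbF no r.val = O.simpF no nj j ↔ _
    rw [orb_simple hO hf j r, List.mem_map]
    constructor
    · rintro ⟨k, hk, e⟩
      rw [← J_val hG hO φ j] at hk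
      obtain ⟨k', hk', rfl⟩ := List.mem_map.1 hk
      exact ⟨k', hk', Fin.ext e.symm⟩
    · rintro ⟨k, hk, rfl⟩
      exact ⟨k.val, J_val hG hO φ j ▸ List.mem_map.2 ⟨k, hk, rfl⟩, rfl⟩
  J_ne j h := (hO.2.2.1 j).2.1 (by rw [← J_val hG hO φ j, h]; rfl)
  simp'_inj := hO.2.2.2.1
  refl_simpJ j k hk := Fin.ext (by
    rw [wl_val hG hf, J_val hG hO φ, simp_val hG hf]
    show _ = D.neg (D.simple k.val)
    rw [neg_eq hf (hG.simple_lt k.2), (hf.2.2.2.2.1 k.val k.2).1]
    exact (hO.2.2.1 j).2.2.2.2.1 k.val (J_val hG hO φ j ▸ List.mem_map.2 ⟨k, hk, rfl⟩))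
  pos_refl j r hr hne := by
    show D.nroots / 2 ≤ ((data hG F).wl _ r).val
    rw [wl_val hG hf, J_val hG hO φ]
    exact ((hO.2.2.1 j).2.2.2.1 r.val r.2).2.2 hr hne
  J_sq j k := Fin.ext (by
    rw [wl_val hG hf, List.map_append, J_val hG hO φ, simp_val hG hf]
    exact (hO.2.2.1 j).2.2.2.2.2.1 k.val k.2)
  reach o := (hO.2.2.2.2 o).1
  reach_simp j := (hO.2.2.1 j).2.2.2.2.2.2.2.2.1
  reach_refl i o k := Fin.ext (by
    rw [wl_val hG hf, wl_val hG hf, flat_val hG hO φ, flat_val hG hO φ, simp_val hG hf]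
    exact (hO.2.2.2.2 o).2 i k.val k.2)
  orb_ρ r := (hO.2.1.2 r.val r.2).2.2
  σ_X r y hy := by
    obtain ⟨t, rfl⟩ := (mem_rootSubgroup hG r.2).1 hy
    obtain ⟨e, -, he⟩ := GraphTab.exists_aut_xe hG hf hO.1 hcol φ r.2
    exact (mem_rootSubgroup hG (hO.1.2.1 r.val r.2).1).2 ⟨_, he t⟩
  σ_nn' j := by
    have hS := hO.2.2.1 j
    rw [nn'_eq hG hO φ, map_list_prod, List.map_map]
    rw [show (O.Jl nj j).map (⇑(twist hG hO φ).σ ∘ fun k => ne' hG (D.simple k) (1 : F)) =
        ((O.Jl nj j).map fun k => G.pi.getD k 0).map fun k => ne' hG (D.simple k) (1 : F) by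
      rw [List.map_map]
      refine List.map_congr_left fun k hk => ?_
      simp only [Function.comp_apply]
      show GraphTab.aut hO.1 φ _ = _
      rw [GraphTab.aut_ne'_simple hG hf hO.1 hcol φ (hS.1.1 k hk), map_one]]
    rw [hS.2.2.1]
    refine (((List.rotate_perm (O.Jl nj j) 1).symm.map _).prod_eq' ?_).symm
    rw [List.pairwise_map]
    refine hS.1.2.1.imp_of_mem fun {a b} ha hb hne => ?_
    have hc := fun {r s : ℕ} (hr : r ∈ [D.simple a, D.neg (D.simple a)]) (hs : s ∈ [D.simple b, D.neg (D.simple b)])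
      (t u : F) => xe_commute hG hS.1 ha hb hne hr hs t u
    simp only [ne']
    exact (((hc (by simp) (by simp) _ _).mul_right (hc (by simp) (by simp) _ _)).mul_right
      (hc (by simp) (by simp) _ _)).mul_left
      (((hc (by simp) (by simp) _ _).mul_right (hc (by simp) (by simp) _ _)).mul_right
        (hc (by simp) (by simp) _ _)) |>.mul_left
      (((hc (by simp) (by simp) _ _).mul_right (hc (by simp) (by simp) _ _)).mul_right
        (hc (by simp) (by simp) _ _))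
  nn'_mem j := by
    have hS := hO.2.2.1 j
    have hc : ∀ (c : F), φ c = c → Compat G φ (O.Jl nj j) (fun _ => c) := fun c hc k _ => hc.symm
    have hp : pv hG D.simple (O.Jl nj j) (fun _ => (1 : F)) ∈ (twist hG hO φ).Gt :=
      RootBN.Twist.X'_le_Gt _ ((mem_X'_simp_iff hG hO φ hf hn hcol j).2 ⟨_, hc 1 (map_one φ), rfl⟩)
    have hq : pv hG (fun k => D.neg (D.simple k)) (O.Jl nj j) (fun _ => (-1 : F)) ∈ (twist hG hO φ).Gt :=
      RootBN.Twist.X'_le_Gt _ ((mem_X'_opp_iff hG hO φ hf hn hcol j).2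
        ⟨_, hc (-1) (by rw [map_neg, map_one]), rfl⟩)
    have := Subgroup.mul_mem _ (Subgroup.mul_mem _ hp hq) hp
    rw [pv, pv, ← prod_map_mul_comm _ _ _ hS.1.2.1 (fun a ha b hb hne => xe_commute hG hS.1 ha hb hne
        (by simp) (by simp) _ _),
      ← prod_map_mul_comm _ _ _ hS.1.2.1 (fun a ha b hb hne => (xe_commute hG hS.1 ha hb hne
        (by simp) (by simp) _ _).mul_left (xe_commute hG hS.1 ha hb hne (by simp) (by simp) _ _))] at this
    rw [nn'_eq hG hO φ]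
    simp only [ne', inv_one]
    exact this
  comm_J j k hk k' hk' hne y hy z hz := by
    obtain ⟨t, rfl⟩ := (mem_rootSubgroup hG (hG.simple_lt k.2)).1 hy
    obtain ⟨u, rfl⟩ := (mem_rootSubgroup hG (hG.simple_lt k'.2)).1 hz
    exact xe_commute hG (hO.2.2.1 j).1 (J_val hG hO φ j ▸ List.mem_map.2 ⟨k, hk, rfl⟩)
      (J_val hG hO φ j ▸ List.mem_map.2 ⟨k', hk', rfl⟩) (fun e => hne (Fin.ext e)) (by simp) (by simp) t u
  X'_ne_bot j h := by
    have hS := hO.2.2.1 j
    have hm : pv hG D.simple (O.Jl nj j) (fun _ => (1 : F)) ∈ (twist hG hO φ).X' (O.simpF no nj j) :=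
      (mem_X'_simp_iff hG hO φ hf hn hcol j).2 ⟨_, fun k _ => (map_one φ).symm, rfl⟩
    replace h : (twist hG hO φ).X' (O.simpF no nj j) = ⊥ := h
    rw [h, Subgroup.mem_bot] at hm
    obtain ⟨k, hk⟩ := List.exists_mem_of_ne_nil _ hS.2.1
    exact one_ne_zero (pv_eq_one hG hf hn (Or.inl rfl) hS.1 hm k hk)
  rank_one' j y hy hy1 := by
    have hS := hO.2.2.1 j
    obtain ⟨u, hu, rfl⟩ := (mem_X'_opp_iff hG hO φ hf hn hcol j).1 hy
    have hu0 : ∀ k ∈ O.Jl nj j, u k ≠ 0 := by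
      intro k hk h0
      apply hy1
      have hz := compat_ne_zero φ hS.2.2.1 hu hk h0
      rw [pv, List.prod_eq_one]
      intro x hx
      obtain ⟨m, hm, rfl⟩ := List.mem_map.1 hx
      rw [hz m hm, xe_zero hG (hG.neg_lt (hG.simple_lt (hS.1.1 m hm)))]
    obtain ⟨h, hh, e⟩ := rank_one_pv hG hf hS.1 hu0
    have hm : pv hG D.simple (O.Jl nj j) (fun k => (u k)⁻¹) ∈ (twist hG hO φ).X' (O.simpF no nj j) :=
      (mem_X'_simp_iff hG hO φ hf hn hcol j).2 ⟨_, fun k hk => by rw [hu k hk, map_inv₀], rfl⟩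
    exact ⟨_, hm, h, hh, _, hm, by rw [nn'_eq hG hO φ]; exact e⟩
  B_inf_negU := by
    rw [eq_bot_iff, ← borel_inf_V (F := F) hG hf hn, data_B hG hf]
    exact inf_le_inf_left _ (negU_le hG hf)
  J_nodup j := by
    have := (hO.2.2.1 j).1.2.1
    rw [← J_val hG hO φ j] at this
    exact List.Nodup.of_map _ this
  refl_J j k hk k' hk' hne := Fin.ext (by
    rw [data_refl hG, ((hf.2.2.2.2.1 k.val k.2).2.2.2.1 _ ((data hG F).simp k').2).1, simp_val hG hf]
    exact (hO.2.2.1 j).2.2.2.2.2.2.2.1 k.val (J_val hG hO φ j ▸ List.mem_map.2 ⟨k, hk, rfl⟩) k'.val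
      (J_val hG hO φ j ▸ List.mem_map.2 ⟨k', hk', rfl⟩) (fun e => hne (Fin.ext e)))
  cover j := by
    have hS := hO.2.2.1 j
    refine ⟨O.covF nj j, (reduced_iff hG hO φ _).2 hS.2.2.2.2.2.2.2.2.2.1, fun r hr => not_le.2 ?_⟩
    rw [wl_val hG hf, flat_val hG hO φ]
    exact hS.2.2.2.2.2.2.2.2.2.2 r.val r.2 hr

end Cfsg.Agent.Chev.BNSetup
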