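import Cfsg.Agent.Lib.RootBN.Weighted
import Cfsg.Agent.Lib.Chev.TwistGroup

/-!
# The order of a twisted Chevalley group
-/

set_option autoImplicit false

namespace Cfsg.Agent.RootBN.Twist

variable {M : Type*} [Group M] {ι : Type*} {κ : Type*} {ι' : Type*} {κ' : Type*}
variable {D : Data M ι κ} {T : Twist D ι' κ'}

/-- The number of positive roots in the orbits made negative. -/
noncomputable def weight (T : Twist D ι' κ') (σ : Equiv.Perm ι') : ℕ :=
  {r | D.Pos r ∧ ¬ T.Pos' (σ (T.orb r))}.ncard

variable (hT : T.Axioms)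
include hT

theorem card_fibre_simp (i : κ') : {s : ι | T.orb s = T.simp' i}.ncard = (T.J i).length := by
  classical
  have e : {s : ι | T.orb s = T.simp' i} = ↑((T.J i).map D.simp).toFinset := by
    ext s
    rw [Set.mem_ofPred_eq, hT.mem_J i s, List.mem_map]
    simp
  rw [e, Set.ncard_coe_finset, List.toFinset_card_of_nodup ((hT.J_nodup i).map hT.base.simp_inj),
    List.length_map]

theorem isWeight [Finite ι] : Data.IsWeight T.data T.weight fun i => (T.J i).length where
  one := by
    rw [weight, show {r | D.Pos r ∧ ¬ T.Pos' ((1 : Equiv.Perm ι') (T.orb r))} = ∅ from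
      Set.eq_empty_of_forall_notMem fun r hr => hr.2 ((hT.pos_orb r).1 hr.1), Set.ncard_empty]
  step i l hpos := by
    classical
    set σ := T.data.wl l with hσ
    have hset : {r | D.Pos r ∧ ¬ T.Pos' ((T.data.refl i * σ) (T.orb r))} =
        {r | D.Pos r ∧ ¬ T.Pos' (σ (T.orb r))} ∪ {r | σ (T.orb r) = T.simp' i} := by
      ext r
      simp only [Equiv.Perm.mul_apply, Set.mem_setOf_eq, Set.mem_union]
      show D.Pos r ∧ ¬ T.Pos' (T.refl' i (σ (T.orb r))) ↔ _
      constructor
      · rintro ⟨hr, h⟩
        by_cases hp : T.Pos' (σ (T.orb r))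
        · refine Or.inr ?_
          by_contra hne
          exact h (refl'_pos hT hp hne)
        · exact Or.inl ⟨hr, hp⟩
      · rintro (⟨hr, h⟩ | h)
        · refine ⟨hr, fun h' => ?_⟩
          have hne : T.refl' i (σ (T.orb r)) ≠ T.simp' i := by
            intro e
            have e2 : σ (T.orb r) = T.opp' (T.simp' i) := by
              have := congrArg (T.refl' i) e
              rwa [refl'_refl' hT, refl'_simp' hT] at this
            have e3 : T.orb r = T.opp' (σ⁻¹ (T.simp' i)) := by
              have := congrArg (fun o => σ⁻¹ o) e2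
              simp only [Equiv.Perm.inv_def, Equiv.symm_apply_apply] at this
              rw [this, ← Equiv.Perm.inv_def, hσ, ← Data.wl_reverse (data_axioms hT), wl'_opp hT]
            have hp' := (hT.pos_orb r).1 hr
            change T.Pos' (T.orb r) at hp'
            rw [e3, opp'_pos hT] at hp'
            exact hp' hpos
          exact h (by rw [← refl'_refl' hT i (σ (T.orb r))]; exact refl'_pos hT h' hne)
        · have e : T.orb r = σ⁻¹ (T.simp' i) := by rw [← h]; simp
          refine ⟨(hT.pos_orb r).2 (show T.Pos' (T.orb r) from e ▸ hpos), ?_⟩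
          rw [h, refl'_simp' hT, opp'_pos hT, not_not]
          exact simp'_pos hT i
    show {r | D.Pos r ∧ ¬ T.Pos' ((T.data.refl i * σ) (T.orb r))}.ncard = _ + _
    rw [hset, Set.ncard_union_eq ?_ (Set.toFinite _) (Set.toFinite _)]
    · congr 1
      rw [show {r | σ (T.orb r) = T.simp' i} = D.wl (T.flat l) ⁻¹' {s | T.orb s = T.simp' i} by
        ext r; simp [orb_wl hT, hσ], Set.ncard_preimage_of_injective_subset_range (Equiv.injective _)
          (by rw [(Equiv.surjective _).range_eq]; exact Set.subset_univ _), card_fibre_simp hT]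
    · rw [Set.disjoint_left]
      rintro r ⟨-, h⟩ h'
      exact h (h' ▸ simp'_pos hT i)

theorem card_Gt [Finite ι] [Finite ι'] [Finite M] [Nonempty κ'] {q : ℕ}
    (hq : ∀ j, Nat.card (T.X' (T.simp' j)) = q ^ (T.J j).length) :
    Nat.card T.Gt = Nat.card ↥(D.U ⊓ T.Gt) * Nat.card ↥(D.H ⊓ T.Gt) * ∑ σ ∈ T.data.weyl, q ^ T.weight σ := by
  rw [inf_Gt_U hT, show T.Gt = T.data.grp from rfl,
    Data.card_grp_weight (data_axioms hT) (isWeight hT) (q := q) hq, card_B' hT]
  rfl

end Cfsg.Agent.RootBN.Twist

namespace Cfsg.Agent.Chev.BNSetup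

open Cfsg.Lie

variable {D : ChevalleyDatum} (hG : Good D) {G : GraphTab} {O : OrbTab} {no nj : ℕ} [NeZero no] [NeZero nj]
  {tabs simps : List ℕ} (hO : O.OK no nj D G tabs simps) {F : Type*} [Field F] [Fintype F] (φ : F ≃+* F)
  (hf : Facts D tabs simps) (hn : NegTri D) (hcol : ∃ c, Valid D c ∧ G.colsOK D c = true)
include hf hn hcol

/-- `|G¹| = q ^ N |H¹| P(q)`. -/
theorem card_Gt_eq {q : ℕ}
    (hcard : ∀ j, Nat.card ((twist hG hO φ).X' (O.simpF no nj j)) = q ^ (O.Jl nj j).length) {N : ℕ}
    (hN : ((O.rootsF no nj ((0 : Fin nj) :: O.covF nj 0)).map fun o =>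
      (O.Jl nj (O.reachF no nj o).2).length).sum = N)
    (Ls : List (RootBN.WLevel no nj)) (hLs : Ls.length = nj)
    (hok : RootBN.WLevel.AllOk (O.reflF no nj) (O.simpF no nj)
      (fun o => O.orbF no (D.nroots - 1 - O.repF no o))
      (fun o => decide (D.nroots / 2 ≤ O.repF no o)) 0 Ls) :
    Nat.card (twist hG hO φ).Gt = q ^ N * Nat.card ↥(D.diagonalSubgroup F ⊓ (twist hG hO φ).Gt) *
      RootBN.WLevel.poly (fun j => (O.Jl nj j).length) q Ls := by
  classical
  haveI : Nonempty (Fin nj) := ⟨0⟩
  haveI : Finite (GL D.Idx F) := inferInstance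
  have hT := twist_axioms hG hO φ hf hn hcol
  have hlen : ∀ j, ((twist hG hO φ).J j).length = (O.Jl nj j).length := fun j => by
    rw [← J_val hG hO φ j, List.length_map]
  rw [RootBN.Twist.card_Gt hT (q := q) (fun j => by rw [hlen]; exact hcard j), data_U hG hf,
    card_U_inf hG hO φ hf hn hcol hcard 0, hN,
    RootBN.Data.sum_weyl_of_wlevels (RootBN.Twist.data_axioms hT) (RootBN.Twist.isWeight hT)
      (refl := O.reflF no nj) (simp := O.simpF no nj)
      (opp := fun o => O.orbF no (D.nroots - 1 - O.repF no o))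
      (pos := fun o => decide (D.nroots / 2 ≤ O.repF no o))
      (fun i r => rfl) (fun i => rfl)
      (fun o => by
        show O.orbF no (D.neg (O.repF no o)) = _
        rw [neg_eq hf (hO.2.1.1 o).1])
      (fun o => by rw [decide_eq_true_eq]; rfl) Ls hLs hok]
  simp only [hlen]
  rfl

end Cfsg.Agent.Chev.BNSetup
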