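/-
The order of the outer automorphism group of a twisted Chevalley group with abelian fundamental orbit subgroups.
-/
import Cfsg.Agent.Lib.Chev.TwistAutNormal
import Cfsg.Agent.Lib.Chev.AutOut

set_option autoImplicit false

namespace Cfsg.Agent.Chev.BNSetup

open Cfsg.Lie
open Cfsg.Agent.RootBN (Data mapG)

variable {D : ChevalleyDatum} (hG : Good D) {F : Type*} [Field F]
  {G : GraphTab} {O : OrbTab} {no nj : ℕ} [NeZero no] [NeZero nj] {tabs simps : List ℕ}
  (hO : O.OK no nj D G tabs simps) (φ : F ≃+* F)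
  (hf : Facts D tabs simps) (hn : NegTri D) (hcol : ∃ c, Valid D c ∧ G.colsOK D c = true)
include hG hO hf hn hcol

/-- Conjugation by a torus element of the twisted group. -/
theorem torus_orbSends {a : Fin D.rank → Fˣ} (k : ↥(twist hG hO φ).Gt) (hk : (k : GL D.Idx F) = torusHom F D a)
    (j : Fin nj) : OrbSends hG hO φ hf hn hcol (MulAut.conj k) (nodeVal (cartanHom F D a)) id j := by
  intro b _ y
  have hpos : ∀ m ∈ O.Jl nj j, (torusChar D a (D.simple m) : F) = nodeVal (cartanHom F D a) m := fun m hm => by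
    rw [nodeVal_of_lt _ ((hO.2.2.1 j).1.1 m hm), cartanHom_apply]
  have hneg : ∀ m ∈ O.Jl nj j, (torusChar D a (D.neg (D.simple m)) : F) = (nodeVal (cartanHom F D a) m)⁻¹ :=
    fun m hm => by
      rw [← hpos m hm, ← Units.val_inv_eq_inv_val]
      congr 1
      rw [torusChar, torusChar, ← Finset.prod_inv_distrib]
      exact Finset.prod_congr rfl fun i _ => by
        rw [cartan_neg_out hG i.2 (hG.simple_lt ((hO.2.2.1 j).1.1 m hm)), zpow_neg]
  refine ⟨fun hy => ?_, fun hy => ?_⟩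
  · show (k : GL D.Idx F) * (y : GL D.Idx F) * (k : GL D.Idx F)⁻¹ = _
    rw [hy, hk]
    exact scale_side hG (fun m hm t => by
      rw [torusHom_conj hG a _ (hG.simple_lt ((hO.2.2.1 j).1.1 m hm)), hpos m hm]) b
  · show (k : GL D.Idx F) * (y : GL D.Idx F) * (k : GL D.Idx F)⁻¹ = _
    rw [hy, hk]
    exact scale_side hG (fun m hm t => by
      show torusHom F D a * xe hG (D.neg (D.simple m)) t * _ = _
      rw [torusHom_conj hG a _ (hG.neg_lt (hG.simple_lt ((hO.2.2.1 j).1.1 m hm))), hneg m hm]) b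

theorem torus_mem_twist_H (hall : ∀ k < D.rank, ∃ j : Fin nj, k ∈ O.Jl nj j) {a : Fin D.rank → Fˣ}
    (ha : a ∈ fixedTorus hO φ) : torusHom F D a ∈ (twist hG hO φ).data.H :=
  ⟨(diagonal_eq_range hG).ge ⟨a, rfl⟩, map_fixedTorus_le hG hO φ hf hcol hn hall ⟨a, ha, rfl⟩⟩

theorem cartanHom_mem_fixedTorus (hall : ∀ k < D.rank, ∃ j : Fin nj, k ∈ O.Jl nj j) {a : Fin D.rank → Fˣ}
    (ha : a ∈ fixedTorus hO φ) : cartanHom F D a ∈ fixedTorus hO φ := by
  have hT := twist_axioms hG hO φ hf hn hcol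
  have ax := RootBN.Twist.data_axioms hT
  have hH := torus_mem_twist_H hG hO φ hf hn hcol hall ha
  refine (mem_fixedTorus hO φ).2 fun i => Units.ext ?_
  obtain ⟨j, hj⟩ := hall i.val i.2
  have hpk : G.pi.getD i.val 0 ∈ O.Jl nj j :=
    List.mem_rotate.1 ((hO.2.2.1 j).2.2.1 ▸ List.mem_map.2 ⟨i.val, hj, rfl⟩ :
      G.pi.getD i.val 0 ∈ (O.Jl nj j).rotate 1)
  have h1 : Compat G φ (O.Jl nj j) (fun _ => (1 : F)) := fun k _ => (map_one φ).symm
  obtain ⟨b, hb, e⟩ := (mem_X'_simp_iff hG hO φ hf hn hcol j).1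
    (ax.H_conj _ _ hH _ ((mem_X'_simp_iff hG hO φ hf hn hcol j).2 ⟨_, h1, rfl⟩))
  have e2 : torusHom F D a * pv hG D.simple (O.Jl nj j) (fun _ => (1 : F)) * (torusHom F D a)⁻¹ =
      pv hG D.simple (O.Jl nj j) (fun m => nodeVal (cartanHom F D a) m * id (1 : F)) :=
    ((torus_orbSends hG hO φ hf hn hcol ⟨_, hH.2⟩ rfl j) _ h1
      ⟨_, (pv_mem_Gt hG hO φ hf hn hcol j h1).1⟩).1 rfl
  have hbv : ∀ m ∈ O.Jl nj j, b m = nodeVal (cartanHom F D a) m := fun m hm => by
    have := pv_inj hG hf hn (Or.inl rfl) (hO.2.2.1 j).1 (e.symm.trans e2) hm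
    simpa using this
  show (cartanHom F D a (nodePerm hO i) : F) = φ (cartanHom F D a i : F)
  rw [← nodeVal_of_lt _ (nodePerm hO i).2, ← nodeVal_of_lt _ i.2, nodePerm_val, ← hbv _ hpk, ← hbv _ hj]
  exact hb i.val hj

/-- The Cartan map on the fixed torus. -/
noncomputable def cartanT (hall : ∀ k < D.rank, ∃ j : Fin nj, k ∈ O.Jl nj j) : fixedTorus hO φ →* fixedTorus hO φ :=
  ((cartanHom F D).comp (fixedTorus hO φ).subtype).codRestrict _
    fun a => cartanHom_mem_fixedTorus hG hO φ hf hn hcol hall a.2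

theorem index_cartanT [Finite F] (hall : ∀ k < D.rank, ∃ j : Fin nj, k ∈ O.Jl nj j) :
    (cartanT hG hO φ hf hn hcol hall).range.index =
      Nat.card ↥((torusHom F D).ker ⊓ fixedTorus hO φ) := by
  set c := cartanT hG hO φ hf hn hcol hall
  have hk : Nat.card c.ker = Nat.card ↥((torusHom F D).ker ⊓ fixedTorus hO φ) := by
    have h : ∀ x : fixedTorus hO φ, x ∈ c.ker ↔ x.1 ∈ (torusHom F D).ker := fun x => by
      rw [MonoidHom.mem_ker, mem_ker_torusHom hG, Subtype.ext_iff]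
      show cartanHom F D x.1 = 1 ↔ _
      exact funext_iff
    exact Nat.card_congr ⟨fun x => ⟨x.1.1, (h x.1).1 x.2, x.1.2⟩, fun x => ⟨⟨x.1, x.2.2⟩, (h _).2 x.2.1⟩,
      fun x => rfl, fun x => rfl⟩
  have h1 : Nat.card c.ker * Nat.card c.range = Nat.card (fixedTorus hO φ) := by
    rw [← Subgroup.index_ker, Subgroup.card_mul_index]
  have h2 := c.range.card_mul_index
  have h3 : (0 : ℕ) < Nat.card c.range := Nat.card_pos
  rw [← h1, mul_comm (Nat.card c.ker)] at h2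
  rw [← hk]
  exact Nat.eq_of_mul_eq_mul_left h3 h2

/-- The order of the outer automorphism group. -/
theorem card_out_twist [Fintype F] {p : ℕ} [Fact p.Prime] [CharP F p]
    (hD : D ∈ [chevG2, chevB2, chevD4, chevF4, chevE6, chevE7, chevE8]) (hN : NodeComm D) {dd : ℕ}
    {B : List (List ℤ)} (hC : CoefFact D dd B) (hall : ∀ k < D.rank, ∃ j : Fin nj, k ∈ O.Jl nj j) {m d : ℕ}
    (hcop : Nat.Coprime m d) (hπ : ∀ i, (nodePerm hO)^[m] i = i) (hφm : ∀ x, φ^[m] x = x) (Bm : ℕ → ℕ → ℤ)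
    (hBm : ∀ k i : Fin D.rank,
      ∑ j : Fin D.rank, Bm j k * D.cartan i.val (D.simple j.val) = if i = k then (d : ℤ) else 0)
    (hcomm : ∀ (σ : F ≃+* F) x, σ (φ x) = φ (σ x)) {w : Fin nj → ℕ}
    (hq : ∀ j, Nat.card ((twist hG hO φ).data.X ((twist hG hO φ).data.simp j)) = p ^ w j)
    (hperm : ∀ (θ : ↥(twist hG hO φ).Gt ≃* ↥(twist hG hO φ).Gt) (ρ : Equiv.Perm (Fin nj)),
      (∀ i, mapG θ ((twist hG hO φ).data.X ((twist hG hO φ).data.simp i)) =
        (twist hG hO φ).data.X ((twist hG hO φ).data.simp (ρ i))) → (∀ i, w (ρ i) = w i) → ρ = 1)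
    (hsigma : ∀ θ f g, IsNormal hG hO φ hf hn hcol θ f g →
      ∃ σ : F ≃+* F, ∀ j t, InFld O nj φ j t → f j t = σ t ∧ g j t = σ t)
    (j0 : Fin nj) (hfull : ∀ t, InFld O nj φ j0 t) :
    Nat.card (Cfsg.Out ↥(twist hG hO φ).Gt) =
      Nat.card ↥((torusHom F D).ker ⊓ fixedTorus hO φ) * Nat.card (F ≃+* F) := by
  classical
  have hT := twist_axioms hG hO φ hf hn hcol
  have ax := RootBN.Twist.data_axioms hT
  rw [← index_cartanT hG hO φ hf hn hcol hall, Subgroup.index, ← Nat.card_prod]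
  set C := cartanT hG hO φ hf hn hcol hall with hCdef
  choose dg hdg using fun τ : fixedTorus hO φ => exists_diag hG hO φ hf hn hcol hD hC τ.2
  choose fa hfa using fun σ : F ≃+* F => exists_field hG hO φ hf hn hcol σ (hcomm σ)
  set Pf : (fixedTorus hO φ ⧸ C.range) × (F ≃+* F) → MulAut ↥(twist hG hO φ).Gt :=
    fun z => (fa z.2).trans (dg z.1.out) with hPf
  have h1c : ∀ j, Compat G φ (O.Jl nj j) (fun _ => (1 : F)) := fun j k _ => (map_one φ).symm
  have hsend : ∀ z j, OrbSends hG hO φ hf hn hcol (Pf z) (nodeVal z.1.out.1) z.2 j := by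
    intro z j
    have h : OrbSends hG hO φ hf hn hcol ((fa z.2).trans (dg z.1.out))
        (fun k => nodeVal z.1.out.1 k * (RingHom.id F) 1) (fun x => (RingHom.id F) (z.2.toRingHom x)) j :=
      OrbSends.trans hG hO φ hf hn hcol (s := z.2.toRingHom) (s' := RingHom.id F) (hfa z.2 j) (hdg z.1.out j)
        (h1c j) (hcomm z.2)
    simp only [RingHom.id_apply, mul_one] at h
    exact h
  refine (Nat.card_congr (Equiv.ofBijective
    (fun z => (QuotientGroup.mk (Pf z) : Cfsg.Out ↥(twist hG hO φ).Gt)) ⟨?_, ?_⟩)).symm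
  · intro z z' h
    obtain ⟨k, hk⟩ := QuotientGroup.eq.1 h
    have hx : ∀ y, Pf z' y = Pf z k * Pf z y * (Pf z k)⁻¹ := fun y => by
      rw [eq_inv_mul_iff_mul_eq] at hk
      rw [← hk]
      show Pf z (k * y * k⁻¹) = _
      simp only [map_mul, map_inv]
    set x := Pf z k with hxdef
    obtain ⟨l₀, hl₀, hVB⟩ := twist_longest hG hO φ hf hn hcol
    have hxv : ∀ y, (x : GL D.Idx F) * (Pf z y : ↥(twist hG hO φ).Gt) * (x : GL D.Idx F)⁻¹ =
        ((Pf z' y : ↥(twist hG hO φ).Gt) : GL D.Idx F) := fun y => (congrArg Subtype.val (hx y)).symm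
    have hcz : ∀ (z : (fixedTorus hO φ ⧸ C.range) × (F ≃+* F)) j,
        Compat G φ (O.Jl nj j) (fun k => nodeVal z.1.out.1 k * z.2 1) ∧
        Compat G φ (O.Jl nj j) (fun k => (nodeVal z.1.out.1 k)⁻¹ * z.2 1) := fun z j =>
      ⟨fun k hk => by beta_reduce; rw [map_one, mul_one, mul_one, compat_nodeVal hO φ z.1.out.2 j k hk],
        fun k hk => by
          beta_reduce
          rw [map_one, mul_one, mul_one, map_inv₀, compat_nodeVal hO φ z.1.out.2 j k hk]⟩
    have hxH : (x : GL D.Idx F) ∈ (twist hG hO φ).data.H := by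
      refine Data.mem_H_of_conj_simp ax hl₀ hVB x.2 (fun i => ?_) (fun i => ?_)
      · set y : ↥(twist hG hO φ).Gt := ⟨_, (pv_mem_Gt hG hO φ hf hn hcol i (h1c i)).1⟩
        refine ⟨_, (mem_X'_simp_iff hG hO φ hf hn hcol i).2
          ⟨_, (hcz z i).1, (hsend z i _ (h1c i) y).1 rfl⟩, fun e => ?_, ?_⟩
        · rw [(hsend z i _ (h1c i) y).1 rfl] at e
          have := pv_eq_one hG hf hn (Or.inl rfl) (hO.2.2.1 i).1 e _ (List.head_mem (hO.2.2.1 i).2.1)
          simp [nodeVal_ne_zero] at this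
        · rw [hxv]
          exact Data.X_simp_le_B ax i ((mem_X'_simp_iff hG hO φ hf hn hcol i).2
            ⟨_, (hcz z' i).1, (hsend z' i _ (h1c i) y).1 rfl⟩)
      · set y : ↥(twist hG hO φ).Gt := ⟨_, (pv_mem_Gt hG hO φ hf hn hcol i (h1c i)).2⟩
        refine ⟨_, (mem_X'_opp_iff hG hO φ hf hn hcol i).2
          ⟨_, (hcz z i).2, (hsend z i _ (h1c i) y).2 rfl⟩, fun e => ?_, i, ?_⟩
        · rw [(hsend z i _ (h1c i) y).2 rfl] at e
          have := pv_eq_one hG hf hn (Or.inr rfl) (hO.2.2.1 i).1 e _ (List.head_mem (hO.2.2.1 i).2.1)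
          simp [nodeVal_ne_zero] at this
        · rw [hxv]
          exact (mem_X'_opp_iff hG hO φ hf hn hcol i).2 ⟨_, (hcz z' i).2, (hsend z' i _ (h1c i) y).2 rfl⟩
    obtain ⟨a, ha, hae⟩ := fixed_diagonal_le hG hO φ hf hcol hcop hπ hφm Bm hBm hxH.1
      (RootBN.Twist.mem_Fix.1 (RootBN.Twist.Gt_le_Fix x.2))
    have hcx := fun j => torus_orbSends hG hO φ hf hn hcol x hae.symm j
    have key : ∀ j, ∀ b, Compat G φ (O.Jl nj j) b → ∀ k ∈ O.Jl nj j,
        nodeVal z'.1.out.1 k * z'.2 (b k) =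
          nodeVal (cartanHom F D a) k * (nodeVal z.1.out.1 k * z.2 (b k)) := by
      intro j b hb k hk
      set y : ↥(twist hG hO φ).Gt := ⟨_, (pv_mem_Gt hG hO φ hf hn hcol j hb).1⟩
      have hc : Compat G φ (O.Jl nj j) (fun k => nodeVal z.1.out.1 k * z.2 (b k)) := fun k hk => by
        beta_reduce; rw [map_mul, compat_nodeVal hO φ z.1.out.2 j k hk, ← hcomm, hb k hk]
      have e1 := (hcx j _ hc (Pf z y)).1 ((hsend z j _ hb y).1 rfl)
      rw [show MulAut.conj x (Pf z y) = Pf z' y from (hx y).symm, (hsend z' j _ hb y).1 rfl] at e1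
      exact pv_inj hG hf hn (Or.inl rfl) (hO.2.2.1 j).1 e1 hk
    have hτ : z'.1.out = C ⟨a, ha⟩ * z.1.out := Subtype.ext (funext fun i => Units.ext (by
      obtain ⟨j, hj⟩ := hall i.val i.2
      have h := key j _ (h1c j) _ hj
      rw [map_one, map_one, mul_one, mul_one, nodeVal_of_lt _ i.2, nodeVal_of_lt _ i.2, nodeVal_of_lt _ i.2] at h
      exact h))
    obtain ⟨q, σ⟩ := z
    obtain ⟨q', σ'⟩ := z'
    simp only at key hτ
    obtain rfl : q' = q := by
      rw [← QuotientGroup.out_eq' q, ← QuotientGroup.out_eq' q', QuotientGroup.eq, hτ]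
      exact ⟨(⟨a, ha⟩ : fixedTorus hO φ)⁻¹, by rw [map_inv]; simp [mul_comm]⟩
    have hhead := List.head_mem (hO.2.2.1 j0).2.1
    have hone := key j0 _ (h1c j0) _ hhead
    simp only [map_one, mul_one] at hone
    have hone' : nodeVal (cartanHom F D a) ((O.Jl nj j0).head (hO.2.2.1 j0).2.1) = 1 :=
      (mul_eq_right₀ (nodeVal_ne_zero _ _)).1 hone.symm
    refine Prod.ext rfl (RingEquiv.ext fun t => ?_)
    have h2 := key j0 _ (TwoGen.compat_ext hO φ (hfull t)) _ hhead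
    rw [TwoGen.ext_head, hone', one_mul] at h2
    exact (mul_left_cancel₀ (nodeVal_ne_zero _ _) h2).symm
  · intro θq
    obtain ⟨θ, rfl⟩ := QuotientGroup.mk_surjective θq
    obtain ⟨x, ρ, ρ', h1, h2, hw⟩ := exists_orbit_perm hG hO φ hf hn hcol hq θ
    obtain rfl := hperm _ ρ h1 hw
    simp only [Equiv.Perm.one_apply] at h1
    obtain rfl := opp_perm_eq_one hG hO φ hf hn hcol hN h1 h2
    simp only [Equiv.Perm.one_apply] at h2
    obtain ⟨τ, hτ, dd', θ', f, g, hd', hθ, hnorm⟩ := exists_scaled hG hO φ hf hn hcol hD hC hall h1 h2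
    obtain ⟨σ, hσ⟩ := hsigma θ' f g hnorm
    have hθ' : θ' = fa σ := OrbSends.eq hG hO φ hf hn hcol
      (fun j => IsNormal.orbSends hG hO φ hf hn hcol hnorm j (σ := σ.toRingHom) (hcomm σ) (hσ j)) (hfa σ)
    set q : fixedTorus hO φ ⧸ C.range := QuotientGroup.mk (⟨τ, hτ⟩ : fixedTorus hO φ) with hqdef
    obtain ⟨⟨_, a, rfl⟩, ha⟩ := QuotientGroup.mk_out_eq_mul C.range (⟨τ, hτ⟩ : fixedTorus hO φ)
    set k : ↥(twist hG hO φ).Gt :=
      ⟨torusHom F D a.1, (torus_mem_twist_H hG hO φ hf hn hcol hall a.2).2⟩ with hkdef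
    have hdg' : dg q.out = dd'.trans (MulAut.conj k) := by
      refine OrbSends.eq hG hO φ hf hn hcol (hdg q.out) fun j => ?_
      have h : OrbSends hG hO φ hf hn hcol (dd'.trans (MulAut.conj k))
          (fun m => nodeVal (cartanHom F D a.1) m * (RingHom.id F) (nodeVal τ m))
          (fun x => (RingHom.id F) ((RingHom.id F) x)) j :=
        OrbSends.trans hG hO φ hf hn hcol (s := RingHom.id F) (s' := RingHom.id F) (hd' j)
          (torus_orbSends hG hO φ hf hn hcol k rfl j) (compat_nodeVal hO φ hτ j) (fun _ => rfl)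
      simp only [RingHom.id_apply] at h
      have e : nodeVal (q.out : fixedTorus hO φ).1 = fun m => nodeVal (cartanHom F D a.1) m * nodeVal τ m := by
        funext m
        rw [show (q.out : fixedTorus hO φ).1 = τ * cartanHom F D a.1 from congrArg Subtype.val ha, nodeVal_mul,
          mul_comm]
      rw [e]
      exact h
    refine ⟨⟨q, σ⟩, ?_⟩
    have h3 : θ = MulAut.conj (x⁻¹ * k⁻¹) * Pf ⟨q, σ⟩ := by
      refine MulEquiv.ext fun y => ?_
      have e := DFunLike.congr_fun hθ y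
      simp only [MulEquiv.trans_apply, MulAut.conj_apply] at e
      rw [hθ'] at e
      simp only [hPf, hdg', MulAut.mul_apply, MulAut.conj_apply, MulEquiv.trans_apply, ← e]
      group
    have hinn : (QuotientGroup.mk (MulAut.conj (x⁻¹ * k⁻¹)) : Cfsg.Out ↥(twist hG hO φ).Gt) = 1 :=
      (QuotientGroup.eq_one_iff _).2 (MonoidHom.mem_range.2 ⟨_, rfl⟩)
    show (QuotientGroup.mk (Pf ⟨q, σ⟩) : Cfsg.Out ↥(twist hG hO φ).Gt) = QuotientGroup.mk θ
    exact (((congrArg (fun e : MulAut ↥(twist hG hO φ).Gt => (QuotientGroup.mk e : Cfsg.Out ↥(twist hG hO φ).Gt)) h3).trans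
      (QuotientGroup.mk_mul _ _ _)).trans ((congrArg (· * _) hinn).trans (one_mul _))).symm

end Cfsg.Agent.Chev.BNSetup
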