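/-
The orders of the outer automorphism groups of `³D₄(q)` and `²E₆(q)`.
-/
import Cfsg.Agent.Lib.Chev.TwistOut
import Cfsg.Agent.Lib.Chev.AutOutCounts
import Cfsg.Agent.Lib.Chev.TwistTorusD4
import Cfsg.Agent.Lib.Chev.TwistTorusE6

set_option autoImplicit false

namespace Cfsg.Agent.Chev.BNSetup

open Cfsg.Lie
open Cfsg.Agent.RootBN (Data mapG)
open Cfsg.Agent.TwoGen (ext' compat_ext mu)

variable {K : Type*} [Field K]

/-- In the units of a finite field of order `a * b` the elements killed by `a` are `b`-th powers. -/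
theorem exists_pow_eq_of_pow [Fintype K] {a b : ℕ} (hab : Fintype.card K - 1 = a * b) {t : K} (ht0 : t ≠ 0)
    (ht : t ^ a = 1) : ∃ u : K, u ≠ 0 ∧ u ^ b = t := by
  classical
  obtain ⟨g, hg⟩ := IsCyclic.exists_generator (α := Kˣ)
  obtain ⟨n, hn⟩ := (mem_powers_iff_mem_zpowers.2 (hg (Units.mk0 t ht0)))
  simp only at hn
  have hord : orderOf g = a * b := by
    rw [orderOf_eq_card_of_forall_mem_zpowers hg, Nat.card_eq_fintype_card, Fintype.card_units, hab]
  have h1 : g ^ (n * a) = 1 := by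
    rw [pow_mul, hn]; exact Units.ext (by simpa using ht)
  have hdvd := orderOf_dvd_of_pow_eq_one h1
  rw [hord] at hdvd
  have ha : 0 < a := Nat.pos_of_ne_zero fun h => by
    have := Fintype.one_lt_card (α := K)
    rw [h, zero_mul] at hab
    omega
  obtain ⟨m, rfl⟩ : b ∣ n := Nat.dvd_of_mul_dvd_mul_right ha (by rwa [mul_comm b a])
  refine ⟨((g ^ m : Kˣ) : K), Units.ne_zero _, ?_⟩
  rw [← Units.val_pow_eq_pow_val, ← pow_mul, mul_comm, hn, Units.val_mk0]

theorem d4_orbit_numbers :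
    chevD4.cartan 0 (chevD4.simple 1) = -1 ∧ chevD4.cartan 2 (chevD4.simple 1) = -1 ∧
      chevD4.cartan 3 (chevD4.simple 1) = -1 := by decide +kernel

theorem card_out_D4_twist [Fintype K] {p f : ℕ} [Fact p.Prime] [CharP K p] (hf : 1 ≤ f)
    (hK : Fintype.card K = p ^ (3 * f)) :
    Nat.card (Cfsg.Out ↥(twistedD4 K (p ^ f))) = 3 * f := by
  have hp := (Fact.out : p.Prime)
  have hK' : Fintype.card K = (p ^ f) ^ 3 := by rw [hK, ← pow_mul, mul_comm]
  obtain ⟨φ, hφ, hGt, hcube, hcard⟩ :=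
    exists_frob3 (K := K) (hp.isPrimePow.pow (by omega)) hK'
  rw [← hGt]
  have hD : chevD4 ∈ [chevG2, chevB2, chevD4, chevF4, chevE6, chevE7, chevE8] := by simp
  obtain ⟨dd, Bc, hC, hN⟩ := exists_autCerts hD
  have hfull : ∀ t, InFld orbD4 2 φ 1 t := fun t => hcube t
  have hmain := card_out_twist D4.good orbD4_ok φ facts_chevD4 negTri_chevD4 graphD4_cols hD hN hC
    (by decide +kernel) (m := 3) (d := 2) (by norm_num)
    (by show ∀ i : Fin 4, _; intro i; fin_cases i <;> rfl) hcube invCartanD4 (by decide +kernel)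
    (fun σ x => by rw [hφ, hφ, map_pow]) (w := fun j => f * (orbD4.Jl 2 j).length)
    (fun j => (card_X'_D4 hK' hcube hcard j).trans (pow_mul p f _).symm) ?_ ?_ 1 hfull
  · refine hmain.trans ?_
    rw [ker_inf_fixedTorusD4, Subgroup.card_bot, one_mul, card_fieldAuts (by omega) hK]
  · intro θ ρ _ hw
    refine Equiv.ext fun i => ?_
    have h := Nat.eq_of_mul_eq_mul_left (show 0 < f by omega) (hw i)
    revert h
    generalize ρ i = r
    revert r
    revert i
    decide +kernel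
  · intro θ g g' hn'
    obtain ⟨σ, hσ⟩ := IsNormal.exists_sigma D4.good orbD4_ok φ facts_chevD4 negTri_chevD4 graphD4_cols hn' 1 hfull
    have hcom : ∀ x, σ (φ x) = φ (σ x) := fun x => by rw [hφ, hφ, map_pow]
    have h1 := IsNormal.extend D4.good orbD4_ok φ facts_chevD4 negTri_chevD4 graphD4_cols hn' (i := 1) (j := 0)
      (σ := σ.toRingHom) hcom
      (IsNormal.orbSends D4.good orbD4_ok φ facts_chevD4 negTri_chevD4 graphD4_cols hn' 1 hcom fun t _ => hσ t)
      (IsNormal.g_one D4.good orbD4_ok φ facts_chevD4 negTri_chevD4 graphD4_cols hn' 0 (k := 1) rfl) ?_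
    · refine ⟨σ, fun j t ht => ?_⟩
      fin_cases j
      · exact h1 t ht
      · exact hσ t
    · intro t ht ht0
      have ht1 : t ^ p ^ f = t := by rw [← hφ]; exact ht
      have ht2 : t⁻¹ ^ (p ^ f - 1) = 1 := by
        have h : t ^ (p ^ f - 1) = 1 := mul_right_cancel₀ ht0 (by
          rw [← pow_succ, Nat.sub_add_cancel (Nat.one_le_pow _ _ hp.pos), ht1, one_mul])
        rw [inv_pow, h, inv_one]
      have hab : Fintype.card K - 1 = (p ^ f - 1) * (1 + p ^ f + (p ^ f) ^ 2) := by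
        rw [hK']
        obtain ⟨n, hn⟩ : ∃ n, p ^ f = n + 1 := ⟨p ^ f - 1, by have := Nat.one_le_pow f p hp.pos; omega⟩
        rw [hn, Nat.add_sub_cancel, Nat.sub_eq_iff_eq_add (Nat.one_le_pow 3 (n + 1) n.succ_pos)]
        ring
      obtain ⟨u, hu0, hu⟩ := exists_pow_eq_of_pow hab (inv_ne_zero ht0) ht2
      refine ⟨ext' φ (orbD4.Jl 2 1) u, compat_ext orbD4_ok φ (hfull u), fun k _ => fun e => hu0
        ((φ.injective.iterate _) (e.trans (iterate_map_zero φ _).symm)), ?_⟩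
      obtain ⟨c0, c2, c3⟩ := d4_orbit_numbers
      show ((orbD4.Jl 2 1).map fun m => ext' φ (orbD4.Jl 2 1) u m ^ chevD4.cartan m (chevD4.simple 1)).prod = t
      rw [show orbD4.Jl 2 1 = [0, 2, 3] from rfl]
      simp only [List.map_cons, List.map_nil, List.prod_cons, List.prod_nil, mul_one, c0, c2, c3]
      show u ^ (-1 : ℤ) * (φ u ^ (-1 : ℤ) * φ (φ u) ^ (-1 : ℤ)) = t
      rw [zpow_neg_one, zpow_neg_one, zpow_neg_one, hφ, hφ, ← inv_inv t, ← hu]
      rw [← mul_inv, ← mul_inv]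
      ring

theorem e6_orbit_numbers :
    chevE6.cartan 2 (chevE6.simple 0) = -1 ∧ chevE6.cartan 4 (chevE6.simple 0) = 0 ∧
    chevE6.cartan 2 (chevE6.simple 3) = -1 ∧ chevE6.cartan 4 (chevE6.simple 3) = -1 ∧
    chevE6.cartan 3 (chevE6.simple 1) = -1 := by decide +kernel

theorem e6_orbit_shape :
    orbE6.reflF 48 4 1 (orbE6.simpF 48 4 2) ≠ orbE6.simpF 48 4 2 ∧
    (∀ i j : Fin 4, i.val + 2 ≤ j.val → ∀ k ∈ orbE6.Jl 4 i, ∀ k' ∈ orbE6.Jl 4 j, chevE6.bonds k k' = 0) ∧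
    (∀ i r : Fin 4, (orbE6.Jl 4 r).length = (orbE6.Jl 4 i).length → (r.val / 2 = i.val / 2)) := by
  decide +kernel

theorem orbE6_perm : ∀ r : Fin 4 → Fin 4, (∀ i, (r i).val / 2 = i.val / 2) → (∀ i j, r i = r j → i = j) →
    (∀ i j : Fin 4, i.val + 2 ≤ j.val → ¬ (r i = 1 ∧ r j = 2) ∧ ¬ (r i = 2 ∧ r j = 1)) → ∀ i, r i = i := by
  decide +kernel

theorem card_out_E6_twist [Fintype K] {p f : ℕ} [Fact p.Prime] [CharP K p] (hf : 1 ≤ f)
    (hK : Fintype.card K = p ^ (2 * f)) :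
    Nat.card (Cfsg.Out ↥(twistedE6 K (p ^ f))) = 2 * Nat.gcd 3 (p ^ f + 1) * f := by
  have hp := (Fact.out : p.Prime)
  have hK' : Fintype.card K = (p ^ f) ^ 2 := by rw [hK, ← pow_mul, mul_comm]
  obtain ⟨φ, hφ, hGt, hinv, hcard⟩ :=
    exists_frob2 (K := K) (hp.isPrimePow.pow (by omega)) hK'
  rw [← hGt]
  have hD : chevE6 ∈ [chevG2, chevB2, chevD4, chevF4, chevE6, chevE7, chevE8] := by simp
  obtain ⟨dd, Bc, hC, hN⟩ := exists_autCerts hD
  obtain ⟨hrefl, hbond, hlen⟩ := e6_orbit_shape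
  have hfull : ∀ j : Fin 4, 2 ≤ j.val → ∀ t, InFld orbE6 4 φ j t := by
    intro j hj t
    fin_cases j
    · simp at hj
    · simp at hj
    · exact hinv t
    · exact hinv t
  have hmain := card_out_twist E6.good orbE6_ok φ facts_chevE6 negTri_chevE6 graphE6_cols hD hN hC
    (by decide +kernel) (m := 2) (d := 3) (by norm_num)
    (by show ∀ i : Fin 6, _; intro i; fin_cases i <;> rfl) hinv invCartanE6 (by decide +kernel)
    (fun σ x => by rw [hφ, hφ, map_pow]) (w := fun j => f * (orbE6.Jl 4 j).length)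
    (fun j => (card_X'_E6 hK' hinv hcard j).trans (pow_mul p f _).symm) ?_ ?_ 2 (hfull 2 le_rfl)
  · refine hmain.trans ?_
    rw [card_ker_inf_fixedTorusE6 (pow_pos hp.pos f) hK' hφ hinv, card_fieldAuts (by omega) hK]
    ring
  · intro θ ρ hθ hw
    refine Equiv.ext (orbE6_perm ρ (fun i => hlen i _ (Nat.eq_of_mul_eq_mul_left (show 0 < f by omega) (hw i)))
      (fun i j h => ρ.injective h) fun i j hij => ?_)
    have ax := RootBN.Twist.data_axioms (tw2E6_axioms φ)
    obtain ⟨y, hy, z, hz, hyz⟩ := Data.exists_not_commute_simp (D := (tw2E6 φ).data) ax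
      (i := 1) (j := 2) (by decide) hrefl fun y hy z hz => by
        obtain ⟨a, -, rfl⟩ := (mem_X'_opp_iff E6.good orbE6_ok φ facts_chevE6 negTri_chevE6 graphE6_cols 1).1 hy
        obtain ⟨b, -, rfl⟩ := (mem_X'_simp_iff E6.good orbE6_ok φ facts_chevE6 negTri_chevE6 graphE6_cols 2).1 hz
        exact (commute_simp_opp E6.good orbE6_ok facts_chevE6 negTri_chevE6 graphE6_cols hN (by decide) b a).eq.symm
    have hcomm : ∀ u ∈ (tw2E6 φ).data.X ((tw2E6 φ).data.simp (ρ i)),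
        ∀ v ∈ (tw2E6 φ).data.X ((tw2E6 φ).data.simp (ρ j)), u * v = v * u := by
      intro u hu v hv
      obtain ⟨u0, hu0, rfl⟩ := RootBN.exists_of_mem_mapG θ ((hθ i).ge hu)
      obtain ⟨v0, hv0, rfl⟩ := RootBN.exists_of_mem_mapG θ ((hθ j).ge hv)
      obtain ⟨a, -, ea⟩ := (mem_X'_simp_iff E6.good orbE6_ok φ facts_chevE6 negTri_chevE6 graphE6_cols i).1 hu0
      obtain ⟨b, -, eb⟩ := (mem_X'_simp_iff E6.good orbE6_ok φ facts_chevE6 negTri_chevE6 graphE6_cols j).1 hv0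
      have hc : u0 * v0 = v0 * u0 := Subtype.ext (by
        rw [Subgroup.coe_mul, Subgroup.coe_mul, ea, eb]
        exact (commute_simp_simp E6.good orbE6_ok facts_chevE6 negTri_chevE6 graphE6_cols hN
          (fun e => by rw [e] at hij; omega) (hbond i j hij) a b).eq)
      rw [← Subgroup.coe_mul, ← Subgroup.coe_mul, ← map_mul, ← map_mul, hc]
    refine ⟨fun ⟨e1, e2⟩ => hyz (hcomm y (e1 ▸ hy) z (e2 ▸ hz)),
      fun ⟨e1, e2⟩ => hyz (hcomm z (e1 ▸ hz) y (e2 ▸ hy)).symm⟩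
  · intro θ g g' hn'
    obtain ⟨σ, hσ⟩ := IsNormal.exists_sigma E6.good orbE6_ok φ facts_chevE6 negTri_chevE6 graphE6_cols hn' 2
      (hfull 2 le_rfl)
    obtain ⟨σ', hσ'⟩ := IsNormal.exists_sigma E6.good orbE6_ok φ facts_chevE6 negTri_chevE6 graphE6_cols hn' 3
      (hfull 3 (by decide))
    have hcom : ∀ x, σ (φ x) = φ (σ x) := fun x => by rw [hφ, hφ, map_pow]
    obtain ⟨c20, c40, c23, c43, c31⟩ := e6_orbit_numbers
    have hne : ∀ (j : Fin 4) (u : K), u ≠ 0 → ∀ k ∈ orbE6.Jl 4 j, ext' φ (orbE6.Jl 4 j) u k ≠ 0 :=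
      fun j u hu k _ e => hu ((φ.injective.iterate _) (e.trans (iterate_map_zero φ _).symm))
    have hs := fun j h => IsNormal.orbSends E6.good orbE6_ok φ facts_chevE6 negTri_chevE6 graphE6_cols hn' j
      (σ := σ.toRingHom) hcom h
    have h3 := IsNormal.extend E6.good orbE6_ok φ facts_chevE6 negTri_chevE6 graphE6_cols hn' (i := 2) (j := 3)
      (σ := σ.toRingHom) hcom (hs 2 fun t _ => hσ t) ((hσ' 1).2.trans (map_one σ')) ?_
    · have h1 := IsNormal.extend E6.good orbE6_ok φ facts_chevE6 negTri_chevE6 graphE6_cols hn' (i := 2) (j := 1)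
        (σ := σ.toRingHom) hcom (hs 2 fun t _ => hσ t)
        (IsNormal.g_one E6.good orbE6_ok φ facts_chevE6 negTri_chevE6 graphE6_cols hn' 1 (k := 3) rfl) ?_
      · have h0 := IsNormal.extend E6.good orbE6_ok φ facts_chevE6 negTri_chevE6 graphE6_cols hn' (i := 1) (j := 0)
          (σ := σ.toRingHom) hcom (hs 1 h1)
          (IsNormal.g_one E6.good orbE6_ok φ facts_chevE6 negTri_chevE6 graphE6_cols hn' 0 (k := 1) rfl) ?_
        · refine ⟨σ, fun j t ht => ?_⟩
          fin_cases j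
          · exact h0 t ht
          · exact h1 t ht
          · exact hσ t
          · exact h3 t ht
        · intro t ht ht0
          refine ⟨ext' φ (orbE6.Jl 4 1) t⁻¹, compat_ext orbE6_ok φ (?_ : φ t⁻¹ = t⁻¹),
            hne 1 _ (inv_ne_zero ht0), ?_⟩
          · rw [map_inv₀, show φ t = t from ht]
          · show ((orbE6.Jl 4 1).map fun m => ext' φ (orbE6.Jl 4 1) t⁻¹ m ^ chevE6.cartan m (chevE6.simple 1)).prod = t
            rw [show orbE6.Jl 4 1 = [3] from rfl]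
            simp [c31, ext']
      · intro t ht ht0
        have ht1 : t ^ p ^ f = t := by rw [← hφ]; exact ht
        have ht2 : t⁻¹ ^ (p ^ f - 1) = 1 := by
          have h : t ^ (p ^ f - 1) = 1 := mul_right_cancel₀ ht0 (by
            rw [← pow_succ, Nat.sub_add_cancel (Nat.one_le_pow _ _ hp.pos), ht1, one_mul])
          rw [inv_pow, h, inv_one]
        have hab : Fintype.card K - 1 = (p ^ f - 1) * (1 + p ^ f) := by
          rw [hK']
          obtain ⟨n, hn⟩ : ∃ n, p ^ f = n + 1 := ⟨p ^ f - 1, by have := Nat.one_le_pow f p hp.pos; omega⟩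
          rw [hn, Nat.add_sub_cancel, Nat.sub_eq_iff_eq_add (Nat.one_le_pow 2 (n + 1) n.succ_pos)]
          ring
        obtain ⟨u, hu0, hu⟩ := exists_pow_eq_of_pow hab (inv_ne_zero ht0) ht2
        refine ⟨ext' φ (orbE6.Jl 4 2) u, compat_ext orbE6_ok φ (hinv u), hne 2 u hu0, ?_⟩
        show ((orbE6.Jl 4 2).map fun m => ext' φ (orbE6.Jl 4 2) u m ^ chevE6.cartan m (chevE6.simple 3)).prod = t
        rw [show orbE6.Jl 4 2 = [2, 4] from rfl]
        simp only [List.map_cons, List.map_nil, List.prod_cons, List.prod_nil, mul_one, c23, c43]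
        show u ^ (-1 : ℤ) * φ u ^ (-1 : ℤ) = t
        rw [zpow_neg_one, zpow_neg_one, hφ, ← inv_inv t, ← hu, ← mul_inv]
        ring
    · intro t ht ht0
      refine ⟨ext' φ (orbE6.Jl 4 2) t⁻¹, compat_ext orbE6_ok φ (hinv _), hne 2 _ (inv_ne_zero ht0), ?_⟩
      show ((orbE6.Jl 4 2).map fun m => ext' φ (orbE6.Jl 4 2) t⁻¹ m ^ chevE6.cartan m (chevE6.simple 0)).prod = t
      rw [show orbE6.Jl 4 2 = [2, 4] from rfl]
      simp [c20, c40, ext']

end Cfsg.Agent.Chev.BNSetup
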