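import Cfsg.Agent.Lib.Chev.TwistTorus
import Cfsg.Agent.Lib.Chev.SL2
import Cfsg.Agent.Lib.Chev.AutRigid

/-!
# The rank one groups of a twisted Chevalley group as images of `SL₂`

* `RankRep`: a homomorphism of `SL₂(L)` with the fixed root elements of a simple orbit as images of the
  unitriangular elements;
* `exists_torus_of_mem_diagonal`: the torus elements in the image are the images of the diagonal ones;
* `injective`: the homomorphism is injective when the fixed part of the kernel of the torus map has odd order.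
-/

set_option autoImplicit false

namespace Cfsg.Agent.Chev.BNSetup

open Cfsg.Lie Matrix
open Cfsg.Agent.RootBN (Data)
open scoped MatrixGroups

variable {D : ChevalleyDatum} (hG : Good D) {G : GraphTab} {O : OrbTab} {no nj : ℕ} [NeZero no] [NeZero nj]
  {tabs simps : List ℕ} (hO : O.OK no nj D G tabs simps) {F : Type*} [Field F] (φ : F ≃+* F)

/-- A homomorphism of `SL₂` onto the rank one group of a simple orbit. -/
structure RankRep (O : OrbTab) (G : GraphTab) (nj : ℕ) (j : Fin nj) (L : Type*) [Field L] where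
  /-- the parameters of the nodes -/
  e : ℕ → L →+* F
  /-- the homomorphism -/
  ρ : SL(2, L) →* GL D.Idx F
  compat : ∀ t, Compat G φ (O.Jl nj j) fun k => e k t
  surj : ∀ a : ℕ → F, Compat G φ (O.Jl nj j) a → ∃ t, ∀ k ∈ O.Jl nj j, a k = e k t
  upper : ∀ t, ρ (upperSL t) = pv hG D.simple (O.Jl nj j) fun k => e k t
  lower : ∀ t, ρ (lowerSL t) = pv hG (fun k => D.neg (D.simple k)) (O.Jl nj j) fun k => e k t

namespace RankRep

omit [NeZero no] [NeZero nj] in
theorem nSL_eq {L : Type*} [Field L] {t : L} (ht : t ≠ 0) :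
    torusSL t = upperSL t * lowerSL (-t⁻¹) * upperSL t * (upperSL (-1) * lowerSL 1 * upperSL (-1)) := by
  apply Subtype.ext
  simp only [SpecialLinearGroup.coe_mul, coe_torusSL ht]
  ext i j
  fin_cases i <;> fin_cases j <;> simp [coe_upperSL, coe_lowerSL, Matrix.mul_apply, Fin.sum_univ_two, ht]

omit [NeZero no] [NeZero nj] in
theorem flipSL_eq {L : Type*} [Field L] :
    (flipSL : SL(2, L)) = upperSL 1 * lowerSL (-1) * upperSL 1 := by
  apply Subtype.ext
  ext i j
  fin_cases i <;> fin_cases j <;>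
    simp [coe_upperSL, coe_lowerSL, coe_flipSL, SpecialLinearGroup.coe_mul, Matrix.mul_apply, Fin.sum_univ_two]

variable {hG φ} {j : Fin nj} {L : Type*} [Field L] (R : RankRep hG φ O G nj j L)

include hO in
theorem map_n (t : L) : R.ρ (upperSL t * lowerSL (-t⁻¹) * upperSL t) =
    ((O.Jl nj j).map fun k => ne' hG (D.simple k) (R.e k t)).prod := by
  have hS := hO.2.2.1 j
  simp only [map_mul, R.upper, R.lower, pv]
  rw [← prod_map_mul_comm _ _ _ hS.1.2.1 (fun a ha b hb hne => xe_commute hG hS.1 ha hb hne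
      (by simp) (by simp) _ _),
    ← prod_map_mul_comm _ _ _ hS.1.2.1 (fun a ha b hb hne => (xe_commute hG hS.1 ha hb hne
      (by simp) (by simp) _ _).mul_left (xe_commute hG hS.1 ha hb hne (by simp) (by simp) _ _))]
  simp only [ne', map_neg, map_inv₀]

include hO in
theorem map_flip : R.ρ flipSL = (twist hG hO φ).nn' j := by
  rw [nn'_eq hG hO φ, flipSL_eq, show (-1 : L) = -(1 : L)⁻¹ by rw [inv_one], R.map_n hO]
  simp

variable (hf : Facts D tabs simps) (hn : NegTri D) (hcol : ∃ c, Valid D c ∧ G.colsOK D c = true)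
include hO hf hn hcol

theorem map_torus {t : L} (ht : t ≠ 0) :
    R.ρ (torusSL t) = ((O.Jl nj j).map fun k => he hG (D.simple k) (R.e k t)).prod := by
  have hS := hO.2.2.1 j
  rw [nSL_eq ht, map_mul, R.map_n hO, show upperSL (-1 : L) * lowerSL 1 * upperSL (-1) =
    upperSL (-1 : L) * lowerSL (-(-1)⁻¹) * upperSL (-1) by rw [inv_neg, inv_one, neg_neg], R.map_n hO]
  simp only [he, map_neg, map_one]
  exact (prod_map_mul_comm _ _ _ hS.1.2.1
    fun x hx y hy hne => ne'_commute hG hf hcol hn hS.1 hx hy hne _ _).symm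

theorem range_eq : R.ρ.range = (twist hG hO φ).X' (O.simpF no nj j) ⊔
    (twist hG hO φ).X' ((twist hG hO φ).opp' (O.simpF no nj j)) := by
  have hup : ∀ t, R.ρ (upperSL t) ∈ (twist hG hO φ).X' (O.simpF no nj j) ⊔
      (twist hG hO φ).X' ((twist hG hO φ).opp' (O.simpF no nj j)) := fun t =>
    Subgroup.mem_sup_left ((mem_X'_simp_iff hG hO φ hf hn hcol j).2 ⟨_, R.compat t, R.upper t⟩)
  have hlo : ∀ t, R.ρ (lowerSL t) ∈ (twist hG hO φ).X' (O.simpF no nj j) ⊔
      (twist hG hO φ).X' ((twist hG hO φ).opp' (O.simpF no nj j)) := fun t =>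
    Subgroup.mem_sup_right ((mem_X'_opp_iff hG hO φ hf hn hcol j).2 ⟨_, R.compat t, R.lower t⟩)
  refine le_antisymm ?_ (sup_le ?_ ?_)
  · rintro _ ⟨g, rfl⟩
    have hle : Subgroup.closure (Set.range (upperSL (F := L)) ∪ {flipSL}) ≤
        Subgroup.comap R.ρ ((twist hG hO φ).X' (O.simpF no nj j) ⊔
          (twist hG hO φ).X' ((twist hG hO φ).opp' (O.simpF no nj j))) := ?_
    exact hle (eq_upper_torus_lower g)
    rw [Subgroup.closure_le]
    rintro _ (⟨t, rfl⟩ | rfl)
    · exact hup t
    · rw [SetLike.mem_coe, Subgroup.mem_comap, flipSL_eq (L := L), map_mul, map_mul]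
      exact Subgroup.mul_mem _ (Subgroup.mul_mem _ (hup _) (hlo _)) (hup _)
  · intro y hy
    obtain ⟨a, ha, rfl⟩ := (mem_X'_simp_iff hG hO φ hf hn hcol j).1 hy
    obtain ⟨t, ht⟩ := R.surj a ha
    exact ⟨upperSL t, (R.upper t).trans (congrArg List.prod (List.map_congr_left fun k hk => by rw [ht k hk]))⟩
  · intro y hy
    obtain ⟨a, ha, rfl⟩ := (mem_X'_opp_iff hG hO φ hf hn hcol j).1 hy
    obtain ⟨t, ht⟩ := R.surj a ha
    exact ⟨lowerSL t, (R.lower t).trans (congrArg List.prod (List.map_congr_left fun k hk => by rw [ht k hk]))⟩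

theorem eq_zero_of_upper {t : L} (h : R.ρ (upperSL t) = 1) : t = 0 := by
  have hS := hO.2.2.1 j
  obtain ⟨k, hk⟩ := List.exists_mem_of_ne_nil _ hS.2.1
  rw [R.upper] at h
  exact (R.e k).injective ((pv_eq_one hG hf hn (Or.inl rfl) hS.1 h k hk).trans (map_zero _).symm)

theorem torus_mem {t : L} (ht : t ≠ 0) : R.ρ (torusSL t) ∈ (twist hG hO φ).data.H := by
  refine ⟨?_, ?_⟩
  · rw [R.map_torus hO hf hn hcol ht]
    refine list_prod_mem fun x hx => ?_
    obtain ⟨k, hk, rfl⟩ := List.mem_map.1 hx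
    exact he_mem_H hG (hG.simple_lt ((hO.2.2.1 j).1.1 k hk)) ((map_ne_zero (R.e k)).2 ht)
  · rw [R.map_torus hO hf hn hcol ht]
    exact prod_he_mem_Gt hG hO φ hf hcol hn j (R.compat t)

/-- The torus elements in the image are the images of the diagonal elements. -/
theorem exists_torus_of_mem_diagonal {g : SL(2, L)} (hg : R.ρ g ∈ (twist hG hO φ).data.H) :
    ∃ a, a ≠ 0 ∧ g = torusSL a := by
  have hT := twist_axioms hG hO φ hf hn hcol
  have ax := RootBN.Twist.data_axioms hT
  have hX : ∀ t, R.ρ (upperSL t) ∈ (twist hG hO φ).data.U := fun t =>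
    Data.X_le_U (D := (twist hG hO φ).data) (ax.pos_simp j)
      ((mem_X'_simp_iff hG hO φ hf hn hcol j).2 ⟨_, R.compat t, R.upper t⟩)
  rcases (sl2Rels_SL (F := L)).normalForm (eq_upper_torus_lower g) with ⟨α, a, ha, e⟩ | ⟨α, s, β, hs, e⟩
  · refine ⟨a, ha, ?_⟩
    have h1 : R.ρ (upperSL α) ∈ (twist hG hO φ).data.U ⊓ (twist hG hO φ).data.H := by
      refine ⟨hX α, ?_⟩
      rw [show upperSL α = g * (torusSL a)⁻¹ by rw [e, mul_inv_cancel_right], map_mul, map_inv]
      exact Subgroup.mul_mem _ hg (Subgroup.inv_mem _ (R.torus_mem hO hf hn hcol ha))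
    haveI : Nonempty (Fin nj) := ⟨j⟩
    have h2 : R.ρ (upperSL α) = 1 := by
      have h3 : R.ρ (upperSL α) ∈ (data hG F).U ⊓ (data hG F).H :=
        ⟨RootBN.Twist.U'_le_U hT h1.1, h1.2.1⟩
      rwa [RootBN.Twist.U_inf_H hT, Subgroup.mem_bot] at h3
    rw [e, R.eq_zero_of_upper hO hf hn hcol h2, (sl2Rels_SL (F := L)).x_zero, one_mul]
  · exfalso
    refine Data.nn_not_mem_B ax j ?_
    show (twist hG hO φ).nn' j ∈ (twist hG hO φ).data.B
    rw [← R.map_flip hO, show (flipSL : SL(2, L)) =
      (upperSL α * torusSL s)⁻¹ * g * (upperSL β)⁻¹ by rw [e]; group]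
    simp only [map_mul, map_inv]
    exact Subgroup.mul_mem _ (Subgroup.mul_mem _ (Subgroup.inv_mem _ (Subgroup.mul_mem _
      (Data.U_le_B (hX α)) (Data.H_le_B (R.torus_mem hO hf hn hcol hs)))) (Data.H_le_B hg))
      (Subgroup.inv_mem _ (Data.U_le_B (hX β)))

omit hO hf hn hcol

/-- The point of the torus belonging to a diagonal element. -/
noncomputable def torusPt (a : Lˣ) : Fin D.rank → Fˣ := fun i =>
  if i.val ∈ O.Jl nj j then Units.map (R.e i.val : L →* F) a else 1

include hO in
theorem torusPt_mem_fixed (a : Lˣ) : R.torusPt a ∈ fixedTorus hO φ := by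
  have hS := hO.2.2.1 j
  refine (mem_fixedTorus hO φ).2 fun i => ?_
  have hiff : (nodePerm hO i).val ∈ O.Jl nj j ↔ i.val ∈ O.Jl nj j := by
    rw [nodePerm_val]
    constructor
    · intro h
      rw [← List.mem_rotate (n := 1), ← hS.2.2.1, List.mem_map] at h
      obtain ⟨m, hm, e⟩ := h
      have : nodePerm hO ⟨m, hS.1.1 m hm⟩ = nodePerm hO i := Fin.ext (by rw [nodePerm_val, nodePerm_val]; exact e)
      exact Fin.val_eq_of_eq ((nodePerm hO).injective this) ▸ hm
    · intro h
      rw [← List.mem_rotate (n := 1), ← hS.2.2.1, List.mem_map]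
      exact ⟨_, h, rfl⟩
  simp only [torusPt]
  by_cases hi : i.val ∈ O.Jl nj j
  · rw [if_pos hi, if_pos (hiff.2 hi)]
    apply Units.ext
    simp only [Units.coe_map, MonoidHom.coe_coe, nodePerm_val]
    exact R.compat (a : L) i.val hi
  · rw [if_neg hi, if_neg (fun h => hi (hiff.1 h)), map_one]

include hO hf hn hcol

theorem torusHom_torusPt (a : Lˣ) : torusHom F D (R.torusPt a) = R.ρ (torusSL (a : L)) := by
  rw [R.map_torus hO hf hn hcol a.ne_zero]
  have key : ∀ J : List ℕ, (∀ k ∈ J, k < D.rank) → J.Nodup →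
      torusHom F D (fun i : Fin D.rank => if i.val ∈ J then Units.map (R.e i.val : L →* F) a else 1) =
        (J.map fun k => he hG (D.simple k) (R.e k a)).prod := by
    intro J
    induction J with
    | nil => intro _ _; simp [show (fun _ : Fin D.rank => (1 : Fˣ)) = 1 from rfl]
    | cons k J ih =>
      intro hlt hnd
      rw [List.nodup_cons] at hnd
      have hk := hlt k List.mem_cons_self
      rw [List.map_cons, List.prod_cons, ← ih (fun x hx => hlt x (List.mem_cons_of_mem _ hx)) hnd.2,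
        show R.e k (a : L) = ((Units.map (R.e k : L →* F) a : Fˣ) : F) from rfl,
        show D.simple k = D.simple (⟨k, hk⟩ : Fin D.rank).val from rfl, ← torusHom_single hG, ← map_mul]
      congr 1
      funext i
      by_cases hik : i = ⟨k, hk⟩
      · subst hik; simp [hnd.1]
      · have : i.val ≠ k := fun h => hik (Fin.ext h)
        simp [hik, this]
  exact key _ (hO.2.2.1 j).1.1 (hO.2.2.1 j).1.2.1

theorem injective (hodd : Odd (Nat.card ↥((torusHom F D).ker ⊓ fixedTorus hO φ))) :
    Function.Injective R.ρ := by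
  classical
  rw [injective_iff_map_eq_one]
  intro g hg
  obtain ⟨a, ha, rfl⟩ := R.exists_torus_of_mem_diagonal hO hf hn hcol (g := g) (hg ▸ Subgroup.one_mem _)
  have h2 : a * a = 1 := by
    have h := congrArg R.ρ ((sl2Rels_SL (F := L)).conj a 1 ha)
    rw [map_mul, map_mul, hg, one_mul, mul_one, mul_one] at h
    have h' : R.ρ (upperSL (-1) * upperSL (a * a)) = 1 := by
      rw [map_mul, ← h, ← map_mul, (sl2Rels_SL (F := L)).add, neg_add_cancel,
        (sl2Rels_SL (F := L)).x_zero, map_one]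
    rw [(sl2Rels_SL (F := L)).add] at h'
    have h'' := R.eq_zero_of_upper hO hf hn hcol h'
    exact (neg_add_eq_zero.1 h'').symm
  have hmem : R.torusPt (Units.mk0 a ha) ∈ (torusHom F D).ker ⊓ fixedTorus hO φ :=
    ⟨MonoidHom.mem_ker.2 ((R.torusHom_torusPt hO hf hn hcol _).trans hg), R.torusPt_mem_fixed hO _⟩
  have hp : R.torusPt (Units.mk0 a ha) ^ Nat.card ↥((torusHom F D).ker ⊓ fixedTorus hO φ) = 1 := by
    have := congrArg Subtype.val (pow_card_eq_one' (x := (⟨_, hmem⟩ : ↥((torusHom F D).ker ⊓ fixedTorus hO φ))))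
    simpa using this
  obtain ⟨k, hk⟩ := List.exists_mem_of_ne_nil _ (hO.2.2.1 j).2.1
  have hpk := congrArg Units.val (congrFun hp ⟨k, (hO.2.2.1 j).1.1 k hk⟩)
  simp only [Pi.pow_apply, Pi.one_apply, torusPt, hk, if_true, Units.val_pow_eq_pow_val, Units.coe_map,
    MonoidHom.coe_coe, Units.val_mk0, Units.val_one, ← map_pow] at hpk
  obtain ⟨m, hm⟩ := hodd
  have h3 := (R.e k).injective (hpk.trans (map_one _).symm)
  rw [hm, pow_succ, pow_mul, sq, h2, one_pow, one_mul] at h3
  rw [h3, (sl2Rels_SL (F := L)).h_one]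

end RankRep

section constructors

variable {φ}

/-- The representation of an orbit of one fixed node. -/
theorem exists_rep_single {j : Fin nj} {k : ℕ} (hk : k < D.rank) (hJ : O.Jl nj j = [k])
    (hpi : G.pi.getD k 0 = k) :
    Nonempty (RankRep hG φ O G nj j ↥(RingHom.eqLocusField (φ : F →+* F) (RingHom.id F))) := by
  obtain ⟨ρ, h1, h2⟩ := hG.exists_sl2_hom (F := F) (hG.simple_lt hk)
  set L := RingHom.eqLocusField (φ : F →+* F) (RingHom.id F)
  refine ⟨⟨fun _ => L.subtype, ρ.comp (SpecialLinearGroup.map L.subtype), fun t k' hk' => ?_, fun a ha => ?_,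
    fun t => ?_, fun t => ?_⟩⟩
  · exact (show φ (t : F) = t from t.2).symm
  · have := ha k (by rw [hJ]; exact List.mem_cons_self)
    rw [hpi] at this
    exact ⟨⟨a k, this.symm⟩, fun k' hk' => by rw [hJ, List.mem_singleton] at hk'; rw [hk']; rfl⟩
  · have : SpecialLinearGroup.map L.subtype (upperSL t) = upperSL (t : F) := by
      apply Subtype.ext; ext a b; fin_cases a <;> fin_cases b <;> simp [coe_upperSL]
    rw [MonoidHom.comp_apply, this, h1, pv, hJ, List.map_singleton, List.prod_singleton, ← xe_eq_xg hG]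
    rfl
  · have : SpecialLinearGroup.map L.subtype (lowerSL t) = lowerSL (t : F) := by
      apply Subtype.ext; ext a b; fin_cases a <;> fin_cases b <;> simp [coe_lowerSL]
    rw [MonoidHom.comp_apply, this, h2, pv, hJ, List.map_singleton, List.prod_singleton, ← xe_eq_xg hG]
    rfl

include hO in
/-- The representation of an orbit of two nodes. -/
theorem exists_rep_pair (hinv : ∀ x, φ (φ x) = x) {j : Fin nj} {k k' : ℕ} (hJ : O.Jl nj j = [k, k'])
    (hpi : G.pi.getD k 0 = k') (hpi' : G.pi.getD k' 0 = k) :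
    Nonempty (RankRep hG φ O G nj j F) := by
  have hS := (hO.2.2.1 j).1
  have hk : k ∈ O.Jl nj j := by rw [hJ]; simp
  have hk' : k' ∈ O.Jl nj j := by rw [hJ]; simp
  have hne : k ≠ k' := by
    intro e
    have := hS.2.1
    rw [hJ, e] at this
    simp at this
  obtain ⟨ρ, h1, h2⟩ := hG.exists_sl2_hom (F := F) (hG.simple_lt (hS.1 k hk))
  obtain ⟨ρ', h1', h2'⟩ := hG.exists_sl2_hom (F := F) (hG.simple_lt (hS.1 k' hk'))
  have hcomm : ∀ g g', Commute (ρ g) (ρ' g') := by
    intro g g'
    have hg := hG.range_sl2_hom h1 h2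
    have hg' := hG.range_sl2_hom h1' h2'
    have hle : ρ.range ≤ Subgroup.centralizer (ρ'.range : Set (GL D.Idx F)) := by
      rw [hg, hg']
      have step : ∀ r ∈ [D.simple k, D.neg (D.simple k)],
          D.rootSubgroup F r ≤ Subgroup.centralizer
            ((D.rootSubgroup F (D.simple k') ⊔ D.rootSubgroup F (D.neg (D.simple k')) : Subgroup _) : Set (GL D.Idx F)) := by
        intro r hr x hx
        obtain ⟨t, rfl⟩ := hG.mem_rootSubgroup_iff.1 hx
        have hle2 : D.rootSubgroup F (D.simple k') ⊔ D.rootSubgroup F (D.neg (D.simple k')) ≤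
            Subgroup.centralizer {xg D F r t} := by
          refine sup_le ?_ ?_ <;> intro y hy <;> obtain ⟨u, rfl⟩ := hG.mem_rootSubgroup_iff.1 hy <;>
            rw [Subgroup.mem_centralizer_singleton_iff, ← xe_eq_xg hG, ← xe_eq_xg hG]
          · exact (xe_commute hG hS hk hk' hne hr (by simp) t u).eq.symm
          · exact (xe_commute hG hS hk hk' hne hr (by simp) t u).eq.symm
        rw [Subgroup.mem_centralizer_iff]
        exact fun y hy => Subgroup.mem_centralizer_singleton_iff.1 (hle2 hy)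
      exact sup_le (step _ (by simp)) (step _ (by simp))
    exact ((Subgroup.mem_centralizer_iff.1 (hle ⟨g, rfl⟩)) _ ⟨g', rfl⟩).symm
  let Φ : SL(2, F) →* SL(2, F) := SpecialLinearGroup.map (φ : F →+* F)
  let ψ : SL(2, F) →* GL D.Idx F := MonoidHom.mk' (fun g => ρ g * ρ' (Φ g)) fun g g' => by
    rw [map_mul, map_mul, map_mul, mul_assoc, ← mul_assoc (ρ g'), (hcomm g' (Φ g)).eq]
    simp only [mul_assoc]
  refine ⟨⟨fun m => if m = k' then (φ : F →+* F) else RingHom.id F, ψ, fun t m hm => ?_, fun a ha => ?_,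
    fun t => ?_, fun t => ?_⟩⟩
  · rw [hJ] at hm
    simp only [List.mem_cons, List.not_mem_nil, or_false] at hm
    rcases hm with rfl | rfl
    · simp only [hpi]; simp [hne]
    · simp only [hpi']; simp [hne, hinv]
  · refine ⟨a k, fun m hm => ?_⟩
    rw [hJ] at hm
    simp only [List.mem_cons, List.not_mem_nil, or_false] at hm
    rcases hm with rfl | rfl
    · simp [hne]
    · have := ha k hk
      rw [hpi] at this
      simp [this]
  · have : Φ (upperSL t) = upperSL (φ t) := by
      apply Subtype.ext; ext a b; fin_cases a <;> fin_cases b <;> simp [Φ, coe_upperSL]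
    show ρ _ * ρ' _ = _
    rw [this, h1, h1', pv, hJ]
    simp [hne, xe_eq_xg hG]
  · have : Φ (lowerSL t) = lowerSL (φ t) := by
      apply Subtype.ext; ext a b; fin_cases a <;> fin_cases b <;> simp [Φ, coe_lowerSL]
    show ρ _ * ρ' _ = _
    rw [this, h2, h2', pv, hJ]
    simp [hne, xe_eq_xg hG]

end constructors

end Cfsg.Agent.Chev.BNSetup
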