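import Cfsg.Agent.Lib.RootBN.WeylCoxeter
import Cfsg.Agent.Lib.Chev.TwistGroup

/-!
# The Weyl group of a twisted Chevalley group
-/

set_option autoImplicit false

namespace Cfsg.Agent.Chev.BNSetup

open Cfsg.Lie

variable {D : ChevalleyDatum} (hG : Good D) {G : GraphTab} {O : OrbTab} {no nj : ℕ} [NeZero no] [NeZero nj]
  {tabs simps : List ℕ} (hO : O.OK no nj D G tabs simps) {F : Type*} [Field F] (φ : F ≃+* F)
  (hf : Facts D tabs simps) (hn : NegTri D) (hcol : ∃ c, Valid D c ∧ G.colsOK D c = true)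
include hG hf hn hcol

theorem exists_weyl_hom_Gt (M : CoxeterMatrix (Fin nj))
    (hM : ∀ i j, RootBN.PairOrder (O.reflF no nj i) (O.reflF no nj j) (M i j)) :
    ∃ ψ : ↥(D.monomialSubgroup F ⊓ (twist hG hO φ).Gt) →* M.Group, Function.Surjective ψ ∧
      ψ.ker = (D.diagonalSubgroup F ⊓ (twist hG hO φ).Gt).subgroupOf
        (D.monomialSubgroup F ⊓ (twist hG hO φ).Gt) := by
  rw [← data_N hG hf]
  exact RootBN.Twist.exists_weyl_hom (twist_axioms hG hO φ hf hn hcol) M (Equiv.refl _)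
    fun i j => RootBN.orderOf_of_pairOrder (fun o => rfl) (fun o => rfl) (hM i j)

end Cfsg.Agent.Chev.BNSetup
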