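/-
A Chevalley group has exactly two blocks for its defining characteristic: the Steinberg block and one block
of full defect.
-/
import Cfsg.Agent.Lib.Chev.DefectGroups
import Cfsg.Agent.Lib.Chev.DefectZero
import Cfsg.Agent.Lib.Chev.Steinberg
import Cfsg.Agent.Lib.Blocks.CountSylow
import Cfsg.Agent.Lib.Blocks.PrimePowerDegree

set_option autoImplicit false

namespace Cfsg.Agent.Chev.BNSetup

open Cfsg.Lie
open Cfsg.Agent.RootBN (Data)

variable {F : Type*} [Field F] {D : ChevalleyDatum}

section centraliser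

variable (hG : Good D) {tabs simps : List ℕ} (hf : Facts D tabs simps)
include hG hf

/-- The centraliser of `U` in the group lies in `U`. -/
theorem centraliser_U_le {g : GL D.Idx F} (hg : g ∈ D.group F)
    (hc : ∀ u ∈ (data hG F).U, g * u = u * g) : g ∈ (data hG F).U := by
  have ax := axioms (F := F) hG hf
  obtain ⟨b, hb, l, u, hu, e⟩ := RootBN.Data.exists_normal_form ax (by rwa [data_grp hG] : g ∈ (data hG F).grp)
  have huB : u ∈ (data hG F).B := RootBN.Data.U_le_B (RootBN.Data.Um_le_U _ hu)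
  have hgB : g ∈ (data hG F).B := by
    suffices hwl : (data hG F).wl l = 1 by
      have hH : (data hG F).nw l ∈ (data hG F).H :=
        RootBN.Data.mem_H_of_pos_preserving ax (RootBN.Data.nw_mem_N l) (RootBN.Data.acts_nw ax l)
          fun r hr => by rwa [hwl]
      rw [e]
      exact Subgroup.mul_mem _ (Subgroup.mul_mem _ hb (RootBN.Data.H_le_B hH)) huB
    refine wl_eq_one_of_keep hG hf fun i => ?_
    have hr := hG.simple_lt i.2
    have hpos := (hf.2.2.2.2.1 i.val i.2).2.1
    refine ⟨hr, hpos, ?_⟩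
    by_contra hneg
    set x : GL D.Idx F := xe hG (D.simple i.val) 1 with hx
    have hxX : x ∈ (data hG F).X ⟨_, hr⟩ := (mem_rootSubgroup hG hr).2 ⟨1, rfl⟩
    have h1 := ((RootBN.Data.acts_nw ax l).inv ⟨_, hr⟩ x).2 hxX
    rw [inv_inv] at h1
    have hbU : ∀ z ∈ (data hG F).B, ∀ v ∈ (data hG F).U, z * v * z⁻¹ ∈ (data hG F).U := by
      intro z hz v hv
      rw [data_U hG hf, ← Uge_eq_U hG hf] at hv ⊢
      exact borel_conj_Uge hG hf le_rfl hz hv
    have hw : b * x * b⁻¹ ∈ (data hG F).U := hbU _ hb _ (RootBN.Data.X_le_U hpos hxX)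
    have h2 : ((data hG F).nw l)⁻¹ * x * (data hG F).nw l ∈ (data hG F).B := by
      have h3 := RootBN.Data.U_le_B (hbU _ huB _ hw)
      have h4 : g⁻¹ * (b * x * b⁻¹) * g = b * x * b⁻¹ := by
        rw [mul_assoc, ← hc _ hw, inv_mul_cancel_left]
      have h5 : ((data hG F).nw l)⁻¹ * x * (data hG F).nw l = u * (g⁻¹ * (b * x * b⁻¹) * g) * u⁻¹ := by
        rw [e]; group
      rw [h5, h4]
      exact h3
    have h6 := ax.neg_not_mem _ hneg
    rw [Subgroup.eq_bot_iff_forall] at h6
    have h7 := h6 _ ⟨h1, h2⟩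
    have h8 : x = (data hG F).nw l * 1 * ((data hG F).nw l)⁻¹ := by rw [← h7]; group
    exact xe_ne_one hG hf hr one_ne_zero (by simpa [hx] using h8)
  obtain ⟨v, hv, h, hh, rfl⟩ := (RootBN.Data.mem_B_iff ax).1 hgB
  suffices h1 : h = 1 by rw [h1, mul_one]; exact hv
  obtain ⟨τ, hτ⟩ := diagonal_eq_prod hG hh
  set χ : ℕ → Fˣ := fun s => ∏ j ∈ Finset.range D.rank, τ j ^ D.cartan j s with hχ
  have hχc : ∀ s, ((χ s : Fˣ) : F) = ∏ j ∈ Finset.range D.rank, ((τ j ^ D.cartan j s : Fˣ) : F) :=
    fun s => map_prod (Units.coeHom F) _ _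
  -- the torus part commutes with the simple root elements
  have hcomm : ∀ i : Fin D.rank, h * xe hG (D.simple i.val) 1 = xe hG (D.simple i.val) 1 * h := by
    intro i
    have hr := hG.simple_lt i.2
    have hpos := (hf.2.2.2.2.1 i.val i.2).2.1
    set x : GL D.Idx F := xe hG (D.simple i.val) 1 with hx
    have hxX : x ∈ (data hG F).X ((data hG F).simp i) := (mem_rootSubgroup hG hr).2 ⟨1, rfl⟩
    obtain ⟨t, ht⟩ := (mem_rootSubgroup hG hr).1 (normalisesAll_H hG hh _ hr x hxX)
    obtain ⟨y, hy, r, hr', rfl⟩ := RootBN.Data.U_eq_mul ax i hv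
    have e1 : xe hG (D.simple i.val) t = r⁻¹ * (y⁻¹ * x * y) * r := by
      rw [← ht]
      have := hc x (RootBN.Data.X_le_U (ax.pos_simp i) hxX)
      calc h * x * h⁻¹ = r⁻¹ * y⁻¹ * (y * r * h * x) * h⁻¹ := by group
        _ = _ := by rw [this]; group
    have e2 : y⁻¹ * x * y = x := by
      obtain ⟨a, ha⟩ := (mem_rootSubgroup hG hr).1 (show y ∈ D.rootSubgroup F (D.simple i.val) from hy)
      rw [ha, hx, xe_inv hG hr, xe_add hG hr, xe_add hG hr]
      congr 1
      ring
    rw [e2] at e1
    have h3 : xe hG (D.simple i.val) (-1) * xe hG (D.simple i.val) t ∈ (data hG F).Urad i := by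
      rw [e1, hx, ← xe_inv hG hr, ← hx, show x⁻¹ * (r⁻¹ * x * r) = x⁻¹ * r⁻¹ * x⁻¹⁻¹ * r by group]
      exact Subgroup.mul_mem _ (RootBN.Data.X_conj_Urad ax (Subgroup.inv_mem _ hxX)
        (Subgroup.inv_mem _ hr')) hr'
    rw [xe_add hG hr] at h3
    have ht1 : -1 + t = 0 := by
      by_contra hne
      have hm := RootBN.Data.nn_inv_conj_Urad ax h3
      have hX := (((RootBN.Data.acts_nn ax i).inv ((data hG F).simp i))
        (xe hG (D.simple i.val) (-1 + t))).2 ((mem_rootSubgroup hG hr).2 ⟨_, rfl⟩)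
      rw [RootBN.Data.refl_inv ax, ax.refl_simp, inv_inv] at hX
      have h6 := ax.neg_not_mem _ (RootBN.Data.not_pos_opp_simp ax i)
      rw [Subgroup.eq_bot_iff_forall] at h6
      have h7 := h6 _ ⟨hX, RootBN.Data.Urad_le_B i hm⟩
      have h8 : xe hG (D.simple i.val) (-1 + t) =
          (data hG F).nn i * 1 * ((data hG F).nn i)⁻¹ := by rw [← h7]; group
      exact xe_ne_one hG hf hr hne (by simpa using h8)
    rw [neg_add_eq_zero] at ht1
    rw [← ht1, ← hx, mul_inv_eq_iff_eq_mul] at ht
    exact ht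
  have hneg : ∀ i : Fin D.rank, χ (D.neg (D.simple i.val)) = 1 := by
    intro i
    have hr := hG.simple_lt i.2
    have hnr := hG.neg_lt hr
    obtain ⟨j, hj⟩ := exists_coroot_ne_zero (F := F) hf hr
    have e := Matrix.ext_iff.2 (show (h : Matrix D.Idx D.Idx F) * (xe hG (D.simple i.val) 1 : GL D.Idx F) =
        (xe hG (D.simple i.val) 1 : GL D.Idx F) * (h : Matrix D.Idx D.Idx F) by
      rw [← Units.val_mul, ← Units.val_mul, hcomm i]) (Sum.inl j) (Sum.inr ⟨_, hnr⟩)
    rw [coe_xe, hτ, hdiag, Matrix.diagonal_mul, Matrix.mul_diagonal,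
      x_entry_inl hr hnr, if_neg (hG.neg_ne hr), if_pos rfl, Sum.elim_inl, Sum.elim_inr, ← hχc] at e
    rw [one_mul, mul_one] at e
    have := mul_left_cancel₀ hj ((mul_one _).trans e)
    exact Units.ext this.symm
  have key : ∀ i < D.rank, χ (D.simple i) = 1 := by
    intro i hi
    have hr := hG.simple_lt hi
    have e : ∀ j < D.rank, D.cartan j (D.neg (D.simple i)) = -D.cartan j (D.simple i) := fun j hj => by
      have := hG.cartan_reflectRoot hi hj hr
      rw [(hf.2.2.2.2.1 i hi).2.2.2.2, hG.cartan_simple hi] at this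
      rw [this]; ring
    have h1 := hneg ⟨i, hi⟩
    simp only [hχ] at h1 ⊢
    rw [Finset.prod_congr rfl fun j hj => by rw [e j (Finset.mem_range.1 hj), zpow_neg],
      Finset.prod_inv_distrib, inv_eq_one] at h1
    exact h1
  refine Units.ext ?_
  rw [Units.val_one, hτ, ← hdiag_one D]
  refine hdiag_congr D fun s hs => ?_
  rw [← hχc]
  suffices χ s = 1 by rw [this, Units.val_one]
  refine hG.root_induction (P := fun s => χ s = 1) key (fun i hi r hr ih => ?_) hs
  show ∏ j ∈ Finset.range D.rank, τ j ^ D.cartan j (D.reflectRoot i r) = 1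
  rw [Finset.prod_congr rfl fun j hj => by
    rw [hG.cartan_reflectRoot hi (Finset.mem_range.1 hj) hr, zpow_sub, mul_comm (D.cartan i r), zpow_mul],
    Finset.prod_mul_distrib, Finset.prod_inv_distrib, Finset.prod_zpow]
  rw [show (∏ j ∈ Finset.range D.rank, τ j ^ D.cartan j r) = 1 from ih,
    show (∏ j ∈ Finset.range D.rank, τ j ^ D.cartan j (D.simple i)) = 1 from key i hi, one_zpow, inv_one, mul_one]

end centraliser

variable [Fintype F]

/-- **Exactly two blocks in the defining characteristic.** -/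
theorem card_blocks_eq_two (p : ℕ) [Fact p.Prime] [CharP F p]
    (hD : D ∈ [chevG2, chevB2, chevD4, chevF4, chevE6, chevE7, chevE8]) {k : List ℤ} (hk : PosForm D k)
    (hlink : Linked D) {M : Ideal AlgInt} (hM : IsPModular p M) :
    Nat.card {B : Set (IrrCharacter ↥(D.group F)) // IsPBlock M B} = 2 := by
  classical
  haveI := hM.2.1
  have hpM := hM.2.2
  have hG := good_of_mem hD
  obtain ⟨tabs, simps, w0, hf, hw⟩ := exists_facts_longest hD
  have hn := negTri_of_mem hD
  have ax := axioms (F := F) hG hf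
  set G : Type _ := ↥(D.group F) with hGdef
  obtain ⟨P, hP⟩ := ChevSylow.exists_sylow p hG hf (F := F)
  obtain ⟨hirr, -, hdeg⟩ := steinberg_facts (F := F) hD
  set St : IrrCharacter ↥(D.group F) := ⟨D.steinbergCharacter F, hirr⟩ with hSt
  have hcardP : Nat.card (P : Subgroup ↥(D.group F)) = Fintype.card F ^ (D.nroots / 2) := by
    rw [hP, Nat.card_congr
      (Subgroup.subgroupOfEquivOfLe (ChevSylow.posUnipotent_le_group hG hf)).toEquiv, card_U hf hG]
  have hN : 1 ≤ D.nroots / 2 := by
    have h0 : 0 < D.rank := hf.2.1.1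
    have := (hf.2.2.2.2.1 0 h0).2.1
    have := hG.simple_lt h0
    have := hf.1
    omega
  have hPne : (P : Subgroup ↥(D.group F)) ≠ ⊥ := fun h => by
    rw [h, Subgroup.card_bot] at hcardP
    exact absurd hcardP.symm (Nat.one_lt_pow (by omega) Fintype.one_lt_card).ne'
  -- the Steinberg character has defect zero
  have hStdeg : (Char.degree St).factorization p = (Nat.card ↥(D.group F)).factorization p := by
    have h1 : (Char.degree St : ℂ) = ((Nat.card (P : Subgroup ↥(D.group F)) : ℕ) : ℂ) := by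
      rw [hcardP, Nat.cast_pow, ← hdeg]
      exact (Char.apply_one_eq_degree St).symm
    rw [Nat.cast_inj] at h1
    rw [h1, P.card_eq_multiplicity, (Fact.out : p.Prime).factorization_pow, Finsupp.single_eq_same]
  have hStB : blockOf M St.1 = {St} := (Blocks.blockOf_eq_singleton_iff hpM St).2 hStdeg
  -- every other block has full defect
  have hfull : ∀ B : Set (IrrCharacter ↥(D.group F)), IsPBlock M B → B ≠ {St} →
      IsDefectGroup p M B (P : Subgroup ↥(D.group F)) := by
    intro B hB hne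
    obtain ⟨K, hK⟩ := Blocks.exists_defectGroup (p := p) hB
    obtain ⟨R, hR⟩ := (Blocks.IsDefectGroup.isPGroup hK).exists_le_sylow
    obtain ⟨c, hc⟩ := MulAction.exists_smul_eq ↥(D.group F) R P
    have hK' := Blocks.IsDefectGroup.conj hK c
    have hle : K.map (MulAut.conj c).toMonoidHom ≤ (D.posUnipotent F).subgroupOf (D.group F) := by
      rw [← hP, ← hc]
      intro z hz
      rw [Sylow.coe_subgroup_smul, Subgroup.mem_pointwise_smul_iff_inv_smul_mem]
      rw [Subgroup.mem_map_equiv] at hz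
      exact hR hz
    rcases defectGroup_trivial_or_sylow hG hf p hn hw hk hlink hpM hB hK' hle with h | h
    · exfalso
      refine hne ?_
      rw [h] at hK'
      have hd := Blocks.card_defectGroup hpM hB hK'
      rw [Subgroup.card_bot] at hd
      have hd0 : blockDefect p B = 0 := by
        by_contra h0
        exact absurd hd (Nat.one_lt_pow h0 (Fact.out : p.Prime).one_lt).ne
      obtain ⟨g, hg⟩ := Blocks.exists_defectClass hB
      obtain ⟨χ, hχ⟩ := Blocks.block_nonempty hB
      have h1 := Blocks.factorization_index_le_degree hpM χ (hg.2.2 χ hχ)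
      have h2 := Blocks.blockDefect_eq hpM hB hg
      have h3 := Blocks.factorization_index (p := p) (Subgroup.centralizer ({g} : Set ↥(D.group F)))
      rw [hd0] at h2
      have hχdeg : p ^ (Nat.card ↥(D.group F)).factorization p ∣ Char.degree χ :=
        ((Fact.out : p.Prime).pow_dvd_iff_le_factorization (Char.degree_pos χ).ne').2 (by omega)
      have : χ = St := Subtype.ext
        (eq_steinberg p hD χ.2 ⟨_, Char.apply_one_eq_degree χ, hχdeg⟩)
      rw [Blocks.block_eq hB hχ, this, hStB]
    · rwa [h, ← hP] at hK'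
  have hStne : ¬ IsDefectGroup p M ({St} : Set (IrrCharacter ↥(D.group F))) (P : Subgroup ↥(D.group F)) := by
    intro h
    have hB : IsPBlock M ({St} : Set (IrrCharacter ↥(D.group F))) := hStB ▸ Blocks.isPBlock_blockOf St
    obtain ⟨g, hg, hgP⟩ := Blocks.isDefectGroup_iff.1 h
    have h1 := Blocks.sInf_degree_eq hpM hB hg
    rw [Set.image_singleton, csInf_singleton, Blocks.charDegree_eq, hStdeg] at h1
    have h3 := Blocks.factorization_index (p := p) (Subgroup.centralizer ({g} : Set ↥(D.group F)))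
    have h4 := hgP.2
    rw [show (Nat.card (Subgroup.centralizer ({g} : Set ↥(D.group F)))).factorization p = 0 by omega,
      pow_zero, ← Subgroup.card_bot (G := ↥(D.group F))] at h4
    exact hPne (Subgroup.eq_bot_of_card_eq _ (h4.trans Subgroup.card_bot))
  -- exactly one block of full defect
  have hone : Nat.card {B : Set (IrrCharacter ↥(D.group F)) //
      IsPBlock M B ∧ IsDefectGroup p M B (P : Subgroup ↥(D.group F))} = 1 := by
    rw [Blocks.card_blocks_sylow hpM P]
    set N := Subgroup.normalizer ((P : Subgroup ↥(D.group F)) : Set ↥(D.group F)) with hNdef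
    have key : ∀ n : N, (¬ p ∣ orderOf n ∧
        (n : ↥(D.group F)) ∈ Subgroup.centralizer ((P : Subgroup ↥(D.group F)) : Set ↥(D.group F))) →
        n = 1 := by
      rintro n ⟨hreg, hcen⟩
      have hmem : ((n : ↥(D.group F)) : GL D.Idx F) ∈ (data hG F).U := by
        refine centraliser_U_le hG hf (n : ↥(D.group F)).2 fun u hu => ?_
        have hu' : u ∈ D.posUnipotent F := by rwa [← data_U hG hf]
        have := congrArg Subtype.val (hcen ⟨u, ChevSylow.posUnipotent_le_group hG hf hu'⟩
          (by rw [SetLike.mem_coe, hP, Subgroup.mem_subgroupOf]; exact hu'))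
        simp only [Subgroup.coe_mul] at this
        exact this.symm
      rw [data_U hG hf] at hmem
      obtain ⟨j, hj⟩ := IsPGroup.iff_orderOf.1 (ChevSylow.isPGroup_posUnipotent p hG hf (F := F))
        ⟨_, hmem⟩
      have hj' : orderOf n = p ^ j := by
        rw [← hj, ← Subgroup.orderOf_coe n, ← Subgroup.orderOf_coe (n : ↥(D.group F))]
        exact (Subgroup.orderOf_mk _ _).symm
      rcases Nat.eq_zero_or_pos j with rfl | hj0
      · rwa [pow_zero, orderOf_eq_one_iff] at hj'
      · exact absurd (hj' ▸ dvd_pow_self p hj0.ne') hreg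
    refine Nat.card_eq_one_iff_exists.2 ⟨⟨ConjClasses.mk 1, fun n hn => ?_⟩, fun C => ?_⟩
    · obtain rfl : n = 1 := by
        obtain ⟨c, hc⟩ := isConj_iff.1 (ConjClasses.mk_eq_mk_iff_isConj.1 hn.symm)
        simpa using hc.symm
      exact ⟨by simp [(Fact.out : p.Prime).ne_one], Subgroup.one_mem _⟩
    · obtain ⟨n, hn⟩ := ConjClasses.exists_rep C.1
      refine Subtype.ext ?_
      show C.1 = ConjClasses.mk 1
      rw [← hn, key n (C.2 n hn)]
  obtain ⟨⟨B0, hB0⟩, huniq⟩ := Nat.card_eq_one_iff_exists.1 hone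
  rw [Nat.card_eq_two_iff]
  refine ⟨⟨{St}, hStB ▸ Blocks.isPBlock_blockOf St⟩, ⟨B0, hB0.1⟩,
    fun h => hStne ((show ({St} : Set (IrrCharacter ↥(D.group F))) = B0 from congrArg Subtype.val h).symm ▸ hB0.2), ?_⟩
  refine Set.eq_univ_of_forall fun B => ?_
  by_cases hB : B.1 = {St}
  · exact Or.inl (Subtype.ext hB)
  · exact Or.inr (Subtype.ext (show B.1 = B0 from
      congrArg Subtype.val (huniq ⟨B.1, B.2, hfull B.1 B.2 hB⟩)))

end Cfsg.Agent.Chev.BNSetup
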