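/-
Subgroups of `U` weakly closed in `U`: containment in a radical, exact fundamental root elements by torus
averaging, and generation of the radical by commutator words.
-/
import Cfsg.Agent.Lib.Chev.Parabolic
import Mathlib.FieldTheory.Finite.Basic

set_option autoImplicit false

namespace Cfsg.Agent.Chev.BNSetup

open Cfsg.Lie
open Cfsg.Agent.RootBN (Data)

variable {F : Type*} [Field F] {D : ChevalleyDatum}

/-- The coefficient condition on a commutator word of `x_b` and `x_s` reaching `r`. -/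
def WordOK (w : List (ℕ × ℤ × ℕ × ℕ)) (r : ℕ) : Prop :=
  match w with
  | [x] => x.1 = r ∧ x.2.1.natAbs = 1 ∧ (x.2.2.1 = 1 ∨ x.2.2.2 = 1)
  | [x, y] => x.2.2 = (1, 1) ∧ (y.2.2 = (2, 1) ∨ y.2.2 = (1, 2)) ∧
      (x.1 = r ∧ x.2.1.natAbs = 1 ∨ y.1 = r ∧ y.2.1.natAbs = 1)
  | _ => False

instance decidableWordOK : ∀ (w : List (ℕ × ℤ × ℕ × ℕ)) (r : ℕ), Decidable (WordOK w r)
  | [], _ => inferInstanceAs (Decidable False)
  | [_], _ => inferInstanceAs (Decidable (_ ∧ _))
  | [_, _], _ => inferInstanceAs (Decidable (_ ∧ _))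
  | _ :: _ :: _ :: _, _ => inferInstanceAs (Decidable False)

/-- The root `r` is reached by the word of the fundamental root `i` and a lower root involving `k`. -/
def WordStep (D : ChevalleyDatum) (r k i : ℕ) : Prop :=
  ∃ j ∈ [1, 2], ∃ s ∈ (D.chainRoot (D.neg (D.simple i)) r j).toList,
    D.nroots / 2 ≤ s ∧ s < D.nroots ∧ (i = k ∨ (D.coroot.getD s #[]).getD k 0 ≠ 0) ∧
      WordOK (D.commTerms (D.simple i) s) r

instance decidableWordStep (D : ChevalleyDatum) (r k i : ℕ) : Decidable (WordStep D r k i) :=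
  inferInstanceAs (Decidable (∃ _ ∈ _, _))

/-- Every positive root outside a fundamental one is reached from a lower root by a short word. -/
def WordFact (D : ChevalleyDatum) : Prop :=
  ∀ r < D.nroots, D.nroots / 2 ≤ r → ∀ k < D.rank, (D.coroot.getD r #[]).getD k 0 ≠ 0 →
    r = D.simple k ∨ ∃ i < D.rank, WordStep D r k i

instance decidableWordFact (D : ChevalleyDatum) : Decidable (WordFact D) :=
  inferInstanceAs (Decidable (∀ _, _ → _))

/-- Some coroot is orthogonal to the fundamental root `k` and pairs with `j` into a number at most `e`. -/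
def SepAt (D : ChevalleyDatum) (e k j : ℕ) : Prop :=
  ∃ r < D.nroots, D.pairing r (D.simple k) = 0 ∧ D.pairing r j ≠ 0 ∧ (D.pairing r j).natAbs ≤ e

instance decidableSepAt (D : ChevalleyDatum) (e k j : ℕ) : Decidable (SepAt D e k j) :=
  inferInstanceAs (Decidable (∃ _, _))

/-- A root pairs with its coroot into two. -/
def PairTwo (D : ChevalleyDatum) : Prop := ∀ r < D.nroots, D.pairing r r = 2

instance decidablePairTwo (D : ChevalleyDatum) : Decidable (PairTwo D) :=
  inferInstanceAs (Decidable (∀ _, _ → _))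

/-- `X` is invariant under conjugation by `B`. -/
def BInvariant (hG : Good D) (X : Subgroup (GL D.Idx F)) : Prop :=
  ∀ b ∈ (data hG F).B, ∀ g ∈ X, b * g * b⁻¹ ∈ X

/-- All of a root subgroup lies in `X`. -/
def HasRoot (hG : Good D) (X : Subgroup (GL D.Idx F)) (r : ℕ) : Prop := ∀ a : F, xe hG r a ∈ X

variable (hG : Good D)

/-- The evaluated commutator word. -/
def termsProd (F : Type*) [Field F] (t u : F) : List (ℕ × ℤ × ℕ × ℕ) → GL D.Idx F
  | [] => 1
  | x :: l => xe hG x.1 ((x.2.1 : F) * t ^ x.2.2.1 * u ^ x.2.2.2) * termsProd F t u l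

theorem comm_eq_termsProd {b s : ℕ} (hb : b < D.nroots) (hs : s < D.nroots) (h1 : s ≠ b)
    (h2 : s ≠ D.neg b) (t u : F) :
    (xe hG s u)⁻¹ * (xe hG b (-t))⁻¹ * xe hG s u * xe hG b (-t) = termsProd hG F t u (D.commTerms b s) := by
  have key : ∀ w : List (ℕ × ℤ × ℕ × ℕ),
      ((termsProd hG F t u w : GL D.Idx F) : Matrix D.Idx D.Idx F) =
        D.wordMat F (w.map fun c => (c.1, (c.2.1 : F) * (-(-t)) ^ c.2.2.1 * u ^ c.2.2.2)) := by
    intro w
    induction w with
    | nil => simp [termsProd, ChevalleyDatum.wordMat]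
    | cons x l ih =>
      rw [termsProd, Units.val_mul, ih]
      simp [ChevalleyDatum.wordMat, coe_xe]
  have e : xe hG s u * xe hG b (-t) =
      xe hG b (-t) * xe hG s u * termsProd hG F t u (D.commTerms b s) := by
    refine Units.ext ?_
    rw [Units.val_mul, Units.val_mul, Units.val_mul, key, coe_xe, coe_xe]
    exact hG.comm_formula hb hs h1 h2 (-t) u
  rw [mul_assoc _ (xe hG s u) (xe hG b (-t)), e]
  group

theorem exists_generator [Fintype F] : ∃ g : Fˣ, orderOf g = Fintype.card F - 1 := by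
  classical
  obtain ⟨g, hg⟩ := IsCyclic.exists_generator (α := Fˣ)
  refine ⟨g, ?_⟩
  rw [orderOf_eq_card_of_forall_mem_zpowers hg, Nat.card_eq_fintype_card, Fintype.card_units]

theorem exists_zpow_ne_one [Fintype F] {e : ℕ} (he : e < Fintype.card F - 1) :
    ∃ g : Fˣ, ∀ z : ℤ, z ≠ 0 → z.natAbs ≤ e → g ^ z ≠ 1 := by
  obtain ⟨g, hg⟩ := exists_generator (F := F)
  refine ⟨g, fun z hz hze h => ?_⟩
  have h1 := orderOf_dvd_iff_zpow_eq_one.2 h
  rw [hg] at h1
  have h2 := Nat.le_of_dvd (Int.natAbs_pos.2 hz) (Int.natCast_dvd.1 h1)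
  omega

include hG

/-- The product of simple torus elements with given exponents. -/
theorem exists_torus (c : ℕ → ℤ) {τ : F} (hτ : τ ≠ 0) :
    ∃ h ∈ D.diagonalSubgroup F, ∀ s < D.nroots, ∀ t : F,
      h * xe hG s t * h⁻¹ = xe hG s (τ ^ ((List.range D.rank).map fun i => c i * D.cartan i s).sum * t) := by
  suffices key : ∀ n ≤ D.rank, ∃ h ∈ D.diagonalSubgroup F, ∀ s < D.nroots, ∀ t : F,
      h * xe hG s t * h⁻¹ = xe hG s (τ ^ ((List.range n).map fun i => c i * D.cartan i s).sum * t) from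
    key D.rank le_rfl
  intro n
  induction n with
  | zero => intro _; exact ⟨1, Subgroup.one_mem _, fun s _ t => by simp⟩
  | succ n ih =>
    intro hn
    obtain ⟨h, hh, hconj⟩ := ih (by omega)
    have hr := hG.simple_lt (show n < D.rank by omega)
    have hz : τ ^ c n ≠ 0 := zpow_ne_zero _ hτ
    refine ⟨h * he hG (D.simple n) (τ ^ c n), Subgroup.mul_mem _ hh (he_mem_H hG hr hz), fun s hs t => ?_⟩
    have e : he hG (D.simple n) (τ ^ c n) * xe hG s t * (he hG (D.simple n) (τ ^ c n))⁻¹ =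
        xe hG s ((τ ^ c n) ^ D.cartan n s * t) := by
      rw [mul_inv_eq_iff_eq_mul]
      exact Units.ext (by
        rw [Units.val_mul, Units.val_mul, coe_he, coe_xe, coe_xe]
        exact hG.hMat_mul_x (by omega) hs hz t)
    rw [show h * he hG (D.simple n) (τ ^ c n) * xe hG s t * (h * he hG (D.simple n) (τ ^ c n))⁻¹ =
      h * (he hG (D.simple n) (τ ^ c n) * xe hG s t * (he hG (D.simple n) (τ ^ c n))⁻¹) * h⁻¹ by group,
      e, hconj s hs]
    congr 1
    rw [List.range_succ, List.map_append, List.sum_append, zpow_add₀ hτ, ← zpow_mul]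
    simp [mul_assoc]

theorem exists_torus_coroot (r : ℕ) {τ : F} (hτ : τ ≠ 0) :
    ∃ h ∈ D.diagonalSubgroup F, ∀ s < D.nroots, ∀ t : F,
      h * xe hG s t * h⁻¹ = xe hG s (τ ^ D.pairing r s * t) :=
  exists_torus hG (fun i => (D.coroot.getD r #[]).getD i 0) hτ

variable {tabs simps : List ℕ} (hf : Facts D tabs simps)
include hf

theorem Urad_inf_Uge [Fintype F] (hn : NegTri D) (i : Fin D.rank) {v : GL D.Idx F}
    (hv : v ∈ (data hG F).Urad i) (hk : v ∈ Uge hG F (D.simple i.val)) :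
    v ∈ Uge hG F (D.simple i.val + 1) := by
  have ax := axioms (F := F) hG hf
  by_contra hnot
  have hlead : Lead hG F v (D.simple i.val) :=
    ⟨(hf.2.2.2.2.1 i.val i.2).2.1, hG.simple_lt i.2, hk, hnot⟩
  have hI : v ∈ Inter hG F [i] := (mem_Inter hG).2 ⟨RootBN.Data.Urad_le_U i hv, by
    rw [RootBN.Data.nw_cons, RootBN.Data.nw_nil, mul_one]
    exact RootBN.Data.Urad_le_U i (RootBN.Data.nn_inv_conj_Urad ax hv)⟩
  obtain ⟨hr, -, hp⟩ := Keep_of_Lead hG hf hn hI hlead
  rw [RootBN.Data.wl_cons, RootBN.Data.wl_nil, mul_one, RootBN.Data.refl_inv ax] at hp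
  exact RootBN.Data.not_pos_opp_simp ax i ((ax.refl_simp i).symm ▸ hp)

/-- `B` normalises the radical of a fundamental root. -/
theorem borel_conj_Urad (i : Fin D.rank) {b : GL D.Idx F} (hb : b ∈ (data hG F).B) {v : GL D.Idx F}
    (hv : v ∈ (data hG F).Urad i) : b * v * b⁻¹ ∈ (data hG F).Urad i := by
  have ax := axioms (F := F) hG hf
  obtain ⟨y, hy, w, hw, h, hh, rfl⟩ := RootBN.Data.B_decomp ax i hb
  have h1 := RootBN.Data.H_conj_Urad ax hh hv
  have h2 := ((data hG F).Urad i).mul_mem (((data hG F).Urad i).mul_mem hw h1)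
    (((data hG F).Urad i).inv_mem hw)
  have h3 := RootBN.Data.X_conj_Urad ax hy h2
  simpa [mul_assoc] using h3

variable {X : Subgroup (GL D.Idx F)}

/-- Every coefficient occurs at a fundamental root outside whose radical `X` reaches. -/
theorem exists_lead_coeff [Fintype F] (hXU : X ≤ (data hG F).U) (hB : BInvariant hG X) (i : Fin D.rank)
    (hi : ¬ X ≤ (data hG F).Urad i) (a : F) :
    ∃ v ∈ (data hG F).Urad i, xe hG (D.simple i.val) a * v ∈ X := by
  have ax := axioms (F := F) hG hf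
  have hr := hG.simple_lt i.2
  set W : F → Prop := fun a => ∃ v ∈ (data hG F).Urad i, xe hG (D.simple i.val) a * v ∈ X with hW
  have hadd : ∀ a b, W a → W b → W (a + b) := by
    rintro a b ⟨v, hv, h1⟩ ⟨w, hw, h2⟩
    refine ⟨(xe hG (D.simple i.val) b)⁻¹ * v * xe hG (D.simple i.val) b * w,
      Subgroup.mul_mem _ ?_ hw, ?_⟩
    · have := RootBN.Data.X_conj_Urad ax (i := i)
        (Subgroup.inv_mem _ ((mem_rootSubgroup hG hr).2 ⟨b, rfl⟩) : (xe hG (D.simple i.val) b)⁻¹ ∈
          (data hG F).X ((data hG F).simp i)) hv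
      rwa [inv_inv] at this
    · convert Subgroup.mul_mem _ h1 h2 using 1
      rw [← xe_add hG hr]
      group
  have hneg : ∀ a, W a → W (-a) := by
    rintro a ⟨v, hv, h1⟩
    refine ⟨xe hG (D.simple i.val) a * v⁻¹ * (xe hG (D.simple i.val) a)⁻¹,
      RootBN.Data.X_conj_Urad ax ((mem_rootSubgroup hG hr).2 ⟨a, rfl⟩) (Subgroup.inv_mem _ hv), ?_⟩
    convert Subgroup.inv_mem _ h1 using 1
    rw [← xe_inv hG hr]
    group
  have hsq : ∀ a τ, W a → W (a * τ ^ 2) := by
    rintro a τ ⟨v, hv, h1⟩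
    by_cases hτ : τ = 0
    · exact ⟨1, Subgroup.one_mem _, by simp [hτ, xe_zero hG hr]⟩
    have hH : he hG (D.simple i.val) τ ∈ (data hG F).H := he_mem_H hG hr hτ
    have e : he hG (D.simple i.val) τ * xe hG (D.simple i.val) a * (he hG (D.simple i.val) τ)⁻¹ =
        xe hG (D.simple i.val) (a * τ ^ 2) := by
      rw [mul_inv_eq_iff_eq_mul]
      refine Units.ext ?_
      rw [Units.val_mul, Units.val_mul, coe_he, coe_xe, coe_xe, hG.hMat_mul_x i.2 hr hτ a,
        hG.cartan_simple i.2, zpow_ofNat, mul_comm (τ ^ 2) a]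
    refine ⟨he hG (D.simple i.val) τ * v * (he hG (D.simple i.val) τ)⁻¹,
      RootBN.Data.H_conj_Urad ax hH hv, ?_⟩
    convert hB _ (RootBN.Data.H_le_B hH) _ h1 using 1
    rw [← e]
    group
  obtain ⟨g, hg, hgn⟩ := Set.not_subset.1 hi
  obtain ⟨y, hy, v, hv, rfl⟩ := RootBN.Data.U_eq_mul ax i (hXU hg)
  obtain ⟨a0, rfl⟩ := (mem_rootSubgroup hG hr).1 (show y ∈ D.rootSubgroup F (D.simple i.val) from hy)
  have ha0 : a0 ≠ 0 := fun h => hgn (by rw [h, xe_zero hG hr, one_mul]; exact hv)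
  have h0 : W a0 := ⟨v, hv, hg⟩
  by_cases hchar : ringChar F = 2
  · haveI : CharP F 2 := hchar ▸ ringChar.charP F
    obtain ⟨z, hz⟩ := FiniteField.isSquare_of_char_two hchar (a / a0)
    have := hsq a0 z h0
    rwa [pow_two, ← hz, mul_div_cancel₀ _ ha0] at this
  · have h2 : (2 : F) ≠ 0 := Ring.two_ne_zero hchar
    have e : a0 * ((a / a0 + 1) / 2) ^ 2 + -(a0 * ((a / a0 - 1) / 2) ^ 2) = a := by
      field_simp
      ring
    exact e ▸ hadd _ _ (hsq _ _ h0) (hneg _ (hsq _ _ h0))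

end Cfsg.Agent.Chev.BNSetup
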