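/-
Subgroups of `U` weakly closed in `U` are radicals of standard parabolic subgroups.
-/
import Cfsg.Agent.Lib.Chev.WeaklyClosed

set_option autoImplicit false

namespace Cfsg.Agent.Chev.BNSetup

open Cfsg.Lie
open Cfsg.Agent.RootBN (Data)

variable {F : Type*} [Field F] {D : ChevalleyDatum} (hG : Good D) {tabs simps : List ℕ}
  (hf : Facts D tabs simps)
include hG hf

/-- Averaging over a torus element removes one coordinate behind a fundamental root element. -/
theorem clean_step [Fintype F] {X : Subgroup (GL D.Idx F)} (hB : BInvariant hG X) (i : Fin D.rank)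
    {j : ℕ} (hj : j < D.nroots) (hj' : D.nroots / 2 ≤ j) (hjk : j ≠ D.simple i.val) {e : ℕ}
    (hsep : SepAt D e i.val j) (he : e < Fintype.card F - 1)
    (hall : ∀ a, ∃ v, v ∈ (data hG F).Urad i ∧ v ∈ Uge hG F j ∧ xe hG (D.simple i.val) a * v ∈ X) (a : F) :
    ∃ v, v ∈ (data hG F).Urad i ∧ v ∈ Uge hG F (j + 1) ∧ xe hG (D.simple i.val) a * v ∈ X := by
  have ax := axioms (F := F) hG hf
  set k := D.simple i.val with hkdef
  have hk : k < D.nroots := hG.simple_lt i.2
  have hk' : D.nroots / 2 ≤ k := (hf.2.2.2.2.1 i.val i.2).2.1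
  set K : Subgroup (GL D.Idx F) := (data hG F).Urad i ⊓ Uge hG F (j + 1) with hK
  have hKconj : ∀ b ∈ (data hG F).B, ∀ v ∈ K, b * v * b⁻¹ ∈ K := fun b hb v hv =>
    ⟨borel_conj_Urad hG hf i hb hv.1, borel_conj_Uge hG hf (Nat.le_succ_of_le hj') hb hv.2⟩
  have hXB : ∀ r, ∀ (hr : r < D.nroots), D.nroots / 2 ≤ r → ∀ t : F, xe hG r t ∈ (data hG F).B :=
    fun r hr hr' t => RootBN.Data.U_le_B (RootBN.Data.X_le_U (D := data hG F) (r := (⟨r, hr⟩ : Fin D.nroots))
      hr' ((mem_rootSubgroup hG hr).2 ⟨t, rfl⟩))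
  have hjU : ∀ b, xe hG j b ∈ (data hG F).Urad i := fun b =>
    RootBN.Data.X_le_Urad (D := data hG F) (r := (⟨j, hj⟩ : Fin D.nroots)) hj'
      (fun h => hjk (congrArg Fin.val h)) ((mem_rootSubgroup hG hj).2 ⟨b, rfl⟩)
  -- swapping modulo `K`
  have hswap : ∀ a b, ∃ z ∈ K, xe hG j b * xe hG k a = xe hG k a * xe hG j b * z := by
    intro a b
    refine ⟨(xe hG j b)⁻¹ * ((xe hG k a)⁻¹ * xe hG j b * xe hG k a), ⟨?_, ?_⟩, by group⟩
    · refine Subgroup.mul_mem _ (Subgroup.inv_mem _ (hjU b)) ?_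
      have := borel_conj_Urad hG hf i (Subgroup.inv_mem _ (hXB k hk hk' a)) (hjU b)
      rwa [inv_inv] at this
    · have h1 := commutator_xe_mem_Uge hG hf hj hj' b (u := (xe hG k a)⁻¹) (by
        rw [← Uge_eq_U hG hf]; exact Subgroup.inv_mem _ (xe_mem_Uge hG hk hk' a))
      rw [inv_inv] at h1
      have := borel_conj_Uge hG hf (Nat.le_succ_of_le hj') (Subgroup.inv_mem _ (hXB j hj hj' b)) h1
      simpa [mul_assoc] using this
  have hcomb : ∀ a b a' b', ∀ v ∈ K, ∀ v' ∈ K, ∃ z ∈ K,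
      xe hG k a * xe hG j b * v * (xe hG k a' * xe hG j b' * v') = xe hG k (a + a') * xe hG j (b + b') * z := by
    intro a b a' b' v hv v' hv'
    obtain ⟨z, hz, e⟩ := hswap a' b
    have h1 := hKconj _ (Subgroup.inv_mem _ (Subgroup.mul_mem _ (hXB k hk hk' a') (hXB j hj hj' b'))) v hv
    have h2 := hKconj _ (Subgroup.inv_mem _ (hXB j hj hj' b')) z hz
    refine ⟨(xe hG j b')⁻¹ * z * xe hG j b' * ((xe hG k a' * xe hG j b')⁻¹ * v *
      (xe hG k a' * xe hG j b')) * v', ?_, ?_⟩
    · rw [inv_inv] at h1 h2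
      exact Subgroup.mul_mem _ (Subgroup.mul_mem _ h2 h1) hv'
    · calc xe hG k a * xe hG j b * v * (xe hG k a' * xe hG j b' * v')
          = xe hG k a * (xe hG j b * xe hG k a') * xe hG j b' *
              ((xe hG k a' * xe hG j b')⁻¹ * v * (xe hG k a' * xe hG j b')) * v' := by group
        _ = _ := by rw [e, ← xe_add hG hk, ← xe_add hG hj]; group
  -- the torus element
  classical
  obtain ⟨g, hg⟩ := exists_zpow_ne_one (F := F) he
  obtain ⟨r, -, hr0, hrj, hrb⟩ := hsep
  obtain ⟨h, hh, hconj⟩ := exists_torus_coroot hG r (τ := (g : F)) g.ne_zero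
  set χ : Fˣ := g ^ D.pairing r j with hχ
  have hχ1 : χ ≠ 1 := hg _ hrj hrb
  set m := orderOf χ with hm
  have hm0 : (m : F) ≠ 0 := by
    intro h0
    obtain ⟨c, hc⟩ := orderOf_dvd_natCard χ
    have h1 : ((Fintype.card F - 1 : ℕ) : F) = 0 := by
      rw [← Fintype.card_units, ← Nat.card_eq_fintype_card, hc, Nat.cast_mul, ← hm, h0, zero_mul]
    rw [Nat.cast_sub Fintype.card_pos, FiniteField.cast_card_eq_zero, Nat.cast_one, zero_sub,
      neg_eq_zero] at h1
    exact one_ne_zero h1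
  obtain ⟨v, hv1, hv2, hvX⟩ := hall (a / (m : F))
  obtain ⟨b, v', hv', rfl⟩ := Uge_split hG hf hj hj' hv2
  have hv'K : v' ∈ K := ⟨(Subgroup.mul_mem_cancel_left _ (hjU b)).1 hv1, hv'⟩
  rw [← mul_assoc] at hvX
  have hpow : ∀ n : ℕ, ∃ z ∈ K, xe hG k ((n : F) * (a / (m : F))) *
      xe hG j ((∑ l ∈ Finset.range n, (χ : F) ^ l) * b) * z ∈ X := by
    intro n
    induction n with
    | zero =>
      exact ⟨1, Subgroup.one_mem _, by simp [xe_zero hG hk, xe_zero hG hj]⟩
    | succ n ih =>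
      obtain ⟨z, hz, hzX⟩ := ih
      have hh' : h ∈ (data hG F).B := RootBN.Data.H_le_B hh
      have h1 := hB _ hh' _ hzX
      have e : h * (xe hG k ((n : F) * (a / (m : F))) *
            xe hG j ((∑ l ∈ Finset.range n, (χ : F) ^ l) * b) * z) * h⁻¹ =
          xe hG k ((n : F) * (a / (m : F))) *
            xe hG j ((χ : F) * ((∑ l ∈ Finset.range n, (χ : F) ^ l) * b)) * (h * z * h⁻¹) := by
        have ek := hconj k hk ((n : F) * (a / (m : F)))
        rw [hr0, zpow_zero, one_mul] at ek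
        have ej := hconj j hj ((∑ l ∈ Finset.range n, (χ : F) ^ l) * b)
        rw [show (g : F) ^ D.pairing r j = (χ : F) by rw [hχ, Units.val_zpow_eq_zpow_val]] at ej
        rw [show ∀ A B C : GL D.Idx F, h * (A * B * C) * h⁻¹ = (h * A * h⁻¹) * (h * B * h⁻¹) * (h * C * h⁻¹)
          from fun A B C => by group, ek, ej]
      rw [e] at h1
      obtain ⟨z', hz', e'⟩ := hcomb (a / (m : F)) b ((n : F) * (a / (m : F)))
        ((χ : F) * ((∑ l ∈ Finset.range n, (χ : F) ^ l) * b)) v' hv'K _ (hKconj h hh' z hz)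
      refine ⟨z', hz', ?_⟩
      have h2 := Subgroup.mul_mem _ hvX h1
      rw [e'] at h2
      convert h2 using 3
      · push_cast; ring_nf
      · rw [geom_sum_succ]; ring_nf
  obtain ⟨z, hz, hzX⟩ := hpow m
  have hsum : (∑ l ∈ Finset.range m, (χ : F) ^ l) = 0 := by
    have hχF : (χ : F) ≠ 1 := fun h => hχ1 (Units.ext h)
    have h1 := geom_sum_mul (χ : F) m
    rw [hm, ← Units.val_pow_eq_pow_val, pow_orderOf_eq_one, Units.val_one, sub_self] at h1
    exact (mul_eq_zero.1 h1).resolve_right (sub_ne_zero.2 hχF)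
  rw [hsum, zero_mul, xe_zero hG hj, mul_one, mul_div_cancel₀ _ hm0] at hzX
  exact ⟨z, hz.1, hz.2, hzX⟩

/-- Separated coordinates can all be removed. -/
theorem clean_upto [Fintype F] (hn : NegTri D) {X : Subgroup (GL D.Idx F)} (hXU : X ≤ (data hG F).U)
    (hB : BInvariant hG X) (i : Fin D.rank) (hi : ¬ X ≤ (data hG F).Urad i) {e : ℕ}
    (he : e < Fintype.card F - 1) : ∀ j, D.nroots / 2 ≤ j → j ≤ D.nroots →
      (∀ s, D.nroots / 2 ≤ s → s < j → s ≠ D.simple i.val → SepAt D e i.val s) →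
      ∀ a, ∃ v, v ∈ (data hG F).Urad i ∧ v ∈ Uge hG F j ∧ xe hG (D.simple i.val) a * v ∈ X := by
  intro j hj
  induction j, hj using Nat.le_induction with
  | base =>
    intro _ _ a
    obtain ⟨v, hv, hvX⟩ := exists_lead_coeff hG hf hXU hB i hi a
    refine ⟨v, hv, ?_, hvX⟩
    rw [Uge_eq_U hG hf, ← data_U hG hf]
    exact RootBN.Data.Urad_le_U i hv
  | succ j hj ih =>
    intro hjN hsep a
    have hall := ih (by omega) fun s h1 h2 => hsep s h1 (by omega)
    by_cases hjk : j = D.simple i.val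
    · obtain ⟨v, hv1, hv2, hvX⟩ := hall a
      subst hjk
      exact ⟨v, hv1, Urad_inf_Uge hG hf hn i hv1 hv2, hvX⟩
    · exact clean_step hG hf hB i (by omega) hj hjk (hsep j hj (by omega) hjk) he hall a

/-- With full separation a fundamental root subgroup outside whose radical `X` reaches lies in `X`. -/
theorem hasRoot_simple [Fintype F] (hn : NegTri D) {X : Subgroup (GL D.Idx F)} (hXU : X ≤ (data hG F).U)
    (hB : BInvariant hG X) (i : Fin D.rank) (hi : ¬ X ≤ (data hG F).Urad i) {e : ℕ}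
    (he : e < Fintype.card F - 1)
    (hsep : ∀ s, D.nroots / 2 ≤ s → s < D.nroots → s ≠ D.simple i.val → SepAt D e i.val s) :
    HasRoot hG X (D.simple i.val) := by
  intro a
  obtain ⟨v, -, hv2, hvX⟩ := clean_upto hG hf hn hXU hB i hi he D.nroots (by omega) le_rfl
    (fun s h1 h2 => hsep s h1 h2) a
  rw [Uge_top hG le_rfl, Subgroup.mem_bot] at hv2
  rwa [hv2, mul_one] at hvX

/-- A commutator word lies in `X` as soon as one of its two root subgroups does. -/
theorem termsProd_mem {X : Subgroup (GL D.Idx F)} (hB : BInvariant hG X) {b s : ℕ} (hb : b < D.nroots)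
    (hs : s < D.nroots) (hb' : D.nroots / 2 ≤ b) (hs' : D.nroots / 2 ≤ s) (hne : s ≠ b)
    (h : HasRoot hG X b ∨ HasRoot hG X s) (t u : F) : termsProd hG F t u (D.commTerms b s) ∈ X := by
  have hXB : ∀ r, ∀ (hr : r < D.nroots), D.nroots / 2 ≤ r → ∀ t : F, (xe hG r t)⁻¹ ∈ (data hG F).B :=
    fun r hr hr' t => Subgroup.inv_mem _ (RootBN.Data.U_le_B (RootBN.Data.X_le_U (D := data hG F)
      (r := (⟨r, hr⟩ : Fin D.nroots)) hr' ((mem_rootSubgroup hG hr).2 ⟨t, rfl⟩)))
  rw [← comm_eq_termsProd hG hb hs hne (by rw [neg_eq hf hb]; have := hf.1; omega) t u]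
  rcases h with h | h
  · have h1 := hB _ (hXB s hs hs' u) _ (Subgroup.inv_mem _ (h (-t)))
    rw [inv_inv] at h1
    exact Subgroup.mul_mem _ h1 (h (-t))
  · have h1 := hB _ (hXB b hb hb' (-t)) _ (h u)
    rw [inv_inv] at h1
    have := Subgroup.mul_mem _ (Subgroup.inv_mem _ (h u)) h1
    simpa [mul_assoc] using this

omit hf in
/-- A short word gives the root subgroups of its unit terms. -/
theorem hasRoot_of_wordOK {X : Subgroup (GL D.Idx F)} {b s r : ℕ} (hb : b < D.nroots) (hs : s < D.nroots)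
    (hword : ∀ t u : F, termsProd hG F t u (D.commTerms b s) ∈ X) (hok : WordOK (D.commTerms b s) r)
    {μ : F} (hμ0 : μ ≠ 0) (hμ : μ ≠ 1) : HasRoot hG X r := by
  have hlt : ∀ x ∈ D.commTerms b s, x.1 < D.nroots := fun x hx => hG.commTerms_lt hb hs hx
  generalize hw : D.commTerms b s = w at hword hok hlt
  have hsq : ∀ {C : ℤ}, C.natAbs = 1 → (C : F) * (C : F) = 1 := by
    intro C hC
    rcases Int.natAbs_eq_iff.1 hC with rfl | rfl <;> simp
  match w, hword, hok, hlt with
  | [x], hword, hok, hlt =>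
    obtain ⟨rfl, hC, hij⟩ := hok
    intro a
    rcases hij with hi | hj
    · have h1 := hword ((x.2.1 : F) * a) 1
      simp only [termsProd, mul_one, hi, pow_one, one_pow] at h1
      rwa [← mul_assoc, hsq hC, one_mul] at h1
    · have h1 := hword 1 ((x.2.1 : F) * a)
      simp only [termsProd, mul_one, hj, pow_one, one_pow] at h1
      rwa [← mul_assoc, hsq hC, one_mul] at h1
  | [x, y], hword, hok, hlt =>
    obtain ⟨hx, hy, hr⟩ := hok
    have hx1 : x.2.2.1 = 1 ∧ x.2.2.2 = 1 := by rw [hx]; exact ⟨rfl, rfl⟩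
    have hyl : y.1 < D.nroots := hlt y (by simp)
    -- the second term alone
    have hy2 : ∀ t u : F, xe hG y.1 ((y.2.1 : F) * t ^ y.2.2.1 * u ^ y.2.2.2) ∈ X := by
      have key : ∀ t u : F, xe hG y.1 ((y.2.1 : F) * (t * μ) ^ y.2.2.1 * (u / μ) ^ y.2.2.2 -
          (y.2.1 : F) * t ^ y.2.2.1 * u ^ y.2.2.2) ∈ X := by
        intro t u
        have h1 := Subgroup.mul_mem _ (Subgroup.inv_mem _ (hword t u)) (hword (t * μ) (u / μ))
        simp only [termsProd, mul_one, hx1.1, hx1.2, pow_one] at h1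
        rw [show (x.2.1 : F) * (t * μ) * (u / μ) = (x.2.1 : F) * t * u by field_simp] at h1
        rw [mul_inv_rev, mul_assoc, inv_mul_cancel_left, xe_inv hG hyl, xe_add hG hyl] at h1
        rwa [neg_add_eq_sub] at h1
      intro t u
      rcases hy with hy | hy
      · have e1 : y.2.2.1 = 2 ∧ y.2.2.2 = 1 := by rw [hy]; exact ⟨rfl, rfl⟩
        have := key t (u / (μ - 1))
        rw [e1.1, e1.2] at this ⊢
        convert this using 2
        field_simp [sub_ne_zero.2 hμ]
      · have e1 : y.2.2.1 = 1 ∧ y.2.2.2 = 2 := by rw [hy]; exact ⟨rfl, rfl⟩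
        have := key (t / (μ⁻¹ - 1)) u
        rw [e1.1, e1.2] at this ⊢
        have h0 : μ⁻¹ - 1 ≠ 0 := sub_ne_zero.2 fun h => hμ (inv_eq_one.1 h)
        convert this using 2
        field_simp
    intro a
    rcases hr with ⟨rfl, hC⟩ | ⟨rfl, hC⟩
    · have h1 := hword 1 ((x.2.1 : F) * a)
      simp only [termsProd, hx1.1, hx1.2, pow_one, mul_one] at h1
      rw [Subgroup.mul_mem_cancel_right _ (hy2 1 ((x.2.1 : F) * a))] at h1
      rwa [← mul_assoc, hsq hC, one_mul] at h1
    · rcases hy with hy | hy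
      · have e1 : y.2.2.1 = 2 ∧ y.2.2.2 = 1 := by rw [hy]; exact ⟨rfl, rfl⟩
        have := hy2 1 ((y.2.1 : F) * a)
        rwa [e1.2, one_pow, mul_one, pow_one, ← mul_assoc, hsq hC, one_mul] at this
      · have e1 : y.2.2.1 = 1 ∧ y.2.2.2 = 2 := by rw [hy]; exact ⟨rfl, rfl⟩
        have := hy2 ((y.2.1 : F) * a) 1
        rwa [e1.1, one_pow, mul_one, pow_one, ← mul_assoc, hsq hC, one_mul] at this
  | [], _, hok, _ => exact hok.elim
  | _ :: _ :: _ :: _, _, hok, _ => exact hok.elim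

omit hf in
/-- The Cartan row of a root from that of a lower one. -/
theorem cartanForm_lt {k : List ℤ} {b s r : ℕ} (hb : b < D.nroots) (hs : s < D.nroots)
    (hfb : 0 < cartanForm D k b) (hfs : 0 < cartanForm D k s) {x : ℕ × ℤ × ℕ × ℕ}
    (hx : x ∈ D.commTerms b s) (hxr : x.1 = r) : cartanForm D k s < cartanForm D k r := by
  subst hxr
  obtain ⟨h1, h2, hlin⟩ := commTerms_cartan hG hb hs hx
  have e : cartanForm D k x.1 = (x.2.2.1 : ℤ) * cartanForm D k b + (x.2.2.2 : ℤ) * cartanForm D k s := by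
    simp only [cartanForm, Finset.mul_sum]
    rw [← Finset.sum_add_distrib]
    refine Finset.sum_congr rfl fun i hi => ?_
    rw [hlin i (Finset.mem_range.1 hi)]
    ring
  have h3 : (1 : ℤ) ≤ x.2.2.1 := by exact_mod_cast h1
  have h4 : (1 : ℤ) ≤ x.2.2.2 := by exact_mod_cast h2
  nlinarith

/-- The roots of the radical are generated from the fundamental ones outside `J`. -/
theorem hasRoot_of_wordFact {k : List ℤ} (hk : PosForm D k) (hW : WordFact D) {X : Subgroup (GL D.Idx F)}
    (hB : BInvariant hG X) {μ : F} (hμ0 : μ ≠ 0) (hμ : μ ≠ 1) {J : Set ℕ}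
    (hsimp : ∀ i < D.rank, i ∉ J → HasRoot hG X (D.simple i)) :
    ∀ r, D.IsPosRoot r → ¬ D.InRootSub J r → HasRoot hG X r := by
  suffices key : ∀ n, ∀ r, (cartanForm D k r).toNat = n → D.IsPosRoot r → ¬ D.InRootSub J r →
      HasRoot hG X r from fun r => key _ r rfl
  intro n
  induction n using Nat.strong_induction_on with
  | _ n ih =>
    intro r hn hpos hnin
    obtain ⟨i0, hi0, hi0J, hc⟩ : ∃ i, i < D.rank ∧ i ∉ J ∧ (D.coroot.getD r #[]).getD i 0 ≠ 0 := by
      by_contra hno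
      push Not at hno
      exact hnin ⟨hpos.1, fun i hi hiJ => hno i hi hiJ⟩
    have hr' := (pos_iff hf hpos.1).1 hpos
    rcases hW r hpos.1 hr' i0 hi0 hc with rfl | ⟨i, hi, j, -, s, -, hs', hs, hik, hok⟩
    · exact hsimp i0 hi0 hi0J
    have hb := hG.simple_lt hi
    have hb' := (hf.2.2.2.2.1 i hi).2.1
    have hne : s ≠ D.simple i := by
      rintro rfl
      have hnil : D.commTerms (D.simple i) (D.simple i) = [] := by
        obtain ⟨c, hV⟩ := hG
        refine List.eq_nil_iff_forall_not_mem.2 fun x hx => ?_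
        simp only [ChevalleyDatum.commTerms, List.mem_filterMap, List.mem_cons, List.not_mem_nil, or_false,
          Option.map_eq_some_iff] at hx
        obtain ⟨y, hy, q, hq, -⟩ := hx
        have h0 : ∀ m, D.chainRoot (D.simple i) (D.simple i) m = none := by
          intro m
          rw [hV.cRoot_eq hb, Cert.cRoot, Cert.ent, (hV.base'.1 _ hb).2.2.2.2.1]
          simp [decTerms, fieldAt]
        rcases hy with rfl | rfl | rfl | rfl | rfl | rfl | rfl <;> simp [h0] at hq
      rw [hnil] at hok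
      exact hok
    obtain ⟨x, hx, hxr⟩ : ∃ x ∈ D.commTerms (D.simple i) s, x.1 = r := by
      generalize D.commTerms (D.simple i) s = w at hok
      match w, hok with
      | [x], h => exact ⟨x, by simp, h.1⟩
      | [x, y], h =>
        rcases h.2.2 with h1 | h1
        · exact ⟨x, by simp, h1.1⟩
        · exact ⟨y, by simp, h1.1⟩
    have hlt := cartanForm_lt hG hb hs ((hk _ hb).1 hb') ((hk _ hs).1 hs') hx hxr
    have hfs := (hk _ hs).1 hs'
    refine hasRoot_of_wordOK hG hb hs (fun t u => termsProd_mem hG hf hB hb hs hb' hs' hne ?_ t u)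
      hok hμ0 hμ
    rcases hik with rfl | hcs
    · exact Or.inl (hsimp i hi hi0J)
    · refine Or.inr (ih _ (by omega) s rfl ((pos_iff hf hs).2 hs') ?_)
      exact fun hin => hcs (hin.2 i0 hi0 hi0J)

set_option maxHeartbeats 800000 in
/-- The subgroup lies in the radical of the nodes whose radicals contain it. -/
theorem le_radical [Fintype F] (hn : NegTri D) {M : List ℕ} (hM : CorootFact D M) {d : ℕ} {B : List (List ℤ)}
    (hBf : ParaFact D d B) {k : List ℤ} (hk : PosForm D k) (hpair : PairTwo D) {X : Subgroup (GL D.Idx F)}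
    (hXU : X ≤ (data hG F).U) (hwc : ∀ g ∈ D.group F, X.map (MulAut.conj g).toMonoidHom ≤ (data hG F).U →
      X.map (MulAut.conj g).toMonoidHom = X)
    {J : Set ℕ} (hJ : ∀ i : Fin D.rank, i.val ∈ J → X ≤ (data hG F).Urad i) :
    X ≤ D.unipotentRadical F J := by
  classical
  have ax := axioms (F := F) hG hf
  have hN : D.nroots / 2 + D.nroots / 2 = D.nroots := by have := hf.1; omega
  have hnn : ∀ i : Fin D.rank, i.val ∈ J → ∀ g ∈ X, ((data hG F).nn i)⁻¹ * g * (data hG F).nn i ∈ X := by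
    intro i hi g hg
    have hG' : ((data hG F).nn i)⁻¹ ∈ D.group F := by
      rw [← data_grp hG]; exact Subgroup.inv_mem _ (ax.nn_mem i)
    have := hwc _ hG' (fun z hz => by
      rw [Subgroup.mem_map_equiv, MulAut.conj_symm_apply, inv_inv] at hz
      have h1 := RootBN.Data.nn_inv_conj_Urad ax (hJ i hi hz)
      refine RootBN.Data.Urad_le_U i ?_
      simpa [mul_assoc] using h1)
    rw [← this]
    exact ⟨g, hg, by simp⟩
  have hl : ∀ l : List (Fin D.rank), (∀ i ∈ l, i.val ∈ J) → ∀ g ∈ X,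
      ((data hG F).nw l)⁻¹ * g * (data hG F).nw l ∈ X := by
    intro l
    induction l with
    | nil => intro _ g hg; simpa using hg
    | cons i l ih =>
      intro hl g hg
      rw [RootBN.Data.nw_cons, mul_inv_rev]
      have := ih (fun x hx => hl x (List.mem_cons_of_mem _ hx)) _ (hnn i (hl i List.mem_cons_self) g hg)
      simpa [mul_assoc] using this
  obtain ⟨v, hvE, hd, hJ0, hiff, hrad⟩ := exists_radical_form (F := F) hG hf hM hBf J
  intro x hx
  have hxI : ∀ l : List (Fin D.rank), (∀ i ∈ l, i.val ∈ J) → x ∈ Inter hG F l := fun l hl' =>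
    (mem_Inter hG).2 ⟨hXU hx, hXU (hl l hl' x hx)⟩
  obtain ⟨t, ht, rfl⟩ := exists_prodFrom_Inter hG hf hn [] (hxI [] (by simp))
  rw [hrad]
  refine prodFrom_mem_of hG hN.le fun r hr1 hr2 hne => ?_
  have hr : r < D.nroots := by omega
  refine xe_mem_rootGen hG (S := {r : Fin D.nroots | 1 ≤ v r}) (r := (⟨r, hr⟩ : Fin D.nroots)) ?_ _
  refine (hiff _).2 ⟨(pos_iff hf hr).2 hr1, fun hin => ?_⟩
  -- the orbit of `r` under the nodes in `J` consists of positive roots
  set O : Finset (Fin D.nroots) := Finset.univ.filter fun q =>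
    ∃ l : List (Fin D.rank), (∀ i ∈ l, i.val ∈ J) ∧ ((data hG F).wl l)⁻¹ ⟨r, hr⟩ = q with hO
  have hpos : ∀ q ∈ O, D.nroots / 2 ≤ q.val := by
    intro q hq
    obtain ⟨l, hl', rfl⟩ := (Finset.mem_filter.1 hq).2
    obtain ⟨u, hu, e⟩ := exists_prodFrom_Inter hG hf hn l (hxI l hl')
    have : u r ≠ 0 := by rwa [← prodFrom_inj hG hf hN le_rfl e r hr1 hr]
    obtain ⟨_, _, hp⟩ := hu r this
    exact hp
  have hrO : (⟨r, hr⟩ : Fin D.nroots) ∈ O :=
    Finset.mem_filter.2 ⟨Finset.mem_univ _, [], by simp, by simp⟩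
  obtain ⟨q, hq, hmin⟩ := Finset.exists_min_image O (fun q => cartanForm D k q.val) ⟨_, hrO⟩
  have hstep : ∀ q ∈ O, ∀ i : Fin D.rank, i.val ∈ J → (data hG F).refl i q ∈ O := by
    intro q hq i hi
    obtain ⟨l, hl', rfl⟩ := (Finset.mem_filter.1 hq).2
    refine Finset.mem_filter.2 ⟨Finset.mem_univ _, l ++ [i], fun z hz => ?_, ?_⟩
    · rcases List.mem_append.1 hz with hz | hz
      · exact hl' z hz
      · rwa [List.mem_singleton.1 hz]
    · rw [RootBN.Data.wl_append, RootBN.Data.wl_cons, RootBN.Data.wl_nil, mul_one, mul_inv_rev,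
        RootBN.Data.refl_inv ax, Equiv.Perm.mul_apply]
  have hvq : ∀ l : List (Fin D.rank), (∀ i ∈ l, i.val ∈ J) →
      v (((data hG F).wl l)⁻¹ ⟨r, hr⟩) = v ⟨r, hr⟩ := by
    intro l
    induction l using List.reverseRecOn with
    | nil => intro _; rw [RootBN.Data.wl_nil, inv_one]; rfl
    | append_singleton l i ih =>
      intro hl'
      rw [RootBN.Data.wl_append, RootBN.Data.wl_cons, RootBN.Data.wl_nil, mul_one, mul_inv_rev,
        RootBN.Data.refl_inv ax, Equiv.Perm.mul_apply,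
        linForms_affine hvE (a := (data hG F).refl i (((data hG F).wl l)⁻¹ ⟨r, hr⟩))
          (b := ((data hG F).wl l)⁻¹ ⟨r, hr⟩) (d := ⟨D.simple i.val, hG.simple_lt i.2⟩) (s := 1)
          (t := -D.cartan i.val (((data hG F).wl l)⁻¹ ⟨r, hr⟩).val)
          (fun m hm => by rw [data_refl, hG.cartan_reflectRoot i.2 hm (Fin.is_lt _)]; ring),
        hJ0 i (hl' i (by simp)), ih fun z hz => hl' z (by simp [hz])]
      simp
  have hqin : D.InRootSub J q.val := by
    by_contra hnin
    obtain ⟨l, hl', hlq⟩ := (Finset.mem_filter.1 hq).2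
    have h1 : 1 ≤ v q := (hiff q).2 ⟨(pos_iff hf q.2).2 (hpos q hq), hnin⟩
    rw [← hlq, hvq l hl'] at h1
    exact ((hiff _).1 h1).2 hin
  have hsum : D.pairing q.val q.val ≤ 0 := by
    rw [ChevalleyDatum.pairing, list_range_sum]
    refine Finset.sum_nonpos fun i hi => ?_
    have hi' := Finset.mem_range.1 hi
    by_cases hiJ : i ∈ J
    · have hc : 0 ≤ (D.coroot.getD q.val #[]).getD i 0 := by
        have hsz : i < (D.coroot.getD q.val #[]).size := by rw [(hf.2.2.1 q.val q.2).2.2.2.2]; exact hi'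
        rw [Array.getD_eq_getD_getElem?, Array.getElem?_eq_getElem hsz]
        exact ((pos_iff hf q.2).2 (hpos q hq)).2 _ (Array.mem_toList_iff.2 (Array.getElem_mem hsz))
      refine mul_nonpos_of_nonneg_of_nonpos hc ?_
      have h1 : cartanForm D k q.val ≤ cartanForm D k (D.reflectRoot i q.val) :=
        hmin _ (hstep q hq ⟨i, hi'⟩ hiJ)
      have e : cartanForm D k (D.reflectRoot i q.val) =
          cartanForm D k q.val + -D.cartan i q.val * cartanForm D k (D.simple i) :=
        cartanForm_affine fun m hm => by rw [hG.cartan_reflectRoot hi' hm q.2]; ring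
      have h2 := (hk _ (hG.simple_lt hi')).1 (hf.2.2.2.2.1 i hi').2.1
      rw [e] at h1
      by_contra hpos'
      nlinarith [not_le.1 hpos']
    · rw [hqin.2 i hi' hiJ, zero_mul]
  have := hpair q.val q.2
  omega

/-- **Weakly closed subgroups of `U` are radicals**, given the two generation properties. -/
theorem weaklyClosed_eq [Fintype F] (hn : NegTri D) {M : List ℕ} (hM : CorootFact D M) {d : ℕ}
    {B : List (List ℤ)} (hBf : ParaFact D d B) {k : List ℤ} (hk : PosForm D k) (hpair : PairTwo D)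
    (hex : ∀ X : Subgroup (GL D.Idx F), X ≤ (data hG F).U → BInvariant hG X → ∀ i : Fin D.rank,
      ¬ X ≤ (data hG F).Urad i → HasRoot hG X (D.simple i.val))
    (hgen : ∀ X : Subgroup (GL D.Idx F), BInvariant hG X → ∀ J : Set ℕ,
      (∀ i < D.rank, i ∉ J → HasRoot hG X (D.simple i)) →
        ∀ r, D.IsPosRoot r → ¬ D.InRootSub J r → HasRoot hG X r)
    {X : Subgroup (GL D.Idx F)} (hXU : X ≤ (data hG F).U)
    (hwc : ∀ g ∈ D.group F, X.map (MulAut.conj g).toMonoidHom ≤ (data hG F).U →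
      X.map (MulAut.conj g).toMonoidHom = X) :
    ∃ J : Set ℕ, (∀ j ∈ J, j < D.rank) ∧ X = D.unipotentRadical F J := by
  have hB : BInvariant hG X := by
    intro b hb g hg
    have hbG : b ∈ D.group F := borel_le_group hG hf ((data_B hG hf).le hb)
    have := hwc b hbG (fun z hz => by
      rw [Subgroup.mem_map_equiv, MulAut.conj_symm_apply] at hz
      have h1 : b⁻¹ * z * b ∈ Uge hG F (D.nroots / 2) := by
        rw [Uge_eq_U hG hf, ← data_U hG hf]; exact hXU hz
      have h2 := borel_conj_Uge hG hf le_rfl hb h1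
      rw [data_U hG hf, ← Uge_eq_U hG hf]
      simpa [mul_assoc] using h2)
    rw [← this]
    exact ⟨g, hg, rfl⟩
  refine ⟨{i | ∃ hi : i < D.rank, X ≤ (data hG F).Urad ⟨i, hi⟩}, fun j hj => hj.1, le_antisymm ?_ ?_⟩
  · exact le_radical hG hf hn hM hBf hk hpair hXU hwc fun i hi => hi.2
  · rw [ChevalleyDatum.unipotentRadical, Subgroup.closure_le]
    rintro g ⟨r, t, hr, hnin, hg⟩
    obtain rfl : g = xe hG r t := eq_xe hG hg
    refine hgen X hB _ (fun i hi hiJ => ?_) r hr hnin t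
    exact hex X hXU hB ⟨i, hi⟩ fun h => hiJ (Exists.intro hi h)

end Cfsg.Agent.Chev.BNSetup
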