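/-
Certificates for weakly closed unipotent subgroups of the seven types, and the type G₂ case.
-/
import Cfsg.Agent.Lib.Chev.WeaklyClosedMain
import Cfsg.Agent.Lib.Chev.RootCerts
import Cfsg.Agent.Lib.Chev.ParaCerts
import Cfsg.Agent.Lib.Chev.BNCore

set_option autoImplicit false

namespace Cfsg.Agent.Chev.BNSetup

open Cfsg.Lie

/-- All fundamental roots are separated from the other positive roots. -/
def SepFact (D : ChevalleyDatum) (e : ℕ) : Prop :=
  ∀ i < D.rank, ∀ s < D.nroots, D.nroots / 2 ≤ s → s ≠ D.simple i → SepAt D e i s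

instance decidableSepFact (D : ChevalleyDatum) (e : ℕ) : Decidable (SepFact D e) :=
  inferInstanceAs (Decidable (∀ _, _ → _))

theorem pairTwo_chevG2 : PairTwo chevG2 := by decide +kernel
theorem pairTwo_chevB2 : PairTwo chevB2 := by decide +kernel
theorem pairTwo_chevD4 : PairTwo chevD4 := by decide +kernel
theorem pairTwo_chevF4 : PairTwo chevF4 := by decide +kernel
theorem pairTwo_chevE6 : PairTwo chevE6 := by decide +kernel
theorem pairTwo_chevE7 : PairTwo chevE7 := by decide +kernel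
theorem pairTwo_chevE8 : PairTwo chevE8 := by decide +kernel

theorem wordFact_chevB2 : WordFact chevB2 := by decide +kernel
theorem wordFact_chevD4 : WordFact chevD4 := by decide +kernel
theorem wordFact_chevF4 : WordFact chevF4 := by decide +kernel
theorem wordFact_chevE6 : WordFact chevE6 := by decide +kernel
theorem wordFact_chevE7 : WordFact chevE7 := by decide +kernel
theorem wordFact_chevE8 : WordFact chevE8 := by decide +kernel

theorem sepFact_chevB2 : SepFact chevB2 2 := by decide +kernel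
theorem sepFact_chevD4 : SepFact chevD4 2 := by decide +kernel
theorem sepFact_chevF4 : SepFact chevF4 2 := by decide +kernel
theorem sepFact_chevE6 : SepFact chevE6 1 := by decide +kernel
theorem sepFact_chevE7 : SepFact chevE7 1 := by decide +kernel
theorem sepFact_chevE8 : SepFact chevE8 1 := by decide +kernel

/-- The facts needed in the types other than G₂, with the bound on the field. -/
theorem exists_wcFacts {D : ChevalleyDatum}
    (hD : D ∈ [chevB2, chevD4, chevF4, chevE6, chevE7, chevE8]) :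
    ∃ e, (e = 1 ∨ e = 2 ∧ D ∈ [chevG2, chevB2, chevD4, chevF4]) ∧ SepFact D e ∧ WordFact D ∧ PairTwo D := by
  simp only [List.mem_cons, List.not_mem_nil, or_false] at hD
  rcases hD with rfl | rfl | rfl | rfl | rfl | rfl
  · exact ⟨2, Or.inr ⟨rfl, by simp⟩, sepFact_chevB2, wordFact_chevB2, pairTwo_chevB2⟩
  · exact ⟨2, Or.inr ⟨rfl, by simp⟩, sepFact_chevD4, wordFact_chevD4, pairTwo_chevD4⟩
  · exact ⟨2, Or.inr ⟨rfl, by simp⟩, sepFact_chevF4, wordFact_chevF4, pairTwo_chevF4⟩
  · exact ⟨1, Or.inl rfl, sepFact_chevE6, wordFact_chevE6, pairTwo_chevE6⟩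
  · exact ⟨1, Or.inl rfl, sepFact_chevE7, wordFact_chevE7, pairTwo_chevE7⟩
  · exact ⟨1, Or.inl rfl, sepFact_chevE8, wordFact_chevE8, pairTwo_chevE8⟩

/-! ### Type G₂: roots 7 and 6 are fundamental, short and long; the others are 8, 9, 10, 11. -/

theorem g2_numbers : chevG2.nroots = 12 ∧ chevG2.rank = 2 ∧ chevG2.simple 0 = 7 ∧ chevG2.simple 1 = 6 ∧
    chevG2.commTerms 7 6 = [(8, -1, 1, 1), (9, 1, 2, 1), (10, 1, 3, 1), (11, 1, 3, 2)] ∧
    chevG2.commTerms 10 6 = [(11, -1, 1, 1)] ∧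
    (chevG2.commTerms 9 6 = [] ∧ chevG2.commTerms 11 6 = [] ∧ chevG2.commTerms 7 10 = [] ∧
      chevG2.commTerms 7 11 = [] ∧ chevG2.commTerms 9 10 = [] ∧ chevG2.commTerms 9 11 = [] ∧
      chevG2.commTerms 10 11 = []) := by
  decide +kernel

theorem g2_sep0 : ∀ s < 12, 6 ≤ s → s ≠ 7 → SepAt chevG2 2 0 s := by decide +kernel
theorem g2_sep1 : ∀ s < 10, 6 ≤ s → s ≠ 6 → SepAt chevG2 2 1 s := by decide +kernel
theorem g2_supp : ∀ r < 12, 6 ≤ r → ∀ k < 2, (chevG2.coroot.getD r #[]).getD k 0 ≠ 0 →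
    r = chevG2.simple k ∨ 8 ≤ r := by decide +kernel
theorem g2_neg : ∀ r < 12, ∀ s < 12, 6 ≤ r → 6 ≤ s → s ≠ chevG2.neg r := by decide +kernel

variable {F : Type*} [Field F] (hG : Good chevG2) {tabs simps : List ℕ} (hf : Facts chevG2 tabs simps)
include hG hf

omit hf in
/-- The conjugate of a root element by another in G₂. -/
theorem g2_conj {b s : ℕ} (hb : b < 12) (hs : s < 12) (hb' : 6 ≤ b) (hs' : 6 ≤ s) (hne : s ≠ b) (t u : F) :
    (xe hG s u)⁻¹ * xe hG b t * xe hG s u = termsProd hG F t u (chevG2.commTerms b s) * xe hG b t := by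
  have hN := g2_numbers.1
  have hb0 : b < chevG2.nroots := by omega
  rw [← comm_eq_termsProd hG hb0 (by omega) hne (g2_neg b hb s hs hb' hs') t u]
  have h : xe hG b (-t) = (xe hG b t)⁻¹ := (xe_inv hG hb0 t).symm
  rw [h]
  group

omit hf in
/-- The commuting pairs of root elements. -/
theorem g2_comm {b s : ℕ} (hb : b < 12) (hs : s < 12) (hb' : 6 ≤ b) (hs' : 6 ≤ s) (hne : s ≠ b)
    (hw : chevG2.commTerms b s = []) (t u : F) : xe hG s u * xe hG b t = xe hG b t * xe hG s u := by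
  have h := g2_conj hG hb hs hb' hs' hne t u
  rw [hw, termsProd, one_mul] at h
  calc xe hG s u * xe hG b t = xe hG s u * ((xe hG s u)⁻¹ * xe hG b t * xe hG s u) := by rw [h]
    _ = _ := by group

omit hf in
/-- The word of the two fundamental roots gives the four other root subgroups. -/
theorem g2_word_all {X : Subgroup (GL chevG2.Idx F)} (hB : BInvariant hG X)
    (hword : ∀ t u : F, termsProd hG F t u (chevG2.commTerms 7 6) ∈ X) {μ : F} (hμ0 : μ ≠ 0) (hμ : μ ^ 2 ≠ 1) :
    HasRoot hG X 8 ∧ HasRoot hG X 9 ∧ HasRoot hG X 10 ∧ HasRoot hG X 11 := by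
  obtain ⟨hN, -, -, -, h76, h106, h96, h116, -, -, h910, h911, h1011⟩ := g2_numbers
  have l8 : 8 < chevG2.nroots := by omega
  have l9 : 9 < chevG2.nroots := by omega
  have l10 : 10 < chevG2.nroots := by omega
  have l11 : 11 < chevG2.nroots := by omega
  have hμ1 : μ ≠ 1 := fun h => hμ (by rw [h, one_pow])
  have hd2 : μ ^ 2 - 1 ≠ 0 := sub_ne_zero.2 hμ
  have hd1 : μ - 1 ≠ 0 := sub_ne_zero.2 hμ1
  have hw : ∀ t u : F, xe hG 8 (-(t * u)) * (xe hG 9 (t ^ 2 * u) * (xe hG 10 (t ^ 3 * u) *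
      xe hG 11 (t ^ 3 * u ^ 2))) ∈ X := by
    intro t u
    have h := hword t u
    rw [h76] at h
    simpa [termsProd] using h
  have c109 : ∀ (a b : F) (g : GL chevG2.Idx F), xe hG 10 a * (xe hG 9 b * g) = xe hG 9 b * (xe hG 10 a * g) := fun a b g => by
    rw [← mul_assoc, g2_comm hG (by omega) (by omega) (by omega) (by omega) (by omega) h910 b a, mul_assoc]
  have c119 : ∀ (a b : F) (g : GL chevG2.Idx F), xe hG 11 a * (xe hG 9 b * g) = xe hG 9 b * (xe hG 11 a * g) := fun a b g => by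
    rw [← mul_assoc, g2_comm hG (by omega) (by omega) (by omega) (by omega) (by omega) h911 b a, mul_assoc]
  have c1110 : ∀ (a b : F) (g : GL chevG2.Idx F), xe hG 11 a * (xe hG 10 b * g) = xe hG 10 b * (xe hG 11 a * g) := fun a b g => by
    rw [← mul_assoc, g2_comm hG (by omega) (by omega) (by omega) (by omega) (by omega) h1011 b a,
      mul_assoc]
  have hP : ∀ t u : F, xe hG 9 ((μ - 1) * (t ^ 2 * u)) * (xe hG 10 ((μ ^ 2 - 1) * (t ^ 3 * u)) *
      xe hG 11 ((μ - 1) * (t ^ 3 * u ^ 2))) ∈ X := by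
    intro t u
    have h := Subgroup.mul_mem _ (Subgroup.inv_mem _ (hw t u)) (hw (t * μ) (u / μ))
    rw [show t * μ * (u / μ) = t * u by field_simp,
      show (t * μ) ^ 2 * (u / μ) = μ * (t ^ 2 * u) by field_simp,
      show (t * μ) ^ 3 * (u / μ) = μ ^ 2 * (t ^ 3 * u) by field_simp,
      show (t * μ) ^ 3 * (u / μ) ^ 2 = μ * (t ^ 3 * u ^ 2) by field_simp] at h
    simp only [mul_inv_rev, mul_assoc, inv_mul_cancel_left] at h
    simp only [xe_inv hG l9, xe_inv hG l10, xe_inv hG l11, c109, c119, c1110] at h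
    rw [← mul_assoc (xe hG 9 _) (xe hG 9 _), xe_add hG l9, ← mul_assoc (xe hG 10 _) (xe hG 10 _),
      xe_add hG l10, xe_add hG l11] at h
    convert h using 2
    · ring_nf
    · congr 2 <;> ring
  have h11 : HasRoot hG X 11 := by
    intro a
    have hx6 : (xe hG 6 (-a / (μ ^ 2 - 1)))⁻¹ ∈ (data hG F).B := Subgroup.inv_mem _
      (RootBN.Data.U_le_B (RootBN.Data.X_le_U (D := data hG F) (r := (⟨6, by omega⟩ : Fin chevG2.nroots))
        (show chevG2.nroots / 2 ≤ 6 by omega) ((mem_rootSubgroup hG (by omega)).2 ⟨_, rfl⟩)))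
    have h := Subgroup.mul_mem _ (Subgroup.inv_mem _ (hP 1 1)) (hB _ hx6 _ (hP 1 1))
    generalize hs : -a / (μ ^ 2 - 1) = s at h
    simp only [one_pow, mul_one] at h
    rw [inv_inv] at h
    have e9 := g2_conj hG (b := 9) (s := 6) (by omega) (by omega) (by omega) (by omega) (by omega) (μ - 1) s
    have e11 := g2_conj hG (b := 11) (s := 6) (by omega) (by omega) (by omega) (by omega) (by omega)
      (μ - 1) s
    have e10 := g2_conj hG (b := 10) (s := 6) (by omega) (by omega) (by omega) (by omega) (by omega)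
      (μ ^ 2 - 1) s
    rw [h96, termsProd, one_mul] at e9
    rw [h116, termsProd, one_mul] at e11
    rw [h106] at e10
    simp only [termsProd, mul_one, pow_one, Int.cast_neg, Int.cast_one] at e10
    rw [show ∀ A B C g : GL chevG2.Idx F, g⁻¹ * (A * (B * C)) * g = (g⁻¹ * A * g) * ((g⁻¹ * B * g) * (g⁻¹ * C * g))
      from fun A B C g => by group, e9, e10, e11, mul_assoc (xe hG 11 _) (xe hG 10 _), c1110, xe_add hG l11]
      at h
    simp only [mul_inv_rev, mul_assoc, inv_mul_cancel_left] at h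
    rw [xe_inv hG l11, xe_add hG l11] at h
    convert h using 2
    rw [← hs]
    field_simp
    ring
  have hP' : ∀ t u : F, xe hG 9 ((μ - 1) * (t ^ 2 * u)) * xe hG 10 ((μ ^ 2 - 1) * (t ^ 3 * u)) ∈ X := by
    intro t u
    have h := hP t u
    rw [← mul_assoc] at h
    exact (Subgroup.mul_mem_cancel_right _ (h11 _)).1 h
  have h10 : HasRoot hG X 10 := by
    intro a
    set u : F := a / ((μ - 1) * (μ ^ 2 - 1)) with hu
    have h := Subgroup.mul_mem _ (Subgroup.inv_mem _ (hP' 1 u)) (hP' μ (u / μ ^ 2))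
    rw [show μ ^ 2 * (u / μ ^ 2) = 1 ^ 2 * u by field_simp] at h
    simp only [mul_inv_rev, mul_assoc, inv_mul_cancel_left] at h
    rw [xe_inv hG l10, xe_add hG l10] at h
    convert h using 2
    rw [hu]
    field_simp
    ring
  have h9 : HasRoot hG X 9 := by
    intro a
    have h := (Subgroup.mul_mem_cancel_right _ (h10 _)).1 (hP' 1 (a / (μ - 1)))
    rwa [one_pow, one_mul, mul_div_cancel₀ _ hd1] at h
  refine ⟨fun a => ?_, h9, h10, h11⟩
  have h := hw 1 (-a)
  rw [Subgroup.mul_mem_cancel_right _ (Subgroup.mul_mem _ (h9 _) (Subgroup.mul_mem _ (h10 _) (h11 _)))] at h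
  rwa [one_mul, neg_neg] at h

/-- In G₂ a fundamental root subgroup outside whose radical `X` reaches lies in `X`. -/
theorem g2_hasRoot_simple [Fintype F] (hn : NegTri chevG2) (hq : 2 < Fintype.card F - 1)
    {X : Subgroup (GL chevG2.Idx F)} (hXU : X ≤ (data hG F).U) (hB : BInvariant hG X) (i : Fin chevG2.rank)
    (hi : ¬ X ≤ (data hG F).Urad i) : HasRoot hG X (chevG2.simple i.val) := by
  obtain ⟨hN, hR, h0, h1, -, -, -, -, h710, h711, -, -, -⟩ := g2_numbers
  have hi2 : i.val = 0 ∨ i.val = 1 := by have := i.2; omega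
  rcases hi2 with hz | hz
  · refine hasRoot_simple hG hf hn hXU hB i hi hq fun s h2 h3 h4 => ?_
    rw [hz, h0] at h4
    rw [hz]
    exact g2_sep0 s (by omega) (by omega) h4
  rw [hz, h1]
  have hall : ∀ a, ∃ b c : F, xe hG 6 a * (xe hG 10 b * xe hG 11 c) ∈ X := by
    intro a
    obtain ⟨v, -, hv, hvX⟩ := clean_upto hG hf hn hXU hB i hi hq 10 (by omega) (by omega)
      (fun s h2 h3 h4 => by
        rw [hz, h1] at h4
        rw [hz]
        exact g2_sep1 s h3 (by omega) h4) a
    obtain ⟨b, v', hv', rfl⟩ := Uge_split hG hf (k := 10) (by omega) (by omega) hv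
    obtain ⟨c, v'', hv'', rfl⟩ := Uge_split hG hf (k := 11) (by omega) (by omega) hv'
    rw [Uge_top hG (by omega), Subgroup.mem_bot] at hv''
    rw [hv'', mul_one, hz, h1] at hvX
    exact ⟨b, c, hvX⟩
  have hmem : ∀ r, r < 12 → 6 ≤ r → ∀ t : F, xe hG r t ∈ (data hG F).B := fun r hr hr' t =>
    RootBN.Data.U_le_B (RootBN.Data.X_le_U (D := data hG F) (r := (⟨r, by omega⟩ : Fin chevG2.nroots))
      (show chevG2.nroots / 2 ≤ r by omega) ((mem_rootSubgroup hG (by omega)).2 ⟨t, rfl⟩))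
  have hword : ∀ t u : F, termsProd hG F t u (chevG2.commTerms 7 6) ∈ X := by
    intro t u
    obtain ⟨b, c, hbc⟩ := hall u
    have h := Subgroup.mul_mem _ (Subgroup.inv_mem _ hbc) (hB _ (hmem 7 (by omega) (by omega) t) _ hbc)
    have e10 : xe hG 7 t * xe hG 10 b = xe hG 10 b * xe hG 7 t :=
      (g2_comm hG (by omega) (by omega) (by omega) (by omega) (by omega) h710 t b).symm
    have e11 : xe hG 7 t * xe hG 11 c = xe hG 11 c * xe hG 7 t :=
      (g2_comm hG (by omega) (by omega) (by omega) (by omega) (by omega) h711 t c).symm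
    have h' := hB _ (Subgroup.mul_mem _ (hmem 10 (by omega) (by omega) b) (hmem 11 (by omega) (by omega) c)) _ h
    rw [← comm_eq_termsProd hG (by omega) (by omega) (by omega)
      (g2_neg 7 (by omega) 6 (by omega) (by omega) (by omega)) t u,
      ← xe_inv hG (show 7 < chevG2.nroots by omega), inv_inv]
    have key : ∀ y x p r : GL chevG2.Idx F, y * p = p * y → y * r = r * y →
        x⁻¹ * y * x * y⁻¹ = p * r * ((x * (p * r))⁻¹ * (y * (x * (p * r)) * y⁻¹)) * (p * r)⁻¹ := by
      intro y x p r hp hr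
      have hy : y⁻¹ * (p * r)⁻¹ = (p * r)⁻¹ * y⁻¹ := by
        rw [← mul_inv_rev, ← mul_inv_rev, mul_assoc, ← hr, ← mul_assoc, ← hp, mul_assoc]
      simp only [mul_inv_rev, mul_assoc] at hy ⊢
      simp only [mul_inv_cancel_left]
      rw [hy]
      group
    rw [key _ _ _ _ e10 e11]
    exact h'
  obtain ⟨g, hg⟩ := exists_zpow_ne_one (F := F) hq
  have hμ : (g : F) ^ 2 ≠ 1 := fun h => hg 2 (by omega) (by omega)
    (by rw [zpow_ofNat]; exact Units.ext (by rw [Units.val_pow_eq_pow_val, h, Units.val_one]))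
  obtain ⟨-, -, h10, h11⟩ := g2_word_all hG hB hword g.ne_zero hμ
  intro a
  obtain ⟨b, c, hbc⟩ := hall a
  exact (Subgroup.mul_mem_cancel_right _ (Subgroup.mul_mem _ (h10 b) (h11 c))).1 hbc

/-- In G₂ the roots of the radical are generated from the fundamental ones outside `J`. -/
theorem g2_hasRoot_gen {μ : F} (hμ0 : μ ≠ 0) (hμ : μ ^ 2 ≠ 1) {X : Subgroup (GL chevG2.Idx F)}
    (hB : BInvariant hG X) (J : Set ℕ)
    (hsimp : ∀ i < chevG2.rank, i ∉ J → HasRoot hG X (chevG2.simple i)) :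
    ∀ r, chevG2.IsPosRoot r → ¬ chevG2.InRootSub J r → HasRoot hG X r := by
  intro r hpos hnin
  obtain ⟨hN, hR, h0, h1, -⟩ := g2_numbers
  obtain ⟨i0, hi0, hi0J, hc⟩ : ∃ i, i < chevG2.rank ∧ i ∉ J ∧ (chevG2.coroot.getD r #[]).getD i 0 ≠ 0 := by
    by_contra hno
    push Not at hno
    exact hnin ⟨hpos.1, fun i hi hiJ => hno i hi hiJ⟩
  have hr := hpos.1
  have hr' := (pos_iff hf hpos.1).1 hpos
  rcases g2_supp r (by omega) (by omega) i0 (by omega) hc with rfl | h8
  · exact hsimp i0 hi0 hi0J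
  have hX : HasRoot hG X 7 ∨ HasRoot hG X 6 := by
    have hi01 : i0 = 0 ∨ i0 = 1 := by omega
    have h := hsimp i0 hi0 hi0J
    rcases hi01 with rfl | rfl
    · exact Or.inl (h0 ▸ h)
    · exact Or.inr (h1 ▸ h)
  obtain ⟨H8, H9, H10, H11⟩ := g2_word_all hG hB (fun t u => termsProd_mem hG hf hB (by omega) (by omega)
    (by omega) (by omega) (by omega) hX t u) hμ0 hμ
  have h4 : r = 8 ∨ r = 9 ∨ r = 10 ∨ r = 11 := by omega
  rcases h4 with rfl | rfl | rfl | rfl <;> assumption

end Cfsg.Agent.Chev.BNSetup
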