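/-
N/H is the Coxeter group: orders of products of two fundamental reflections read off the tables.
-/
import Cfsg.Agent.Lib.Chev.BNStruct
import Cfsg.Agent.Lib.BNPair.Coxeter

set_option autoImplicit false

namespace Cfsg.Agent.Chev.BNSetup

open Cfsg.Lie

/-- Iterate of `w_i w_j` on root indices, read off the packed tables. -/
def pairIter (tabs : List ℕ) (i j : ℕ) : ℕ → ℕ → ℕ
  | 0, r => r
  | m + 1, r => RootBN.look (tabs.getD i 0) (RootBN.look (tabs.getD j 0) (pairIter tabs i j m r))

/-- `p` holds for some number below `n`. -/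
def anyLt : ℕ → (ℕ → Bool) → Bool
  | 0, _ => false
  | n + 1, p => p n || anyLt n p

theorem anyLt_iff {n : ℕ} {p : ℕ → Bool} : anyLt n p = true ↔ ∃ i < n, p i = true := by
  induction n with
  | zero => simp [anyLt]
  | succ n ih =>
    simp only [anyLt, Bool.or_eq_true, ih]
    constructor
    · rintro (h | ⟨i, hi, h⟩)
      exacts [⟨n, by omega, h⟩, ⟨i, by omega, h⟩]
    · rintro ⟨i, hi, h⟩
      rcases Nat.lt_succ_iff_lt_or_eq.1 hi with hi | rfl
      exacts [Or.inr ⟨i, hi, h⟩, Or.inl h]

/-- `p` holds for all numbers below `n`. -/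
def everyLt (n : ℕ) (p : ℕ → Bool) : Bool := !(anyLt n fun i => !(p i))

theorem everyLt_iff {n : ℕ} {p : ℕ → Bool} : everyLt n p = true ↔ ∀ i < n, p i = true := by
  rw [everyLt, Bool.not_eq_true', ← Bool.not_eq_true, anyLt_iff]
  simp

/-- `w_i w_j` has order exactly `m` on the tables. -/
def pairOrderOK (tabs : List ℕ) (N i j m : ℕ) : Bool :=
  Nat.blt 0 m && everyLt N (fun r => Nat.beq (pairIter tabs i j m r) r) &&
    everyLt m (fun k => Nat.beq k 0 || anyLt N (fun r => !(Nat.beq (pairIter tabs i j k r) r)))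

/-- The orders of all products of two fundamental reflections. -/
def pairOrdersOK (tabs : List ℕ) (N n : ℕ) (m : Fin n → Fin n → ℕ) : Bool :=
  (List.finRange n).all fun i => (List.finRange n).all fun j => pairOrderOK tabs N i.val j.val (m i j)

variable {F : Type*} [Field F] {D : ChevalleyDatum}

theorem pairIter_eq (hG : Good D) {tabs simps : List ℕ} (hf : Facts D tabs simps) (i j : Fin D.rank)
    (m : ℕ) (r : Fin D.nroots) :
    (((((data hG F).refl i * (data hG F).refl j) ^ m) r : Fin D.nroots) : ℕ) = pairIter tabs i j m r := by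
  induction m with
  | zero => rfl
  | succ m ih =>
    rw [pow_succ', Equiv.Perm.mul_apply, Equiv.Perm.mul_apply, data_refl,
      ((hf.2.2.2.2.1 i.val i.2).2.2.2.1 _ (Fin.is_lt _)).1, data_refl,
      ((hf.2.2.2.2.1 j.val j.2).2.2.2.1 _ (Fin.is_lt _)).1, ih]
    rfl

theorem orderOf_refl_pair (hG : Good D) {tabs simps : List ℕ} (hf : Facts D tabs simps) {i j : Fin D.rank}
    {m : ℕ} (h : pairOrderOK tabs D.nroots i j m = true) :
    orderOf ((data hG F).refl i * (data hG F).refl j) = m := by
  simp only [pairOrderOK, Bool.and_eq_true, Nat.blt_eq, everyLt_iff, Nat.beq_eq, Bool.or_eq_true,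
    anyLt_iff, Bool.not_eq_true', ← Bool.not_eq_true] at h
  obtain ⟨⟨h0, h1⟩, h2⟩ := h
  rw [orderOf_eq_iff h0]
  refine ⟨Equiv.ext fun r => Fin.ext ((pairIter_eq hG hf i j m r).trans (h1 r r.2)), fun k hk hk0 e => ?_⟩
  rcases h2 k hk with h3 | ⟨r, hr, hne⟩
  · omega
  · exact hne (((pairIter_eq (F := F) hG hf i j k ⟨r, hr⟩).symm).trans
      (congrArg (fun σ : Equiv.Perm (Fin D.nroots) => (σ ⟨r, hr⟩ : ℕ)) e))

theorem exists_weyl_hom (hG : Good D) {tabs simps : List ℕ} (hf : Facts D tabs simps) {n : ℕ}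
    (hn : D.rank = n) (M : CoxeterMatrix (Fin n)) (hM : pairOrdersOK tabs D.nroots n (fun i j => M i j) = true) :
    ∃ φ : ↥(D.monomialSubgroup F) →* M.Group, Function.Surjective φ ∧
      φ.ker = (D.diagonalSubgroup F).subgroupOf (D.monomialSubgroup F) ∧
      ∀ (i : Fin n) (g : ↥(D.monomialSubgroup F)),
        ((g : GL D.Idx F) : Matrix D.Idx D.Idx F) = D.nMat F (D.simple i) 1 → φ g = M.simple i := by
  subst hn
  obtain ⟨P, hB, hN, hS⟩ := exists_bnPair (F := F) hG hf
  have ax := axioms (F := F) hG hf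
  have hmem : ∀ i : Fin D.rank, (⟨(data hG F).nn i, monomial_le_group hG hf
      ((data_N hG hf).le (RootBN.Data.nn_mem_N i))⟩ : D.group F) ∈ P.S := fun i => by
    rw [hS]
    exact ⟨i.val, i.2, coe_ne' hG _ _⟩
  let f : Fin D.rank → P.S := fun i => ⟨_, hmem i⟩
  have hf' : Function.Bijective f := by
    constructor
    · intro i j e
      have e' : (data hG F).nn i = (data hG F).nn j :=
        congrArg (fun s : P.S => ((s : D.group F) : GL D.Idx F)) e
      have h' := RootBN.Data.acts_nn ax i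
      rw [e'] at h'
      exact RootBN.Data.refl_injective ax (RootBN.Data.acts_unique ax h' (RootBN.Data.acts_nn ax j))
    · rintro ⟨g, hg⟩
      have hg' := hg
      rw [hS] at hg'
      obtain ⟨i, hi, e⟩ := hg'
      exact ⟨⟨i, hi⟩, Subtype.ext (Subtype.ext (Units.ext ((coe_ne' hG (D.simple i) 1).trans e.symm)))⟩
  let e : Fin D.rank ≃ P.S := Equiv.ofBijective f hf'
  -- the two orders agree
  have hord : ∀ i j : Fin D.rank, orderOf (BN.refl P (f i) * BN.refl P (f j)) = M i j := by
    intro i j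
    have hM' : pairOrderOK tabs D.nroots i.val j.val (M i j) = true := by
      simp only [pairOrdersOK, List.all_eq_true] at hM
      exact hM i (List.mem_finRange i) j (List.mem_finRange j)
    rw [← orderOf_refl_pair (F := F) hG hf hM']
    refine orderOf_eq_orderOf_iff.2 fun k => ?_
    have hact : ∀ k : ℕ, (data hG F).Acts (((data hG F).nn i * (data hG F).nn j) ^ k)
        (((data hG F).refl i * (data hG F).refl j) ^ k) := by
      intro k
      induction k with
      | zero => simpa using RootBN.Data.acts_one (D := data hG F)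
      | succ k ih => rw [pow_succ, pow_succ]; exact ih.mul ((RootBN.Data.acts_nn ax i).mul (RootBN.Data.acts_nn ax j))
    have hmemN : ((data hG F).nn i * (data hG F).nn j) ^ k ∈ (data hG F).N :=
      Subgroup.pow_mem _ (Subgroup.mul_mem _ (RootBN.Data.nn_mem_N i) (RootBN.Data.nn_mem_N j)) k
    simp only [BN.refl, ← QuotientGroup.mk_mul, ← QuotientGroup.mk_pow]
    rw [BN.mk_eq_one, hB, Subgroup.mem_subgroupOf]
    simp only [Subgroup.coe_pow, Subgroup.coe_mul, f]
    rw [← data_B (F := F) hG hf]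
    constructor
    · intro h
      exact RootBN.Data.acts_unique ax (hact k) (RootBN.Data.acts_H ax
        ((RootBN.Data.N_inf_B ax).le ⟨hmemN, h⟩))
    · intro h
      refine RootBN.Data.H_le_B (RootBN.Data.mem_H_of_pos_preserving ax hmemN (hact k) fun r hr => ?_)
      rw [h]
      exact hr
  have hMeq : M = (BN.coxMat P).reindex e.symm :=
    CoxeterMatrix.ext (Matrix.ext fun i j => by
      rw [CoxeterMatrix.reindex_apply]
      simp only [Equiv.symm_symm]
      exact (hord i j).symm)
  subst hMeq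
  let cs := (BN.coxSystem P).reindex e.symm
  let ι : D.monomialSubgroup F →* P.N :=
    { toFun := fun g => ⟨⟨(g : GL D.Idx F), monomial_le_group hG hf g.2⟩, by
        rw [hN, Subgroup.mem_subgroupOf]; exact g.2⟩
      map_one' := rfl
      map_mul' := fun _ _ => rfl }
  let ψ : D.monomialSubgroup F →* BN.Weyl P := (QuotientGroup.mk' _).comp ι
  refine ⟨cs.mulEquiv.toMonoidHom.comp ψ, ?_, ?_, ?_⟩
  · refine cs.mulEquiv.surjective.comp ?_
    refine (QuotientGroup.mk'_surjective _).comp ?_
    rintro ⟨⟨g, hg⟩, hg'⟩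
    rw [hN, Subgroup.mem_subgroupOf] at hg'
    exact ⟨⟨g, hg'⟩, rfl⟩
  · ext g
    rw [MonoidHom.mem_ker, Subgroup.mem_subgroupOf]
    show cs.mulEquiv (ψ g) = 1 ↔ _
    rw [MulEquiv.map_eq_one_iff]
    show (QuotientGroup.mk (ι g) : BN.Weyl P) = 1 ↔ _
    rw [BN.mk_eq_one, hB, Subgroup.mem_subgroupOf, ← borel_inf_monomial (F := F) hG hf]
    exact ⟨fun h => ⟨h, g.2⟩, fun h => h.1⟩
  · intro i g hg
    show cs.mulEquiv (ψ g) = _
    have h1 : cs.simple i = ψ g := by
      rw [CoxeterSystem.reindex_simple]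
      simp only [Equiv.symm_symm]
      rw [BN.coxSystem_simple]
      show (QuotientGroup.mk _ : BN.Weyl P) = QuotientGroup.mk (ι g)
      congr 1
      exact Subtype.ext (Subtype.ext (Units.ext ((coe_ne' hG (D.simple i.val) 1).trans hg.symm)))
    rw [← h1]
    exact MulEquiv.apply_symm_apply _ _

end Cfsg.Agent.Chev.BNSetup
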